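import Groth.Agent.DRing.PCDescent
import Mathlib.Algebra.Category.ModuleCat.Monoidal.Adjunction
import Mathlib.CategoryTheory.Monoidal.Functor
import Mathlib.RingTheory.Flat.FaithfullyFlat.Basic

/-!
# Descent of tor amplitude and perfectness along jointly faithfully flat families
-/

universe u

open CategoryTheory CategoryTheory.Limits CategoryTheory.Pretriangulated DerivedCategory
  MonoidalCategory TensorProduct

attribute [local instance] HasDerivedCategory.standard

namespace Groth.Agent.DRing.Descent

open DBasic Homology PC PCDescent TorAmp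

variable {A B : Type u} [CommRing A] [CommRing B] (φ : A →+* B)

/-- Flat base change preserves quasi-isomorphisms. -/
lemma quasiIso_extCx (hφ : φ.Flat) {P P' : DRing.Cx A} (f : P ⟶ P') [QuasiIso f] :
    QuasiIso ((LTensor.extCx φ).map f) := by
  have := ModuleCat.preservesFiniteLimits_extendScalars_of_flat hφ
  have := (ModuleCat.extendRestrictScalarsAdj.{u} φ).leftAdjoint_preservesColimits
  infer_instance

/-- Extension of scalars commutes with tensor products of a complex and a module. -/
noncomputable def extTensorIso (P : DRing.Cx A) (M : ModuleCat.{u} A) :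
    DRing.tensorCx ((LTensor.extCx φ).obj P) ((ModuleCat.extendScalars.{u, u, u} φ).obj M) ≅
      (LTensor.extCx φ).obj (DRing.tensorCx P M) :=
  (NatIso.mapHomologicalComplex
    (Functor.Monoidal.commTensorRight (ModuleCat.extendScalars.{u, u, u} φ) M)
      (ComplexShape.up ℤ)).app P

lemma exactAt_extTensor {P : DRing.Cx A} {M : ModuleCat.{u} A} {n : ℤ} (hφ : φ.Flat)
    (h : (DRing.tensorCx ((LTensor.extCx φ).obj P)
      ((ModuleCat.extendScalars.{u, u, u} φ).obj M)).ExactAt n) :
    Subsingleton ((ModuleCat.extendScalars.{u, u, u} φ).obj ((DRing.tensorCx P M).homology n)) := by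
  rw [HomologicalComplex.exactAt_iff_isZero_homology] at h
  exact ModuleCat.subsingleton_of_isZero
    ((h.of_iso ((HomologicalComplex.homologyFunctor _ _ n).mapIso (extTensorIso φ P M)).symm).of_iso
      (homologyExtIso φ hφ (DRing.tensorCx P M) n).symm)

variable {ι : Type} {B' : ι → Type u} [∀ i, CommRing (B' i)] {ψ : ∀ i, A →+* B' i}

theorem subsingleton_HD_of_detects (hψ : ∀ i, (ψ i).Flat) (hd : Detects ψ) (K : DRing.Cx A) (n : ℤ)
    (h : ∀ i, Subsingleton (Dual.HD (B' i) (DRing.toD ((LTensor.extCx (ψ i)).obj K)) n)) :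
    Subsingleton (Dual.HD A (DRing.toD K) n) := by
  have : Subsingleton (K.homology n) := hd _ fun i => by
    have := h i
    exact ((hIso ((LTensor.extCx (ψ i)).obj K) n) ≪≫
      homologyExtIso (ψ i) (hψ i) K n).toLinearEquiv.symm.toEquiv.subsingleton
  exact (hIso K n).toLinearEquiv.toEquiv.subsingleton

/-- Descent of tor amplitude. -/
theorem torAmp_of_detects (hψ : ∀ i, (ψ i).Flat) (hd : Detects ψ) (K : DRing.Cx A) (a b : ℤ)
    (hK : ∀ i, DRing.HasTorAmplitudeIn (B' i) a b (DRing.toD ((LTensor.extCx (ψ i)).obj K))) :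
    DRing.HasTorAmplitudeIn A a b (DRing.toD K) := by
  obtain ⟨P, π, hPb, hPp, hq⟩ := Trunc.exists_projRes K b fun n hn => by
    rw [HomologicalComplex.exactAt_iff_isZero_homology, ← subsingleton_HD_toD_iff]
    exact subsingleton_HD_of_detects hψ hd K n fun i => torAmp_boundedHD (hK i) n (Or.inr hn)
  rw [hasTorAmp_iff (isKFlat_of_projective hPb hPp) (asIso (Q.map π))]
  intro M n hn
  rw [HomologicalComplex.exactAt_iff_isZero_homology]
  have : Subsingleton ((DRing.tensorCx P M).homology n) := hd _ fun i => by
    have := quasiIso_extCx (ψ i) (hψ i) π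
    refine exactAt_extTensor (ψ i) (hψ i) ?_
    refine (hasTorAmp_iff (isKFlat_of_projective (b := b)
      (fun j hj => Perfect.isZero_extCx (ψ i) (hPb j hj))
      (fun j => Perfect.projective_extendScalars (ψ i) (hPp j)))
      (asIso (Q.map ((LTensor.extCx (ψ i)).map π))) a b).1 (hK i) _ n hn
  exact ModuleCat.isZero_of_subsingleton _

/-- Descent of perfectness. -/
theorem perfect_of_detects [Fintype ι] (hψ : ∀ i, (ψ i).Flat) (hd : Detects ψ) (K : DRing.Cx A)
    (hK : ∀ i, DRing.IsPerfect (B' i) (DRing.toD ((LTensor.extCx (ψ i)).obj K))) :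
    DRing.IsPerfect A (DRing.toD K) := by
  classical
  choose hpc a b hab using fun i => (Perfect.perfect_iff _).1 (hK i)
  obtain ⟨a₀, ha₀⟩ := Finset.exists_le (α := ℤ) (Finset.univ.image fun i => -a i)
  obtain ⟨b₀, hb₀⟩ := Finset.exists_le (Finset.univ.image b)
  refine (Perfect.perfect_iff _).2 ⟨(pc'_iff _).2 fun m => pc_of_detects hψ hd K m
    fun i => (pc'_iff _).1 (hpc i) m, -a₀, b₀, torAmp_of_detects hψ hd K _ _ fun i => ?_⟩
  have h1 := ha₀ _ (Finset.mem_image_of_mem (fun i => -a i) (Finset.mem_univ i))
  exact torAmp_mono (hab i) (by omega)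
    (hb₀ _ (Finset.mem_image_of_mem b (Finset.mem_univ i)))

lemma flat_algebraMap {R S : Type u} [CommRing R] [CommRing S] [Algebra R S] [Module.Flat R S] :
    (algebraMap R S).Flat := RingHom.flat_algebraMap_iff.2 inferInstance

/-- A faithfully flat algebra detects. -/
theorem detects_faithfullyFlat {R S : Type u} [CommRing R] [CommRing S] [Algebra R S]
    [Module.FaithfullyFlat R S] : Detects (fun _ : Unit => algebraMap R S) := by
  intro M h
  have e : (algebraMap R S).toAlgebra = (inferInstance : Algebra R S) :=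
    Algebra.algebra_ext _ _ fun _ => rfl
  have h' : Subsingleton (@TensorProduct R _ S M _ _ (algebraMap R S).toAlgebra.toModule _) := h ()
  rw [e] at h'
  exact (Module.FaithfullyFlat.subsingleton_tensorProduct_iff_right (R := R) S (N := M)).1 h'

end Groth.Agent.DRing.Descent
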