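import Groth.Agent.DRing.Tensor

/-!
# Commutativity of the total tensor product of complexes of modules
-/

universe u

open CategoryTheory CategoryTheory.Limits MonoidalCategory

namespace Groth.Agent.DRing.Tensor

variable {R : Type u} [CommRing R]

/-- The sign of the symmetry. -/
abbrev sgn (p q : ℤ) : ℤˣ := (p * q).negOnePow

lemma ιT_d {L P : CochainComplex (ModuleCat.{u} R) ℤ} (p q n n' : ℤ) (h : p + q = n)
    (hn : n + 1 = n') :
    ιT L P p q n h ≫ (L ⊗ P).d n n' =
      L.d p (p + 1) ▷ P.X q ≫ ιT L P (p + 1) q n' (by omega) +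
      p.negOnePow • (L.X p ◁ P.d q (q + 1) ≫ ιT L P p (q + 1) n' (by omega)) := by
  change _ ≫ (HomologicalComplex.mapBifunctor.D₁ L P _ _ n n' +
    HomologicalComplex.mapBifunctor.D₂ L P _ _ n n') = _
  rw [Preadditive.comp_add, HomologicalComplex.mapBifunctor.ι_D₁,
    HomologicalComplex.mapBifunctor.ι_D₂,
    HomologicalComplex.mapBifunctor.d₁_eq L P _ _ (i₁ := p) (i₁' := p + 1) (by simp) q n'
      (show p + 1 + q = n' by omega),
    HomologicalComplex.mapBifunctor.d₂_eq L P _ _ p (i₂ := q) (i₂' := q + 1) (by simp) n'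
      (show p + (q + 1) = n' by omega)]
  simp [ιT]

/-- The degree `n` component of the symmetry. -/
noncomputable def braidX (L P : CochainComplex (ModuleCat.{u} R) ℤ) (n : ℤ) :
    (L ⊗ P).X n ⟶ (P ⊗ L).X n :=
  HomologicalComplex.mapBifunctorDesc (fun p q h =>
    sgn p q • ((β_ (L.X p) (P.X q)).hom ≫ ιT P L q p n (by change p + q = n at h; omega)))

@[reassoc]
lemma ιT_braidX {L P : CochainComplex (ModuleCat.{u} R) ℤ} (p q n : ℤ) (h : p + q = n) :
    ιT L P p q n h ≫ braidX L P n =
      sgn p q • ((β_ (L.X p) (P.X q)).hom ≫ ιT P L q p n (by omega)) :=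
  HomologicalComplex.ι_mapBifunctorDesc _ _ _ _

lemma braidX_braidX (L P : CochainComplex (ModuleCat.{u} R) ℤ) (n : ℤ) :
    braidX L P n ≫ braidX P L n = 𝟙 _ := by
  refine hom_ext fun p q h => ?_
  rw [ιT_braidX_assoc, Category.comp_id, Linear.units_smul_comp, Category.assoc, ιT_braidX,
    Linear.comp_units_smul, smul_smul, show sgn q p = sgn p q by rw [sgn, sgn, mul_comm q p], Int.units_mul_self, one_smul,
    SymmetricCategory.symmetry_assoc]

/-- The symmetry of the tensor product of complexes of modules. -/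
noncomputable def braid (L P : CochainComplex (ModuleCat.{u} R) ℤ) : L ⊗ P ≅ P ⊗ L :=
  HomologicalComplex.Hom.isoOfComponents
    (fun n => ⟨braidX L P n, braidX P L n, braidX_braidX L P n, braidX_braidX P L n⟩)
    (fun n n' (hn : n + 1 = n') => by
      refine hom_ext fun p q h => ?_
      dsimp only
      rw [ιT_braidX_assoc, ← Category.assoc (ιT L P p q n h), ιT_d p q n n' h hn,
        Linear.units_smul_comp, Category.assoc, ιT_d q p n n' (by omega) hn,
        Preadditive.add_comp, Category.assoc, Linear.units_smul_comp, Category.assoc,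
        ιT_braidX, ιT_braidX, Linear.comp_units_smul, Linear.comp_units_smul,
        Preadditive.comp_add, Linear.comp_units_smul, smul_add, smul_smul, smul_smul,
        BraidedCategory.braiding_naturality_left_assoc,
        BraidedCategory.braiding_naturality_right_assoc, add_comm]
      congr 2
      · rw [← Int.negOnePow_add, show p * q + q = (p + 1) * q by ring]
      · rw [← Int.negOnePow_add, show p + p * (q + 1) = p * q + 2 * p by ring,
          Int.negOnePow_add, Int.negOnePow_even _ (even_two_mul p), mul_one])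

lemma braid_hom_f (L P : CochainComplex (ModuleCat.{u} R) ℤ) (n : ℤ) :
    (braid L P).hom.f n = braidX L P n := rfl

@[reassoc]
lemma ιT_whiskerRight {L L' : CochainComplex (ModuleCat.{u} R) ℤ} (f : L ⟶ L')
    (P : CochainComplex (ModuleCat.{u} R) ℤ) (p q n : ℤ) (h : p + q = n) :
    ιT L P p q n h ≫ (f ▷ P).f n = f.f p ▷ P.X q ≫ ιT L' P p q n h := by
  refine (HomologicalComplex.ι_mapBifunctorMap _ _ _ _ p q n h).trans ?_
  simp

lemma whiskerRight_eq {L L' : CochainComplex (ModuleCat.{u} R) ℤ} (f : L ⟶ L')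
    (P : CochainComplex (ModuleCat.{u} R) ℤ) :
    f ▷ P = (braid L P).hom ≫ P ◁ f ≫ (braid L' P).inv := by
  rw [← Category.assoc, Iso.eq_comp_inv]
  refine HomologicalComplex.hom_ext _ _ fun n => hom_ext fun p q h => ?_
  rw [HomologicalComplex.comp_f, HomologicalComplex.comp_f, braid_hom_f, braid_hom_f,
    ιT_braidX_assoc, Linear.units_smul_comp, Category.assoc, ιT_whiskerLeft,
    ιT_whiskerRight_assoc, ιT_braidX, Linear.comp_units_smul,
    BraidedCategory.braiding_naturality_left_assoc]

end Groth.Agent.DRing.Tensor
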