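import Mathlib.Algebra.Homology.HomotopyCategory.KProjective
import Mathlib.Algebra.Homology.HomotopyCategory.MappingCone
import Mathlib.Algebra.Homology.HomotopyCategory.HomComplexShift
import Mathlib.Algebra.Homology.HomologicalComplexLimits
import Mathlib.Algebra.Homology.HomologicalComplexBiprod
import Mathlib.CategoryTheory.Functor.OfSequence

/-!
# K-projective complexes: zero differentials, mapping cones, sequential colimits
-/

universe v u

open CategoryTheory CategoryTheory.Limits CochainComplex CochainComplex.HomComplex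

namespace Groth.Agent.DRing.KProj

variable {C : Type u} [Category.{v} C] [Abelian C]

/-- A complex with zero differentials. -/
@[simps, reducible]
def zeroCx (Q : ℤ → C) : CochainComplex C ℤ where
  X := Q
  d _ _ := 0

/-- Morphism out of a complex with zero differentials. -/
@[simps, reducible]
def zeroCxHom (Q : ℤ → C) {K : CochainComplex C ℤ} (f : ∀ i, Q i ⟶ K.X i)
    (hf : ∀ i, f i ≫ K.d i (i + 1) = 0) : zeroCx Q ⟶ K where
  f := f
  comm' i j (hij : i + 1 = j) := by subst hij; exact (hf i).trans zero_comp.symm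

lemma isKProjective_zeroCx (Q : ℤ → C) [∀ i, Projective (Q i)] : (zeroCx Q).IsKProjective where
  nonempty_homotopy_zero {L} f hL := by
    have key : ∀ i : ℤ, ∃ h : Q i ⟶ L.X (i - 1), h ≫ L.d (i - 1) i = f.f i := by
      intro i
      have hex := ((L.exactAt_iff' (i - 1) i (i + 1) (by simp) (by simp))).1 (hL i)
      exact ⟨hex.liftFromProjective (P := Q i) (f.f i) (by
          exact (f.comm i (i + 1)).trans (zero_comp (f := f.f (i+1)))), hex.liftFromProjective_comp _ _⟩
    choose h hh using key
    refine ⟨(Cochain.equivHomotopy _ _).symm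
      ⟨Cochain.mk (fun p q hpq => h p ≫ (L.XIsoOfEq (show p - 1 = q by omega)).hom), ?_⟩⟩
    ext p
    rw [Cochain.add_v, δ_v (-1) 0 (by omega) _ p p (add_zero p) (p - 1) (p + 1) rfl rfl]
    simp only [Cochain.ofHom_v, Cochain.mk_v, Cochain.zero_v, zeroCx_d, add_zero,
      HomologicalComplex.XIsoOfEq_rfl, Iso.refl_hom, Cochain.ofHom_zero]
    erw [Category.comp_id, zero_comp, smul_zero, add_zero]
    exact (hh p).symm

lemma isKProjective_biprod (P Q : CochainComplex C ℤ) [P.IsKProjective] [Q.IsKProjective] :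
    (P ⊞ Q).IsKProjective where
  nonempty_homotopy_zero {L} f hL := by
    refine ⟨Homotopy.trans (Homotopy.ofEq ?_)
      (Homotopy.trans
        (Homotopy.add ((IsKProjective.homotopyZero (biprod.inl ≫ f) hL).compLeft biprod.fst)
          ((IsKProjective.homotopyZero (biprod.inr ≫ f) hL).compLeft biprod.snd))
        (Homotopy.ofEq (by simp)))⟩
    rw [← Category.assoc, ← Category.assoc, ← Preadditive.add_comp, biprod.total,
      Category.id_comp]

lemma acyclic_shift {L : CochainComplex C ℤ} (hL : L.Acyclic) (a : ℤ) : (L⟦a⟧).Acyclic := by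
  rw [← HomotopyCategory.quotient_obj_mem_subcategoryAcyclic_iff_acyclic] at hL ⊢
  exact ObjectProperty.prop_of_iso _
    (((HomotopyCategory.quotient C (.up ℤ)).commShiftIso a).symm.app L)
    ((HomotopyCategory.subcategoryAcyclic C).le_shift a _ hL)

/-- Cocycles out of a K-projective complex into an acyclic complex are coboundaries. -/
lemma exists_δ_eq {P L : CochainComplex C ℤ} [P.IsKProjective] (hL : L.Acyclic) (n m : ℤ)
    (hnm : n + 1 = m) (z : Cochain P L m) (hz : δ m (m + 1) z = 0) :
    ∃ h : Cochain P L n, δ n m h = z := by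
  let z' : Cocycle P (L⟦m⟧) 0 :=
    (Cocycle.mk z (m + 1) rfl hz).rightShift m 0 (zero_add m)
  have h' := IsKProjective.homotopyZero (Cocycle.homOf z') (acyclic_shift hL m)
  obtain ⟨k, hk⟩ := (Cochain.equivHomotopy _ _) h'
  simp only [Cocycle.cochain_ofHom_homOf_eq_coe, Cochain.ofHom_zero, add_zero] at hk
  refine ⟨m.negOnePow • k.rightUnshift n (by omega), ?_⟩
  rw [δ_units_smul, Cochain.δ_rightUnshift k n (by omega) m 0 (by omega), smul_smul,
    Int.units_mul_self, one_smul, ← hk]
  simp [z', Cocycle.mk, Cocycle.rightShift, Cochain.rightUnshift_rightShift]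

lemma isKProjective_mappingCone {P Q : CochainComplex C ℤ} (φ : P ⟶ Q) [P.IsKProjective]
    [Q.IsKProjective] : (mappingCone φ).IsKProjective where
  nonempty_homotopy_zero {L} f hL := by
    obtain ⟨γ₂, hγ₂⟩ := (Cochain.equivHomotopy _ _)
      (IsKProjective.homotopyZero (mappingCone.inr φ ≫ f) hL)
    simp only [Cochain.ofHom_zero, add_zero] at hγ₂
    obtain ⟨γ₁, hγ₁⟩ := exists_δ_eq hL (-2) (-1) (by omega)
      ((mappingCone.inl φ).comp (Cochain.ofHom f) (add_zero (-1)) -
        (Cochain.ofHom φ).comp γ₂ (zero_add (-1))) (by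
          rw [δ_sub]
          simp only [δ_comp_ofHom, δ_ofHom_comp]
          rw [show ((-1 : ℤ) + 1) = 0 from rfl, mappingCone.δ_inl, ← hγ₂, ← Cochain.ofHom_comp,
            ← Cochain.ofHom_comp, Category.assoc, sub_self])
    refine ⟨mappingCone.descHomotopy φ f 0 γ₁ γ₂ ?_ ?_⟩
    · rw [hγ₁]; simp
    · simp [hγ₂]

/-- Extension of null homotopies along a split monomorphism of K-projective complexes. -/
lemma exists_extend {P P' L : CochainComplex C ℤ} [P.IsKProjective] [P'.IsKProjective]
    (hL : L.Acyclic) (ι : P ⟶ P') (r : Cochain P' P 0)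
    (hr : (Cochain.ofHom ι).comp r (zero_add 0) = Cochain.ofHom (𝟙 P)) (f' : P' ⟶ L)
    (h : Cochain P L (-1)) (hh : δ (-1) 0 h = Cochain.ofHom (ι ≫ f')) :
    ∃ h' : Cochain P' L (-1), δ (-1) 0 h' = Cochain.ofHom f' ∧
      (Cochain.ofHom ι).comp h' (zero_add (-1)) = h := by
  obtain ⟨h₁, hh₁⟩ := (Cochain.equivHomotopy _ _) (IsKProjective.homotopyZero f' hL)
  simp only [Cochain.ofHom_zero, add_zero] at hh₁
  obtain ⟨k, hk⟩ := exists_δ_eq hL (-2) (-1) (by omega)
    ((Cochain.ofHom ι).comp h₁ (zero_add (-1)) - h) (by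
      rw [δ_sub, δ_ofHom_comp, show ((-1 : ℤ) + 1) = 0 from rfl, hh, ← hh₁,
        ← Cochain.ofHom_comp, sub_self])
  refine ⟨h₁ - δ (-2) (-1) (r.comp k (zero_add (-2))), ?_, ?_⟩
  · rw [δ_sub, δ_δ, sub_zero, hh₁]
  · rw [Cochain.comp_sub, ← δ_ofHom_comp, ← Cochain.comp_assoc_of_first_is_zero_cochain, hr,
      Cochain.id_comp, hk]
    abel

section Sequence

variable [HasColimitsOfShape ℕ C] (P : ℕ → CochainComplex C ℤ) (ι : ∀ n, P n ⟶ P (n + 1))
  (r : ∀ n, Cochain (P (n + 1)) (P n) 0)
  (hr : ∀ n, (Cochain.ofHom (ι n)).comp (r n) (zero_add 0) = Cochain.ofHom (𝟙 (P n)))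

/-- The inclusion of a stage in the sequential colimit. -/
noncomputable def incl (n : ℕ) : P n ⟶ colimit (Functor.ofSequence ι) :=
  colimit.ι (Functor.ofSequence ι) n

lemma colimit_ι_succ (n : ℕ) : ι n ≫ incl P ι (n + 1) = incl P ι n := by
  have := colimit.w (Functor.ofSequence ι) (homOfLE (Nat.le_add_right n 1))
  rwa [Functor.ofSequence_map_homOfLE_succ] at this

/-- Compatible morphisms define a morphism out of the degree `p` part of the colimit. -/
lemma exists_descX (p : ℤ) {A : C} (φ : ∀ n, (P n).X p ⟶ A)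
    (hφ : ∀ n, (ι n).f p ≫ φ (n + 1) = φ n) :
    ∃ ψ : (colimit (Functor.ofSequence ι)).X p ⟶ A,
      ∀ n, (incl P ι n).f p ≫ ψ = φ n := by
  let t : Cocone (Functor.ofSequence ι ⋙ HomologicalComplex.eval C (.up ℤ) p) :=
    { pt := A
      ι := NatTrans.ofSequence φ (fun n => by
        dsimp
        rw [Functor.ofSequence_map_homOfLE_succ]
        exact (hφ n).trans (Category.comp_id _).symm) }
  exact ⟨(isColimitOfPreserves (HomologicalComplex.eval C (.up ℤ) p)
    (colimit.isColimit (Functor.ofSequence ι))).desc t,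
    fun n => IsColimit.fac (isColimitOfPreserves (HomologicalComplex.eval C (.up ℤ) p)
    (colimit.isColimit (Functor.ofSequence ι))) t n⟩

lemma colimit_X_hom_ext (p : ℤ) {A : C} {φ ψ : (colimit (Functor.ofSequence ι)).X p ⟶ A}
    (h : ∀ n, (incl P ι n).f p ≫ φ = (incl P ι n).f p ≫ ψ) : φ = ψ :=
  (isColimitOfPreserves (HomologicalComplex.eval C (.up ℤ) p)
    (colimit.isColimit (Functor.ofSequence ι))).hom_ext h

include r hr in
lemma isKProjective_colimit [∀ n, (P n).IsKProjective] :
    (colimit (Functor.ofSequence ι)).IsKProjective where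
  nonempty_homotopy_zero {L} f hL := by
    let c := fun n => incl P ι n
    let H : ∀ n, { h : Cochain (P n) L (-1) // δ (-1) 0 h = Cochain.ofHom (c n ≫ f) } := fun n =>
      Nat.rec
        (⟨((Cochain.equivHomotopy _ _) (IsKProjective.homotopyZero (c 0 ≫ f) hL)).1, by
          have := ((Cochain.equivHomotopy _ _) (IsKProjective.homotopyZero (c 0 ≫ f) hL)).2
          simpa using this.symm⟩)
        (fun m hm =>
          ⟨(exists_extend hL (ι m) (r m) (hr m) (c (m + 1) ≫ f) hm.1 (by
              rw [hm.2, ← Category.assoc, colimit_ι_succ])).choose,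
            (exists_extend hL (ι m) (r m) (hr m) (c (m + 1) ≫ f) hm.1 (by
              rw [hm.2, ← Category.assoc, colimit_ι_succ])).choose_spec.1⟩) n
    have hH : ∀ n, (Cochain.ofHom (ι n)).comp (H (n + 1)).1 (zero_add (-1)) = (H n).1 := fun n =>
      (exists_extend hL (ι n) (r n) (hr n) (c (n + 1) ≫ f) (H n).1 (by
        rw [(H n).2, ← Category.assoc, colimit_ι_succ])).choose_spec.2
    choose ψ hψ using fun (p : ℤ) => exists_descX P ι p (fun n => (H n).1.v p (p + -1) rfl)
      (fun n => by rw [← Cochain.congr_v (hH n) p (p + -1) rfl]; simp)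
    refine ⟨(Cochain.equivHomotopy _ _).symm
      ⟨Cochain.mk (fun p q hpq => ψ p ≫ (L.XIsoOfEq hpq).hom), ?_⟩⟩
    rw [Cochain.ofHom_zero, add_zero]
    ext p
    refine colimit_X_hom_ext P ι p (fun n => ?_)
    have h1 : (Cochain.ofHom (c n)).comp
        (Cochain.mk (fun p q hpq => ψ p ≫ (L.XIsoOfEq hpq).hom)) (zero_add (-1)) = (H n).1 := by
      ext p q hpq
      subst hpq
      simpa [c] using hψ p n
    have h2 := Cochain.congr_v (H n).2 p p (add_zero p)
    rw [← h1, δ_ofHom_comp] at h2
    simpa [c] using h2.symm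

include r hr in
lemma projective_colimit_X (hP : ∀ n p, Projective ((P n).X p)) (p : ℤ) :
    Projective ((colimit (Functor.ofSequence ι)).X p) where
  factors {E X} f e _ := by
    let g : ∀ n, { g : (P n).X p ⟶ E //
        g ≫ e = (incl P ι n).f p ≫ f } := fun n =>
      Nat.rec
        ⟨Projective.factorThru ((incl P ι 0).f p ≫ f) e,
          Projective.factorThru_comp _ _⟩
        (fun m gm =>
          ⟨Projective.factorThru ((incl P ι (m + 1)).f p ≫ f) e -
            (r m).v p p (add_zero p) ≫ ((ι m).f p ≫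
              Projective.factorThru ((incl P ι (m + 1)).f p ≫ f) e - gm.1), by
            simp only [Preadditive.sub_comp, Category.assoc, Projective.factorThru_comp, gm.2]
            rw [← Category.assoc ((ι m).f p), ← HomologicalComplex.comp_f, colimit_ι_succ,
              sub_self, comp_zero, sub_zero]⟩) n
    have hg : ∀ n, (ι n).f p ≫ (g (n + 1)).1 = (g n).1 := fun n => by
      have h1 := Cochain.congr_v (hr n) p p (add_zero p)
      simp only [Cochain.zero_cochain_comp_v, Cochain.ofHom_v, HomologicalComplex.id_f] at h1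
      change (ι n).f p ≫ (_ - (r n).v p p _ ≫ (_ - (g n).1)) = _
      rw [Preadditive.comp_sub, reassoc_of% h1]
      abel
    obtain ⟨ψ, hψ⟩ := exists_descX P ι p (fun n => (g n).1) hg
    exact ⟨ψ, colimit_X_hom_ext P ι p (fun n => by rw [reassoc_of% (hψ n), (g n).2])⟩

end Sequence

end Groth.Agent.DRing.KProj
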