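import Groth.Agent.DRing.Homology
import Groth.Agent.DRing.KProj
import Mathlib.Algebra.Category.ModuleCat.Projective
import Mathlib.Algebra.Category.ModuleCat.Adjunctions
import Mathlib.Algebra.Category.ModuleCat.FilteredColimits
import Mathlib.Algebra.Category.ModuleCat.Colimits

/-!
# K-projective resolutions of unbounded complexes of modules

Every complex of `R`-modules receives a degreewise surjective quasi-isomorphism from a K-projective
complex with projective terms.  The resolution is the union of a sequence of mapping cones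
(`Stage.next`), starting from a free complex which is surjective on terms and on cohomology.
-/

universe u

open CategoryTheory CategoryTheory.Limits CochainComplex CochainComplex.HomComplex

namespace Groth.Agent.DRing.KProjRes

open Homology KProj

variable {R : Type u} [CommRing R] (K : CochainComplex (ModuleCat.{u} R) ℤ)

instance projective_free (S : Type u) : Projective ((ModuleCat.free R).obj S) := by
  have : Module.Projective R ((ModuleCat.free R).obj S) :=
    Module.Projective.of_basis (Finsupp.basisSingleOne : Module.Basis S R (S →₀ R))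
  infer_instance

instance preservesSmallFilteredColimits_forget :
    PreservesFilteredColimitsOfSize.{0, 0} (forget (ModuleCat.{u} R)) :=
  preservesSmallestFilteredColimits_of_preservesFilteredColimits _

/-- A stage of the resolution. -/
structure Stage : Type (u + 1) where
  P : CochainComplex (ModuleCat.{u} R) ℤ
  α : P ⟶ K
  kproj : P.IsKProjective
  proj : ∀ i, Projective (P.X i)
  surj : ∀ i, Function.Surjective (α.f i).hom
  hsurj : ∀ i, Function.Surjective (HomologicalComplex.homologyMap α i).hom

variable {K}

namespace Stage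

variable (s : Stage K)

/-- Cocycles of the stage whose image bounds in `K`. -/
abbrev Bad (i : ℤ) : Type u :=
  { e : s.P.X i // IsCyc s.P i e ∧ ∃ w : K.X (i - 1), (K.d (i - 1) i).hom w = (s.α.f i).hom e }

/-- Free modules on the bad cocycles, as a complex with zero differential. -/
noncomputable abbrev Q : CochainComplex (ModuleCat.{u} R) ℤ :=
  zeroCx fun i => (ModuleCat.free R).obj (s.Bad i)

/-- The tautological map. -/
noncomputable def ψ : s.Q ⟶ s.P :=
  zeroCxHom _ (fun i => ModuleCat.freeDesc (TypeCat.ofHom fun e : s.Bad i => e.1))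
    (fun i => by
      refine ModuleCat.free_hom_ext fun (e : s.Bad i) => ?_
      simp only [ModuleCat.hom_comp, LinearMap.comp_apply, ModuleCat.freeDesc_apply,
        ModuleCat.hom_zero, LinearMap.zero_apply]
      exact e.2.1)

/-- The null homotopy of the composition to `K`. -/
noncomputable def h : Cochain s.Q K (-1) :=
  Cochain.mk fun p q hpq =>
    ModuleCat.freeDesc (TypeCat.ofHom fun e : s.Bad p => e.2.2.choose) ≫
      (K.XIsoOfEq (show p - 1 = q by omega)).hom

lemma δ_h : δ (-1) 0 s.h = Cochain.ofHom (s.ψ ≫ s.α) := by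
  ext p : 1
  rw [δ_v (-1) 0 (by omega) _ p p (add_zero p) (p - 1) (p + 1) rfl rfl]
  simp only [h, Cochain.mk_v, Cochain.ofHom_v, HomologicalComplex.XIsoOfEq_rfl,
    Iso.refl_hom, HomologicalComplex.comp_f]
  erw [Category.comp_id, zero_comp, smul_zero, add_zero]
  refine ModuleCat.free_hom_ext fun (e : s.Bad p) => ?_
  simp only [ψ, zeroCxHom_f, ModuleCat.hom_comp, LinearMap.comp_apply]
  erw [ModuleCat.freeDesc_apply, ModuleCat.freeDesc_apply]
  exact e.2.2.choose_spec

/-- The next stage. -/
noncomputable def next : Stage K where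
  P := mappingCone s.ψ
  α := mappingCone.desc s.ψ s.h s.α s.δ_h
  kproj := by
    have := s.kproj
    have : s.Q.IsKProjective :=
      @isKProjective_zeroCx _ _ _ _ fun i => projective_free (s.Bad i)
    exact isKProjective_mappingCone s.ψ
  proj i := by
    have : Projective (s.Q.X (i + 1)) := projective_free (s.Bad (i + 1))
    have := s.proj i
    exact Projective.of_iso (HomologicalComplex.homotopyCofiber.XIsoBiprod s.ψ i (i + 1) rfl).symm
      inferInstance
  surj i x := by
    obtain ⟨e, he⟩ := s.surj i x
    refine ⟨((mappingCone.inr s.ψ).f i).hom e, ?_⟩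
    rw [← LinearMap.comp_apply, ← ModuleCat.hom_comp, mappingCone.inr_f_desc_f]
    exact he
  hsurj i x := by
    obtain ⟨e, he⟩ := s.hsurj i x
    refine ⟨(HomologicalComplex.homologyMap (mappingCone.inr s.ψ) i).hom e, ?_⟩
    rw [← LinearMap.comp_apply, ← ModuleCat.hom_comp, ← HomologicalComplex.homologyMap_comp,
      mappingCone.inr_desc]
    exact he

/-- The inclusion into the next stage. -/
noncomputable def toNext : s.P ⟶ s.next.P := mappingCone.inr s.ψ

lemma toNext_α : s.toNext ≫ s.next.α = s.α :=
  mappingCone.inr_desc s.ψ s.h s.α s.δ_h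

/-- The degreewise retraction. -/
noncomputable def retr : Cochain s.next.P s.P 0 := mappingCone.snd s.ψ

lemma toNext_retr :
    (Cochain.ofHom s.toNext).comp s.retr (zero_add 0) = Cochain.ofHom (𝟙 s.P) :=
  mappingCone.inr_snd _

lemma kills {i : ℤ} (e : s.P.X i) (he : IsCyc s.P i e) (w : K.X (i - 1))
    (hw : (K.d (i - 1) i).hom w = (s.α.f i).hom e) :
    ∃ e' : s.next.P.X (i - 1), (s.next.P.d (i - 1) i).hom e' = (s.toNext.f i).hom e := by
  let b : s.Bad i := ⟨e, he, w, hw⟩
  refine ⟨((mappingCone.inl s.ψ).v i (i - 1) (by omega)).hom (ModuleCat.freeMk b), ?_⟩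
  have h0 := mappingCone.inl_v_d s.ψ i (i - 1) (i + 1) (by omega) (by omega)
  have hd : s.Q.d i (i + 1) = 0 := rfl
  rw [hd, zero_comp, sub_zero] at h0
  refine (congrArg (fun f => f.hom (ModuleCat.freeMk b)) h0).trans ?_
  simp only [ModuleCat.hom_comp, LinearMap.comp_apply, toNext]
  exact congrArg _ (ModuleCat.freeDesc_apply _ b)

end Stage

variable (K)

/-- Free module on cocycles with zero differential. -/
noncomputable abbrev Q₀ : CochainComplex (ModuleCat.{u} R) ℤ :=
  zeroCx fun i => (ModuleCat.free R).obj { z : K.X i // IsCyc K i z }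

/-- Free module on the terms with zero differential. -/
noncomputable abbrev Q₁ : CochainComplex (ModuleCat.{u} R) ℤ :=
  zeroCx fun i => (ModuleCat.free R).obj (K.X (i - 1) : Type u)

/-- The map from free cocycles. -/
noncomputable def q₀ : Q₀ K ⟶ K :=
  zeroCxHom _ (fun i => ModuleCat.freeDesc (TypeCat.ofHom fun e : { z : K.X i // IsCyc K i z } => e.1))
    (fun i => by
      refine ModuleCat.free_hom_ext fun (e : { z : K.X i // IsCyc K i z }) => ?_
      simp only [ModuleCat.hom_comp, LinearMap.comp_apply, ModuleCat.freeDesc_apply,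
        ModuleCat.hom_zero, LinearMap.zero_apply]
      exact e.2)

/-- Degree `-1` cochain surjective onto the terms. -/
noncomputable def h₁ : Cochain (Q₁ K) K (-1) :=
  Cochain.mk fun p q hpq =>
    ModuleCat.freeDesc (TypeCat.ofHom fun x : (K.X (p - 1) : Type u) => x) ≫
      (K.XIsoOfEq (show p - 1 = q by omega)).hom

/-- Its coboundary. -/
noncomputable def q₁ : Q₁ K ⟶ K :=
  Cocycle.homOf (Cocycle.mk (δ (-1) 0 (h₁ K)) 1 (zero_add 1) (δ_δ _ _ _ _))

/-- The contractible part of the initial stage. -/
noncomputable def c₁ : mappingCone (𝟙 (Q₁ K)) ⟶ K :=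
  mappingCone.desc (𝟙 (Q₁ K)) (h₁ K) (q₁ K) (by
    rw [Category.id_comp, q₁, Cocycle.cochain_ofHom_homOf_eq_coe]; rfl)

/-- The initial stage. -/
noncomputable def init : Stage K where
  P := Q₀ K ⊞ mappingCone (𝟙 (Q₁ K))
  α := biprod.desc (q₀ K) (c₁ K)
  kproj := by
    have : (Q₀ K).IsKProjective := @isKProjective_zeroCx _ _ _ _ fun i => projective_free _
    have : (Q₁ K).IsKProjective := @isKProjective_zeroCx _ _ _ _ fun i => projective_free _
    have := isKProjective_mappingCone (𝟙 (Q₁ K))
    exact isKProjective_biprod _ _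
  proj i := by
    have : Projective ((Q₀ K).X i) := projective_free _
    have : Projective ((Q₁ K).X i) := projective_free _
    have : Projective ((Q₁ K).X (i + 1)) := projective_free _
    have : Projective ((mappingCone (𝟙 (Q₁ K))).X i) :=
      Projective.of_iso (HomologicalComplex.homotopyCofiber.XIsoBiprod (𝟙 (Q₁ K)) i (i + 1) rfl).symm
        inferInstance
    exact Projective.of_iso
      ((HomologicalComplex.eval (ModuleCat.{u} R) (.up ℤ) i).mapBiprod _ _).symm
      (inferInstanceAs (Projective ((Q₀ K).X i ⊞ (mappingCone (𝟙 (Q₁ K))).X i)))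
  surj i x := by
    let x' : (K.X (i + 1 - 1) : Type u) := (K.XIsoOfEq (show i = i + 1 - 1 by omega)).hom.hom x
    refine ⟨((biprod.inr : _ ⟶ Q₀ K ⊞ mappingCone (𝟙 (Q₁ K))).f i).hom
      (((mappingCone.inl (𝟙 (Q₁ K))).v (i + 1) i (by omega)).hom (ModuleCat.freeMk x')), ?_⟩
    rw [← LinearMap.comp_apply, ← ModuleCat.hom_comp, ← HomologicalComplex.comp_f, biprod.inr_desc,
      ← LinearMap.comp_apply, ← ModuleCat.hom_comp, c₁, mappingCone.inl_v_desc_f]
    simp only [h₁, Cochain.mk_v, ModuleCat.hom_comp, LinearMap.comp_apply]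
    erw [ModuleCat.freeDesc_apply]
    change ((K.XIsoOfEq _).hom).hom ((K.XIsoOfEq _).hom.hom x) = x
    rw [← LinearMap.comp_apply, ← ModuleCat.hom_comp]
    simp
  hsurj i := by
    rw [homologyMap_surjective_iff _ i (i - 1) (by omega)]
    intro z hz
    refine ⟨((biprod.inl : Q₀ K ⟶ Q₀ K ⊞ mappingCone (𝟙 (Q₁ K))).f i).hom
      (ModuleCat.freeMk (⟨z, hz⟩ : { z : K.X i // IsCyc K i z })), 0, isCyc_map _ ?_, ?_⟩
    · exact LinearMap.zero_apply _
    · rw [map_zero, add_zero, ← LinearMap.comp_apply, ← ModuleCat.hom_comp,
        ← HomologicalComplex.comp_f, biprod.inl_desc]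
      exact ModuleCat.freeDesc_apply _ _

/-- The sequence of stages. -/
noncomputable def stage : ℕ → Stage K
  | 0 => init K
  | n + 1 => (stage n).next

/-- The transition maps. -/
noncomputable def trans (n : ℕ) : (stage K n).P ⟶ (stage K (n + 1)).P := (stage K n).toNext

/-- The resolution. -/
noncomputable abbrev res : CochainComplex (ModuleCat.{u} R) ℤ := colimit (Functor.ofSequence (trans K))

/-- The resolution map. -/
noncomputable def resπ : res K ⟶ K :=
  colimit.desc _ (Cocone.mk K (NatTrans.ofSequence (fun n => (stage K n).α) (fun n => by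
    dsimp
    rw [Functor.ofSequence_map_homOfLE_succ]
    exact (stage K n).toNext_α.trans (Category.comp_id _).symm)))

lemma incl_resπ (n : ℕ) : incl _ (trans K) n ≫ resπ K = (stage K n).α :=
  colimit.ι_desc _ _

instance isKProjective_res : (res K).IsKProjective :=
  @isKProjective_colimit _ _ _ _ _ (trans K) (fun n => (stage K n).retr)
    (fun n => (stage K n).toNext_retr) (fun n => (stage K n).kproj)

instance projective_res_X (i : ℤ) : Projective ((res K).X i) :=
  projective_colimit_X _ (trans K) (fun n => (stage K n).retr) (fun n => (stage K n).toNext_retr)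
    (fun n p => (stage K n).proj p) i

lemma trans_f_injective (n : ℕ) (i : ℤ) : Function.Injective ((trans K n).f i).hom := by
  have h := Cochain.congr_v (stage K n).toNext_retr i i (add_zero i)
  simp only [Cochain.zero_cochain_comp_v, Cochain.ofHom_v, HomologicalComplex.id_f] at h
  intro x y hxy
  have hx := congrArg (fun f => f.hom x) h
  have hy := congrArg (fun f => f.hom y) h
  simp only [ModuleCat.hom_comp, LinearMap.comp_apply, ModuleCat.hom_id, LinearMap.id_apply] at hx hy
  exact hx.symm.trans ((congrArg _ hxy).trans hy)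

lemma exists_incl_rep (i : ℤ) (x : (res K).X i) :
    ∃ (n : ℕ) (y : (stage K n).P.X i), ((incl _ (trans K) n).f i).hom y = x :=
  Concrete.isColimit_exists_rep _
    (isColimitOfPreserves (HomologicalComplex.eval (ModuleCat.{u} R) (.up ℤ) i)
      (colimit.isColimit (Functor.ofSequence (trans K)))) x

lemma incl_f_injective (n : ℕ) (i : ℤ) : Function.Injective ((incl _ (trans K) n).f i).hom := by
  intro x y hxy
  obtain ⟨k, f, g, hfg⟩ := Concrete.isColimit_exists_of_rep_eq
    (Functor.ofSequence (trans K) ⋙ HomologicalComplex.eval (ModuleCat.{u} R) (.up ℤ) i)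
    (isColimitOfPreserves (HomologicalComplex.eval (ModuleCat.{u} R) (.up ℤ) i)
      (colimit.isColimit (Functor.ofSequence (trans K)))) x y hxy
  obtain rfl : g = f := Subsingleton.elim _ _
  have hinj : ∀ (a b : ℕ) (h : a ≤ b), Function.Injective
      (((Functor.ofSequence (trans K)).map (homOfLE h)).f i).hom := by
    intro a b h
    induction b, h using Nat.le_induction with
    | base => simp [homOfLE_refl, Function.injective_id]
    | succ b hab ih =>
      rw [← homOfLE_comp hab (Nat.le_add_right b 1), Functor.map_comp,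
        Functor.ofSequence_map_homOfLE_succ]
      exact (trans_f_injective K b i).comp ih
  exact hinj n k (leOfHom g) hfg

lemma resπ_f_surjective (i : ℤ) : Function.Surjective ((resπ K).f i).hom := by
  intro x
  obtain ⟨e, he⟩ := (stage K 0).surj i x
  refine ⟨((incl _ (trans K) 0).f i).hom e, ?_⟩
  rw [← LinearMap.comp_apply, ← ModuleCat.hom_comp, ← HomologicalComplex.comp_f, incl_resπ]
  exact he

instance quasiIso_resπ : QuasiIso (resπ K) := quasiIso_of_bijective _ fun i => ⟨by
    rw [homologyMap_injective_iff _ i (i - 1) (by omega)]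
    intro e w he hew
    obtain ⟨n, y, rfl⟩ := exists_incl_rep K i e
    have hy : IsCyc (stage K n).P i y := by
      unfold IsCyc at he
      rw [hom_d] at he
      exact incl_f_injective K n (i + 1) (he.trans (map_zero _).symm)
    have hy' : (K.d (i - 1) i).hom w = ((stage K n).α.f i).hom y := by
      rw [← hew, ← incl_resπ]; rfl
    obtain ⟨e', he'⟩ := (stage K n).kills y hy w hy'
    refine ⟨((incl _ (trans K) (n + 1)).f (i - 1)).hom e', ?_⟩
    have hs : ((incl _ (trans K) (n + 1)).f i).hom (((trans K n).f i).hom y) =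
        ((incl _ (trans K) n).f i).hom y := by
      rw [← LinearMap.comp_apply, ← ModuleCat.hom_comp, ← HomologicalComplex.comp_f, colimit_ι_succ]
    exact (hom_d _ _ _ e').trans ((congrArg _ he').trans hs), by
    intro x
    obtain ⟨e, he⟩ := (stage K 0).hsurj i x
    refine ⟨(HomologicalComplex.homologyMap (incl _ (trans K) 0) i).hom e, ?_⟩
    rw [← LinearMap.comp_apply, ← ModuleCat.hom_comp, ← HomologicalComplex.homologyMap_comp,
      incl_resπ]
    exact he⟩

/-- Every complex of modules has a surjective K-projective resolution with projective terms. -/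
theorem exists_resolution :
    ∃ (P : CochainComplex (ModuleCat.{u} R) ℤ) (π : P ⟶ K), P.IsKProjective ∧
      (∀ i, Module.Projective R (P.X i)) ∧ QuasiIso π ∧ ∀ i, Function.Surjective (π.f i).hom :=
  ⟨res K, resπ K, inferInstance, fun _ => inferInstance, inferInstance, resπ_f_surjective K⟩

end Groth.Agent.DRing.KProjRes
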