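import Groth.Agent.DRing.KFlat
import Groth.Agent.DRing.Braid
import Groth.Agent.DRing.KProjRes
import Mathlib.Algebra.Homology.DerivedCategory.KProjective
import Mathlib.Algebra.Homology.HomotopyCategory.Pretriangulated

/-!
# K-projective complexes of modules are K-flat; K-flat complexes and quasi-isomorphisms

* `isKFlat_of_boundedAbove_flat`: bounded above complexes of flat modules are K-flat.
* `isKFlat_of_isKProjective`: K-projective complexes are K-flat.
* `quasiIso_whiskerRight`, `quasiIso_whiskerLeft_of_kflat`: invariance under quasi-isomorphisms.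
-/

universe u

open CategoryTheory CategoryTheory.Limits MonoidalCategory

namespace Groth.Agent.DRing.KFlat

open Tensor Homology CochainComplex

variable {R : Type u} [CommRing R]

lemma isKFlat_of_isZero {P : CochainComplex (ModuleCat.{u} R) ℤ} (h : ∀ i, IsZero (P.X i)) :
    IsKFlat P :=
  isKFlat_of_d_eq_zero (fun i _ => (h i).eq_of_src _ _) fun i => by
    have := ModuleCat.subsingleton_of_isZero (h i)
    infer_instance

lemma IsKFlat.biprod {P Q : CochainComplex (ModuleCat.{u} R) ℤ} (hP : IsKFlat P) (hQ : IsKFlat Q) :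
    IsKFlat (P ⊞ Q) := by
  let σ := fun n : ℤ => (ShortComplex.Splitting.ofHasBinaryBiproduct P Q).map
    (HomologicalComplex.eval (ModuleCat.{u} R) (.up ℤ) n)
  exact (two_of_three ((ShortComplex.Splitting.ofHasBinaryBiproduct P Q).shortExact)
    (pure_of_splitting σ)).2.1 hP hQ

section Trunc

variable (P : CochainComplex (ModuleCat.{u} R) ℤ)

/-- The submodules defining the brutal truncation `σ≥m`. -/
def truncSub (m i : ℤ) : Submodule R (P.X i) := if m ≤ i then ⊤ else ⊥

lemma truncSub_mapsTo (m : ℤ) {i j : ℤ} (x : P.X i) (hx : x ∈ truncSub P m i) :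
    (P.d i j).hom x ∈ truncSub P m j := by
  by_cases h : i + 1 = j
  · subst h
    unfold truncSub at *
    split_ifs with h2
    · trivial
    · rw [if_neg (by omega)] at hx
      simp [(Submodule.mem_bot R).1 hx]
  · rw [P.shape i j (by simpa using h)]
    exact (truncSub P m j).zero_mem

/-- The brutal truncation `σ≥m P`, as a subcomplex. -/
noncomputable def sigmaGE (m : ℤ) : CochainComplex (ModuleCat.{u} R) ℤ where
  X i := ModuleCat.of R (truncSub P m i)
  d i j := ModuleCat.ofHom ((P.d i j).hom.restrict fun x hx => truncSub_mapsTo P m x hx)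
  shape i j h := by
    ext x
    simp [P.shape i j h]
  d_comp_d' i j k _ _ := by
    ext x
    exact Homology.d_d (K := P) i j k x.1

/-- The inclusion of the brutal truncation. -/
noncomputable def sigmaGEι (m : ℤ) : sigmaGE P m ⟶ P where
  f i := ModuleCat.ofHom (truncSub P m i).subtype
  comm' _ _ _ := rfl

lemma truncSub_mono {m m' : ℤ} (h : m' ≤ m) (i : ℤ) : truncSub P m i ≤ truncSub P m' i := by
  unfold truncSub
  split_ifs with h1 h2
  · exact le_rfl
  · omega
  · exact bot_le
  · exact le_rfl

/-- The transition maps between brutal truncations. -/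
noncomputable def sigmaGEMap {m m' : ℤ} (h : m' ≤ m) : sigmaGE P m ⟶ sigmaGE P m' where
  f i := ModuleCat.ofHom (Submodule.inclusion (truncSub_mono P h i))
  comm' _ _ _ := rfl

lemma sigmaGE_X_isZero {m i : ℤ} (h : i < m) : IsZero ((sigmaGE P m).X i) := by
  have : Subsingleton (truncSub P m i) := by
    unfold truncSub; rw [if_neg (by omega)]; infer_instance
  exact ModuleCat.isZero_of_subsingleton (ModuleCat.of R (truncSub P m i))

lemma sigmaGE_X_flat (m i : ℤ) (hP : Module.Flat R (P.X i)) : Module.Flat R ((sigmaGE P m).X i) := by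
  change Module.Flat R ↥(truncSub P m i)
  by_cases h : m ≤ i
  · exact Module.Flat.of_linearEquiv
      ((LinearEquiv.ofEq _ _ (show truncSub P m i = ⊤ from if_pos h)).trans Submodule.topEquiv)
  · have : Subsingleton (truncSub P m i) := by
      rw [show truncSub P m i = ⊥ from if_neg h]; infer_instance
    infer_instance

lemma isKFlat_sigmaGE (b : ℤ) (hb : ∀ i, b < i → IsZero (P.X i)) (hP : ∀ i, Module.Flat R (P.X i))
    (m : ℤ) : IsKFlat (sigmaGE P m) := by
  by_cases hm : b < m
  · refine isKFlat_of_isZero fun i => ?_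
    by_cases hi : i < m
    · exact sigmaGE_X_isZero P hi
    · have : Subsingleton (P.X i) := ModuleCat.subsingleton_of_isZero (hb i (by omega))
      have : Subsingleton ((sigmaGE P m).X i) := (⟨fun a b => Subtype.ext (Subsingleton.elim (α := P.X i) _ _)⟩ : Subsingleton (truncSub P m i))
      exact ModuleCat.isZero_of_subsingleton _
  · obtain ⟨k, rfl⟩ : ∃ k : ℕ, m = b + 1 - k := ⟨(b + 1 - m).toNat, by omega⟩
    clear hm
    induction k with
    | zero =>
      refine isKFlat_of_isZero fun i => ?_
      by_cases hi : i < b + 1 - ((0 : ℕ) : ℤ)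
      · exact sigmaGE_X_isZero P hi
      · have : Subsingleton (P.X i) := ModuleCat.subsingleton_of_isZero (hb i (by omega))
        have : Subsingleton ((sigmaGE P (b + 1 - ((0 : ℕ) : ℤ))).X i) :=
          (⟨fun a b => Subtype.ext (Subsingleton.elim (α := P.X i) _ _)⟩ : Subsingleton (truncSub P _ i))
        exact ModuleCat.isZero_of_subsingleton _
    | succ k ih =>
      let f := sigmaGEMap P (show b + 1 - ((k + 1 : ℕ) : ℤ) ≤ b + 1 - (k : ℤ) by omega)
      have hmono : Mono f := by
        have : ∀ i, Mono (f.f i) := fun i =>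
          (ModuleCat.mono_iff_injective _).2
          (Submodule.inclusion_injective (truncSub_mono P (by omega) i))
        exact HomologicalComplex.mono_of_mono_f f this
      let S := ShortComplex.mk f (cokernel.π f) (cokernel.condition f)
      have hS : S.ShortExact :=
        { exact := ShortComplex.exact_of_g_is_cokernel _ (cokernelIsCokernel f)
          mono_f := hmono
          epi_g := inferInstanceAs (Epi (cokernel.π f)) }
      have hzero : ∀ i, i ≠ b + 1 - ((k + 1 : ℕ) : ℤ) → IsZero (S.X₃.X i) := by
        intro i hi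
        have hsi := hS.map_of_exact (HomologicalComplex.eval (ModuleCat.{u} R) (.up ℤ) i)
        have : Epi (f.f i) := by
          rw [ModuleCat.epi_iff_surjective]
          rintro ⟨x, hx⟩
          refine ⟨⟨x, ?_⟩, rfl⟩
          unfold truncSub at hx ⊢
          split_ifs with h1
          · trivial
          · rwa [if_neg (by omega)] at hx
        rw [IsZero.iff_id_eq_zero, ← cancel_epi (S.g.f i), Category.comp_id, comp_zero,
          ← cancel_epi (f.f i), comp_zero]
        exact (S.map (HomologicalComplex.eval (ModuleCat.{u} R) (.up ℤ) i)).zero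
      refine (two_of_three hS (pure_of_flat hS fun i => ?_)).2.1 ih (isKFlat_of_d_eq_zero ?_ ?_)
      rotate_left
      · intro i j
        by_cases hi : i = b + 1 - ((k + 1 : ℕ) : ℤ)
        · by_cases hj : i + 1 = j
          · exact (hzero j (by omega)).eq_of_tgt _ _
          · exact S.X₃.shape i j (by simpa using hj)
        · exact (hzero i hi).eq_of_src _ _
      · intro i
        by_cases hi : i = b + 1 - ((k + 1 : ℕ) : ℤ)
        · have hz := sigmaGE_X_isZero P (m := b + 1 - (k : ℤ)) (i := i) (by omega)
          have hsi := hS.map_of_exact (HomologicalComplex.eval (ModuleCat.{u} R) (.up ℤ) i)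
          have : IsIso (S.g.f i) := (hsi.isIso_g_iff).2 hz
          have := sigmaGE_X_flat P (b + 1 - ((k + 1 : ℕ) : ℤ)) i (hP i)
          exact Module.Flat.of_linearEquiv (asIso (S.g.f i)).toLinearEquiv.symm
        · have := ModuleCat.subsingleton_of_isZero (hzero i hi)
          infer_instance
      · by_cases hi : i = b + 1 - ((k + 1 : ℕ) : ℤ)
        · have hz := sigmaGE_X_isZero P (m := b + 1 - (k : ℤ)) (i := i) (by omega)
          have hsi := hS.map_of_exact (HomologicalComplex.eval (ModuleCat.{u} R) (.up ℤ) i)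
          have : IsIso (S.g.f i) := (hsi.isIso_g_iff).2 hz
          have := sigmaGE_X_flat P (b + 1 - ((k + 1 : ℕ) : ℤ)) i (hP i)
          exact Module.Flat.of_linearEquiv (asIso (S.g.f i)).toLinearEquiv.symm
        · have := ModuleCat.subsingleton_of_isZero (hzero i hi)
          infer_instance

/-- A bounded above complex of flat modules is K-flat. -/
theorem isKFlat_of_boundedAbove_flat (b : ℤ) (hb : ∀ i, b < i → IsZero (P.X i))
    (hP : ∀ i, Module.Flat R (P.X i)) : IsKFlat P := by
  let F : ℕ ⥤ CochainComplex (ModuleCat.{u} R) ℤ :=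
    { obj := fun k => sigmaGE P (-(k : ℤ))
      map := fun {k l} h => sigmaGEMap P (by have := leOfHom h; omega) }
  let c : Cocone F :=
    { pt := P
      ι := { app := fun k => sigmaGEι P _ } }
  have hc : IsColimit c := HomologicalComplex.isColimitOfEval _ _ fun i => by
    let e := (HomologicalComplex.eval (ModuleCat.{u} R) (.up ℤ) i).mapCocone c
    have hsurj : ∀ (x : P.X i) (k : ℕ), (-i).toNat ≤ k → x ∈ truncSub P (-(k : ℤ)) i := by
      intro x k hk
      unfold truncSub
      rw [if_pos (by omega)]
      trivial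
    refine
      { desc := fun s => ModuleCat.ofHom
          { toFun := fun x => (s.ι.app (-i).toNat).hom ⟨x, hsurj x _ le_rfl⟩
            map_add' := fun x y => map_add (s.ι.app (-i).toNat).hom ⟨x, _⟩ ⟨y, _⟩
            map_smul' := fun r x => map_smul (s.ι.app (-i).toNat).hom r ⟨x, _⟩ }
        fac := fun s k => ModuleCat.hom_ext (LinearMap.ext fun x => ?_)
        uniq := fun s g hg => ModuleCat.hom_ext (LinearMap.ext fun x => ?_) }
    · rcases le_total k (-i).toNat with hk | hk
      · exact congrArg (fun φ => φ.hom x) (s.w (homOfLE hk))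
      · exact (congrArg (fun φ => φ.hom ⟨x.1, hsurj x.1 _ le_rfl⟩) (s.w (homOfLE hk))).symm
    · exact congrArg (fun φ => φ.hom ⟨x, hsurj x _ le_rfl⟩) (hg (-i).toNat)
  have : PreservesFilteredColimitsOfSize.{0, 0} (forget (ModuleCat.{u} R)) :=
    preservesSmallestFilteredColimits_of_preservesFilteredColimits _
  exact isKFlat_colimit ℕ F (c := c) hc (fun k => isKFlat_sigmaGE P b hb hP (-(k : ℤ)))

end Trunc

section KProjective

open KProjRes

variable {K : CochainComplex (ModuleCat.{u} R) ℤ}

lemma isKFlat_zeroCx (Q : ℤ → ModuleCat.{u} R) [∀ i, Projective (Q i)] :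
    IsKFlat (KProj.zeroCx Q) :=
  isKFlat_of_d_eq_zero (fun _ _ => rfl) fun i => by
    have : Module.Projective R (Q i) :=
      (IsProjective.iff_projective (R := R) (Q i)).2 inferInstance
    exact inferInstanceAs (Module.Flat R (Q i))

lemma isKFlat_stage (n : ℕ) : IsKFlat (stage K n).P := by
  induction n with
  | zero =>
    have h0 : IsKFlat (Q₀ K) :=
      @isKFlat_zeroCx _ _ (fun i => (ModuleCat.free R).obj { z : K.X i // IsCyc K i z })
        fun _ => projective_free _
    have h1 : IsKFlat (Q₁ K) :=
      @isKFlat_zeroCx _ _ (fun i => (ModuleCat.free R).obj (K.X (i - 1) : Type u))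
        fun _ => projective_free _
    exact h0.biprod ((mappingCone_two_of_three (𝟙 (Q₁ K))).1 h1 h1)
  | succ n ih =>
    have hQ : IsKFlat (stage K n).Q :=
      @isKFlat_zeroCx _ _ (fun i => (ModuleCat.free R).obj ((stage K n).Bad i))
        fun _ => projective_free _
    exact (mappingCone_two_of_three (stage K n).ψ).1 hQ ih

lemma isKFlat_res : IsKFlat (res K) :=
  isKFlat_colimit ℕ (Functor.ofSequence (trans K))
    (colimit.isColimit (Functor.ofSequence (trans K))) (fun n => isKFlat_stage n)

/-- K-projective complexes of modules are K-flat. -/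
theorem isKFlat_of_isKProjective (P : CochainComplex (ModuleCat.{u} R) ℤ) [P.IsKProjective] :
    IsKFlat P := by
  obtain ⟨e, -⟩ := (IsKProjective.quasiIso_iff (resπ P)).1 inferInstance
  exact (isKFlat_res).of_homotopyEquiv e

end KProjective

section QuasiIso

variable {L L₁ L₂ : CochainComplex (ModuleCat.{u} R) ℤ}

lemma IsKFlat.isZero_homology_left {P : CochainComplex (ModuleCat.{u} R) ℤ} (hP : IsKFlat P)
    (hL : ∀ i, IsZero (L.homology i)) (i : ℤ) : IsZero ((P ⊗ L).homology i) :=
  (hP L hL i).of_iso ((HomologicalComplex.homologyFunctor _ _ i).mapIso (braid P L))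

/-- The projection off a contractible summand. -/
noncomputable def fstEquiv (A B : CochainComplex (ModuleCat.{u} R) ℤ) :
    HomotopyEquiv (A ⊞ mappingCone (𝟙 B)) A where
  hom := biprod.fst
  inv := biprod.inl
  homotopyHomInvId := by
    have h : Homotopy ((biprod.snd : A ⊞ mappingCone (𝟙 B) ⟶ _) ≫ 𝟙 (mappingCone (𝟙 B)) ≫
        (biprod.inr : _ ⟶ A ⊞ mappingCone (𝟙 B))) 0 :=
      ((((mappingCone.homotopyToZeroOfId B).compRight biprod.inr).trans
        (Homotopy.ofEq zero_comp)).compLeft biprod.snd).trans (Homotopy.ofEq comp_zero)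
    refine (Homotopy.trans (Homotopy.ofEq ?_)
      ((Homotopy.add (Homotopy.refl (biprod.fst ≫ biprod.inl)) h.symm).trans (Homotopy.ofEq ?_)))
    · rw [add_zero]
    · rw [Category.id_comp, biprod.total]
  homotopyInvHomId := Homotopy.ofEq biprod.inl_fst

/-- Tensoring on the left with a K-flat complex preserves quasi-isomorphisms. -/
theorem quasiIso_whiskerLeft {P : CochainComplex (ModuleCat.{u} R) ℤ} (hP : IsKFlat P)
    (f : L₁ ⟶ L₂) [QuasiIso f] : QuasiIso (P ◁ f) := by
  let i : L₁ ⟶ L₂ ⊞ mappingCone (𝟙 L₁) := biprod.lift f (mappingCone.inr (𝟙 L₁))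
  have hfst : QuasiIso (biprod.fst : L₂ ⊞ mappingCone (𝟙 L₁) ⟶ L₂) :=
    (fstEquiv L₂ L₁).quasiIso_hom
  have hi : i ≫ biprod.fst = f := biprod.lift_fst _ _
  have : QuasiIso (i ≫ biprod.fst) := hi ▸ inferInstance
  have hqi : QuasiIso i := quasiIso_of_comp_right i biprod.fst
  have hr : ∀ n, i.f n ≫ ((biprod.snd : L₂ ⊞ mappingCone (𝟙 L₁) ⟶ _).f n ≫
      (mappingCone.snd (𝟙 L₁)).v n n (add_zero n)) = 𝟙 _ := fun n => by
    rw [← Category.assoc, ← HomologicalComplex.comp_f, biprod.lift_snd]
    simp
  have hmono : Mono i :=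
    HomologicalComplex.mono_of_mono_f i fun n => mono_of_mono_fac (hr n)
  let S := ShortComplex.mk i (cokernel.π i) (cokernel.condition i)
  have hS : S.ShortExact :=
    { exact := ShortComplex.exact_of_g_is_cokernel _ (cokernelIsCokernel i)
      mono_f := hmono
      epi_g := inferInstanceAs (Epi (cokernel.π i)) }
  let σ : ∀ n, (S.map (HomologicalComplex.eval (ModuleCat.{u} R) (.up ℤ) n)).Splitting := fun n =>
    have hs := hS.map_of_exact (HomologicalComplex.eval (ModuleCat.{u} R) (.up ℤ) n)
    have := hs.epi_g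
    ShortComplex.Splitting.ofExactOfRetraction _ hs.exact _ (hr n) this
  have hX₃ : ∀ n, IsZero (S.X₃.homology n) := fun n => by
    have hi' : ∀ m, IsIso (HomologicalComplex.homologyMap S.f m) := fun m =>
      (quasiIsoAt_iff_isIso_homologyMap _ _).1 (hqi.quasiIsoAt m)
    refine (hS.homology_exact₃ n (n + 1) (by simp)).isZero_of_both_zeros ?_ ?_
    · rw [← cancel_epi (HomologicalComplex.homologyMap S.f n), comp_zero]
      exact (hS.homology_exact₂ n) |> fun _ => (by
        rw [← HomologicalComplex.homologyMap_comp, S.zero, HomologicalComplex.homologyMap_zero])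
    · rw [← cancel_mono (HomologicalComplex.homologyMap S.f (n + 1)), zero_comp]
      exact hS.δ_comp n (n + 1) (by simp)
  have hT := shortExact_map (L := P) S hS fun p q => pure_of_splitting σ (P.X p) q
  have hPi : QuasiIso (P ◁ i) := quasiIso_of_bijective _ fun n => by
    have h3 : IsZero ((P ⊗ S.X₃).homology (n - 1)) := hP.isZero_homology_left hX₃ _
    have h3' : IsZero ((P ⊗ S.X₃).homology n) := hP.isZero_homology_left hX₃ _
    have : Mono (HomologicalComplex.homologyMap (P ◁ i) n) :=
      (hT.homology_exact₁ (n - 1) n (by simp)).mono_g (h3.eq_of_src _ _)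
    have : Epi (HomologicalComplex.homologyMap (P ◁ i) n) :=
      (hT.homology_exact₂ n).epi_f (h3'.eq_of_tgt _ _)
    have := isIso_of_mono_of_epi (HomologicalComplex.homologyMap (P ◁ i) n)
    exact (isIso_homologyMap_iff _ _).1 this
  have hPfst : QuasiIso (P ◁ (biprod.fst : L₂ ⊞ mappingCone (𝟙 L₁) ⟶ L₂)) :=
    (whiskerLeftHomotopyEquiv P (fstEquiv L₂ L₁)).quasiIso_hom
  rw [← hi, MonoidalCategory.whiskerLeft_comp]
  infer_instance

/-- Tensoring on the right with a K-flat complex preserves quasi-isomorphisms. -/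
theorem quasiIso_whiskerRight {P : CochainComplex (ModuleCat.{u} R) ℤ} (hP : IsKFlat P)
    (f : L₁ ⟶ L₂) [QuasiIso f] : QuasiIso (f ▷ P) := by
  rw [whiskerRight_eq]
  have := quasiIso_whiskerLeft hP f
  infer_instance

/-- A quasi-isomorphism of K-flat complexes stays one after tensoring with any complex. -/
theorem quasiIso_whiskerLeft_of_kflat {P Q : CochainComplex (ModuleCat.{u} R) ℤ} (α : P ⟶ Q)
    [QuasiIso α] (hP : IsKFlat P) (hQ : IsKFlat Q) (L : CochainComplex (ModuleCat.{u} R) ℤ) :
    QuasiIso (L ◁ α) := by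
  have := quasiIso_whiskerRight hP (KProjRes.resπ L)
  have := quasiIso_whiskerRight hQ (KProjRes.resπ L)
  have := quasiIso_whiskerLeft (isKFlat_res (K := L)) α
  have : QuasiIso (KProjRes.resπ L ▷ P ≫ L ◁ α) := by
    rw [← whisker_exchange]
    infer_instance
  exact quasiIso_of_comp_left (KProjRes.resπ L ▷ P) (L ◁ α)

end QuasiIso

end Groth.Agent.DRing.KFlat
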