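import Mathlib.Algebra.Homology.ShortComplex.ModuleCat
import Mathlib.Algebra.Homology.ShortComplex.HomologicalComplex
import Mathlib.Algebra.Homology.QuasiIso
import Mathlib.Algebra.Category.ModuleCat.EpiMono
import Mathlib.Algebra.Category.ModuleCat.Abelian
import Mathlib.Algebra.Homology.HomotopyCategory.MappingCone

/-!
# Elementwise homology of cochain complexes of modules
-/

universe u v

open CategoryTheory CategoryTheory.Limits

namespace Groth.Agent.DRing.Homology

variable {R : Type u} [Ring R] {K L : CochainComplex (ModuleCat.{v} R) ℤ}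

variable (K) in
/-- `z` is a cocycle of `K` in degree `i`. -/
def IsCyc (i : ℤ) (z : K.X i) : Prop := (K.d i (i + 1)).hom z = 0

lemma isCyc_iff {i j : ℤ} (h : i + 1 = j) (z : K.X i) : IsCyc K i z ↔ (K.d i j).hom z = 0 := by
  subst h; rfl

lemma d_d (i j k : ℤ) (x : K.X i) : (K.d j k).hom ((K.d i j).hom x) = 0 := by
  rw [← LinearMap.comp_apply, ← ModuleCat.hom_comp, K.d_comp_d, ModuleCat.hom_zero,
    LinearMap.zero_apply]

lemma hom_d (f : K ⟶ L) (i j : ℤ) (x : K.X i) :
    (L.d i j).hom ((f.f i).hom x) = (f.f j).hom ((K.d i j).hom x) := by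
  rw [← LinearMap.comp_apply, ← ModuleCat.hom_comp, f.comm i j, ModuleCat.hom_comp,
    LinearMap.comp_apply]

lemma isCyc_d (i j : ℤ) (x : K.X i) : IsCyc K j ((K.d i j).hom x) := d_d _ _ _ x

lemma isCyc_map (f : K ⟶ L) {i : ℤ} {z : K.X i} (hz : IsCyc K i z) :
    IsCyc L i ((f.f i).hom z) := by
  unfold IsCyc at *
  rw [hom_d, hz, map_zero]

lemma IsCyc.add {i : ℤ} {z w : K.X i} (hz : IsCyc K i z) (hw : IsCyc K i w) :
    IsCyc K i (z + w) := by
  unfold IsCyc at *; rw [map_add, hz, hw, add_zero]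

lemma IsCyc.sub {i : ℤ} {z w : K.X i} (hz : IsCyc K i z) (hw : IsCyc K i w) :
    IsCyc K i (z - w) := by
  unfold IsCyc at *; rw [map_sub, hz, hw, sub_zero]

lemma IsCyc.smul {i : ℤ} {z : K.X i} (hz : IsCyc K i z) (c : R) :
    IsCyc K i (c • z) := by
  unfold IsCyc at *; rw [map_smul, hz, smul_zero]

lemma isCyc_zero (i : ℤ) : IsCyc K i (0 : K.X i) := map_zero _

/-- The cycle attached to a cocycle. -/
noncomputable def cyc {i : ℤ} (z : K.X i) (hz : IsCyc K i z) : K.cycles i :=
  (K.sc i).moduleCatCyclesIso.inv.hom ⟨z, by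
    change (K.d i ((ComplexShape.up ℤ).next i)).hom z = 0
    rw [CochainComplex.next]; exact hz⟩

@[simp]
lemma iCycles_cyc {i : ℤ} (z : K.X i) (hz : IsCyc K i z) :
    (K.iCycles i).hom (cyc z hz) = z :=
  ShortComplex.moduleCatCyclesIso_inv_iCycles_apply (S := K.sc i) ⟨z, _⟩

/-- The homology class of a cocycle. -/
noncomputable def cls {i : ℤ} (z : K.X i) (hz : IsCyc K i z) : K.homology i :=
  (K.homologyπ i).hom (cyc z hz)

lemma iCycles_injective (i : ℤ) : Function.Injective (K.iCycles i).hom :=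
  (ModuleCat.mono_iff_injective _).1 inferInstance

lemma cyc_add {i : ℤ} {z w : K.X i} (hz : IsCyc K i z) (hw : IsCyc K i w) :
    cyc (z + w) (hz.add hw) = cyc z hz + cyc w hw :=
  iCycles_injective i (by simp)

lemma cls_add {i : ℤ} {z w : K.X i} (hz : IsCyc K i z) (hw : IsCyc K i w) :
    cls (z + w) (hz.add hw) = cls z hz + cls w hw := by
  simp [cls, cyc_add hz hw]

lemma cls_sub {i : ℤ} {z w : K.X i} (hz : IsCyc K i z) (hw : IsCyc K i w) :
    cls (z - w) (hz.sub hw) = cls z hz - cls w hw := by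
  have : cyc (z - w) (hz.sub hw) = cyc z hz - cyc w hw := iCycles_injective i (by simp)
  simp [cls, this]

lemma cls_smul {i : ℤ} {z : K.X i} (hz : IsCyc K i z) (c : R) :
    cls (c • z) (hz.smul c) = c • cls z hz := by
  have : cyc (c • z) (hz.smul c) = c • cyc z hz := iCycles_injective i (by simp)
  simp [cls, this]

lemma cls_surjective {i : ℤ} (x : K.homology i) : ∃ (z : K.X i) (hz : IsCyc K i z), cls z hz = x := by
  obtain ⟨c, rfl⟩ := (ModuleCat.epi_iff_surjective (K.homologyπ i)).1 inferInstance x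
  have hc : IsCyc K i ((K.iCycles i).hom c) := by
    unfold IsCyc
    rw [← LinearMap.comp_apply, ← ModuleCat.hom_comp, K.iCycles_d, ModuleCat.hom_zero,
      LinearMap.zero_apply]
  refine ⟨_, hc, ?_⟩
  exact congrArg _ (iCycles_injective i (by simp))

lemma cls_eq_zero_iff {i : ℤ} (j : ℤ) (hj : j + 1 = i) {z : K.X i} (hz : IsCyc K i z) :
    cls z hz = 0 ↔ ∃ w : K.X j, (K.d j i).hom w = z := by
  obtain rfl : j = i - 1 := by omega
  have key : ((K.sc i).moduleCatHomologyIso.hom).hom (cls z hz) =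
      (LinearMap.range (K.sc i).moduleCatToCycles).mkQ ⟨z, by
        change (K.d i ((ComplexShape.up ℤ).next i)).hom z = 0
        rw [CochainComplex.next]; exact hz⟩ := by
    have h := ShortComplex.π_moduleCatCyclesIso_hom_apply (S := K.sc i) (cyc z hz)
    refine h.trans ?_
    simp only [cyc]
    erw [(K.sc i).moduleCatCyclesIso.inv_hom_id_apply]
    rfl
  have inj : Function.Injective ((K.sc i).moduleCatHomologyIso.hom).hom :=
    (ModuleCat.mono_iff_injective _).1 inferInstance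
  refine (map_eq_zero_iff _ inj).symm.trans ?_
  rw [key]
  refine (Submodule.Quotient.mk_eq_zero _).trans ?_
  constructor
  · rintro ⟨w, hw⟩
    have hw' : (K.d ((ComplexShape.up ℤ).prev i) i).hom w = z := congrArg Subtype.val hw
    refine ⟨(K.XIsoOfEq (CochainComplex.prev ℤ i)).hom.hom w, Eq.trans ?_ hw'⟩
    exact congrArg (fun f => f.hom w) (K.XIsoOfEq_hom_comp_d (CochainComplex.prev ℤ i) i)
  · rintro ⟨w, hw⟩
    refine ⟨(K.XIsoOfEq (CochainComplex.prev ℤ i)).inv.hom w, Subtype.ext ?_⟩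
    refine Eq.trans ?_ hw
    exact congrArg (fun f => f.hom w) (K.XIsoOfEq_inv_comp_d (CochainComplex.prev ℤ i) i)

lemma cls_d (i j : ℤ) (hj : j + 1 = i) (w : K.X j) :
    cls ((K.d j i).hom w) (isCyc_d j i w) = 0 :=
  (cls_eq_zero_iff j hj _).2 ⟨w, rfl⟩

lemma cls_eq_iff {i : ℤ} (j : ℤ) (hj : j + 1 = i) {z z' : K.X i} (hz : IsCyc K i z)
    (hz' : IsCyc K i z') : cls z hz = cls z' hz' ↔ ∃ w : K.X j, (K.d j i).hom w = z - z' := by
  rw [← sub_eq_zero, ← cls_sub, cls_eq_zero_iff j hj]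

lemma homologyMap_cls (f : K ⟶ L) {i : ℤ} {z : K.X i} (hz : IsCyc K i z) :
    (HomologicalComplex.homologyMap f i).hom (cls z hz) = cls ((f.f i).hom z) (isCyc_map f hz) := by
  have h1 : (HomologicalComplex.cyclesMap f i).hom (cyc z hz) = cyc ((f.f i).hom z) (isCyc_map f hz) := by
    apply iCycles_injective i
    rw [iCycles_cyc]
    rw [← LinearMap.comp_apply, ← ModuleCat.hom_comp, HomologicalComplex.cyclesMap_i,
      ModuleCat.hom_comp, LinearMap.comp_apply, iCycles_cyc]
  have h2 := congrArg (fun g => g.hom (cyc z hz)) (HomologicalComplex.homologyπ_naturality f i)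
  simp only [ModuleCat.hom_comp, LinearMap.comp_apply] at h2
  rw [cls, h2, h1]
  rfl

lemma homologyMap_surjective_iff (f : K ⟶ L) (i j : ℤ) (hj : j + 1 = i) :
    Function.Surjective (HomologicalComplex.homologyMap f i).hom ↔
      ∀ z : L.X i, IsCyc L i z → ∃ (e : K.X i) (w : L.X j),
        IsCyc K i e ∧ (f.f i).hom e + (L.d j i).hom w = z := by
  constructor
  · intro h z hz
    obtain ⟨y, hy⟩ := h (cls z hz)
    obtain ⟨e, he, rfl⟩ := cls_surjective y
    rw [homologyMap_cls, eq_comm, cls_eq_iff j hj] at hy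
    obtain ⟨w, hw⟩ := hy
    exact ⟨e, w, he, by rw [hw]; abel⟩
  · intro h y
    obtain ⟨z, hz, rfl⟩ := cls_surjective y
    obtain ⟨e, w, he, hew⟩ := h z hz
    refine ⟨cls e he, ?_⟩
    rw [homologyMap_cls, eq_comm, cls_eq_iff j hj]
    exact ⟨w, by rw [← hew]; abel⟩

lemma homologyMap_injective_iff (f : K ⟶ L) (i j : ℤ) (hj : j + 1 = i) :
    Function.Injective (HomologicalComplex.homologyMap f i).hom ↔
      ∀ (e : K.X i) (w : L.X j), IsCyc K i e → (f.f i).hom e = (L.d j i).hom w →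
        ∃ e' : K.X j, (K.d j i).hom e' = e := by
  rw [injective_iff_map_eq_zero]
  constructor
  · intro h e w he hew
    refine (cls_eq_zero_iff j hj he).1 (h _ ?_)
    rw [homologyMap_cls, cls_eq_zero_iff j hj]
    exact ⟨w, hew.symm⟩
  · intro h y hy
    obtain ⟨e, he, rfl⟩ := cls_surjective y
    rw [homologyMap_cls, cls_eq_zero_iff j hj] at hy
    obtain ⟨w, hw⟩ := hy
    exact (cls_eq_zero_iff j hj he).2 (h e w he hw.symm)

lemma exactAt_iff_forall (i j : ℤ) (hj : j + 1 = i) :
    K.ExactAt i ↔ ∀ z : K.X i, IsCyc K i z → ∃ w : K.X j, (K.d j i).hom w = z := by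
  rw [HomologicalComplex.exactAt_iff' K j i (i + 1) (by simp [← hj]) (by simp),
    ShortComplex.moduleCat_exact_iff]
  exact Iff.rfl

lemma isIso_homologyMap_iff (f : K ⟶ L) (i : ℤ) :
    IsIso (HomologicalComplex.homologyMap f i) ↔
      Function.Bijective (HomologicalComplex.homologyMap f i).hom := by
  rw [ConcreteCategory.isIso_iff_bijective]

lemma quasiIso_of_bijective (f : K ⟶ L)
    (h : ∀ i, Function.Bijective (HomologicalComplex.homologyMap f i).hom) : QuasiIso f := by
  rw [quasiIso_iff]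
  exact fun i => (quasiIsoAt_iff_isIso_homologyMap f i).2 ((isIso_homologyMap_iff f i).2 (h i))

end Groth.Agent.DRing.Homology
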