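import Groth.Agent.DRing.PCTools
import Mathlib.Algebra.Category.ModuleCat.Free
import Mathlib.RingTheory.Flat.Basic

/-!
# Bounded above projective resolutions and the quotient truncation `τ≥a`
-/

universe u

open CategoryTheory CategoryTheory.Limits

attribute [local instance] HasDerivedCategory.standard

namespace Groth.Agent.DRing.Trunc

open Homology

variable {A : Type u} [CommRing A]

lemma projective_of_iso {M N : ModuleCat.{u} A} (e : M ≅ N) (h : Module.Projective A M) :
    Module.Projective A N :=
  Module.Projective.of_equiv e.toLinearEquiv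

lemma projective_biprod {M N : ModuleCat.{u} A} (hM : Module.Projective A M)
    (hN : Module.Projective A N) : Module.Projective A (M ⊞ N : ModuleCat.{u} A) :=
  projective_of_iso (ModuleCat.biprodIsoProd M N).symm
    (inferInstanceAs (Module.Projective A (M × N)))

lemma projective_of_isZero {M : ModuleCat.{u} A} (h : IsZero M) : Module.Projective A M := by
  have := ModuleCat.subsingleton_of_isZero h
  have := Module.Free.of_subsingleton A M
  infer_instance

/-- A complex exact above `b` has a resolution by projectives vanishing above `b`. -/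
lemma exists_projRes (K : DRing.Cx A) (b : ℤ) (hK : ∀ i, b < i → K.ExactAt i) :
    ∃ (P : DRing.Cx A) (π : P ⟶ K), DRing.VanishesAbove P b ∧
      (∀ i, Module.Projective A (P.X i)) ∧ QuasiIso π :=
  BARes.exists_resolution (C := fun M => Module.Projective A M) hK
    (fun e h => projective_of_iso e h) (fun M hM => projective_of_isZero hM)
    (fun M N hM hN => projective_biprod hM hN) (fun m E α _ _ _ _ => by
      let Z := LinearMap.ker ((CochainComplex.mappingCone α).d (m - 1) m).hom
      let l : (Z →₀ A) →ₗ[A] (CochainComplex.mappingCone α).X (m - 1) :=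
        Z.subtype.comp (Finsupp.linearCombination A id)
      refine ⟨ModuleCat.of A (Z →₀ A), ModuleCat.ofHom l,
        inferInstanceAs (Module.Projective A (Z →₀ A)),
        ModuleCat.hom_ext (LinearMap.ext fun x => (Finsupp.linearCombination A id x).2),
        fun z hz => ?_⟩
      have hz' : z ∈ Z := (isCyc_iff (show m - 1 + 1 = m by omega) z).1 hz
      refine ⟨Finsupp.single ⟨z, hz'⟩ 1, 0, ?_⟩
      rw [map_zero, add_zero]
      change ((Finsupp.linearCombination A id) (Finsupp.single (⟨z, hz'⟩ : Z) (1 : A)) : Z).1 = z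
      rw [Finsupp.linearCombination_single, one_smul]
      rfl)

/-- A representative vanishing above `b` with projective terms. -/
lemma exists_projRep (K : Dual.D A) (b : ℤ) (hb : ∀ i, b < i → Subsingleton (Dual.HD A K i)) :
    ∃ P : DRing.Cx A, DRing.VanishesAbove P b ∧ (∀ i, Module.Projective A (P.X i)) ∧
      Nonempty (DRing.toD P ≅ K) := by
  obtain ⟨K', _, -, ⟨e⟩⟩ := DBasic.exists_kproj_iso K
  obtain ⟨P, π, h1, h2, hq⟩ := exists_projRes K' b fun i hi => by
    rw [HomologicalComplex.exactAt_iff_isZero_homology, ← DBasic.subsingleton_HD_toD_iff,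
      DBasic.subsingleton_HD_congr e]
    exact hb i hi
  exact ⟨P, h1, h2, ⟨asIso (DerivedCategory.Q.map π) ≪≫ e⟩⟩

variable (P : DRing.Cx A) (a : ℤ)

/-- The submodules killed by `τ≥a`. -/
def killSub (i : ℤ) : Submodule A (P.X i) :=
  if i < a then ⊤ else if i = a then LinearMap.range (P.d (a - 1) i).hom else ⊥

lemma killSub_mapsTo {i j : ℤ} (x : P.X i) (hx : x ∈ killSub P a i) :
    (P.d i j).hom x ∈ killSub P a j := by
  by_cases h : i + 1 = j
  · subst h
    unfold killSub at *
    by_cases h1 : i + 1 < a
    · rw [if_pos h1]; trivial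
    rw [if_neg h1]
    by_cases h2 : i + 1 = a
    · rw [if_pos h2]
      obtain rfl : i = a - 1 := by omega
      exact LinearMap.mem_range_self _ x
    rw [if_neg h2, Submodule.mem_bot]
    rw [if_neg (by omega)] at hx
    by_cases h3 : i = a
    · rw [if_pos h3] at hx
      obtain ⟨w, rfl⟩ := hx
      exact d_d _ _ _ w
    · rw [if_neg h3, Submodule.mem_bot] at hx
      simp [hx]
  · rw [P.shape i j (by simpa using h)]
    exact (killSub P a j).zero_mem

/-- The canonical truncation `τ≥a P` as a quotient complex. -/
noncomputable def tauGE : DRing.Cx A where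
  X i := ModuleCat.of A (P.X i ⧸ killSub P a i)
  d i j := ModuleCat.ofHom (Submodule.mapQ (killSub P a i) (killSub P a j) (P.d i j).hom
    fun x hx => killSub_mapsTo P a x hx)
  shape i j h := by
    refine ModuleCat.hom_ext (Submodule.linearMap_qext _ (LinearMap.ext fun x => ?_))
    change Submodule.Quotient.mk ((P.d i j).hom x) = (0 : P.X j ⧸ killSub P a j)
    rw [P.shape i j h]; rfl
  d_comp_d' i j k _ _ := by
    refine ModuleCat.hom_ext (Submodule.linearMap_qext _ (LinearMap.ext fun x => ?_))
    change Submodule.Quotient.mk ((P.d j k).hom ((P.d i j).hom x)) = (0 : P.X k ⧸ killSub P a k)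
    rw [d_d (K := P) i j k x]; rfl

/-- The projection to `τ≥a`. -/
noncomputable def tauGEπ : P ⟶ tauGE P a where
  f i := ModuleCat.ofHom (killSub P a i).mkQ
  comm' _ _ _ := rfl

lemma killSub_eq_bot {i : ℤ} (h : a < i) : killSub P a i = ⊥ := by
  unfold killSub; rw [if_neg (by omega), if_neg (by omega)]

lemma killSub_eq_range : killSub P a a = LinearMap.range (P.d (a - 1) a).hom := by
  unfold killSub; rw [if_neg (by omega), if_pos rfl]

lemma tauGE_X_isZero {i : ℤ} (h : i < a) : IsZero ((tauGE P a).X i) := by
  have : Subsingleton (P.X i ⧸ killSub P a i) := by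
    rw [show killSub P a i = ⊤ from if_pos h]
    exact Submodule.Quotient.subsingleton_iff.2 rfl
  exact ModuleCat.isZero_of_subsingleton (ModuleCat.of A (P.X i ⧸ killSub P a i))

/-- Above `a` nothing changes. -/
noncomputable def tauGE_XIso {i : ℤ} (h : a < i) : (tauGE P a).X i ≅ P.X i :=
  (show (ModuleCat.of A (P.X i ⧸ killSub P a i) : ModuleCat.{u} A) ≃ₗ[A] P.X i from
    Submodule.quotEquivOfEqBot _ (killSub_eq_bot P a h)).toModuleIso

lemma vanishesOutside_tauGE {b : ℤ} (hb : DRing.VanishesAbove P b) :
    DRing.VanishesOutside (tauGE P a) a b := by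
  rintro i (hi | hi)
  · exact tauGE_X_isZero P a hi
  · have := ModuleCat.subsingleton_of_isZero (hb i hi)
    have : Subsingleton (P.X i ⧸ killSub P a i) :=
      (Submodule.mkQ_surjective (killSub P a i)).subsingleton
    exact ModuleCat.isZero_of_subsingleton (ModuleCat.of A (P.X i ⧸ killSub P a i))

lemma bijective_homologyMap_tauGEπ {i : ℤ} (hi : a ≤ i) :
    Function.Bijective (HomologicalComplex.homologyMap (tauGEπ P a) i).hom := by
  constructor
  · rw [homologyMap_injective_iff _ i (i - 1) (by omega)]
    intro z w hz hzw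
    obtain ⟨w', rfl⟩ := Submodule.mkQ_surjective (killSub P a (i - 1)) w
    have hw : (Submodule.Quotient.mk z : P.X i ⧸ killSub P a i) =
        Submodule.Quotient.mk ((P.d (i - 1) i).hom w') := hzw
    rw [Submodule.Quotient.eq] at hw
    by_cases hia : i = a
    · subst hia
      rw [killSub_eq_range] at hw
      obtain ⟨v, hv⟩ := hw
      exact ⟨v + w', by rw [map_add, hv, sub_add_cancel]⟩
    · rw [killSub_eq_bot P a (by omega), Submodule.mem_bot, sub_eq_zero] at hw
      exact ⟨w', hw.symm⟩
  · rw [homologyMap_surjective_iff _ i (i - 1) (by omega)]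
    intro y hy
    obtain ⟨z, rfl⟩ := Submodule.mkQ_surjective (killSub P a i) y
    have hz : (Submodule.Quotient.mk ((P.d i (i + 1)).hom z) :
        P.X (i + 1) ⧸ killSub P a (i + 1)) = 0 := hy
    rw [Submodule.Quotient.mk_eq_zero, killSub_eq_bot P a (by omega), Submodule.mem_bot] at hz
    exact ⟨z, 0, hz, by rw [map_zero, add_zero]; rfl⟩

lemma quasiIso_tauGEπ (h : ∀ i, i < a → P.ExactAt i) : QuasiIso (tauGEπ P a) := by
  refine quasiIso_of_bijective _ fun i => ?_
  by_cases hi : i < a
  · have h1 := ModuleCat.subsingleton_of_isZero ((h i hi).isZero_homology)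
    have h2 := ModuleCat.subsingleton_of_isZero
      (show IsZero ((tauGE P a).homology i) from
        ((tauGE P a).exactAt_iff i).2
          (ShortComplex.exact_of_isZero_X₂ ((tauGE P a).sc i) (tauGE_X_isZero P a hi)) |>.isZero_homology)
    exact ⟨fun x y _ => Subsingleton.elim x y, fun y => ⟨0, Subsingleton.elim _ _⟩⟩
  · exact bijective_homologyMap_tauGEπ P a (by omega)

/-- A map to a complex vanishing below `a` factors through `τ≥a`. -/
noncomputable def tauGEDesc {L : DRing.Cx A} (f : P ⟶ L) (hL : ∀ i, i < a → IsZero (L.X i)) :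
    tauGE P a ⟶ L where
  f i := ModuleCat.ofHom ((killSub P a i).liftQ (f.f i).hom (by
    intro x hx
    unfold killSub at hx
    rw [LinearMap.mem_ker]
    by_cases h1 : i < a
    · have := ModuleCat.subsingleton_of_isZero (hL i h1)
      exact Subsingleton.elim _ _
    rw [if_neg h1] at hx
    by_cases h2 : i = a
    · rw [if_pos h2] at hx
      subst h2
      obtain ⟨w, rfl⟩ := hx
      have := ModuleCat.subsingleton_of_isZero (hL (i - 1) (by omega))
      rw [← hom_d, Subsingleton.elim ((f.f (i - 1)).hom w) 0, map_zero]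
    · rw [if_neg h2, Submodule.mem_bot] at hx
      rw [hx, map_zero]))
  comm' i j _ := by
    refine ModuleCat.hom_ext (Submodule.linearMap_qext _ (LinearMap.ext fun x => ?_))
    exact hom_d f i j x

lemma tauGEπ_desc {L : DRing.Cx A} (f : P ⟶ L) (hL : ∀ i, i < a → IsZero (L.X i)) :
    tauGEπ P a ≫ tauGEDesc P a f hL = f := by
  refine HomologicalComplex.hom_ext _ _ fun i => ModuleCat.hom_ext (LinearMap.ext fun x => ?_)
  rfl

end Groth.Agent.DRing.Trunc
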