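import Groth.Agent.DRing.BaseChangeAmp
import Groth.Agent.DRing.Trunc

/-!
# Base change of `m`-pseudo-coherent objects
-/

universe u

open CategoryTheory CategoryTheory.Limits CategoryTheory.Pretriangulated DerivedCategory

attribute [local instance] HasDerivedCategory.standard

namespace Groth.Agent.DRing.PC

open DBasic

variable {A : Type u} [CommRing A]

/-- An `m`-pseudo-coherent object has a bounded above projective representative which is finite
free in degrees `≥ m`. -/
theorem exists_rep_finiteFree_ge {K : Dual.D A} {m : ℤ} (h : DRing.IsPseudoCoherent A m K) :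
    ∃ (P : DRing.Cx A) (b : ℤ), DRing.VanishesAbove P b ∧ (∀ i, Module.Projective A (P.X i)) ∧
      (∀ i, m ≤ i → Module.Finite A (P.X i) ∧ Module.Free A (P.X i)) ∧
      Nonempty (DRing.toD P ≅ K) := by
  obtain ⟨E, b, α, hE, hf, hα⟩ := exists_approx h
  obtain ⟨C, g, k, hT⟩ := distinguished_cocone_triangle α
  have hC := (isApprox_iff_vanishGE _ hT m).1 hα
  let T' := (Triangle.mk α g k).invRotate
  have hT' : T' ∈ distinguishedTriangles := inv_rot_of_distTriang _ hT
  have hv : ∀ i, m < i → Subsingleton (Dual.HD A T'.obj₁ i) := fun i hi =>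
    (subsingleton_HD_shift C (-1) i (i - 1) (by omega)).2 (hC (i - 1) (by omega))
  obtain ⟨F, hFm, hFp, ⟨e⟩⟩ := Trunc.exists_projRep T'.obj₁ m hv
  have := isKProjective_of_projective F m hFm hFp
  obtain ⟨f, hfQ⟩ := exists_Q_map_eq (L := E) (e.hom ≫ T'.mor₁)
  have hT'' := DerivedCategory.mappingCone_triangle_distinguished f
  let iso := isoTriangleOfIso₁₂ _ T' hT'' hT' e (Iso.refl _) (by
    change Q.map f ≫ 𝟙 _ = e.hom ≫ T'.mor₁
    rw [Category.comp_id, hfQ]; rfl)
  refine ⟨CochainComplex.mappingCone f, max m b, ?_, ?_, ?_, ⟨Triangle.π₃.mapIso iso⟩⟩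
  · intro i hi
    rw [CochainComplex.mappingCone.isZero_X_iff]
    exact ⟨hFm (i + 1) (by omega), hE i (Or.inr (by omega))⟩
  · intro i
    refine Trunc.projective_of_iso (HomologicalComplex.homotopyCofiber.XIsoBiprod f i (i + 1) rfl).symm
      (Trunc.projective_biprod (hFp (i + 1)) ?_)
    have := (hf i).2
    infer_instance
  · intro i hi
    exact finiteFree_of_iso (HomologicalComplex.homotopyCofiber.XIsoBiprod f i (i + 1) rfl).symm
      (finiteFree_biprod (finiteFree_of_isZero (hFm (i + 1) (by omega))) (hf i))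

/-- A bounded above complex finite free in degrees `≥ m` is `m`-pseudo-coherent. -/
theorem pc_of_finiteFree_ge {P : DRing.Cx A} {b m : ℤ} (hb : DRing.VanishesAbove P b)
    (hf : ∀ i, m ≤ i → Module.Finite A (P.X i) ∧ Module.Free A (P.X i)) :
    DRing.IsPseudoCoherent A m (DRing.toD P) := by
  refine isPseudoCoherent_of_approx (Q.map (KFlat.sigmaGEι P m))
    (vanishesOutside_sigmaGE hb m) (fun i => ?_) (isApprox_sigmaGEι P m)
  by_cases h : m ≤ i
  · exact finiteFree_of_iso
      ((LinearEquiv.ofEq _ _ (show KFlat.truncSub P m i = ⊤ from if_pos h)).trans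
        Submodule.topEquiv).symm.toModuleIso (hf i h)
  · exact finiteFree_of_isZero (KFlat.sigmaGE_X_isZero P (by omega))

/-- Base change preserves `m`-pseudo-coherence. -/
theorem pc_baseChange {B : Type u} [CommRing B] (φ : A →+* B) [DRing.HasLBaseChange φ]
    {K : Dual.D A} {m : ℤ} (h : DRing.IsPseudoCoherent A m K) :
    DRing.IsPseudoCoherent B m ((DRing.LBaseChange φ).obj K) := by
  obtain ⟨P, b, hb, hp, hf, ⟨e⟩⟩ := exists_rep_finiteFree_ge h
  exact pc_of_iso (Perfect.baseChangeIsoOfRep φ (TorAmp.isKFlat_of_projective hb hp) e)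
    (pc_of_finiteFree_ge (fun i hi => Perfect.isZero_extCx φ (hb i hi)) fun i hi =>
      ⟨Perfect.finite_extendScalars φ (hf i hi).1, Perfect.free_extendScalars φ (hf i hi).2⟩)

end Groth.Agent.DRing.PC

namespace Groth.Agent.DRing.PC

open DBasic Homology

variable {A : Type u} [CommRing A]

/-- `H^{m+1}` of an `m`-pseudo-coherent object vanishing above is finitely presented. -/
theorem finitePresentation_top {m : ℤ} {K : Dual.D A} (h : DRing.IsPseudoCoherent A m K)
    (hv : ∀ i, m + 1 < i → Subsingleton (Dual.HD A K i)) :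
    Module.FinitePresentation A (Dual.HD A K (m + 1)) := by
  obtain ⟨E, b, α, hE, hf, hα⟩ := exists_approx h
  have hex : ∀ i, m + 1 < i → E.ExactAt i := fun i hi => by
    rw [HomologicalComplex.exactAt_iff_isZero_homology]
    have := hα.1 i (by omega)
    exact (((subsingleton_HD_iff_isZero _ _).1 (hv i hi)).of_iso
      (asIso ((HF i).map α))).of_iso (hIso E i).symm
  obtain ⟨h1, h2⟩ := ker_finite_projective (fun i hi => hE i (Or.inr hi))
    (fun i => ⟨(hf i).1, have := (hf i).2; inferInstance⟩) hex (m + 1) le_rfl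
  have hfp : Module.FinitePresentation A (LinearMap.ker (E.d (m + 1) (m + 1 + 1)).hom) :=
    Module.finitePresentation_of_projective _ _
  have : Module.FinitePresentation A (E.homology (m + 1)) := by
    refine Module.finitePresentation_of_surjective (clsLin E (m + 1)) clsLin_surjective ?_
    obtain ⟨_, _⟩ := hf m
    have : LinearMap.ker (clsLin E (m + 1)) = LinearMap.range
        ((E.d m (m + 1)).hom.codRestrict (LinearMap.ker (E.d (m + 1) (m + 1 + 1)).hom)
          (fun w => d_d (K := E) _ _ _ w)) := by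
      ext z
      refine (cls_eq_zero_iff m rfl z.2).trans ?_
      exact ⟨fun ⟨w, hw⟩ => ⟨w, Subtype.ext hw⟩, fun ⟨w, hw⟩ => ⟨w, congrArg Subtype.val hw⟩⟩
    rw [this]
    exact Module.Finite.iff_fg.1 inferInstance
  have := hα.1 (m + 1) (by omega)
  exact Module.FinitePresentation.of_equiv
    ((hIso E (m + 1)).symm ≪≫ asIso ((HF (m + 1)).map α)).toLinearEquiv

end Groth.Agent.DRing.PC
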