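import Groth.Agent.DRing.Descent
import Groth.Agent.DRing.PCBaseChange

/-!
# Flat base change of perfect modules
-/

universe u

open CategoryTheory DerivedCategory TensorProduct

attribute [local instance] HasDerivedCategory.standard

namespace Groth.Agent.DRing.Perfect

variable {A B : Type u} [CommRing A] [CommRing B] (φ : A →+* B)

/-- Extension of scalars is the tensor product. -/
lemma nonempty_extendScalarsIso (M : Type u) [AddCommGroup M] [Module A M] :
    letI := φ.toAlgebra
    Nonempty (((ModuleCat.extendScalars.{u, u, u} φ).obj (ModuleCat.of A M)) ≅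
      ModuleCat.of B (B ⊗[A] M)) := by
  let := φ.toAlgebra
  exact ⟨(show ((ModuleCat.extendScalars.{u, u, u} φ).obj (ModuleCat.of A M) : ModuleCat.{u} B) ≃ₗ[B]
      B ⊗[A] M from
    { toFun := fun x => x
      invFun := fun x => x
      left_inv := fun _ => rfl
      right_inv := fun _ => rfl
      map_add' := fun _ _ => rfl
      map_smul' := fun c (x : B ⊗[A] M) => by
        induction x using TensorProduct.induction_on with
        | zero => exact (smul_zero (A := (ModuleCat.extendScalars.{u, u, u} φ).obj (ModuleCat.of A M)) c).trans (smul_zero (A := B ⊗[A] M) c).symm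
        | tmul s m => rfl
        | add x y hx hy => exact (smul_add (A := (ModuleCat.extendScalars.{u, u, u} φ).obj (ModuleCat.of A M)) c x y).trans ((congrArg₂ (fun p q : B ⊗[A] M => p + q) hx hy).trans (smul_add c x y).symm) }).toModuleIso⟩

/-- For flat `φ`, derived base change of `M[0]` is `(B ⊗ M)[0]`. -/
theorem nonempty_baseChangeModuleIso (hφ : φ.Flat) [DRing.HasLBaseChange φ]
    (M : Type u) [AddCommGroup M] [Module A M] :
    letI := φ.toAlgebra
    Nonempty ((DRing.LBaseChange φ).obj (Dual.inD A M) ≅ Dual.inD B (B ⊗[A] M)) := by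
  obtain ⟨i⟩ := nonempty_extendScalarsIso φ M
  obtain ⟨P, hb, hp, ⟨e⟩⟩ := Trunc.exists_projRep (Dual.inD A M) 0
    (fun i hi => PC.subsingleton_HD_inD A M i (by omega))
  have := DBasic.isKProjective_of_projective P 0 hb hp
  obtain ⟨g, hg⟩ := DBasic.exists_Q_map_eq (P := P) (L := PC.sgl 0 (ModuleCat.of A M))
    (e ≪≫ (singleFunctorIsoCompQ (ModuleCat.{u} A) 0).app (ModuleCat.of A M)).hom
  have : QuasiIso g := (isIso_Q_map_iff_quasiIso (C := ModuleCat.{u} A) g).1
    (by rw [hg]; exact Iso.isIso_hom _)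
  have := Descent.quasiIso_extCx φ hφ g
  exact ⟨(baseChangeIsoOfRep φ (TorAmp.isKFlat_of_projective hb hp) e).symm ≪≫
    asIso (Q.map ((LTensor.extCx φ).map g)) ≪≫
    Q.mapIso ((HomologicalComplex.singleMapHomologicalComplex
      (ModuleCat.extendScalars.{u, u, u} φ) (ComplexShape.up ℤ) 0).app (ModuleCat.of A M)) ≪≫
    ((singleFunctorIsoCompQ (ModuleCat.{u} B) 0).app _).symm ≪≫
    (singleFunctor (ModuleCat.{u} B) 0).mapIso i⟩

theorem perfectModule_baseChange (hφ : φ.Flat) {M : Type u} [AddCommGroup M] [Module A M]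
    (hM : DRing.IsPerfectModule A M) :
    letI := φ.toAlgebra
    DRing.IsPerfectModule B (B ⊗[A] M) := by
  have := LTensor.hasLBaseChange φ
  obtain ⟨e⟩ := nonempty_baseChangeModuleIso φ hφ M
  exact perfect_of_iso e (perfect_baseChange φ hM)

theorem torAmpModule_baseChange (hφ : φ.Flat) {M : Type u} [AddCommGroup M] [Module A M] {a b : ℤ}
    (hM : DRing.HasTorAmplitudeIn A a b (Dual.inD A M)) :
    letI := φ.toAlgebra
    DRing.HasTorAmplitudeIn B a b (Dual.inD B (B ⊗[A] M)) := by
  have := LTensor.hasLBaseChange φ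
  obtain ⟨e⟩ := nonempty_baseChangeModuleIso φ hφ M
  exact TorAmp.torAmp_of_iso e (torAmp_baseChange φ hM)

theorem pcModule_baseChange (hφ : φ.Flat) {M : Type u} [AddCommGroup M] [Module A M] {m : ℤ}
    (hM : DRing.IsPseudoCoherentModule A m M) :
    letI := φ.toAlgebra
    DRing.IsPseudoCoherentModule B m (B ⊗[A] M) := by
  have := LTensor.hasLBaseChange φ
  obtain ⟨e⟩ := nonempty_baseChangeModuleIso φ hφ M
  exact PC.pc_of_iso e (PC.pc_baseChange φ hM)

theorem pcModule'_baseChange (hφ : φ.Flat) {M : Type u} [AddCommGroup M] [Module A M]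
    (hM : DRing.IsPseudoCoherentModule' A M) :
    letI := φ.toAlgebra
    DRing.IsPseudoCoherentModule' B (B ⊗[A] M) := by
  have := LTensor.hasLBaseChange φ
  obtain ⟨e⟩ := nonempty_baseChangeModuleIso φ hφ M
  exact PC.pc'_of_iso e (pc'_baseChange φ hM)

end Groth.Agent.DRing.Perfect
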