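import Groth.Agent.DRing.PerfectAmp
import Mathlib.RingTheory.Flat.Stability
import Mathlib.RingTheory.TensorProduct.Finite
import Mathlib.RingTheory.TensorProduct.Free

/-!
# Base change of tor amplitude, pseudo-coherence and perfectness; dévissage of perfect objects
-/

universe u

open CategoryTheory CategoryTheory.Limits DerivedCategory TensorProduct

attribute [local instance] HasDerivedCategory.standard

namespace Groth.Agent.DRing.Perfect

open TorAmp ZeroObject

variable {A B : Type u} [CommRing A] [CommRing B] (φ : A →+* B)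

lemma flat_extendScalars {M : ModuleCat.{u} A} (h : Module.Flat A M) :
    Module.Flat B ((ModuleCat.extendScalars.{u, u, u} φ).obj M) := by
  algebraize [φ]
  exact (inferInstance : Module.Flat B (B ⊗[A] M))

lemma finite_extendScalars {M : ModuleCat.{u} A} (h : Module.Finite A M) :
    Module.Finite B ((ModuleCat.extendScalars.{u, u, u} φ).obj M) := by
  algebraize [φ]
  exact (inferInstance : Module.Finite B (B ⊗[A] M))

lemma projective_extendScalars {M : ModuleCat.{u} A} (h : Module.Projective A M) :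
    Module.Projective B ((ModuleCat.extendScalars.{u, u, u} φ).obj M) := by
  algebraize [φ]
  exact (inferInstance : Module.Projective B (B ⊗[A] M))

lemma free_extendScalars {M : ModuleCat.{u} A} (h : Module.Free A M) :
    Module.Free B ((ModuleCat.extendScalars.{u, u, u} φ).obj M) := by
  algebraize [φ]
  exact (inferInstance : Module.Free B (B ⊗[A] M))

lemma isZero_extCx {E : DRing.Cx A} {i : ℤ} (h : IsZero (E.X i)) :
    IsZero (((LTensor.extCx φ).obj E).X i) :=
  (ModuleCat.extendScalars.{u, u, u} φ).map_isZero h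

variable [DRing.HasLBaseChange φ]

/-- Base change of a K-flat representative. -/
noncomputable def baseChangeIsoOfRep {E : DRing.Cx A} (hE : KFlat.IsKFlat E) {K : Dual.D A}
    (e : DRing.toD E ≅ K) :
    DRing.toD ((LTensor.extCx φ).obj E) ≅ (DRing.LBaseChange φ).obj K :=
  (LTensor.LBaseChangeIso φ hE).symm ≪≫ (DRing.LBaseChange φ).mapIso e

lemma torAmp_baseChange {K : Dual.D A} {a b : ℤ} (h : DRing.HasTorAmplitudeIn A a b K) :
    DRing.HasTorAmplitudeIn B a b ((DRing.LBaseChange φ).obj K) := by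
  obtain ⟨E, h1, h2, ⟨e⟩⟩ := h
  exact ⟨(LTensor.extCx φ).obj E, fun i hi => isZero_extCx φ (h1 i hi),
    fun i => flat_extendScalars φ (h2 i), ⟨baseChangeIsoOfRep φ (isKFlat_of_flat h1 h2) e⟩⟩

lemma perfect_baseChange {K : Dual.D A} (h : DRing.IsPerfect A K) :
    DRing.IsPerfect B ((DRing.LBaseChange φ).obj K) := by
  obtain ⟨E, a, b, h1, h2, ⟨e⟩⟩ := h
  exact ⟨(LTensor.extCx φ).obj E, a, b, fun i hi => isZero_extCx φ (h1 i hi),
    fun i => ⟨finite_extendScalars φ (h2 i).1, projective_extendScalars φ (h2 i).2⟩,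
    ⟨baseChangeIsoOfRep φ (isKFlat_of_projective (fun i hi => h1 i (Or.inr hi)) fun i => (h2 i).2) e⟩⟩

lemma pc'_baseChange {K : Dual.D A} (h : DRing.IsPseudoCoherent' A K) :
    DRing.IsPseudoCoherent' B ((DRing.LBaseChange φ).obj K) := by
  obtain ⟨E, b, h1, h2, ⟨e⟩⟩ := h
  exact ⟨(LTensor.extCx φ).obj E, b, fun i hi => isZero_extCx φ (h1 i hi),
    fun i => ⟨finite_extendScalars φ (h2 i).1, free_extendScalars φ (h2 i).2⟩,
    ⟨baseChangeIsoOfRep φ (isKFlat_of_projective h1 fun i => have := (h2 i).2; inferInstance) e⟩⟩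

omit [DRing.HasLBaseChange φ]

lemma torAmp_of_isZero {K : Dual.D A} (h : IsZero K) (a b : ℤ) :
    DRing.HasTorAmplitudeIn A a b K := by
  have hz : ∀ i, IsZero ((0 : DRing.Cx A).X i) := fun i =>
    (HomologicalComplex.eval (ModuleCat.{u} A) (.up ℤ) i).map_isZero (isZero_zero _)
  refine ⟨0, fun i _ => hz i, fun i => ?_, ⟨(Q.map_isZero (isZero_zero _)).iso h⟩⟩
  have := ModuleCat.subsingleton_of_isZero (hz i)
  infer_instance

open CategoryTheory.Pretriangulated in
lemma perfect_of_cohomology (K : Dual.D A) {a b : ℤ}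
    (hb : ∀ i, i < a ∨ b < i → Subsingleton (Dual.HD A K i))
    (h : ∀ i, DRing.IsPerfectModule A (Dual.HD A K i)) : DRing.IsPerfect A K :=
  Devissage.of_cohomology (fun K => DRing.IsPerfect A K) (fun e h => perfect_of_iso e h)
    (fun _ h => perfect_of_isZero h) (fun _ hT h h' => (perfect_two_of_three hT).2.1 h h') K hb
    fun i => perfect_of_iso (PC.inDShiftIso _ i) (perfect_shift (h i) (-i))

lemma perfect_of_terms (P : DRing.Cx A) {a b : ℤ} (hb : DRing.VanishesOutside P a b)
    (h : ∀ i, DRing.IsPerfectModule A (P.X i)) : DRing.IsPerfect A (DRing.toD P) :=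
  Devissage.of_terms (fun K => DRing.IsPerfect A K) (fun e h => perfect_of_iso e h)
    (fun _ h => perfect_of_isZero h) (fun _ hT h h' => (perfect_two_of_three hT).2.1 h h') P hb
    fun i => perfect_of_iso (PC.inDShiftIso _ i) (perfect_shift (h i) (-i))

lemma torAmp_of_cohomology (K : Dual.D A) {a b c d : ℤ}
    (hb : ∀ i, i < c ∨ d < i → Subsingleton (Dual.HD A K i))
    (h : ∀ i, DRing.HasTorAmplitudeIn A (a - i) (b - i) (Dual.inD A (Dual.HD A K i))) :
    DRing.HasTorAmplitudeIn A a b K :=
  Devissage.of_cohomology (fun K => DRing.HasTorAmplitudeIn A a b K) (fun e h => torAmp_of_iso e h)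
    (fun _ h => torAmp_of_isZero h a b) (fun _ hT h h' => (torAmp_of_triangle hT a b).2.1 h h') K hb
    fun i => torAmp_sgl (h i) (by omega) (by omega)

lemma torAmp_of_terms (P : DRing.Cx A) {a b c d : ℤ} (hb : DRing.VanishesOutside P c d)
    (h : ∀ i, DRing.HasTorAmplitudeIn A (a - i) (b - i) (Dual.inD A (P.X i))) :
    DRing.HasTorAmplitudeIn A a b (DRing.toD P) :=
  Devissage.of_terms (fun K => DRing.HasTorAmplitudeIn A a b K) (fun e h => torAmp_of_iso e h)
    (fun _ h => torAmp_of_isZero h a b) (fun _ hT h h' => (torAmp_of_triangle hT a b).2.1 h h') P hb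
    fun i => torAmp_sgl (h i) (by omega) (by omega)

end Groth.Agent.DRing.Perfect
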