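import Groth.Agent.DRing.LTensor
import Mathlib.CategoryTheory.Functor.Derived.Adjunction
import Mathlib.CategoryTheory.Functor.Derived.RightDerived
import Mathlib.Algebra.Category.ModuleCat.ChangeOfRings

/-!
# Derived base change is left adjoint to restriction
-/

universe w v₁ v₂ v₃ u u₁ u₂ u₃

open CategoryTheory CategoryTheory.Limits DerivedCategory

attribute [local instance] HasDerivedCategory.standard

namespace Groth.Agent.DRing.DerivedAdj

open LeftDerived

section Abs

variable {C : Type u₁} {D : Type u₂} {H : Type u₃} [Category.{v₁} C] [Category.{v₂} D]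
  [Category.{v₃} H] {L : C ⥤ D} {F : C ⥤ H} (W : MorphismProperty C) [L.IsLocalization W]

/-- A functor agreeing with `F` on good objects is its left derived functor. -/
theorem isLeftDerivedFunctor_of_isIso (h : HasEnough L F) (LF : D ⥤ H) (α : L ⋙ LF ⟶ F)
    (hα : ∀ P, IsGood L F P → IsIso (α.app P)) : LF.IsLeftDerivedFunctor α W := by
  have hpt : ∀ d : D, Nonempty (IsLimit ((Functor.RightExtension.mk LF α).coneAt d)) := fun d => by
    have := Localization.essSurj L W
    obtain ⟨P, s, hP, hs⟩ := h (L.objPreimage d)
    let e : d ≅ L.obj P := (L.objObjPreimageIso d).symm ≪≫ (asIso (L.map s)).symm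
    have := hα P hP
    refine ⟨IsLimit.ofIsoLimit (hP.isLimit e)
      (Cone.ext ((asIso (α.app P)).symm ≪≫ LF.mapIso e.symm) fun j => ?_)⟩
    change F.map (hP.lift e j) = (inv (α.app P) ≫ LF.map e.inv) ≫ LF.map j.hom ≫ α.app j.right
    have hn : LF.map (L.map (hP.lift e j)) ≫ α.app j.right = α.app P ≫ F.map (hP.lift e j) :=
      α.naturality (hP.lift e j)
    rw [hP.map_lift, Functor.map_comp, Category.assoc] at hn
    rw [Category.assoc, IsIso.eq_inv_comp]
    exact hn.symm
  have : LF.IsRightKanExtension α :=
    Functor.RightExtension.IsPointwiseRightKanExtension.isRightKanExtension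
      (E := Functor.RightExtension.mk LF α) fun d => (hpt d).some
  exact ⟨inferInstance⟩

lemma hasEnough_comp (h : HasEnough L F) {H' : Type w} [Category.{v₃} H'] (F' : H ⥤ H') :
    HasEnough L (F ⋙ F') := fun X => by
  obtain ⟨P, s, hP, hs⟩ := h X
  exact ⟨P, s, ⟨hP.fac, fun Y g g' hg => congrArg F'.map (hP.eq g g' hg)⟩, hs⟩

end Abs

section HomotopyAdj

variable {A : Type u₁} {B : Type u₂} [Category.{v₁} A] [Category.{v₂} B] [Abelian A] [Abelian B]
  {L : A ⥤ B} {R : B ⥤ A} (adj : L ⊣ R) [L.Additive] [R.Additive]

/-- An adjunction induces one on homotopy categories. -/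
noncomputable def mapHomotopyCategoryAdj :
    L.mapHomotopyCategory (ComplexShape.up ℤ) ⊣ R.mapHomotopyCategory (ComplexShape.up ℤ) :=
  Adjunction.mkOfUnitCounit
    { unit :=
        { app := fun X => (HomotopyCategory.quotient A (ComplexShape.up ℤ)).map
            (X := X.as) (Y := (R.mapHomologicalComplex (ComplexShape.up ℤ)).obj
              ((L.mapHomologicalComplex (ComplexShape.up ℤ)).obj X.as))
            { f := fun n => adj.unit.app (X.as.X n)
              comm' := fun i j _ => (adj.unit.naturality (X.as.d i j)).symm }
          naturality := by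
            intro X Y f
            obtain ⟨g, hg⟩ := (HomotopyCategory.quotient A (ComplexShape.up ℤ)).map_surjective
              (show (HomotopyCategory.quotient A (ComplexShape.up ℤ)).obj X.as ⟶
                (HomotopyCategory.quotient A (ComplexShape.up ℤ)).obj Y.as from f)
            show f ≫ _ = _ ≫ (R.mapHomotopyCategory _).map ((L.mapHomotopyCategory _).map f)
            rw [show f = (HomotopyCategory.quotient A (ComplexShape.up ℤ)).map g from hg.symm]
            refine ((Functor.map_comp (HomotopyCategory.quotient A (ComplexShape.up ℤ)) _ _).symm.trans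
              (congrArg (HomotopyCategory.quotient A (ComplexShape.up ℤ)).map ?_)).trans
              (Functor.map_comp (HomotopyCategory.quotient A (ComplexShape.up ℤ)) _ _)
            ext n
            exact adj.unit.naturality (g.f n) }
      counit :=
        { app := fun X => (HomotopyCategory.quotient B (ComplexShape.up ℤ)).map
            (X := (L.mapHomologicalComplex (ComplexShape.up ℤ)).obj
              ((R.mapHomologicalComplex (ComplexShape.up ℤ)).obj X.as)) (Y := X.as)
            { f := fun n => adj.counit.app (X.as.X n)
              comm' := fun i j _ => (adj.counit.naturality (X.as.d i j)).symm }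
          naturality := by
            intro X Y f
            obtain ⟨g, hg⟩ := (HomotopyCategory.quotient B (ComplexShape.up ℤ)).map_surjective
              (show (HomotopyCategory.quotient B (ComplexShape.up ℤ)).obj X.as ⟶
                (HomotopyCategory.quotient B (ComplexShape.up ℤ)).obj Y.as from f)
            show (L.mapHomotopyCategory _).map ((R.mapHomotopyCategory _).map f) ≫ _ = _ ≫ f
            rw [show f = (HomotopyCategory.quotient B (ComplexShape.up ℤ)).map g from hg.symm]
            refine ((Functor.map_comp (HomotopyCategory.quotient B (ComplexShape.up ℤ)) _ _).symm.trans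
              (congrArg (HomotopyCategory.quotient B (ComplexShape.up ℤ)).map ?_)).trans
              (Functor.map_comp (HomotopyCategory.quotient B (ComplexShape.up ℤ)) _ _)
            ext n
            exact adj.counit.naturality (g.f n) }
      left_triangle := by
        ext X
        dsimp
        erw [Category.id_comp]
        refine ((Functor.map_comp (HomotopyCategory.quotient B (ComplexShape.up ℤ)) _ _).symm.trans
          (congrArg _ ?_)).trans (CategoryTheory.Functor.map_id _ _)
        ext n
        exact adj.left_triangle_components (X.as.X n)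
      right_triangle := by
        ext X
        dsimp
        erw [Category.id_comp]
        refine ((Functor.map_comp (HomotopyCategory.quotient A (ComplexShape.up ℤ)) _ _).symm.trans
          (congrArg _ ?_)).trans (CategoryTheory.Functor.map_id _ _)
        ext n
        exact adj.right_triangle_components (X.as.X n) }

end HomotopyAdj

variable {A B : Type u} [CommRing A] [CommRing B] (φ : A →+* B) [DRing.HasLBaseChange φ]

/-- Derived base change is left adjoint to restriction. -/
theorem nonempty_adjunction : Nonempty (DRing.LBaseChange φ ⊣ DRing.restrictD φ) := by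
  let W₁ := HomotopyCategory.quasiIso (ModuleCat.{u} A) (ComplexShape.up ℤ)
  let W₂ := HomotopyCategory.quasiIso (ModuleCat.{u} B) (ComplexShape.up ℤ)
  let adj := mapHomotopyCategoryAdj (ModuleCat.extendRestrictScalarsAdj.{u} φ)
  let G' := DRing.LBaseChange φ
  let F' := DRing.restrictD φ
  let α : DerivedCategory.Qh ⋙ G' ⟶ DRing.baseChangeKh φ :=
    (DRing.baseChangeKh φ).totalLeftDerivedCounit DerivedCategory.Qh W₁
  let eβ : DerivedCategory.Qh ⋙ F' ≅
      (ModuleCat.restrictScalars.{u} φ).mapHomotopyCategory (ComplexShape.up ℤ) ⋙ DerivedCategory.Qh :=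
    (ModuleCat.restrictScalars.{u} φ).mapDerivedCategoryFactorsh
  have hF : F'.IsRightDerivedFunctor eβ.inv W₂ :=
    Functor.isRightDerivedFunctor_of_inverts _ _ eβ
  have hFG : (F' ⋙ G').IsRightDerivedFunctor
      (Functor.whiskerRight eβ.inv G' ≫ (Functor.associator _ _ _).hom) W₂ :=
    Functor.isRightDerivedFunctor_of_inverts _ _
      ((Functor.associator _ _ _).symm ≪≫ Functor.isoWhiskerRight eβ G')
  have hen := LTensor.hasEnough (DRing.baseChangeKh φ)
  have hGF : (G' ⋙ F').IsLeftDerivedFunctor
      ((Functor.associator _ _ _).inv ≫ Functor.whiskerRight α F') W₁ := by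
    refine isLeftDerivedFunctor_of_isIso W₁ (hasEnough_comp hen F') _ _ fun P hP => ?_
    obtain ⟨P', s, hP', hs⟩ := hen P
    have h1 : IsIso (α.app P') := hen.isIso_app (W := W₁) G' α hP'
    have h2 : IsIso (((DRing.baseChangeKh φ) ⋙ F').map s) := by
      obtain ⟨t, ht⟩ := hP.fac (inv (DerivedCategory.Qh.map s))
      refine ⟨((DRing.baseChangeKh φ) ⋙ F').map t, ?_, ?_⟩
      · refine ((((DRing.baseChangeKh φ) ⋙ F').map_comp s t).symm.trans
          ((congrArg F'.map (hP'.eq (s ≫ t) (𝟙 P') ?_)).trans (((DRing.baseChangeKh φ) ⋙ F').map_id P')))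
        rw [Functor.map_comp, ht, IsIso.hom_inv_id, CategoryTheory.Functor.map_id]
      · refine ((((DRing.baseChangeKh φ) ⋙ F').map_comp t s).symm.trans
          ((hP.eq (t ≫ s) (𝟙 P) ?_).trans (((DRing.baseChangeKh φ) ⋙ F').map_id P)))
        rw [Functor.map_comp, ht, IsIso.inv_hom_id, CategoryTheory.Functor.map_id]
    have hn : F'.map (G'.map (DerivedCategory.Qh.map s)) ≫ F'.map (α.app P) =
        F'.map (α.app P') ≫ ((DRing.baseChangeKh φ) ⋙ F').map s := by
      rw [← Functor.map_comp, show G'.map (DerivedCategory.Qh.map s) ≫ α.app P =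
        α.app P' ≫ (DRing.baseChangeKh φ).map s from α.naturality s, Functor.map_comp]
      rfl
    have h3 : IsIso (F'.map (α.app P)) := by
      have : IsIso (F'.map (G'.map (DerivedCategory.Qh.map s)) ≫ F'.map (α.app P)) := by
        rw [hn]; infer_instance
      exact IsIso.of_isIso_comp_left (F'.map (G'.map (DerivedCategory.Qh.map s))) _
    change IsIso (𝟙 _ ≫ F'.map (α.app P))
    infer_instance
  exact ⟨Adjunction.derived adj W₁ W₂ α eβ.inv⟩

end Groth.Agent.DRing.DerivedAdj
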