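import Groth.Agent.DRing.DerivedComplete
import Groth.Agent.DRing.DerivedAdj
import Groth.Agent.DRing.BaseChangeAmp
import Mathlib.LinearAlgebra.TensorProduct.Tower

/-!
# Derived Nakayama: bounds on `K ⊗^L A/I` bound a derived complete `K`
-/

universe u

open CategoryTheory CategoryTheory.Limits CategoryTheory.Pretriangulated DerivedCategory
  MonoidalCategory

attribute [local instance] HasDerivedCategory.standard

namespace Groth.Agent.DRing.DerComplete

open DBasic Homology KFlat Tel TorAmp
open scoped TensorProduct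

variable {A : Type u} [CommRing A]

section Smul

variable (C : DRing.Cx A) (f : A)

/-- Multiplication by `f` on a complex. -/
noncomputable def mulCx : C ⟶ C where
  f i := ModuleCat.ofHom (f • (LinearMap.id : C.X i →ₗ[A] C.X i))
  comm' i j _ := ModuleCat.hom_ext (LinearMap.ext fun x => (map_smul (C.d i j).hom f x))

lemma homologyMap_mulCx (i : ℤ) (y : C.homology i) :
    (HomologicalComplex.homologyMap (mulCx C f) i).hom y = f • y := by
  obtain ⟨z, hz, rfl⟩ := cls_surjective y
  rw [homologyMap_cls, ← cls_smul hz f]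
  rfl

/-- The five terms around the cohomology of the cone of multiplication by `f`. -/
lemma cone_seq (i : ℤ) :
    ∃ (a : C.homology i →ₗ[A] (CochainComplex.mappingCone (mulCx C f)).homology i)
      (b : (CochainComplex.mappingCone (mulCx C f)).homology i →ₗ[A] C.homology (i + 1)),
      Function.Exact (fun y : C.homology i => f • y) a ∧ Function.Exact a b ∧
        Function.Exact b (fun y : C.homology (i + 1) => f • y) := by
  let T := DerivedCategory.Q.mapTriangle.obj (CochainComplex.mappingCone.triangle (mulCx C f))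
  have hT : T ∈ distinguishedTriangles := mappingCone_triangle_distinguished (mulCx C f)
  let e₁ : ∀ j, C.homology j ≃ₗ[A] (HF j).obj T.obj₁ := fun j => (hIso C j).symm.toLinearEquiv
  let e₃ : (CochainComplex.mappingCone (mulCx C f)).homology i ≃ₗ[A] (HF i).obj T.obj₃ :=
    (hIso _ i).symm.toLinearEquiv
  have hm : ∀ j (y : C.homology j), ((HF j).map T.mor₁).hom (e₁ j y) = e₁ j (f • y) := by
    intro j y
    rw [← homologyMap_mulCx C f j y]
    change ((hIso C j).inv ≫ (HF j).map (Q.map (mulCx C f))).hom y = _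
    rw [HF_map_Q_eq, Iso.inv_hom_id_assoc]
    rfl
  let m : ∀ j, C.homology j →ₗ[A] C.homology j := fun j => f • LinearMap.id
  have hm' : ∀ j, ((HF j).map T.mor₁).hom ∘ₗ (e₁ j).toLinearMap = (e₁ j).toLinearMap ∘ₗ m j :=
    fun j => LinearMap.ext fun y => hm j y
  let a : C.homology i →ₗ[A] (CochainComplex.mappingCone (mulCx C f)).homology i :=
    e₃.symm.toLinearMap ∘ₗ ((HF i).map T.mor₂).hom ∘ₗ (e₁ i).toLinearMap
  let b : (CochainComplex.mappingCone (mulCx C f)).homology i →ₗ[A] C.homology (i + 1) :=
    (e₁ (i + 1)).symm.toLinearMap ∘ₗ (HomologySequence.δ T i (i + 1) rfl).hom ∘ₗ e₃.toLinearMap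
  have ha : ((HF i).map T.mor₂).hom ∘ₗ (e₁ i).toLinearMap = e₃.toLinearMap ∘ₗ a :=
    LinearMap.ext fun y => (e₃.apply_symm_apply _).symm
  have hb : (HomologySequence.δ T i (i + 1) rfl).hom ∘ₗ e₃.toLinearMap =
      (e₁ (i + 1)).toLinearMap ∘ₗ b :=
    LinearMap.ext fun y => ((e₁ (i + 1)).apply_symm_apply _).symm
  exact ⟨a, b,
    (Function.Exact.iff_of_ladder_linearEquiv (hm' i) ha).1
      ((ShortComplex.ShortExact.moduleCat_exact_iff_function_exact _).1
        (HomologySequence.exact₂ T hT i)),
    (Function.Exact.iff_of_ladder_linearEquiv ha hb).1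
      ((ShortComplex.ShortExact.moduleCat_exact_iff_function_exact _).1
        (HomologySequence.exact₃ T hT i (i + 1) rfl)),
    (Function.Exact.iff_of_ladder_linearEquiv hb (hm' (i + 1))).1
      ((ShortComplex.ShortExact.moduleCat_exact_iff_function_exact _).1
        (HomologySequence.exact₁ T hT i (i + 1) rfl))⟩

lemma exactAt_cone {i : ℤ} (hs : Function.Surjective (fun y : C.homology i => f • y))
    (hi : Function.Injective (fun y : C.homology (i + 1) => f • y)) :
    (CochainComplex.mappingCone (mulCx C f)).ExactAt i := by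
  obtain ⟨a, b, h1, h2, h3⟩ := cone_seq C f i
  rw [HomologicalComplex.exactAt_iff_isZero_homology]
  have : Subsingleton ((CochainComplex.mappingCone (mulCx C f)).homology i) := by
    refine subsingleton_of_forall_eq 0 fun y => ?_
    have hb : b y = 0 := hi ((h3 (b y)).2 ⟨y, rfl⟩ |>.trans (smul_zero f).symm)
    obtain ⟨x, rfl⟩ := (h2 y).1 hb
    exact (h1 x).2 (hs x)
  exact ModuleCat.isZero_of_subsingleton _

lemma surjective_of_exactAt_cone {i : ℤ}
    (h : (CochainComplex.mappingCone (mulCx C f)).ExactAt i) :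
    Function.Surjective (fun y : C.homology i => f • y) := by
  obtain ⟨a, b, h1, h2, h3⟩ := cone_seq C f i
  have := ModuleCat.subsingleton_of_isZero h.isZero_homology
  exact fun y => (h1 y).1 (Subsingleton.elim _ _)

lemma tel_cone {g : A} {i : ℤ} (h0 : Tel.Tel (C.homology i) g) (h1 : Tel.Tel (C.homology (i + 1)) g) :
    Tel.Tel ((CochainComplex.mappingCone (mulCx C f)).homology i) g := by
  obtain ⟨a, b, e1, e2, e3⟩ := cone_seq C f i
  refine tel_extension (LinearMap.range a) ?_ ?_
  · refine tel_congr ((Submodule.quotEquivOfEq _ _ ?_).trans a.quotKerEquivRange)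
      (tel_coker h0 h0 (f • (LinearMap.id : C.homology i →ₗ[A] C.homology i)))
    exact SetLike.ext fun y => ((e1 y).trans ⟨fun ⟨w, hw⟩ => ⟨w, hw⟩, fun ⟨w, hw⟩ => ⟨w, hw⟩⟩).symm
  · refine tel_congr (((Submodule.quotEquivOfEq _ _ ?_).trans (b.quotKerEquivRange.trans
      (LinearEquiv.ofEq _ (LinearMap.ker (f • (LinearMap.id : C.homology (i + 1) →ₗ[A] C.homology (i + 1)))) ?_))).symm)
      (tel_ker h1 h1 (f • (LinearMap.id : C.homology (i + 1) →ₗ[A] C.homology (i + 1))))
    · exact SetLike.ext fun y => (e2 y).symm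
    · exact SetLike.ext fun y => (e3 y).symm

end Smul

section TensorSeq

variable (P : DRing.Cx A) (hP : ∀ i, Module.Flat A (P.X i)) (c : ℤ)

/-- `P ⊗ N` has no cohomology above `c`. -/
def Van (N : ModuleCat.{u} A) : Prop := ∀ i, c < i → (DRing.tensorCx P N).ExactAt i

/-- `P ⊗ g`. -/
noncomputable abbrev tmap {N N' : ModuleCat.{u} A} (g : N ⟶ N') :
    DRing.tensorCx P N ⟶ DRing.tensorCx P N' :=
  (NatTrans.mapHomologicalComplex ((curriedTensor (ModuleCat.{u} A)).flip.map g)
    (ComplexShape.up ℤ)).app P

include hP in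
lemma shortExact_tmap (S : ShortComplex (ModuleCat.{u} A)) (hS : S.ShortExact) :
    ∃ h : tmap P S.f ≫ tmap P S.g = 0,
      (ShortComplex.mk (tmap P S.f) (tmap P S.g) h).ShortExact := by
  have hfg : Function.Exact S.f.hom S.g.hom :=
    (ShortComplex.ShortExact.moduleCat_exact_iff_function_exact S).1 hS.exact
  have hz : ∀ i, LinearMap.lTensor (P.X i) S.g.hom ∘ₗ LinearMap.lTensor (P.X i) S.f.hom = 0 :=
    fun i => by rw [← LinearMap.lTensor_comp, hfg.linearMap_comp_eq_zero, LinearMap.lTensor_zero]
  have h : tmap P S.f ≫ tmap P S.g = 0 := HomologicalComplex.hom_ext _ _ fun i =>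
    ModuleCat.hom_ext (hz i)
  refine ⟨h, HomologicalComplex.shortExact_of_degreewise_shortExact _ fun i => ?_⟩
  have hflat := hP i
  refine { exact := ?_, mono_f := ?_, epi_g := ?_ }
  · rw [ShortComplex.ShortExact.moduleCat_exact_iff_function_exact]
    exact lTensor_exact (P.X i) hfg hS.moduleCat_surjective_g
  · exact (ModuleCat.mono_iff_injective _).2
      (Module.Flat.lTensor_preserves_injective_linearMap _ hS.moduleCat_injective_f)
  · exact (ModuleCat.epi_iff_surjective _).2
      (LinearMap.lTensor_surjective _ hS.moduleCat_surjective_g)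

lemma tmap_comp {N N' N'' : ModuleCat.{u} A} (g : N ⟶ N') (g' : N' ⟶ N'') :
    tmap P (g ≫ g') = tmap P g ≫ tmap P g' :=
  HomologicalComplex.hom_ext _ _ fun i => ModuleCat.hom_ext (LinearMap.lTensor_comp _ g'.hom g.hom)

include hP in
/-- If `ker f` and `coker f` on `N` give nothing above `c`, the cone of `f` gives nothing above `c`. -/
lemma exactAt_cone_tensor (N : ModuleCat.{u} A) (f : A)
    (hK : Van P c (ModuleCat.of A (LinearMap.ker (f • (LinearMap.id : N →ₗ[A] N)))))
    (hC : Van P c (ModuleCat.of A (N ⧸ LinearMap.range (f • (LinearMap.id : N →ₗ[A] N)))))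
    {i : ℤ} (hi : c < i) :
    (CochainComplex.mappingCone (mulCx (DRing.tensorCx P N) f)).ExactAt i := by
  let m : N →ₗ[A] N := f • LinearMap.id
  let S₁ : ShortComplex (ModuleCat.{u} A) := .moduleCatMk (LinearMap.ker m).subtype m.rangeRestrict
    (LinearMap.ext fun x => Subtype.ext x.2)
  let S₂ : ShortComplex (ModuleCat.{u} A) := .moduleCatMk (LinearMap.range m).subtype (LinearMap.range m).mkQ
    (LinearMap.ext fun x => (Submodule.Quotient.mk_eq_zero _).2 x.2)
  have hS₁ : S₁.ShortExact :=
    { exact := by
        rw [ShortComplex.moduleCat_exact_iff_range_eq_ker]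
        exact (Submodule.range_subtype _).trans (LinearMap.ker_rangeRestrict m).symm
      mono_f := (ModuleCat.mono_iff_injective _).2 (Submodule.subtype_injective _)
      epi_g := (ModuleCat.epi_iff_surjective _).2 m.surjective_rangeRestrict }
  have hS₂ : S₂.ShortExact :=
    { exact := by
        rw [ShortComplex.moduleCat_exact_iff_range_eq_ker]
        exact (Submodule.range_subtype _).trans (Submodule.ker_mkQ _).symm
      mono_f := (ModuleCat.mono_iff_injective _).2 (Submodule.subtype_injective _)
      epi_g := (ModuleCat.epi_iff_surjective _).2 (Submodule.mkQ_surjective _) }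
  obtain ⟨z₁, h₁⟩ := shortExact_tmap P hP S₁ hS₁
  obtain ⟨z₂, h₂⟩ := shortExact_tmap P hP S₂ hS₂
  let g₁ : N ⟶ ModuleCat.of A (LinearMap.range m) := ModuleCat.ofHom m.rangeRestrict
  let g₂ : ModuleCat.of A (LinearMap.range m) ⟶ N := ModuleCat.ofHom (LinearMap.range m).subtype
  have hcomp : ∀ j, HomologicalComplex.homologyMap (mulCx (DRing.tensorCx P N) f) j =
      HomologicalComplex.homologyMap (tmap P g₁) j ≫
        HomologicalComplex.homologyMap (tmap P g₂) j := fun j => by
    rw [← HomologicalComplex.homologyMap_comp, ← tmap_comp]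
    congr 1
    refine HomologicalComplex.hom_ext _ _ fun k => ModuleCat.hom_ext ?_
    refine TensorProduct.ext' fun p n => ?_
    change f • (p ⊗ₜ[A] n) = p ⊗ₜ[A] (f • n)
    rw [TensorProduct.tmul_smul]
  have epi₁ : ∀ j, c < j + 1 → Epi (HomologicalComplex.homologyMap (tmap P g₁) j) := fun j hj =>
    (h₁.homology_exact₃ j (j + 1) rfl).epi_f ((hK (j + 1) hj).isZero_homology.eq_of_tgt _ _)
  have mono₁ : ∀ j, c < j → Mono (HomologicalComplex.homologyMap (tmap P g₁) j) := fun j hj =>
    (h₁.homology_exact₂ j).mono_g ((hK j hj).isZero_homology.eq_of_src _ _)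
  have epi₂ : ∀ j, c < j → Epi (HomologicalComplex.homologyMap (tmap P g₂) j) := fun j hj =>
    (h₂.homology_exact₂ j).epi_f ((hC j hj).isZero_homology.eq_of_tgt _ _)
  have mono₂ : ∀ j, c < j - 1 → Mono (HomologicalComplex.homologyMap (tmap P g₂) j) := fun j hj =>
    (h₂.homology_exact₁ (j - 1) j (by simp)).mono_g ((hC (j - 1) hj).isZero_homology.eq_of_src _ _)
  refine exactAt_cone _ f ?_ ?_
  · have := epi₁ i (by omega)
    have := epi₂ i hi
    have h : Epi (HomologicalComplex.homologyMap (mulCx (DRing.tensorCx P N) f) i) := by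
      rw [hcomp]; exact epi_comp _ _
    intro y
    obtain ⟨x, hx⟩ := (ModuleCat.epi_iff_surjective _).1 h y
    exact ⟨x, (homologyMap_mulCx _ f i x).symm.trans hx⟩
  · have := mono₁ (i + 1) (by omega)
    have := mono₂ (i + 1) (by omega)
    have h : Mono (HomologicalComplex.homologyMap (mulCx (DRing.tensorCx P N) f) (i + 1)) := by
      rw [hcomp]; exact mono_comp _ _
    intro x y hxy
    refine (ModuleCat.mono_iff_injective _).1 h ?_
    rw [homologyMap_mulCx, homologyMap_mulCx]
    exact hxy

end TensorSeq

/-- Derived Nakayama on a K-projective complex. -/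
theorem exactAt_of_van (s : Finset A) : ∀ (P : DRing.Cx A), P.IsKProjective →
    (∀ i, Module.Projective A (P.X i)) → (∀ g ∈ s, ∀ i, Tel.Tel (P.homology i) g) → ∀ c : ℤ,
    (∀ N : ModuleCat.{u} A, (∀ g ∈ s, ∀ x : N, g • x = 0) → Van P c N) →
    ∀ i, c < i → P.ExactAt i := by
  classical
  induction s using Finset.induction with
  | empty =>
    intro P _ _ _ c h i hi
    exact (exactAt_tensor_self P i).1 (h _ (fun g hg => absurd hg (Finset.notMem_empty g)) i hi)
  | insert f s hf ih =>
    intro P _ hproj ht c h i hi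
    let P₁ := CochainComplex.mappingCone (mulCx P f)
    have hP₁ : ∀ i, c < i → P₁.ExactAt i := by
      have hk : P₁.IsKProjective := KProj.isKProjective_mappingCone (mulCx P f)
      refine ih P₁ hk (fun j => ?_) (fun g hg j => tel_cone P f (ht g (Finset.mem_insert_of_mem hg) j)
        (ht g (Finset.mem_insert_of_mem hg) (j + 1))) c fun N hN j hj => ?_
      · exact Trunc.projective_of_iso (HomologicalComplex.homotopyCofiber.XIsoBiprod (mulCx P f) j (j + 1) rfl).symm
          (Trunc.projective_biprod (hproj (j + 1)) (hproj j))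
      · have hkill : ∀ {Q : ModuleCat.{u} A}, (∀ g ∈ s, ∀ x : Q, g • x = 0) → (∀ x : Q, f • x = 0) →
            Van P c Q := fun hQ hQf => h _ fun g hg => by
          rcases Finset.mem_insert.1 hg with rfl | hg
          exacts [hQf, hQ g hg]
        have hcone := exactAt_cone_tensor P (fun j => have := hproj j; inferInstance) c N f
          (hkill (Q := ModuleCat.of A (LinearMap.ker (f • (LinearMap.id : N →ₗ[A] N))))
            (fun g hg x => Subtype.ext (hN g hg x.1)) (fun x => Subtype.ext x.2))
          (hkill (Q := ModuleCat.of A (N ⧸ LinearMap.range (f • (LinearMap.id : N →ₗ[A] N))))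
            (fun g hg x => by
              obtain ⟨x, rfl⟩ := Submodule.mkQ_surjective _ x
              rw [← map_smul, hN g hg x, map_zero])
            (fun x => by
              obtain ⟨x, rfl⟩ := Submodule.mkQ_surjective _ x
              rw [← map_smul]
              exact (Submodule.Quotient.mk_eq_zero _).2 ⟨x, rfl⟩)) hj
        have hmap : ((tensorRight N).mapHomologicalComplex (ComplexShape.up ℤ)).map (mulCx P f) =
            mulCx (DRing.tensorCx P N) f :=
          HomologicalComplex.hom_ext _ _ fun k => ModuleCat.hom_ext (TensorProduct.ext' fun p n => rfl)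
        have e := CochainComplex.mappingCone.mapHomologicalComplexIso (mulCx P f) (tensorRight N)
        rw [hmap] at e
        exact (exactAt_iff_of_quasiIso e.hom j).2 hcone
    rw [HomologicalComplex.exactAt_iff_isZero_homology]
    have := subsingleton_of_surjective (ht f (Finset.mem_insert_self f s) i)
      (surjective_of_exactAt_cone P f (hP₁ i hi))
    exact ModuleCat.isZero_of_subsingleton _

section Quotient

variable {B : Type u} [CommRing B] (φ : A →+* B)

lemma isKProjective_extCx (P : DRing.Cx A) [P.IsKProjective] :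
    ((LTensor.extCx φ).obj P).IsKProjective where
  nonempty_homotopy_zero {L} g hL := by
    let adj := DerivedAdj.mapHomotopyCategoryAdj (ModuleCat.extendRestrictScalarsAdj.{u} φ)
    let g' := (HomotopyCategory.quotient (ModuleCat.{u} B) (ComplexShape.up ℤ)).map g
    have hL' : ((DRing.restrictCx φ).obj L).Acyclic := fun i => by
      have := hL i
      rw [HomologicalComplex.exactAt_iff] at this ⊢
      exact this.map (ModuleCat.restrictScalars φ)
    let u' := adj.homEquiv ((HomotopyCategory.quotient _ _).obj P) ((HomotopyCategory.quotient _ _).obj L) g'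
    obtain ⟨v, hv⟩ := (HomotopyCategory.quotient (ModuleCat.{u} A) (ComplexShape.up ℤ)).map_surjective
      (show (HomotopyCategory.quotient _ _).obj P ⟶
        (HomotopyCategory.quotient _ _).obj ((DRing.restrictCx φ).obj L) from u')
    obtain ⟨H⟩ := CochainComplex.IsKProjective.nonempty_homotopy_zero v hL'
    have hu : u' = 0 := by
      have h1 : (HomotopyCategory.quotient (ModuleCat.{u} A) (ComplexShape.up ℤ)).map v = 0 := by
        rw [HomotopyCategory.eq_of_homotopy v 0 H, Functor.map_zero]
      exact hv.symm.trans h1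
    have : g' = 0 := by
      apply (adj.homEquiv _ _).injective
      refine hu.trans ?_
      erw [Adjunction.homEquiv_unit, Functor.map_zero, comp_zero]
      rfl
    exact ⟨HomotopyCategory.homotopyOfEq _ _ (this.trans (Functor.map_zero _ _ _).symm)⟩

/-- The map `X ⊗ N → (B ⊗ X) ⊗ N`. -/
noncomputable def cancelHom (N : ModuleCat.{u} B) (X : ModuleCat.{u} A) :
    (tensorRight ((ModuleCat.restrictScalars.{u} φ).obj N)).obj X ⟶
      (ModuleCat.restrictScalars φ).obj ((ModuleCat.extendScalars.{u, u, u} φ).obj X ⊗ N) := by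
  algebraize [φ]
  refine ModuleCat.ofHom (X := (X ⊗[A] ((ModuleCat.restrictScalars.{u} φ).obj N : ModuleCat.{u} A)))
    (Y := ((ModuleCat.restrictScalars φ).obj ((ModuleCat.extendScalars.{u, u, u} φ).obj X ⊗ N)))
    (_root_.TensorProduct.lift (LinearMap.mk₂ A
      (fun (x : X) (n : ((ModuleCat.restrictScalars.{u} φ).obj N : ModuleCat.{u} A)) =>
        (show ((ModuleCat.restrictScalars φ).obj ((ModuleCat.extendScalars.{u, u, u} φ).obj X ⊗ N) :
          ModuleCat.{u} A) from
        ((show ((ModuleCat.extendScalars.{u, u, u} φ).obj X : ModuleCat.{u} B) from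
          ((1 : B) ⊗ₜ[A] x : B ⊗[A] X)) ⊗ₜ[B] (show (N : Type u) from n)))) ?_ ?_ ?_ ?_))
  · intro x y n
    exact (congrArg (fun t : ((ModuleCat.extendScalars.{u, u, u} φ).obj X : ModuleCat.{u} B) =>
      t ⊗ₜ[B] (show (N : Type u) from n)) (_root_.TensorProduct.tmul_add (1 : B) x y)).trans
      (_root_.TensorProduct.add_tmul _ _ _)
  · intro a x n
    refine Eq.trans ?_ (_root_.TensorProduct.smul_tmul' (φ a)
      (show ((ModuleCat.extendScalars.{u, u, u} φ).obj X : ModuleCat.{u} B) from
          ((1 : B) ⊗ₜ[A] x : B ⊗[A] X)) (show (N : Type u) from n)).symm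
    refine congrArg (fun t : ((ModuleCat.extendScalars.{u, u, u} φ).obj X : ModuleCat.{u} B) =>
      t ⊗ₜ[B] (show (N : Type u) from n)) ?_
    change ((1 : B) ⊗ₜ[A] (a • x) : B ⊗[A] X) = ((φ a * 1) ⊗ₜ[A] x : B ⊗[A] X)
    rw [← _root_.TensorProduct.smul_tmul, Algebra.smul_def]
    rfl
  · intro x n m
    exact _root_.TensorProduct.tmul_add _ _ _
  · intro a x n
    exact _root_.TensorProduct.tmul_smul (φ a) _ (show (N : Type u) from n)

lemma cancelHom_tmul (N : ModuleCat.{u} B) (X : ModuleCat.{u} A) (x : X)
    (n : ((ModuleCat.restrictScalars.{u} φ).obj N : ModuleCat.{u} A)) :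
    letI := φ.toAlgebra
    (cancelHom φ N X).hom (x ⊗ₜ[A] n) =
      (show ((ModuleCat.extendScalars.{u, u, u} φ).obj X : ModuleCat.{u} B) from
        ((1 : B) ⊗ₜ[A] x : B ⊗[A] X)) ⊗ₜ[B] (show (N : Type u) from n) := rfl

lemma bijective_cancelHom (N : ModuleCat.{u} B) (X : ModuleCat.{u} A) :
    Function.Bijective (cancelHom φ N X).hom := by
  algebraize [φ]
  let : Module A N := Module.compHom N φ
  have : IsScalarTower A B N := IsScalarTower.of_algebraMap_smul fun r x => rfl
  let E : X ⊗[A] N → (B ⊗[A] X) ⊗[B] N := fun x => _root_.TensorProduct.comm B N (B ⊗[A] X)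
    ((TensorProduct.AlgebraTensorModule.cancelBaseChange A B B N X).symm (_root_.TensorProduct.comm A X N x))
  have hE : Function.Bijective E :=
    (_root_.TensorProduct.comm B N (B ⊗[A] X)).bijective.comp
      ((TensorProduct.AlgebraTensorModule.cancelBaseChange A B B N X).symm.bijective.comp
        (_root_.TensorProduct.comm A X N).bijective)
  suffices h : E = (cancelHom φ N X).hom by exact h ▸ hE
  refine funext fun x => ?_
  induction x using TensorProduct.induction_on with
  | zero => simp only [E, map_zero]; exact (map_zero (cancelHom φ N X).hom).symm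
  | tmul p n =>
    refine Eq.trans ?_ (cancelHom_tmul φ N X p n).symm
    simp [E]
    rfl
  | add x y hx hy =>
    simp only [E, map_add] at hx hy ⊢
    rw [hx, hy]
    exact (map_add (cancelHom φ N X).hom x y).symm

/-- Tensoring with a `B`-module factors through `B ⊗ -`. -/
noncomputable def cancelIso (N : ModuleCat.{u} B) :
    tensorRight ((ModuleCat.restrictScalars.{u} φ).obj N) ≅
      ModuleCat.extendScalars.{u, u, u} φ ⋙ tensorRight N ⋙ ModuleCat.restrictScalars φ :=
  have : ∀ X, IsIso (cancelHom φ N X) := fun X =>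
    (ConcreteCategory.isIso_iff_bijective _).2 (bijective_cancelHom φ N X)
  NatIso.ofComponents (fun X => asIso (cancelHom φ N X)) fun _ =>
    ModuleCat.hom_ext (_root_.TensorProduct.ext' fun _ _ => rfl)

end Quotient

/-- Derived Nakayama. -/
theorem bound_iff (I : Ideal A) (hI : I.FG) [DRing.HasLTensor A (ModuleCat.of A (A ⧸ I))]
    (K : Dual.D A) (hc : DRing.IsDerivedComplete I K) (c : ℤ) :
    (∀ i : ℤ, c < i → Subsingleton (Dual.HD A K i)) ↔
      ∀ i : ℤ, c < i →
        Subsingleton (Dual.HD A ((DRing.LTensor A (ModuleCat.of A (A ⧸ I))).obj K) i) := by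
  obtain ⟨P, hP, hproj, ⟨e⟩⟩ := exists_kproj_iso K
  have hflat : IsKFlat P := isKFlat_of_isKProjective P
  have hT : ∀ i, Subsingleton (Dual.HD A ((DRing.LTensor A (ModuleCat.of A (A ⧸ I))).obj K) i) ↔
      (DRing.tensorCx P (ModuleCat.of A (A ⧸ I))).ExactAt i := fun i => by
    rw [← subsingleton_HD_congr ((DRing.LTensor A _).mapIso e) i,
      subsingleton_HD_congr (LTensor.LTensorIso _ hflat) i, subsingleton_HD_toD_iff,
      HomologicalComplex.exactAt_iff_isZero_homology]
  have hK : ∀ i, Subsingleton (Dual.HD A K i) ↔ P.ExactAt i := fun i => by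
    rw [← subsingleton_HD_congr e, subsingleton_HD_toD_iff, HomologicalComplex.exactAt_iff_isZero_homology]
  simp only [hT, hK]
  constructor
  · intro h i hi
    obtain ⟨P', hb, hproj', ⟨e'⟩⟩ := Trunc.exists_projRep K c fun j hj => (hK j).2 (h j hj)
    exact (exactAt_tensor_congr (isKFlat_of_projective hb hproj') hflat (e' ≪≫ e.symm) _ i).1
      (((DRing.tensorCx P' _).exactAt_iff i).2
        (ShortComplex.exact_of_isZero_X₂ _ ((tensorRight _).map_isZero (hb i hi))))
  · intro h
    obtain ⟨s, rfl⟩ := hI
    refine exactAt_of_van s P hP hproj (fun g hg i => ?_) c fun N hN => ?_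
    · exact tel_congr (((HF i).mapIso e.symm ≪≫ hIso P i).toLinearEquiv)
        ((TelComplex.isDerivedComplete_iff _ K).1 hc g (Ideal.subset_span hg) i)
    let J : Ideal A := Ideal.span (s : Set A)
    let φ : A →+* A ⧸ J := Ideal.Quotient.mk J
    have hNI : Module.IsTorsionBySet A N (J : Set A) := fun x a => by
      have : J ≤ (Submodule.span A {x}).annihilator := by
        refine Ideal.span_le.2 fun g hg => ?_
        rw [SetLike.mem_coe, Submodule.mem_annihilator_span_singleton]
        exact hN g hg x
      exact (Submodule.mem_annihilator_span_singleton x a.1).1 (this a.2)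
    let : Module (A ⧸ J) N := hNI.module
    let N' : ModuleCat.{u} (A ⧸ J) := ModuleCat.of (A ⧸ J) N
    let Q₀ := (LTensor.extCx φ).obj P
    have hQ : Q₀.IsKProjective := isKProjective_extCx φ P
    have hQv : ∀ i, c < i → Q₀.ExactAt i := fun i hi => by
      have e1 := (NatIso.mapHomologicalComplex (SingleTensor.restrictExtendIso φ) (ComplexShape.up ℤ)).app P
      have h1 : IsZero ((((ModuleCat.extendScalars.{u, u, u} φ ⋙ ModuleCat.restrictScalars φ).mapHomologicalComplex
          (ComplexShape.up ℤ)).obj P).homology i) := by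
        refine IsZero.of_iso ?_ ((HomologicalComplex.homologyFunctor _ _ i).mapIso e1)
        exact (h i hi).isZero_homology
      rw [HomologicalComplex.exactAt_iff]
      have h2 : ((Q₀.sc i).map (ModuleCat.restrictScalars φ)).Exact :=
        (ShortComplex.exact_iff_isZero_homology _).2 h1
      exact (ShortComplex.exact_map_iff_of_faithful _ _).1 h2
    obtain ⟨R, π, hRb, hRp, hq⟩ := Trunc.exists_projRes Q₀ c hQv
    intro i hi
    have := SingleTensor.quasiIso_tensorRight N' π (isKFlat_of_projective hRb hRp)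
      (isKFlat_of_isKProjective Q₀)
    have h3 : (DRing.tensorCx Q₀ N').ExactAt i :=
      (exactAt_iff_of_quasiIso
        (((tensorRight N').mapHomologicalComplex (ComplexShape.up ℤ)).map π) i).1
      (((DRing.tensorCx R N').exactAt_iff i).2
        (ShortComplex.exact_of_isZero_X₂ _ ((tensorRight N').map_isZero (hRb i hi))))
    have eN : N ≅ (ModuleCat.restrictScalars φ).obj N' :=
      (show N ≃ₗ[A] ((ModuleCat.restrictScalars φ).obj N' : ModuleCat.{u} A) from
        { toFun := fun x => x
          invFun := fun x => x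
          left_inv := fun _ => rfl
          right_inv := fun _ => rfl
          map_add' := fun _ _ => rfl
          map_smul' := fun _ _ => rfl }).toModuleIso
    have e2 := (NatIso.mapHomologicalComplex ((tensoringRight (ModuleCat.{u} A)).mapIso eN ≪≫ cancelIso φ N')
      (ComplexShape.up ℤ)).app P
    refine (exactAt_iff_of_quasiIso e2.hom i).2 ?_
    rw [HomologicalComplex.exactAt_iff] at h3 ⊢
    exact h3.map (ModuleCat.restrictScalars φ)

end Groth.Agent.DRing.DerComplete
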