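import Groth.Agent.DRing.Braid
import Groth.Agent.DRing.KFlatRes
import Mathlib.Algebra.Category.ModuleCat.ChangeOfRings
import Groth.Prelude.Def_DDual2

/-!
# Tensoring with a module placed in degree zero, and base change of complexes

`M[0] ⊗ P ≅ P ⊗ M` termwise, restriction of extension of scalars, and preservation of quasi-isomorphisms
between K-flat complexes.
-/

universe u

open CategoryTheory CategoryTheory.Limits MonoidalCategory

namespace Groth.Agent.DRing.SingleTensor

open Tensor KFlat

variable {R : Type u} [CommRing R] (M : ModuleCat.{u} R)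

/-- `M[0]`. -/
noncomputable abbrev S0 : CochainComplex (ModuleCat.{u} R) ℤ :=
  (HomologicalComplex.single (ModuleCat.{u} R) (ComplexShape.up ℤ) 0).obj M

/-- The unique nonzero summand. -/
noncomputable def toT (P : CochainComplex (ModuleCat.{u} R) ℤ) (n : ℤ) :
    P.X n ⊗ M ⟶ (S0 M ⊗ P).X n :=
  (β_ (P.X n) M).hom ≫
    (HomologicalComplex.singleObjXSelf (ComplexShape.up ℤ) 0 M).inv ▷ P.X n ≫
      ιT (S0 M) P 0 n n (zero_add n)

/-- Its inverse. -/
noncomputable def fromT (P : CochainComplex (ModuleCat.{u} R) ℤ) (n : ℤ) :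
    (S0 M ⊗ P).X n ⟶ P.X n ⊗ M :=
  HomologicalComplex.mapBifunctorDesc fun p q h =>
    if hp : p = 0 then
      (HomologicalComplex.singleObjXIsoOfEq (ComplexShape.up ℤ) 0 M p hp).hom ▷ P.X q ≫
        M ◁ (P.XIsoOfEq (by change p + q = n at h; omega)).hom ≫ (β_ (P.X n) M).inv
    else 0

lemma toT_fromT (P : CochainComplex (ModuleCat.{u} R) ℤ) (n : ℤ) :
    toT M P n ≫ fromT M P n = 𝟙 _ := by
  unfold toT fromT
  rw [Category.assoc, Category.assoc]
  erw [HomologicalComplex.ι_mapBifunctorDesc]
  rw [dif_pos rfl]
  simp only [HomologicalComplex.XIsoOfEq_rfl, Iso.refl_hom, MonoidalCategory.whiskerLeft_id,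
    Category.id_comp]
  rw [← comp_whiskerRight_assoc]
  simp [HomologicalComplex.singleObjXSelf]

lemma isZero_summand (P : CochainComplex (ModuleCat.{u} R) ℤ) {p : ℤ} (hp : p ≠ 0) (q : ℤ) :
    IsZero ((S0 M).X p ⊗ P.X q) :=
  (tensorRight (P.X q)).map_isZero (HomologicalComplex.isZero_single_obj_X _ _ _ _ hp)

lemma fromT_toT (P : CochainComplex (ModuleCat.{u} R) ℤ) (n : ℤ) :
    fromT M P n ≫ toT M P n = 𝟙 _ := by
  refine Tensor.hom_ext fun p q h => ?_
  by_cases hp : p = 0
  · subst hp
    obtain rfl : q = n := by omega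
    unfold fromT toT
    erw [HomologicalComplex.ι_mapBifunctorDesc_assoc]
    rw [dif_pos rfl, Category.comp_id]
    simp only [HomologicalComplex.XIsoOfEq_rfl, Iso.refl_hom, MonoidalCategory.whiskerLeft_id,
      Category.id_comp, Category.assoc, Iso.inv_hom_id_assoc]
    rw [← comp_whiskerRight_assoc]
    simp [HomologicalComplex.singleObjXSelf]
  · exact (isZero_summand M P hp q).eq_of_src _ _

/-- `P ⊗ M ≅ M[0] ⊗ P`. -/
noncomputable def iso (P : CochainComplex (ModuleCat.{u} R) ℤ) :
    ((tensorRight M).mapHomologicalComplex (ComplexShape.up ℤ)).obj P ≅ S0 M ⊗ P :=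
  HomologicalComplex.Hom.isoOfComponents
    (fun n => ⟨toT M P n, fromT M P n, toT_fromT M P n, fromT_toT M P n⟩)
    (fun n n' (hn : n + 1 = n') => by
      subst hn
      change toT M P n ≫ _ = P.d n (n + 1) ▷ M ≫ toT M P (n + 1)
      unfold toT
      rw [Category.assoc, Category.assoc, ιT_d 0 n n (n + 1) (zero_add n) rfl,
        show (S0 M).d 0 (0 + 1) = 0 from HomologicalComplex.single_obj_d _ _ _ _ _,
        MonoidalPreadditive.zero_whiskerRight, zero_comp, zero_add, Int.negOnePow_zero, one_smul,
        BraidedCategory.braiding_naturality_left_assoc, whisker_exchange_assoc])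

lemma iso_hom_f (P : CochainComplex (ModuleCat.{u} R) ℤ) (n : ℤ) :
    (iso M P).hom.f n = toT M P n := rfl

lemma toT_natural {P P' : CochainComplex (ModuleCat.{u} R) ℤ} (f : P ⟶ P') (n : ℤ) :
    f.f n ▷ M ≫ toT M P' n = toT M P n ≫ (S0 M ◁ f).f n := by
  unfold toT
  rw [Category.assoc, Category.assoc, ιT_whiskerLeft,
    BraidedCategory.braiding_naturality_left_assoc, whisker_exchange_assoc]

lemma iso_natural {P P' : CochainComplex (ModuleCat.{u} R) ℤ} (f : P ⟶ P') :
    ((tensorRight M).mapHomologicalComplex (ComplexShape.up ℤ)).map f ≫ (iso M P').hom =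
      (iso M P).hom ≫ S0 M ◁ f := by
  refine HomologicalComplex.hom_ext _ _ fun n => ?_
  exact toT_natural M f n

/-- Tensoring a quasi-isomorphism of K-flat complexes with a module. -/
theorem quasiIso_tensorRight {P P' : CochainComplex (ModuleCat.{u} R) ℤ} (f : P ⟶ P') [QuasiIso f]
    (hP : IsKFlat P) (hP' : IsKFlat P') :
    QuasiIso (((tensorRight M).mapHomologicalComplex (ComplexShape.up ℤ)).map f) := by
  have := quasiIso_whiskerLeft_of_kflat f hP hP' (S0 M)
  have : QuasiIso (((tensorRight M).mapHomologicalComplex (ComplexShape.up ℤ)).map f ≫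
      (iso M P').hom) := by rw [iso_natural]; infer_instance
  exact quasiIso_of_comp_right _ (iso M P').hom

section BaseChange

variable {S : Type u} [CommRing S] (φ : R →+* S)

/-- Restriction of an extension of scalars is tensoring with `S`. -/
noncomputable def restrictExtendApp (N : ModuleCat.{u} R) :
    (ModuleCat.restrictScalars φ).obj ((ModuleCat.extendScalars φ).obj N) ≅
      (ModuleCat.restrictScalars φ).obj (ModuleCat.of S S) ⊗ N :=
  (show ((ModuleCat.restrictScalars φ).obj ((ModuleCat.extendScalars φ).obj N) : ModuleCat.{u} R) ≃ₗ[R]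
      ((ModuleCat.restrictScalars φ).obj (ModuleCat.of S S) ⊗ N : ModuleCat.{u} R) from
    { toFun := id
      invFun := id
      left_inv := fun _ => rfl
      right_inv := fun _ => rfl
      map_add' := fun _ _ => rfl
      map_smul' := fun r (x : TensorProduct R
          ((ModuleCat.restrictScalars φ).obj (ModuleCat.of S S)) N) => by
        induction x using TensorProduct.induction_on with
        | zero => exact (smul_zero (A := (ModuleCat.extendScalars φ).obj N) (φ r)).trans (smul_zero (A := TensorProduct R ((ModuleCat.restrictScalars φ).obj (ModuleCat.of S S)) N) r).symm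
        | tmul s n => rfl
        | add x y hx hy =>
          exact (smul_add (A := (ModuleCat.extendScalars φ).obj N) (φ r) x y).trans
            ((congrArg₂ (fun a b : TensorProduct R _ N => a + b) hx hy).trans (smul_add r x y).symm) }).toModuleIso

/-- `restrict ∘ extend ≅ - ⊗ S`. -/
noncomputable def restrictExtendIso :
    ModuleCat.extendScalars.{u, u, u} φ ⋙ ModuleCat.restrictScalars φ ≅
      tensorRight ((ModuleCat.restrictScalars φ).obj (ModuleCat.of S S)) :=
  NatIso.ofComponents (F := ModuleCat.extendScalars.{u, u, u} φ ⋙ ModuleCat.restrictScalars φ)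
      (G := tensorLeft ((ModuleCat.restrictScalars φ).obj (ModuleCat.of S S)))
      (restrictExtendApp φ) (fun {X Y} g => by
    refine ModuleCat.hom_ext (LinearMap.ext fun (x : TensorProduct R
        ((ModuleCat.restrictScalars φ).obj (ModuleCat.of S S)) X) => ?_)
    induction x using TensorProduct.induction_on with
    | zero => exact (map_zero _).trans (map_zero _).symm
    | tmul s n => rfl
    | add x y hx hy => exact (map_add _ x y).trans ((congrArg₂ (· + ·) hx hy).trans (map_add _ x y).symm))
  ≪≫ BraidedCategory.tensorLeftIsoTensorRight _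

/-- Base change of a quasi-isomorphism of K-flat complexes. -/
theorem quasiIso_extendScalars {P P' : CochainComplex (ModuleCat.{u} R) ℤ} (f : P ⟶ P') [QuasiIso f]
    (hP : IsKFlat P) (hP' : IsKFlat P') :
    QuasiIso (((ModuleCat.extendScalars.{u, u, u} φ).mapHomologicalComplex
      (ComplexShape.up ℤ)).map f) := by
  have h := quasiIso_tensorRight ((ModuleCat.restrictScalars φ).obj (ModuleCat.of S S)) f hP hP'
  let e := NatIso.mapHomologicalComplex (restrictExtendIso φ) (ComplexShape.up ℤ)
  have hn := e.hom.naturality f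
  have : QuasiIso (((ModuleCat.extendScalars.{u, u, u} φ ⋙
      ModuleCat.restrictScalars φ).mapHomologicalComplex (ComplexShape.up ℤ)).map f ≫ e.hom.app P') := by
    rw [hn]; infer_instance
  have h2 := quasiIso_of_comp_right (((ModuleCat.extendScalars.{u, u, u} φ ⋙
      ModuleCat.restrictScalars φ).mapHomologicalComplex (ComplexShape.up ℤ)).map f) (e.hom.app P')
  exact (HomologicalComplex.quasiIso_map_iff_of_preservesHomology
    (((ModuleCat.extendScalars.{u, u, u} φ).mapHomologicalComplex (ComplexShape.up ℤ)).map f)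
    (ModuleCat.restrictScalars φ)).1 h2

end BaseChange

end Groth.Agent.DRing.SingleTensor
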