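import Groth.Agent.DRing.RelPCLoc
import Groth.Agent.DRing.DerivedNakayama
import Groth.Agent.DRing.SingleTensor

/-!
# Relative pseudo-coherence and derived base change
-/

universe u

open CategoryTheory CategoryTheory.Limits CategoryTheory.Pretriangulated DerivedCategory MonoidalCategory

attribute [local instance] HasDerivedCategory.standard

namespace Groth.Agent.DRing.RelPC

open DBasic PC TensorAmp

section Devissage

variable {Q₀ C : Type u} [CommRing Q₀] [CommRing C] (φ : Q₀ →+* C) (X : DRing.Cx C)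

/-- `X ⊗ M` is `m`-pseudo-coherent over `Q₀`. -/
def TPC (m : ℤ) (M : ModuleCat.{u} C) : Prop :=
  DRing.IsPseudoCoherent Q₀ m ((DRing.restrictD φ).obj (DRing.toD (DRing.tensorCx X M)))

variable (hflat : ∀ i, Module.Flat C (X.X i))

include hflat in
lemma tpc_triangle (S : ShortComplex (ModuleCat.{u} C)) (hS : S.ShortExact) :
    ∃ T : Triangle (Dual.D Q₀), T ∈ distinguishedTriangles ∧
      T.obj₁ = (DRing.restrictD φ).obj (DRing.toD (DRing.tensorCx X S.X₁)) ∧
      T.obj₂ = (DRing.restrictD φ).obj (DRing.toD (DRing.tensorCx X S.X₂)) ∧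
      T.obj₃ = (DRing.restrictD φ).obj (DRing.toD (DRing.tensorCx X S.X₃)) := by
  obtain ⟨h, hs⟩ := DerComplete.shortExact_tmap X hflat S hS
  exact ⟨_, (DRing.restrictD φ).map_distinguished _ (triangleOfSES_distinguished hs), rfl, rfl, rfl⟩

lemma tpc_of_iso {m : ℤ} {M N : ModuleCat.{u} C} (e : M ≅ N) (h : TPC φ X m M) : TPC φ X m N :=
  pc_of_iso ((DRing.restrictD φ).mapIso (DerivedCategory.Q.mapIso ((NatIso.mapHomologicalComplex
    ((tensoringRight (ModuleCat.{u} C)).mapIso e) (ComplexShape.up ℤ)).app X))) h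

variable {b : ℤ} (hb : DRing.VanishesAbove X b)

include hb in
lemma tpc_of_lt {m : ℤ} (hm : b < m) (M : ModuleCat.{u} C) : TPC φ X m M :=
  pc_of_vanishGE fun i hi => (PCRestrict.subsingleton_HD_restrict_iff φ _ i).2
    ((subsingleton_HD_toD_iff _ i).2 (ShortComplex.isZero_homology_of_isZero_X₂ _
      ((tensorRight M).map_isZero (hb i (by omega)))))

include hflat in
lemma tpc_pi {m : ℤ} (hX : DRing.IsPseudoCoherent Q₀ m ((DRing.restrictD φ).obj (DRing.toD X))) :
    ∀ r : ℕ, TPC φ X m (ModuleCat.of C (Fin r → C)) := by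
  intro r
  induction r with
  | zero =>
    refine pc_of_vanishGE fun i _ => (PCRestrict.subsingleton_HD_restrict_iff φ _ i).2 ?_
    exact (subsingleton_HD_toD_iff _ i).2 (ShortComplex.isZero_homology_of_isZero_X₂ _
      ((tensorLeft (X.X i)).map_isZero (ModuleCat.isZero_of_subsingleton (ModuleCat.of C (Fin 0 → C)))))
  | succ r ih =>
    let f : (Fin (r + 1) → C) →ₗ[C] C := LinearMap.proj 0
    let S : ShortComplex (ModuleCat.{u} C) :=
      .moduleCatMk (LinearMap.ker f).subtype f (LinearMap.ext fun x => x.2)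
    have hS : S.ShortExact :=
      { exact := by
          rw [ShortComplex.moduleCat_exact_iff_range_eq_ker]
          exact Submodule.range_subtype _
        mono_f := (ModuleCat.mono_iff_injective _).2 (Submodule.subtype_injective _)
        epi_g := (ModuleCat.epi_iff_surjective _).2 fun c => ⟨fun _ => c, rfl⟩ }
    obtain ⟨T, hT, h1, h2, h3⟩ := tpc_triangle φ X hflat S hS
    have e : (Fin r → C) ≃ₗ[C] LinearMap.ker f :=
      { toFun := fun y => ⟨(Fin.cons 0 y : Fin (r + 1) → C), LinearMap.mem_ker.2 (Fin.cons_zero (α := fun _ => C) 0 y)⟩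
        invFun := fun x => Fin.tail x.1
        left_inv := fun y => by simp
        right_inv := fun x => Subtype.ext (funext fun j => by
          refine Fin.cases ?_ (fun i => ?_) j
          · exact x.2.symm
          · simp [Fin.tail])
        map_add' := fun y z => Subtype.ext (funext fun j => by refine Fin.cases ?_ (fun i => ?_) j <;> simp)
        map_smul' := fun c y => Subtype.ext (funext fun j => by refine Fin.cases ?_ (fun i => ?_) j <;> simp) }
    have hC : TPC φ X m (ModuleCat.of C C) :=
      pc_of_iso ((DRing.restrictD φ).mapIso (DerivedCategory.Q.mapIso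
        ((NatIso.mapHomologicalComplex (rightUnitorNatIso (ModuleCat.{u} C)) (ComplexShape.up ℤ)).app X ≪≫
          (Functor.mapHomologicalComplexIdIso (ModuleCat.{u} C) (ComplexShape.up ℤ)).app X).symm)) hX
    have := pc_middle hT (by rw [h1]; exact tpc_of_iso φ X e.toModuleIso ih) (by rw [h3]; exact hC)
    rwa [h2] at this

include hflat hb in
theorem tpc_of_pcModule {m : ℤ} (hX : DRing.IsPseudoCoherent Q₀ m ((DRing.restrictD φ).obj (DRing.toD X)))
    (M : ModuleCat.{u} C) (hM : ∀ k, DRing.IsPseudoCoherentModule C k M) : TPC φ X m M := by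
  suffices H : ∀ (k : ℕ) (M : ModuleCat.{u} C), (∀ j, DRing.IsPseudoCoherentModule C j M) →
      ∀ m' : ℤ, m ≤ m' → b + 1 - k ≤ m' → TPC φ X m' M from
    H (b + 1 - m).toNat M hM m le_rfl (by omega)
  intro k
  induction k with
  | zero => exact fun M _ m' _ h => tpc_of_lt φ X hb (by omega) M
  | succ k ih =>
    intro M hM m' hm' h'
    have := pcModule_zero_iff.1 (hM 0)
    obtain ⟨r, f, hf⟩ := Module.Finite.exists_fin' C M
    let S : ShortComplex (ModuleCat.{u} C) :=
      .moduleCatMk (LinearMap.ker f).subtype f (LinearMap.ext fun x => x.2)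
    have hS : S.ShortExact :=
      { exact := by
          rw [ShortComplex.moduleCat_exact_iff_range_eq_ker]
          exact Submodule.range_subtype _
        mono_f := (ModuleCat.mono_iff_injective _).2 (Submodule.subtype_injective _)
        epi_g := (ModuleCat.epi_iff_surjective _).2 hf }
    obtain ⟨T, hT, h1, h2, h3⟩ := tpc_triangle φ X hflat S hS
    have hK := ih (ModuleCat.of C (LinearMap.ker f)) (fun j => (pcModule_step_iff f hf j).1 (hM _))
      (m' + 1) (by omega) (by omega)
    have := pc_cone hT (by rw [h1]; exact hK)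
      (by rw [h2]; exact pc_mono (tpc_pi φ X hflat hX r) hm')
    rwa [h3] at this

end Devissage

/-- Derived base change of a relatively pseudo-coherent object. -/
theorem isRel_baseChange {R A B : Type u} [CommRing R]
    [CommRing A] [CommRing B] [Algebra R A] [Algebra A B] [Algebra R B] [IsScalarTower R A B]
    [Algebra.FiniteType R A] [Algebra.FiniteType A B] (hB : DerCA.IsRelPseudoCoherentModuleAll A B B)
    [DRing.HasLBaseChange (algebraMap A B)] (K : Dual.D A) {m : ℤ}
    (h : DerCA.IsRelPseudoCoherent R A m K) :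
    DerCA.IsRelPseudoCoherent R B m ((DRing.LBaseChange (algebraMap A B)).obj K) := by
  obtain ⟨n, α, hα, h⟩ := h
  obtain ⟨k, β, hβ⟩ := exists_presentation A B
  let φ : MvPolynomial (Fin n) R →+* A := α
  obtain ⟨c, hc⟩ := pc_boundedAbove h
  obtain ⟨X, hXb, hXp, ⟨e⟩⟩ := Trunc.exists_projRep K c fun i hi =>
    (PCRestrict.subsingleton_HD_restrict_iff φ K i).1 (hc i hi)
  let ψA := algebraMap A (MvPolynomial (Fin k) A)
  let ψP := algebraMap (MvPolynomial (Fin n) R) (MvPolynomial (Fin k) (MvPolynomial (Fin n) R))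
  let μ : MvPolynomial (Fin k) (MvPolynomial (Fin n) R) →+* MvPolynomial (Fin k) A := MvPolynomial.map φ
  have hsq : ∀ x, μ (ψP x) = ψA (φ x) := fun x => MvPolynomial.map_C φ x
  have hbij : ∀ M, Function.Bijective (sqHom φ ψP ψA μ hsq M).hom := fun M => by
    let : Algebra (MvPolynomial (Fin n) R) A := φ.toAlgebra
    let iP : Algebra (MvPolynomial (Fin n) R) (MvPolynomial (Fin k) (MvPolynomial (Fin n) R)) := inferInstance
    let iA : Algebra A (MvPolynomial (Fin k) A) := inferInstance
    let : Algebra (MvPolynomial (Fin k) (MvPolynomial (Fin n) R)) (MvPolynomial (Fin k) A) :=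
      MvPolynomial.algebraMvPolynomial
    exact bijective_sqHom φ ψP ψA μ hsq φ.toAlgebra iP iA MvPolynomial.algebraMvPolynomial rfl
      (Algebra.algebra_ext _ _ fun _ => rfl) (Algebra.algebra_ext _ _ fun _ => rfl)
      (Algebra.algebra_ext _ _ fun _ => rfl) M
  let Y := (LTensor.extCx ψA).obj X
  have hYb : DRing.VanishesAbove Y c := fun i hi => Perfect.isZero_extCx ψA (hXb i hi)
  have hYf : ∀ i, Module.Flat (MvPolynomial (Fin k) A) (Y.X i) := fun i =>
    Perfect.flat_extendScalars ψA (have := hXp i; inferInstance)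
  have hflat : ψP.Flat := RingHom.flat_algebraMap_iff.2 inferInstance
  let e' := (MvPolynomial.renameEquiv R (finSumFinEquiv (m := k) (n := n)).symm).trans
    (MvPolynomial.sumAlgEquiv R (Fin k) (Fin n))
  let E : MvPolynomial (Fin (k + n)) R →+* MvPolynomial (Fin k) A :=
    μ.comp (e' : MvPolynomial (Fin (k + n)) R →+* MvPolynomial (Fin k) (MvPolynomial (Fin n) R))
  have hY : DRing.IsPseudoCoherent (MvPolynomial (Fin (k + n)) R) m ((DRing.restrictD E).obj (DRing.toD Y)) := by
    obtain ⟨i⟩ := nonempty_restrictComp (e' : MvPolynomial (Fin (k + n)) R →+* _) μ (DRing.toD Y)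
    refine pc_of_iso i.symm ((good_of_bijective _ e'.bijective _ m).1 ?_)
    refine pc_of_iso (DerivedCategory.Q.mapIso ((NatIso.mapHomologicalComplex
      (sqIso φ ψP ψA μ hsq hbij) (ComplexShape.up ℤ)).app X) ≪≫ restrictDIso μ (Iso.refl (DRing.toD Y))) ?_
    exact pc_extCx_of_flat ψP hflat (pc_of_iso ((DRing.restrictD φ).mapIso e.symm ≪≫ (restrictDIso φ (Iso.refl _)).symm) h)
  let C := MvPolynomial (Fin k) A
  let bB : MvPolynomial (Fin k) A →+* B := β
  let M₀ : ModuleCat.{u} (MvPolynomial (Fin k) A) := (ModuleCat.restrictScalars bB).obj (ModuleCat.of B B)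
  have hM₀ : ∀ j, DRing.IsPseudoCoherentModule (MvPolynomial (Fin k) A) j M₀ := fun j =>
    (pcModule_restrict_iff bB (ModuleCat.of B B) j).1 ((isRel_iff β hβ _ _).1 (hB j))
  have hT := tpc_of_pcModule E Y hYf hYb hY M₀ hM₀
  have hcomp : algebraMap A B = bB.comp ψA := RingHom.ext fun a => (β.commutes a).symm
  have iK : (DRing.restrictD bB).obj ((DRing.LBaseChange (algebraMap A B)).obj K) ≅
      DRing.toD (DRing.tensorCx Y M₀) := by
    refine (DRing.restrictD bB).mapIso
      ((Perfect.baseChangeIsoOfRep (algebraMap A B) (TorAmp.isKFlat_of_projective hXb hXp) e).symm ≪≫ ?_) ≪≫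
        (restrictDIso bB (Iso.refl (DRing.toD ((LTensor.extCx bB).obj Y)))).symm ≪≫
          DerivedCategory.Q.mapIso ((NatIso.mapHomologicalComplex (SingleTensor.restrictExtendIso bB)
            (ComplexShape.up ℤ)).app Y)
    exact DerivedCategory.Q.mapIso ((NatIso.mapHomologicalComplex
      (eqToIso (by rw [hcomp]) ≪≫ ModuleCat.extendScalarsComp.{u} ψA bB) (ComplexShape.up ℤ)).app X)
  let δ : MvPolynomial (Fin (k + n)) R →ₐ[R] B := MvPolynomial.aeval fun i =>
    Sum.elim (fun j => β (MvPolynomial.X j)) (fun j => algebraMap A B (α (MvPolynomial.X j)))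
      (finSumFinEquiv.symm i)
  have hδ : (δ : MvPolynomial (Fin (k + n)) R →+* B) = bB.comp E := by
    refine MvPolynomial.ringHom_ext (fun r => ?_) fun i => ?_
    · simp [δ, E, e', μ, φ, bB, ← IsScalarTower.algebraMap_apply]
    · obtain ⟨i | i, rfl⟩ := finSumFinEquiv.surjective i <;> simp [δ, E, e', μ, φ, bB]
  have hsurj : Function.Surjective δ := by
    change Function.Surjective (δ : MvPolynomial (Fin (k + n)) R →+* B)
    rw [hδ]
    exact hβ.comp ((MvPolynomial.map_surjective _ hα).comp e'.surjective)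
  refine ⟨k + n, δ, hsurj, ?_⟩
  obtain ⟨i⟩ := nonempty_restrictComp E bB ((DRing.LBaseChange (algebraMap A B)).obj K)
  exact (pc_restrict_congr hδ _ m).2 (pc_of_iso ((DRing.restrictD E).mapIso iK.symm ≪≫ i.symm) hT)

end Groth.Agent.DRing.RelPC

namespace Groth.Agent.DRing.RelPC

open DBasic PC

lemma nonempty_baseChangeModule {A B : Type u} [CommRing A] [CommRing B] [iB : Algebra A B] [Module.Flat A B]
    [DRing.HasLBaseChange (algebraMap A B)] (M : Type u) [AddCommGroup M] [Module A M] :
    Nonempty ((DRing.LBaseChange (algebraMap A B)).obj (Dual.inD A M) ≅ Dual.inD B (TensorProduct A B M)) := by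
  have key : ∀ (φ : A →+* B) (i : Algebra A B) [DRing.HasLBaseChange φ], φ.Flat → i = φ.toAlgebra →
      letI := i; Nonempty ((DRing.LBaseChange φ).obj (Dual.inD A M) ≅ Dual.inD B (TensorProduct A B M)) := by
    intro φ i _ hφ hi
    subst hi
    exact Perfect.nonempty_baseChangeModuleIso φ hφ M
  exact key (algebraMap A B) iB (RingHom.flat_algebraMap_iff.2 inferInstance)
    (Algebra.algebra_ext _ _ fun _ => rfl)

theorem isRelModule_baseChange {R A B : Type u} [CommRing R]
    [CommRing A] [CommRing B] [Algebra R A] [Algebra A B] [Algebra R B] [IsScalarTower R A B]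
    [Algebra.FiniteType R A] [Algebra.FiniteType A B] [Module.Flat A B]
    (hB : DerCA.IsRelPseudoCoherentModuleAll A B B) {m : ℤ} (M : Type u) [AddCommGroup M] [Module A M]
    (h : DerCA.IsRelPseudoCoherentModule R A m M) :
    DerCA.IsRelPseudoCoherentModule R B m (TensorProduct A B M) := by
  have := LTensor.hasLBaseChange (algebraMap A B)
  obtain ⟨n, α, hα, h'⟩ := isRel_baseChange hB (Dual.inD A M) h
  obtain ⟨e⟩ := nonempty_baseChangeModule (A := A) (B := B) M
  exact ⟨n, α, hα, pc_of_iso ((DRing.restrictD _).mapIso e) h'⟩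

end Groth.Agent.DRing.RelPC
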