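import Groth.Agent.DRing.TensorAmp
import Groth.Agent.DRing.Descent

/-!
# Relative tor amplitude descends along faithfully flat base change
-/

universe u

open CategoryTheory CategoryTheory.Limits DerivedCategory MonoidalCategory

attribute [local instance] HasDerivedCategory.standard

namespace Groth.Agent.DRing.RelTor

open DBasic Homology DRing.KFlat TorAmp

variable {R A : Type u} [CommRing R] [CommRing A] (φ : R →+* A)

/-- Tor amplitude over `R` of a complex of `A`-modules, computed over `A`. -/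
theorem torAmp_restrict_iff (X : DRing.Cx A) (a b : ℤ) :
    DRing.HasTorAmplitudeIn R a b (DRing.toD ((DRing.restrictCx φ).obj X)) ↔
      ∀ (M : ModuleCat.{u} R) (F : DRing.Cx R) (α : F ⟶ SingleTensor.S0 M), IsKFlat F → QuasiIso α →
        ∀ i, (i < a ∨ b < i) → (X ⊗ (KFlat.BaseChange.extCx φ).obj F).ExactAt i := by
  obtain ⟨P, π, hP, -, hq, -⟩ := KProjRes.exists_resolution ((DRing.restrictCx φ).obj X)
  rw [hasTorAmp_iff (isKFlat_of_isKProjective P) (asIso (Q.map π))]
  have hbc : ∀ (F : DRing.Cx R) (i : ℤ), (X ⊗ (KFlat.BaseChange.extCx φ).obj F).ExactAt i ↔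
      ((DRing.restrictCx φ).obj X ⊗ F).ExactAt i := fun F i =>
    (TensorAmp.exactAt_restrictCx_iff φ _ i).symm.trans
      (exactAt_iff_of_quasiIso (KFlat.BaseChange.projCxIso φ X F).hom i)
  constructor
  · intro h M F α hF _ i hi
    rw [hbc, TensorAmp.exactAt_tensor_res π (isKFlat_of_isKProjective P) hF α]
    exact h M i hi
  · intro h M i hi
    obtain ⟨F, α, hFb, hFp, hα⟩ := Trunc.exists_projRes (SingleTensor.S0 M) 0
      fun j hj => HomologicalComplex.exactAt_single_obj _ _ _ _ (by omega)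
    have hF : IsKFlat F := isKFlat_of_projective hFb hFp
    rw [← TensorAmp.exactAt_tensor_res π (isKFlat_of_isKProjective P) hF α, ← hbc]
    exact h M F α hF hα i hi

variable {B : Type u} [CommRing B] (ψ : A →+* B)

/-- A faithfully flat base change of a tensor product with an extended complex. -/
lemma exactAt_ext_tensor_ext (hψ : ψ.Flat) (hd : PCDescent.Detects (fun _ : Unit => ψ))
    (P : DRing.Cx A) (G : DRing.Cx A) (i : ℤ) :
    ((LTensor.extCx ψ).obj P ⊗ (KFlat.BaseChange.extCx ψ).obj G).ExactAt i ↔ (P ⊗ G).ExactAt i := by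
  let Bm := (ModuleCat.restrictScalars ψ).obj (ModuleCat.of B B)
  let e := NatIso.mapHomologicalComplex (SingleTensor.restrictExtendIso ψ) (ComplexShape.up ℤ)
  have i2 : ∀ Y : DRing.Cx A, (DRing.restrictCx ψ).obj ((LTensor.extCx ψ).obj Y) ≅ SingleTensor.S0 Bm ⊗ Y :=
    fun Y => e.app Y ≪≫ SingleTensor.iso Bm Y
  have i1 : (DRing.restrictCx ψ).obj ((LTensor.extCx ψ).obj P ⊗ (KFlat.BaseChange.extCx ψ).obj G) ≅
      (DRing.restrictCx ψ).obj ((LTensor.extCx ψ).obj P) ⊗ G :=
    KFlat.BaseChange.projCxIso ψ ((LTensor.extCx ψ).obj P) G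
  have i3 : (DRing.restrictCx ψ).obj ((LTensor.extCx ψ).obj P ⊗ (KFlat.BaseChange.extCx ψ).obj G) ≅
      (DRing.restrictCx ψ).obj ((LTensor.extCx ψ).obj (P ⊗ G)) :=
    i1 ≪≫ MonoidalCategory.whiskerRightIso (i2 P) G ≪≫ α_ (SingleTensor.S0 Bm) P G ≪≫ (i2 (P ⊗ G)).symm
  have h1 : ((LTensor.extCx ψ).obj P ⊗ (KFlat.BaseChange.extCx ψ).obj G).ExactAt i ↔
      ((DRing.restrictCx ψ).obj ((LTensor.extCx ψ).obj (P ⊗ G))).ExactAt i :=
    (TensorAmp.exactAt_restrictCx_iff ψ _ i).symm.trans (exactAt_iff_of_quasiIso i3.hom i)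
  rw [h1, TensorAmp.exactAt_restrictCx_iff, HomologicalComplex.exactAt_iff_isZero_homology,
    HomologicalComplex.exactAt_iff_isZero_homology]
  constructor
  · intro h
    have : Subsingleton ((P ⊗ G).homology i) := hd _ fun _ =>
      (PCDescent.homologyExtIso ψ hψ (P ⊗ G) i).toLinearEquiv.symm.toEquiv.subsingleton_congr.2
        (ModuleCat.subsingleton_of_isZero h)
    exact ModuleCat.isZero_of_subsingleton _
  · intro h
    exact IsZero.of_iso ((ModuleCat.extendScalars.{u, u, u} ψ).map_isZero h)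
      (PCDescent.homologyExtIso ψ hψ (P ⊗ G) i)

/-- Tor amplitude over the base descends along a faithfully flat map. -/
theorem torAmp_restrict_baseChange_iff (hψ : ψ.Flat) (hd : PCDescent.Detects (fun _ : Unit => ψ))
    [DRing.HasLBaseChange ψ] (χ : R →+* B) (hχ : ψ.comp φ = χ) (K : Dual.D A) (a b : ℤ) :
    DRing.HasTorAmplitudeIn R a b ((DRing.restrictD φ).obj K) ↔
      DRing.HasTorAmplitudeIn R a b ((DRing.restrictD χ).obj ((DRing.LBaseChange ψ).obj K)) := by
  subst hχ
  obtain ⟨P, _, -, ⟨e⟩⟩ := exists_kproj_iso K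
  let eA := TensorAmp.restrictDIso φ e
  let eB := TensorAmp.restrictDIso (ψ.comp φ) (Perfect.baseChangeIsoOfRep ψ (isKFlat_of_isKProjective P) e)
  have hkey : ∀ (F : DRing.Cx R) (i : ℤ),
      (((LTensor.extCx ψ).obj P) ⊗ (KFlat.BaseChange.extCx (ψ.comp φ)).obj F).ExactAt i ↔
        (P ⊗ (KFlat.BaseChange.extCx φ).obj F).ExactAt i := fun F i =>
    have j : (KFlat.BaseChange.extCx (ψ.comp φ)).obj F ≅
        (KFlat.BaseChange.extCx ψ).obj ((KFlat.BaseChange.extCx φ).obj F) :=
      (NatIso.mapHomologicalComplex (ModuleCat.extendScalarsComp.{u} φ ψ) (ComplexShape.up ℤ)).app F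
    (exactAt_iff_of_quasiIso (MonoidalCategory.whiskerLeftIso ((LTensor.extCx ψ).obj P) j).hom i).trans
      (exactAt_ext_tensor_ext ψ hψ hd P ((KFlat.BaseChange.extCx φ).obj F) i)
  constructor
  · intro h
    refine torAmp_of_iso eB ((torAmp_restrict_iff _ _ _ _).2 fun M F α hF hα i hi => ?_)
    exact (hkey F i).2 ((torAmp_restrict_iff φ P a b).1 (torAmp_of_iso eA.symm h) M F α hF hα i hi)
  · intro h
    refine torAmp_of_iso eA ((torAmp_restrict_iff _ _ _ _).2 fun M F α hF hα i hi => ?_)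
    exact (hkey F i).1 ((torAmp_restrict_iff (ψ.comp φ) _ a b).1 (torAmp_of_iso eB.symm h) M F α hF hα i hi)

end Groth.Agent.DRing.RelTor
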