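import Groth.Prelude.Def_DRing2
import Groth.Agent.DRing.KProjRes
import Mathlib.Algebra.Homology.DerivedCategory.KProjective
import Mathlib.Algebra.Homology.DerivedCategory.TStructure
import Mathlib.Algebra.Homology.DerivedCategory.HomologySequence
import Mathlib.Algebra.Homology.Embedding.CochainComplex

/-!
# Basic facts on the derived category of modules

Cohomology of `toD`, morphisms out of K-projective complexes, K-projective representatives.
-/

universe u

open CategoryTheory CategoryTheory.Limits DerivedCategory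

attribute [local instance] HasDerivedCategory.standard

namespace Groth.Agent.DRing.DBasic

variable {A : Type u} [CommRing A]

/-- The cohomology functor on `D(A)`. -/
noncomputable abbrev HF (i : ℤ) : Dual.D A ⥤ ModuleCat.{u} A :=
  DerivedCategory.homologyFunctor (ModuleCat.{u} A) i

/-- Cohomology of the image of a complex in `D(A)`. -/
noncomputable def hIso (K : DRing.Cx A) (i : ℤ) : (HF i).obj (DRing.toD K) ≅ K.homology i :=
  (homologyFunctorFactors (ModuleCat.{u} A) i).app K

@[reassoc]
lemma HF_map_Q {K L : DRing.Cx A} (f : K ⟶ L) (i : ℤ) :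
    (HF i).map (Q.map f) ≫ (hIso L i).hom =
      (hIso K i).hom ≫ HomologicalComplex.homologyMap f i :=
  homologyFunctorFactors_hom_naturality f i

lemma HF_map_Q_eq {K L : DRing.Cx A} (f : K ⟶ L) (i : ℤ) :
    (HF i).map (Q.map f) =
      (hIso K i).hom ≫ HomologicalComplex.homologyMap f i ≫ (hIso L i).inv := by
  rw [← HF_map_Q_assoc, Iso.hom_inv_id, Category.comp_id]

lemma subsingleton_HD_iff_isZero (K : Dual.D A) (i : ℤ) :
    Subsingleton (Dual.HD A K i) ↔ IsZero ((HF i).obj K) :=
  ⟨fun _ => ModuleCat.isZero_of_subsingleton _, fun h => ModuleCat.subsingleton_of_isZero h⟩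

lemma subsingleton_HD_toD_iff (K : DRing.Cx A) (i : ℤ) :
    Subsingleton (Dual.HD A (DRing.toD K) i) ↔ IsZero (K.homology i) := by
  rw [subsingleton_HD_iff_isZero]
  exact (hIso K i).isZero_iff

lemma subsingleton_HD_congr {K L : Dual.D A} (e : K ≅ L) (i : ℤ) :
    Subsingleton (Dual.HD A K i) ↔ Subsingleton (Dual.HD A L i) := by
  rw [subsingleton_HD_iff_isZero, subsingleton_HD_iff_isZero]
  exact ((HF i).mapIso e).isZero_iff

/-- Cohomology in degree `i + n` is cohomology in degree `i` of the shift. -/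
noncomputable def HFShiftIso (K : Dual.D A) (n i j : ℤ) (h : n + i = j) :
    (HF i).obj ((shiftFunctor (Dual.D A) n).obj K) ≅ (HF j).obj K :=
  ((DerivedCategory.homologyFunctor (ModuleCat.{u} A) 0).shiftIso n i j h).app K

lemma subsingleton_HD_shift (K : Dual.D A) (n i j : ℤ) (h : n + i = j) :
    Subsingleton (Dual.HD A ((shiftFunctor (Dual.D A) n).obj K) i) ↔
      Subsingleton (Dual.HD A K j) := by
  rw [subsingleton_HD_iff_isZero, subsingleton_HD_iff_isZero]
  exact (HFShiftIso K n i j h).isZero_iff

lemma isLE_iff_subsingleton (K : Dual.D A) (n : ℤ) :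
    K.IsLE n ↔ ∀ i : ℤ, n < i → Subsingleton (Dual.HD A K i) := by
  rw [DerivedCategory.isLE_iff]
  exact forall_congr' fun i => forall_congr' fun _ => (subsingleton_HD_iff_isZero K i).symm

/-- Morphisms out of a K-projective complex come from chain maps. -/
lemma exists_Q_map_eq {P L : DRing.Cx A} [P.IsKProjective] (φ : DRing.toD P ⟶ DRing.toD L) :
    ∃ f : P ⟶ L, Q.map f = φ := by
  obtain ⟨g, hg⟩ := (CochainComplex.IsKProjective.Qh_map_bijective P
    ((HomotopyCategory.quotient _ _).obj L)).surjective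
      ((quotientCompQhIso (ModuleCat.{u} A)).hom.app P ≫ φ ≫
        (quotientCompQhIso (ModuleCat.{u} A)).inv.app L)
  obtain ⟨f, rfl⟩ := (HomotopyCategory.quotient _ _).map_surjective g
  refine ⟨f, ?_⟩
  have h := quotientCompQhIso_hom_naturality f
  rw [hg] at h
  simp only [Category.assoc] at h
  erw [Iso.inv_hom_id_app, Category.comp_id] at h
  exact ((cancel_epi _).1 h).symm

/-- Two chain maps out of a K-projective complex agree in `D(A)` iff they are homotopic. -/
lemma Q_map_eq_iff {P L : DRing.Cx A} [P.IsKProjective] (f g : P ⟶ L) :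
    Q.map f = Q.map g ↔ Nonempty (Homotopy f g) := by
  refine ⟨fun h => ⟨HomotopyCategory.homotopyOfEq _ _ ?_⟩,
    fun ⟨h⟩ => DerivedCategory.Q_map_eq_of_homotopy (ModuleCat.{u} A) h⟩
  refine (CochainComplex.IsKProjective.Qh_map_bijective P _).injective ?_
  have hf := quotientCompQhIso_hom_naturality f
  rw [h, ← quotientCompQhIso_hom_naturality g] at hf
  exact (cancel_mono _).1 hf

/-- Every object is the image of a K-projective complex with projective terms. -/
lemma exists_kproj_iso (K : Dual.D A) :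
    ∃ (P : DRing.Cx A), P.IsKProjective ∧ (∀ i, Module.Projective A (P.X i)) ∧
      Nonempty (DRing.toD P ≅ K) := by
  obtain ⟨P, π, hP, hproj, hq, -⟩ := KProjRes.exists_resolution (Q.objPreimage K)
  exact ⟨P, hP, hproj, ⟨asIso (Q.map π) ≪≫ Q.objObjPreimageIso K⟩⟩

lemma isKProjective_of_projective (P : DRing.Cx A) (b : ℤ) (hb : DRing.VanishesAbove P b)
    (hP : ∀ i, Module.Projective A (P.X i)) : P.IsKProjective := by
  have : P.IsStrictlyLE b := (CochainComplex.isStrictlyLE_iff _ _).2 hb
  exact CochainComplex.isKProjective_of_projective P b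

/-- Morphisms from a bounded above complex of projectives in degrees `≥ m` to an object with
cohomology in degrees `< m` are zero. -/
lemma hom_eq_zero (P : DRing.Cx A) [P.IsKProjective] (m : ℤ) (hm : ∀ i, i < m → IsZero (P.X i))
    (Y : Dual.D A) (hY : ∀ i, m ≤ i → Subsingleton (Dual.HD A Y i)) (φ : DRing.toD P ⟶ Y) :
    φ = 0 := by
  have : Y.IsLE (m - 1) := (isLE_iff_subsingleton _ _).2 fun i hi => hY i (by omega)
  obtain ⟨L, hL, ⟨e⟩⟩ := Y.exists_iso_Q_obj_of_isLE (m - 1)
  obtain ⟨f, hf⟩ := exists_Q_map_eq (L := L) (φ ≫ e.hom)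
  have hf0 : f = 0 := by
    refine HomologicalComplex.hom_ext _ _ fun i => ?_
    by_cases hi : i < m
    · exact (hm i hi).eq_of_src _ _
    · exact (L.isZero_of_isStrictlyLE (m - 1) i (by omega)).eq_of_tgt _ _
  rw [← cancel_mono e.hom, ← hf, hf0, Functor.map_zero, zero_comp]

lemma isIso_iff_HF {K L : Dual.D A} (f : K ⟶ L) : IsIso f ↔ ∀ i, IsIso ((HF i).map f) :=
  DerivedCategory.isIso_iff (ModuleCat.{u} A) f

end Groth.Agent.DRing.DBasic
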