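import Groth.Agent.DRing.LeftDerived
import Groth.Agent.DRing.DBasic
import Groth.Agent.DRing.SingleTensor
import Groth.Prelude.Def_DRing4

/-!
# Existence and computation of `⊗^L` and derived base change on `D(A)`
-/

universe u v w

open CategoryTheory CategoryTheory.Limits MonoidalCategory DerivedCategory

attribute [local instance] HasDerivedCategory.standard

namespace Groth.Agent.DRing.LTensor

open LeftDerived KFlat

variable {A : Type u} [CommRing A]

/-- The image in `K(A)`. -/
noncomputable abbrev qt (P : DRing.Cx A) : HomotopyCategory (ModuleCat.{u} A) (ComplexShape.up ℤ) :=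
  (HomotopyCategory.quotient (ModuleCat.{u} A) (ComplexShape.up ℤ)).obj P

/-- `Q f` iso gives `Qh` of its class iso. -/
lemma isIso_Qh_map {P P' : DRing.Cx A} (f : P ⟶ P') [QuasiIso f] :
    IsIso (DerivedCategory.Qh.map
      ((HomotopyCategory.quotient (ModuleCat.{u} A) (ComplexShape.up ℤ)).map f)) := by
  have h := (quotientCompQhIso (ModuleCat.{u} A)).hom.naturality f
  have : IsIso (Q.map f) := inferInstance
  have h2 : DerivedCategory.Qh.map
      ((HomotopyCategory.quotient (ModuleCat.{u} A) (ComplexShape.up ℤ)).map f) =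
      (quotientCompQhIso (ModuleCat.{u} A)).hom.app P ≫ Q.map f ≫
        inv ((quotientCompQhIso (ModuleCat.{u} A)).hom.app P') := by
    rw [← Category.assoc, IsIso.eq_comp_inv]
    exact h
  rw [h2]
  infer_instance

section Kh

variable {H : Type w} [Category.{v} H]
  (F : HomotopyCategory (ModuleCat.{u} A) (ComplexShape.up ℤ) ⥤ H)

lemma isGood_qt (P : DRing.Cx A) [P.IsKProjective] : IsGood DerivedCategory.Qh F (qt P) where
  fac Y φ := (CochainComplex.IsKProjective.Qh_map_bijective P Y).surjective φ
  eq Y g g' h := by rw [(CochainComplex.IsKProjective.Qh_map_bijective P Y).injective h]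

lemma hasEnough : HasEnough DerivedCategory.Qh F := by
  intro X
  obtain ⟨K, rfl⟩ := HomotopyCategory.quotient_obj_surjective X
  obtain ⟨P, π, hP, -, hq, -⟩ := KProjRes.exists_resolution K
  exact ⟨qt P, (HomotopyCategory.quotient _ _).map π, isGood_qt F P, isIso_Qh_map π⟩

/-- Every functor on `K(A)` has a left derived functor. -/
theorem hasLeftDerivedFunctor_Kh :
    F.HasLeftDerivedFunctor (HomotopyCategory.quasiIso (ModuleCat.{u} A) (ComplexShape.up ℤ)) :=
  (hasEnough F).hasLeftDerivedFunctor _

end Kh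

theorem hasLTensor (M : ModuleCat.{u} A) : DRing.HasLTensor A M := hasLeftDerivedFunctor_Kh _

theorem hasLBaseChange {B : Type u} [CommRing B] (φ : A →+* B) : DRing.HasLBaseChange φ :=
  hasLeftDerivedFunctor_Kh _

section Compute

variable {B : Type u} [CommRing B] (G : ModuleCat.{u} A ⥤ ModuleCat.{u} B) [G.Additive]

/-- A functor applied termwise, on `K(A)`, followed by localisation. -/
noncomputable abbrev termKh :
    HomotopyCategory (ModuleCat.{u} A) (ComplexShape.up ℤ) ⥤ Dual.D B :=
  G.mapHomotopyCategory (ComplexShape.up ℤ) ⋙ DerivedCategory.Qh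

/-- Its value on a complex. -/
noncomputable def termIso :
    HomotopyCategory.quotient (ModuleCat.{u} A) (ComplexShape.up ℤ) ⋙ termKh G ≅
      G.mapHomologicalComplex (ComplexShape.up ℤ) ⋙ DerivedCategory.Q :=
  (Functor.associator _ _ _).symm ≪≫
    Functor.isoWhiskerRight (G.mapHomotopyCategoryFactors (ComplexShape.up ℤ)) DerivedCategory.Qh ≪≫
      Functor.associator _ _ _ ≪≫ Functor.isoWhiskerLeft _ (quotientCompQhIso (ModuleCat.{u} B))

/-- The derived functor of a termwise functor. -/
noncomputable abbrev derived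
    [(termKh G).HasLeftDerivedFunctor (HomotopyCategory.quasiIso (ModuleCat.{u} A) (ComplexShape.up ℤ))] :
    Dual.D A ⥤ Dual.D B :=
  (termKh G).totalLeftDerived DerivedCategory.Qh
    (HomotopyCategory.quasiIso (ModuleCat.{u} A) (ComplexShape.up ℤ))

/-- The canonical map `LG (P) ⟶ G(P)`. -/
noncomputable def toTerm
    [(termKh G).HasLeftDerivedFunctor (HomotopyCategory.quasiIso (ModuleCat.{u} A) (ComplexShape.up ℤ))]
    (P : DRing.Cx A) :
    (derived G).obj (DRing.toD P) ⟶ DRing.toD ((G.mapHomologicalComplex (ComplexShape.up ℤ)).obj P) :=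
  (derived G).map ((quotientCompQhIso (ModuleCat.{u} A)).inv.app P) ≫
    ((termKh G).totalLeftDerivedCounit DerivedCategory.Qh
      (HomotopyCategory.quasiIso (ModuleCat.{u} A) (ComplexShape.up ℤ))).app (qt P) ≫
    (termIso G).hom.app P

@[reassoc]
lemma toTerm_natural
    [(termKh G).HasLeftDerivedFunctor (HomotopyCategory.quasiIso (ModuleCat.{u} A) (ComplexShape.up ℤ))]
    {P P' : DRing.Cx A} (f : P ⟶ P') :
    (derived G).map (Q.map f) ≫ toTerm G P' =
      toTerm G P ≫ Q.map ((G.mapHomologicalComplex (ComplexShape.up ℤ)).map f) := by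
  have h1 := (quotientCompQhIso (ModuleCat.{u} A)).inv.naturality f
  have h2 := ((termKh G).totalLeftDerivedCounit DerivedCategory.Qh
    (HomotopyCategory.quasiIso (ModuleCat.{u} A) (ComplexShape.up ℤ))).naturality
      ((HomotopyCategory.quotient (ModuleCat.{u} A) (ComplexShape.up ℤ)).map f)
  have h3 := (termIso G).hom.naturality f
  unfold toTerm
  simp only [Category.assoc]
  erw [← (derived G).map_comp_assoc, h1, Functor.map_comp_assoc, ← h3]
  erw [reassoc_of% h2]
  rfl

lemma isIso_toTerm_of_isKProjective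
    [(termKh G).HasLeftDerivedFunctor (HomotopyCategory.quasiIso (ModuleCat.{u} A) (ComplexShape.up ℤ))]
    (P : DRing.Cx A) [P.IsKProjective] : IsIso (toTerm G P) := by
  have := (hasEnough (termKh G)).isIso_app (W := HomotopyCategory.quasiIso _ _) _
    ((termKh G).totalLeftDerivedCounit DerivedCategory.Qh
      (HomotopyCategory.quasiIso (ModuleCat.{u} A) (ComplexShape.up ℤ))) (isGood_qt (termKh G) P)
  unfold toTerm
  infer_instance

/-- The canonical map is an isomorphism on complexes for which `G` preserves one K-projective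
resolution. -/
lemma isIso_toTerm
    [(termKh G).HasLeftDerivedFunctor (HomotopyCategory.quasiIso (ModuleCat.{u} A) (ComplexShape.up ℤ))]
    {P X : DRing.Cx A} [P.IsKProjective] (s : P ⟶ X) [QuasiIso s]
    (hs : QuasiIso ((G.mapHomologicalComplex (ComplexShape.up ℤ)).map s)) :
    IsIso (toTerm G X) := by
  have := isIso_toTerm_of_isKProjective G P
  have h := toTerm_natural G s
  have : IsIso ((derived G).map (Q.map s) ≫ toTerm G X) := by rw [h]; infer_instance
  exact IsIso.of_isIso_comp_left ((derived G).map (Q.map s)) _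

end Compute

section Module

variable (M : ModuleCat.{u} A) [DRing.HasLTensor A M]

/-- `P ⊗^L M ≅ P ⊗ M` for K-flat `P`. -/
theorem isIso_toTerm_LTensor {P : DRing.Cx A} (hP : IsKFlat P) :
    IsIso (toTerm (tensorRight M) P) := by
  obtain ⟨P', π, hP', -, hq, -⟩ := KProjRes.exists_resolution P
  exact isIso_toTerm _ π (SingleTensor.quasiIso_tensorRight M π (isKFlat_of_isKProjective P') hP)

/-- `P ⊗^L M` computed. -/
noncomputable def LTensorIso {P : DRing.Cx A} (hP : IsKFlat P) :
    (DRing.LTensor A M).obj (DRing.toD P) ≅ DRing.toD (DRing.tensorCx P M) :=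
  have := isIso_toTerm_LTensor M hP
  @asIso _ _ _ _ (toTerm (tensorRight M) P) this

end Module

section BaseChange

variable {B : Type u} [CommRing B] (φ : A →+* B) [DRing.HasLBaseChange φ]

/-- `P ⊗^L_A B ≅ P ⊗_A B` for K-flat `P`. -/
theorem isIso_toTerm_LBaseChange {P : DRing.Cx A} (hP : IsKFlat P) :
    IsIso (toTerm (ModuleCat.extendScalars.{u, u, u} φ) P) := by
  obtain ⟨P', π, hP', -, hq, -⟩ := KProjRes.exists_resolution P
  exact isIso_toTerm _ π (SingleTensor.quasiIso_extendScalars φ π (isKFlat_of_isKProjective P') hP)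

/-- Extension of scalars termwise. -/
noncomputable abbrev extCx : DRing.Cx A ⥤ DRing.Cx B :=
  (ModuleCat.extendScalars.{u, u, u} φ).mapHomologicalComplex (ComplexShape.up ℤ)

/-- `P ⊗^L_A B` computed. -/
noncomputable def LBaseChangeIso {P : DRing.Cx A} (hP : IsKFlat P) :
    (DRing.LBaseChange φ).obj (DRing.toD P) ≅ DRing.toD ((extCx φ).obj P) :=
  have := isIso_toTerm_LBaseChange φ hP
  @asIso _ _ _ _ (toTerm (ModuleCat.extendScalars.{u, u, u} φ) P) this

end BaseChange

section Complexes

variable (E : DRing.Cx A)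

lemma Q_map_whiskerRight_eq {P Y : DRing.Cx A} {g g' : P ⟶ Y} (h : Homotopy g g') :
    Q.map (g ▷ E) = Q.map (g' ▷ E) := by
  rw [Tensor.whiskerRight_eq, Tensor.whiskerRight_eq, Functor.map_comp, Functor.map_comp,
    Functor.map_comp, Functor.map_comp,
    Q_map_eq_of_homotopy (ModuleCat.{u} A) (Tensor.whiskerLeftHomotopy E h)]

lemma isGood_tensorCxQ (P : DRing.Cx A) [P.IsKProjective] :
    IsGood DerivedCategory.Q (DRing.tensorCxQ A E) P where
  fac Y φ := DBasic.exists_Q_map_eq φ
  eq Y g g' h := by
    obtain ⟨e⟩ := (DBasic.Q_map_eq_iff g g').1 h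
    exact Q_map_whiskerRight_eq E e

lemma hasEnough_tensorCxQ : HasEnough DerivedCategory.Q (DRing.tensorCxQ A E) := by
  intro X
  obtain ⟨P, π, hP, -, hq, -⟩ := KProjRes.exists_resolution X
  exact ⟨P, π, isGood_tensorCxQ E P, inferInstance⟩

theorem hasLTensorCx : DRing.HasLTensorCx A E :=
  (hasEnough_tensorCxQ E).hasLeftDerivedFunctor _

variable [DRing.HasLTensorCx A E]

/-- The canonical map `P ⊗^L E ⟶ P ⊗ E`. -/
noncomputable def toTensor (P : DRing.Cx A) :
    (DRing.LTensorCx A E).obj (DRing.toD P) ⟶ DRing.toD (P ⊗ E) :=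
  ((DRing.tensorCxQ A E).totalLeftDerivedCounit DerivedCategory.Q
    (HomologicalComplex.quasiIso (ModuleCat.{u} A) (ComplexShape.up ℤ))).app P

theorem isIso_toTensor {P : DRing.Cx A} (hP : IsKFlat P) : IsIso (toTensor E P) := by
  obtain ⟨P', π, hP', -, hq, -⟩ := KProjRes.exists_resolution P
  refine ((hasEnough_tensorCxQ E).isIso_app_iff (W := HomologicalComplex.quasiIso _ _) _ _ π
    (isGood_tensorCxQ E P')).2 ?_
  have := quasiIso_whiskerLeft_of_kflat π (isKFlat_of_isKProjective P') hP E
  have : QuasiIso (π ▷ E) := by rw [Tensor.whiskerRight_eq]; infer_instance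
  exact inferInstanceAs (IsIso (Q.map (π ▷ E)))

theorem isIso_toTensor_of_kflat_right (hE : IsKFlat E) (P : DRing.Cx A) :
    IsIso (toTensor E P) := by
  obtain ⟨P', π, hP', -, hq, -⟩ := KProjRes.exists_resolution P
  refine ((hasEnough_tensorCxQ E).isIso_app_iff (W := HomologicalComplex.quasiIso _ _) _ _ π
    (isGood_tensorCxQ E P')).2 ?_
  have := quasiIso_whiskerRight hE π
  exact inferInstanceAs (IsIso (Q.map (π ▷ E)))

end Complexes

end Groth.Agent.DRing.LTensor
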