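import Groth.Agent.DRing.PerfectAmp
import Groth.Agent.DRing.LTensor
import Groth.Agent.DRing.BaseChangeAmp
import Groth.Agent.KFlat.BaseChange
import Groth.Prelude.Def_DRing4
import Mathlib.Data.Int.Interval
import Mathlib.LinearAlgebra.FreeModule.Basic
import Mathlib.LinearAlgebra.DirectSum.Basis

/-!
# Tensor products of complexes: amplitudes and finiteness
-/

universe u

open CategoryTheory CategoryTheory.Limits DerivedCategory MonoidalCategory

attribute [local instance] HasDerivedCategory.standard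

namespace Groth.Agent.DRing.TensorAmp

open DBasic Homology KFlat TorAmp Tensor
open scoped DirectSum

variable {A : Type u} [CommRing A]

lemma isZero_tensor_X (P Q : DRing.Cx A) (n : ℤ)
    (h : ∀ p q : ℤ, p + q = n → IsZero (P.X p) ∨ IsZero (Q.X q)) : IsZero ((P ⊗ Q).X n) := by
  refine (IsZero.iff_id_eq_zero _).2 (hom_ext fun p q hpq => ?_)
  refine IsZero.eq_of_src ?_ _ _
  rcases h p q hpq with h' | h'
  · exact (tensorRight (Q.X q)).map_isZero h'
  · exact (tensorLeft (P.X p)).map_isZero h'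

lemma exactAt_tensor_left {E Z Z' : DRing.Cx A} (hE : IsKFlat E) (f : Z ⟶ Z') [QuasiIso f] (i : ℤ) :
    (E ⊗ Z).ExactAt i ↔ (E ⊗ Z').ExactAt i :=
  have := quasiIso_whiskerLeft hE f
  exactAt_iff_of_quasiIso (E ◁ f) i

/-- Cohomological bounds add up. -/
lemma exactAt_tensor_bounded {E Z : DRing.Cx A} {a b c d : ℤ} (hE : IsKFlat E)
    (hEb : DRing.VanishesOutside E a b) (hZ : ∀ i, i < c ∨ d < i → Z.ExactAt i) {i : ℤ}
    (hi : i < a + c ∨ b + d < i) : (E ⊗ Z).ExactAt i := by
  obtain ⟨R, π, hRb, -, hq⟩ := Trunc.exists_projRes Z d fun i hi => hZ i (Or.inr hi)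
  have := Trunc.quasiIso_tauGEπ R c fun j hj => (exactAt_iff_of_quasiIso π j).2 (hZ j (Or.inl hj))
  rw [← exactAt_tensor_left hE π, exactAt_tensor_left hE (Trunc.tauGEπ R c)]
  refine (HomologicalComplex.exactAt_iff _ _).2 (ShortComplex.exact_of_isZero_X₂ _
    (isZero_tensor_X E (Trunc.tauGE R c) i fun p q hpq => ?_))
  by_cases hp : p < a ∨ b < p
  · exact Or.inl (hEb p hp)
  · exact Or.inr (Trunc.vanishesOutside_tauGE R c hRb q (by omega))

/-- `X ⊗^L M` through a resolution of `M`. -/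
lemma exactAt_tensor_res {X P F : DRing.Cx A} (π : P ⟶ X) [QuasiIso π] (hP : IsKFlat P)
    (hF : IsKFlat F) {M : ModuleCat.{u} A} (α : F ⟶ SingleTensor.S0 M) [QuasiIso α] (i : ℤ) :
    (X ⊗ F).ExactAt i ↔ (DRing.tensorCx P M).ExactAt i := by
  have := quasiIso_whiskerLeft hF π
  have := quasiIso_whiskerRight hP α
  rw [exactAt_iff_of_quasiIso (braid X F).hom i, ← exactAt_iff_of_quasiIso (F ◁ π) i,
    exactAt_iff_of_quasiIso (α ▷ P) i, exactAt_iff_of_quasiIso (SingleTensor.iso M P).inv i]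
  rfl

section Restrict

variable {B : Type u} [CommRing B] (φ : A →+* B)

lemma exactAt_restrictCx_iff (Z : DRing.Cx B) (i : ℤ) :
    ((DRing.restrictCx φ).obj Z).ExactAt i ↔ Z.ExactAt i := by
  rw [HomologicalComplex.exactAt_iff, HomologicalComplex.exactAt_iff]
  exact ShortComplex.exact_map_iff_of_faithful (Z.sc i) (ModuleCat.restrictScalars φ)

/-- Tor amplitudes over `B` and over `A` add up. -/
theorem torAmp_restrict_tensor (E L : DRing.Cx B) {a b c d : ℤ} (hEb : DRing.VanishesOutside E a b)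
    (hEf : DRing.TermwiseFlat E)
    (hL : DRing.HasTorAmplitudeIn A c d (DRing.toD ((DRing.restrictCx φ).obj L))) :
    DRing.HasTorAmplitudeIn A (a + c) (b + d) (DRing.toD ((DRing.restrictCx φ).obj (E ⊗ L))) := by
  obtain ⟨P, π, hP, -, hq, -⟩ := KProjRes.exists_resolution ((DRing.restrictCx φ).obj (E ⊗ L))
  obtain ⟨P', π', hP', -, hq', -⟩ := KProjRes.exists_resolution ((DRing.restrictCx φ).obj L)
  have hL' := (hasTorAmp_iff (isKFlat_of_isKProjective P') (asIso (Q.map π')) c d).1 hL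
  rw [hasTorAmp_iff (isKFlat_of_isKProjective P) (asIso (Q.map π))]
  intro M i hi
  obtain ⟨F, α, hFb, hFp, hα⟩ := Trunc.exists_projRes (SingleTensor.S0 M) 0
    fun j hj => HomologicalComplex.exactAt_single_obj _ _ _ _ (by omega)
  have hF : IsKFlat F := isKFlat_of_projective hFb hFp
  have hbc : ∀ (Y : DRing.Cx B) (j : ℤ),
      (Y ⊗ (KFlat.BaseChange.extCx φ).obj F).ExactAt j ↔ ((DRing.restrictCx φ).obj Y ⊗ F).ExactAt j :=
    fun Y j => (exactAt_restrictCx_iff φ _ j).symm.trans
      (exactAt_iff_of_quasiIso (KFlat.BaseChange.projCxIso φ Y F).hom j)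
  rw [← exactAt_tensor_res π (isKFlat_of_isKProjective P) hF α, ← hbc,
    exactAt_iff_of_quasiIso (α_ E L ((KFlat.BaseChange.extCx φ).obj F)).hom i]
  refine exactAt_tensor_bounded (isKFlat_of_flat hEb hEf) hEb (fun j hj => ?_) hi
  rw [hbc, exactAt_tensor_res π' (isKFlat_of_isKProjective P') hF α]
  exact hL' M j hj

/-- Restriction on the derived category. -/
noncomputable def restrictDIso {K : Dual.D B} {X : DRing.Cx B} (e : DRing.toD X ≅ K) :
    DRing.toD ((DRing.restrictCx φ).obj X) ≅ (DRing.restrictD φ).obj K :=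
  ((ModuleCat.restrictScalars.{u} φ).mapDerivedCategoryFactors.app X).symm ≪≫ (DRing.restrictD φ).mapIso e

theorem torAmp_restrict_LTensorCx {K : Dual.D B} {a b c d : ℤ}
    (hK : DRing.HasTorAmplitudeIn B a b K) (L : DRing.Cx B)
    (hL : DRing.HasTorAmplitudeIn A c d (DRing.toD ((DRing.restrictCx φ).obj L)))
    [DRing.HasLTensorCx B L] :
    DRing.HasTorAmplitudeIn A (a + c) (b + d) ((DRing.restrictD φ).obj ((DRing.LTensorCx B L).obj K)) := by
  obtain ⟨E, h1, h2, ⟨e⟩⟩ := hK
  have := LTensor.isIso_toTensor L (isKFlat_of_flat h1 h2)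
  exact torAmp_of_iso (restrictDIso φ
    ((asIso (LTensor.toTensor L E)).symm ≪≫ (DRing.LTensorCx B L).mapIso e))
    (torAmp_restrict_tensor φ E L h1 h2 hL)

theorem torAmp_restrict_algebra [Algebra A B] {K : Dual.D B} {a b c d : ℤ}
    (hK : DRing.HasTorAmplitudeIn B a b K) (hB : DRing.HasTorAmplitudeIn A c d (Dual.inD A B)) :
    DRing.HasTorAmplitudeIn A (a + c) (b + d) ((DRing.restrictD (algebraMap A B)).obj K) := by
  let ψ := algebraMap A B
  obtain ⟨E, h1, h2, ⟨e⟩⟩ := hK
  let S := SingleTensor.S0 (ModuleCat.of B B)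
  let eB : (ModuleCat.restrictScalars ψ).obj (ModuleCat.of B B) ≅ ModuleCat.of A B :=
    (show ((ModuleCat.restrictScalars ψ).obj (ModuleCat.of B B) : ModuleCat.{u} A) ≃ₗ[A] B from
      { toFun := fun x => x
        invFun := fun x => x
        left_inv := fun _ => rfl
        right_inv := fun _ => rfl
        map_add' := fun _ _ => rfl
        map_smul' := fun r x => (Algebra.smul_def r (show B from x)).symm }).toModuleIso
  have eS : DRing.toD ((DRing.restrictCx ψ).obj S) ≅ Dual.inD A B :=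
    Q.mapIso ((HomologicalComplex.singleMapHomologicalComplex (ModuleCat.restrictScalars.{u} ψ)
        (ComplexShape.up ℤ) 0).app _ ≪≫ (HomologicalComplex.single (ModuleCat.{u} A) _ 0).mapIso eB) ≪≫
      (DerivedCategory.singleFunctorIsoCompQ (ModuleCat.{u} A) 0).symm.app (ModuleCat.of A B)
  let f : ((tensorRight (ModuleCat.of B B)).mapHomologicalComplex (ComplexShape.up ℤ)).obj E ≅ E :=
    (NatIso.mapHomologicalComplex (rightUnitorNatIso (ModuleCat.{u} B)) (ComplexShape.up ℤ)).app E ≪≫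
      (Functor.mapHomologicalComplexIdIso (ModuleCat.{u} B) (ComplexShape.up ℤ)).app E
  exact torAmp_of_iso (restrictDIso ψ (Q.mapIso (braid E S ≪≫ (SingleTensor.iso (ModuleCat.of B B) E).symm ≪≫ f) ≪≫ e))
    (torAmp_restrict_tensor ψ E S h1 h2 (torAmp_of_iso eS.symm hB))

end Restrict

section Finite

lemma finite_directSum {ι : Type*} (M : ι → Type u) [∀ k, AddCommGroup (M k)] [∀ k, Module A (M k)]
    (s : Finset ι) (hs : ∀ k, k ∉ s → Subsingleton (M k)) (hf : ∀ k, Module.Finite A (M k)) :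
    Module.Finite A (⨁ k, M k) := by
  classical
  refine Module.Finite.of_surjective
    (∑ k : s, (DirectSum.lof A ι M k.1).comp (LinearMap.proj (φ := fun k : s => M k.1) k)) fun x => ?_
  refine ⟨fun k => x k.1, ?_⟩
  simp only [LinearMap.coe_sum, Finset.sum_apply, LinearMap.comp_apply, LinearMap.proj_apply]
  refine DFinsupp.ext fun k => ?_
  rw [DFinsupp.finset_sum_apply]
  by_cases hk : k ∈ s
  · rw [Finset.sum_eq_single (⟨k, hk⟩ : s) (fun j _ hj => ?_) (fun h => absurd (Finset.mem_univ _) h)]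
    · exact DFinsupp.single_eq_same
    · exact DFinsupp.single_eq_of_ne fun h => hj (Subtype.ext h.symm)
  · exact (hs k hk).elim _ _

variable (P Q : DRing.Cx A) {b b' : ℤ} (hP : DRing.VanishesAbove P b) (hQ : DRing.VanishesAbove Q b')

include hP hQ in
lemma finite_tensor_X (hPf : ∀ i, Module.Finite A (P.X i)) (hQf : ∀ i, Module.Finite A (Q.X i)) (n : ℤ) :
    Module.Finite A ((P ⊗ Q).X n) := by
  classical
  let g : Finset { k : ℤ × ℤ // k.1 + k.2 = n } :=
    (Finset.Icc (n - b') b).image fun p => ⟨(p, n - p), by dsimp; omega⟩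
  have := finite_directSum (A := A) (Fam P Q n) g (fun k hk => ?_) fun k => ?_
  · exact Module.Finite.equiv (sumIso P Q n).toLinearEquiv.symm
  · have hor : b < k.1.1 ∨ b' < k.1.2 := by
      by_contra hc
      push Not at hc
      refine hk (Finset.mem_image.2 ⟨k.1.1, Finset.mem_Icc.2 ⟨by have := k.2; omega, hc.1⟩, ?_⟩)
      exact Subtype.ext (Prod.ext rfl (by have := k.2; dsimp; omega))
    rcases hor with h | h
    · exact ModuleCat.subsingleton_of_isZero ((tensorRight (Q.X k.1.2)).map_isZero (hP _ h))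
    · exact ModuleCat.subsingleton_of_isZero ((tensorLeft (P.X k.1.1)).map_isZero (hQ _ h))
  · have := hPf k.1.1
    have := hQf k.1.2
    infer_instance

lemma projective_tensor_X (hPp : ∀ i, Module.Projective A (P.X i)) (hQp : ∀ i, Module.Projective A (Q.X i))
    (n : ℤ) : Module.Projective A ((P ⊗ Q).X n) :=
  have : ∀ k, Module.Projective A (Fam P Q n k) := fun k => have := hPp k.1.1; have := hQp k.1.2; inferInstance
  Module.Projective.of_equiv (sumIso P Q n).toLinearEquiv.symm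

lemma free_tensor_X (hPp : ∀ i, Module.Free A (P.X i)) (hQp : ∀ i, Module.Free A (Q.X i))
    (n : ℤ) : Module.Free A ((P ⊗ Q).X n) :=
  have : ∀ k, Module.Free A (Fam P Q n k) := fun k => have := hPp k.1.1; have := hQp k.1.2; inferInstance
  Module.Free.of_equiv (sumIso P Q n).toLinearEquiv.symm

/-- `K ⊗^L L` on representatives. -/
theorem nonempty_LTensorCxIso {K : Dual.D A} {L : DRing.Cx A} [DRing.HasLTensorCx A L] {E E' : DRing.Cx A}
    (hE : IsKFlat E) (e : DRing.toD E ≅ K) [E'.IsKProjective] (e' : DRing.toD E' ≅ DRing.toD L) :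
    Nonempty ((DRing.LTensorCx A L).obj K ≅ DRing.toD (E ⊗ E')) := by
  obtain ⟨g, hg⟩ := exists_Q_map_eq (L := L) e'.hom
  have : QuasiIso g := (isIso_Q_map_iff_quasiIso (C := ModuleCat.{u} A) g).1 (by rw [hg]; infer_instance)
  have := quasiIso_whiskerLeft hE g
  have := LTensor.isIso_toTensor L hE
  exact ⟨(DRing.LTensorCx A L).mapIso e.symm ≪≫ asIso (LTensor.toTensor L E) ≪≫
    (asIso (DerivedCategory.Q.map (E ◁ g))).symm⟩

theorem perfect_LTensorCx {K : Dual.D A} (hK : DRing.IsPerfect A K) {L : DRing.Cx A}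
    (hL : DRing.IsPerfect A (DRing.toD L)) [DRing.HasLTensorCx A L] :
    DRing.IsPerfect A ((DRing.LTensorCx A L).obj K) := by
  obtain ⟨E, a, b, h1, h2, ⟨e⟩⟩ := hK
  obtain ⟨E', a', b', h1', h2', ⟨e'⟩⟩ := hL
  have := isKProjective_of_projective E' b' (fun i hi => h1' i (Or.inr hi)) fun i => (h2' i).2
  obtain ⟨ι⟩ := nonempty_LTensorCxIso (L := L)
    (TorAmp.isKFlat_of_projective (fun i hi => h1 i (Or.inr hi)) fun i => (h2 i).2) e e'
  refine ⟨E ⊗ E', a + a', b + b', fun n hn => isZero_tensor_X E E' n fun p q hpq => ?_, fun n =>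
    ⟨finite_tensor_X E E' (fun i hi => h1 i (Or.inr hi)) (fun i hi => h1' i (Or.inr hi))
      (fun i => (h2 i).1) (fun i => (h2' i).1) n,
     projective_tensor_X E E' (fun i => (h2 i).2) (fun i => (h2' i).2) n⟩, ⟨ι.symm⟩⟩
  by_cases hp : p < a ∨ b < p
  · exact Or.inl (h1 p hp)
  · exact Or.inr (h1' q (by omega))

theorem pc'_LTensorCx {K : Dual.D A} (hK : DRing.IsPseudoCoherent' A K) {L : DRing.Cx A}
    (hL : DRing.IsPseudoCoherent' A (DRing.toD L)) [DRing.HasLTensorCx A L] :
    DRing.IsPseudoCoherent' A ((DRing.LTensorCx A L).obj K) := by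
  obtain ⟨E, b, h1, h2, ⟨e⟩⟩ := hK
  obtain ⟨E', b', h1', h2', ⟨e'⟩⟩ := hL
  have hp : ∀ i, Module.Projective A (E.X i) := fun i => have := (h2 i).2; inferInstance
  have hp' : ∀ i, Module.Projective A (E'.X i) := fun i => have := (h2' i).2; inferInstance
  have := isKProjective_of_projective E' b' h1' hp'
  obtain ⟨ι⟩ := nonempty_LTensorCxIso (L := L) (TorAmp.isKFlat_of_projective h1 hp) e e'
  refine ⟨E ⊗ E', b + b', fun n hn => isZero_tensor_X E E' n fun p q hpq => ?_, fun n =>
    ⟨finite_tensor_X E E' h1 h1' (fun i => (h2 i).1) (fun i => (h2' i).1) n,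
     free_tensor_X E E' (fun i => (h2 i).2) (fun i => (h2' i).2) n⟩, ⟨ι.symm⟩⟩
  by_cases hp : b < p
  · exact Or.inl (h1 p hp)
  · exact Or.inr (h1' q (by omega))

end Finite

end Groth.Agent.DRing.TensorAmp
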