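import Groth.Agent.DRing.PCRestrict
import Groth.Prelude.Def_DerCA
import Mathlib.Algebra.MvPolynomial.Equiv
import Mathlib.RingTheory.Polynomial.Ideal
import Mathlib.RingTheory.FiniteType
import Mathlib.RingTheory.Polynomial.Basic

/-!
# Relative pseudo-coherence: independence of the presentation
-/

universe u

open CategoryTheory CategoryTheory.Limits DerivedCategory

attribute [local instance] HasDerivedCategory.standard

namespace Groth.Agent.DRing.RelPC

open DBasic PC TensorAmp

/-- Pseudo-coherence is detected after restriction along `φ`. -/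
def Good {A B : Type u} [CommRing A] [CommRing B] (φ : A →+* B) : Prop :=
  ∀ (K : Dual.D B) (m : ℤ),
    DRing.IsPseudoCoherent B m K ↔ DRing.IsPseudoCoherent A m ((DRing.restrictD φ).obj K)

variable {A B C : Type u} [CommRing A] [CommRing B] [CommRing C]

lemma nonempty_restrictComp (φ : A →+* B) (ψ : B →+* C) (K : Dual.D C) :
    Nonempty ((DRing.restrictD (ψ.comp φ)).obj K ≅ (DRing.restrictD φ).obj ((DRing.restrictD ψ).obj K)) := by
  obtain ⟨P, -, -, ⟨e⟩⟩ := exists_kproj_iso K
  refine ⟨(restrictDIso (ψ.comp φ) e).symm ≪≫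
    DerivedCategory.Q.mapIso (show (DRing.restrictCx (ψ.comp φ)).obj P ≅
      (DRing.restrictCx φ).obj ((DRing.restrictCx ψ).obj P) from HomologicalComplex.Hom.isoOfComponents
      (fun i => (ModuleCat.restrictScalarsComp φ ψ).app (P.X i))
      fun i j _ => ((ModuleCat.restrictScalarsComp φ ψ).hom.naturality (P.d i j)).symm) ≪≫
    restrictDIso φ (restrictDIso ψ e)⟩

lemma good_comp {φ : A →+* B} {ψ : B →+* C} (h1 : Good φ) (h2 : Good ψ) : Good (ψ.comp φ) :=
  fun K m => by
    obtain ⟨e⟩ := nonempty_restrictComp φ ψ K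
    exact ((h2 K m).trans (h1 _ m)).trans ⟨pc_of_iso e.symm, pc_of_iso e⟩

lemma good_of_module [Algebra A B] (hB : ∀ m, DRing.IsPseudoCoherentModule A m B) :
    Good (algebraMap A B) :=
  fun _ _ => ⟨PCRestrict.pc_restrict hB, PCRestrict.pc_of_restrict hB⟩

lemma good_of_bijective (φ : A →+* B) (hφ : Function.Bijective φ) : Good φ := by
  let := φ.toAlgebra
  refine good_of_module ((pc'_iff _).1 ?_)
  let e : A ≃ₗ[A] B := LinearEquiv.ofBijective (Algebra.linearMap A B) hφ
  have : Module.Finite A B := Module.Finite.equiv e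
  have : Module.Free A B := Module.Free.of_equiv e
  exact pcModule'_of_finiteFree

/-- A quotient by a regular element. -/
lemma good_of_surjective (φ : A →+* B) (hφ : Function.Surjective φ) {a : A}
    (hk : RingHom.ker φ = Ideal.span {a}) (ha : ∀ x : A, x * a = 0 → x = 0) : Good φ := by
  let := φ.toAlgebra
  refine good_of_module fun m => ?_
  let f := Algebra.linearMap A B
  have hker : ∀ x : A, x ∈ LinearMap.ker f ↔ x ∈ Ideal.span {a} := fun x => by rw [← hk]; rfl
  let g : A →ₗ[A] LinearMap.ker f := (LinearMap.toSpanSingleton A A a).codRestrict _ fun x =>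
    (hker _).2 (Ideal.mem_span_singleton'.2 ⟨x, rfl⟩)
  have hg : Function.Bijective g := by
    refine ⟨(injective_iff_map_eq_zero g).2 fun x hx => ha x (congrArg Subtype.val hx), fun y => ?_⟩
    obtain ⟨x, hx⟩ := Ideal.mem_span_singleton'.1 ((hker y.1).1 y.2)
    exact ⟨x, Subtype.ext hx⟩
  let e := LinearEquiv.ofBijective g hg
  have : Module.Finite A (LinearMap.ker f) := Module.Finite.equiv e
  have : Module.Free A (LinearMap.ker f) := Module.Free.of_equiv e
  have h := (pcModule_step_iff f hφ (m + 1)).2 ((pc'_iff _).1 pcModule'_of_finiteFree (m + 1))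
  rwa [add_sub_cancel_right] at h

lemma good_evalPolynomial (a : A) : Good (Polynomial.evalRingHom a) :=
  good_of_surjective _ (fun x => ⟨Polynomial.C x, by simp⟩) (Polynomial.ker_evalRingHom a) fun x hx => by
    by_contra h
    exact h ((Polynomial.monic_X_sub_C a).mul_left_eq_zero_iff.1 hx)

lemma good_eval : ∀ {k : ℕ} (a : Fin k → A), Good (MvPolynomial.eval a) := by
  intro k
  induction k with
  | zero =>
    intro a
    refine good_of_bijective _ ⟨fun x y h => ?_, fun r => ⟨MvPolynomial.C r, MvPolynomial.eval_C r⟩⟩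
    obtain ⟨x, rfl⟩ := MvPolynomial.C_surjective (R := A) (Fin 0) x
    obtain ⟨y, rfl⟩ := MvPolynomial.C_surjective (R := A) (Fin 0) y
    simp only [MvPolynomial.eval_C] at h
    rw [h]
  | succ k ih =>
    intro a
    have h : MvPolynomial.eval a = (MvPolynomial.eval fun j : Fin k => a j.succ).comp
        ((Polynomial.evalRingHom (MvPolynomial.C (σ := Fin k) (a 0))).comp
          (MvPolynomial.finSuccEquiv A k : MvPolynomial (Fin (k + 1)) A →+* Polynomial (MvPolynomial (Fin k) A))) := by
      refine MvPolynomial.ringHom_ext (fun r => ?_) fun i => ?_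
      · simp [MvPolynomial.finSuccEquiv_apply]
      · refine Fin.cases ?_ (fun j => ?_) i
        · simp [MvPolynomial.finSuccEquiv_X_zero]
        · simp [MvPolynomial.finSuccEquiv_X_succ]
    rw [h]
    exact good_comp (good_comp (good_of_bijective _ (MvPolynomial.finSuccEquiv A k).bijective)
      (good_evalPolynomial _)) (ih _)

section Presentation

variable {R A : Type u} [CommRing R] [CommRing A] [Algebra R A]

lemma good_congr {A B : Type u} [CommRing A] [CommRing B] {φ ψ : A →+* B} (h : φ = ψ) (hφ : Good φ) :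
    Good ψ := h ▸ hφ

lemma pc_restrict_congr {A B : Type u} [CommRing A] [CommRing B] {φ ψ : A →+* B} (h : φ = ψ) (K : Dual.D B)
    (m : ℤ) : DRing.IsPseudoCoherent A m ((DRing.restrictD φ).obj K) ↔
      DRing.IsPseudoCoherent A m ((DRing.restrictD ψ).obj K) := by
  subst h; exact Iff.rfl

/-- Adding generators does not change relative pseudo-coherence. -/
lemma via_sum {n k : ℕ} (α : MvPolynomial (Fin n) R →ₐ[R] A) (hα : Function.Surjective α)
    (v : Fin k → A) (K : Dual.D A) (m : ℤ) :
    DerCA.IsRelPseudoCoherentVia α m K ↔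
      DRing.IsPseudoCoherent (MvPolynomial (Fin k ⊕ Fin n) R) m
        ((DRing.restrictD (MvPolynomial.aeval (R := R) (Sum.elim v fun i => α (MvPolynomial.X i)) :
          MvPolynomial (Fin k ⊕ Fin n) R →+* A)).obj K) := by
  choose g hg using fun j => hα (v j)
  let ψ : MvPolynomial (Fin k ⊕ Fin n) R →+* MvPolynomial (Fin n) R :=
    (MvPolynomial.eval g).comp
      (MvPolynomial.sumAlgEquiv R (Fin k) (Fin n) :
        MvPolynomial (Fin k ⊕ Fin n) R →+* MvPolynomial (Fin k) (MvPolynomial (Fin n) R))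
  have hψ : Good ψ := good_comp (good_of_bijective _ (MvPolynomial.sumAlgEquiv R (Fin k) (Fin n)).bijective)
    (good_eval g)
  obtain ⟨e⟩ := nonempty_restrictComp ψ (α : MvPolynomial (Fin n) R →+* A) K
  refine (hψ _ m).trans (Iff.trans ⟨pc_of_iso e.symm, pc_of_iso e⟩ (pc_restrict_congr ?_ K m))
  refine MvPolynomial.ringHom_ext (fun r => ?_) fun i => ?_
  · simp [ψ]
  · rcases i with j | i <;> simp [ψ, hg]

theorem via_iff {n k : ℕ} (α : MvPolynomial (Fin n) R →ₐ[R] A) (hα : Function.Surjective α)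
    (β : MvPolynomial (Fin k) R →ₐ[R] A) (hβ : Function.Surjective β) (K : Dual.D A) (m : ℤ) :
    DerCA.IsRelPseudoCoherentVia α m K ↔ DerCA.IsRelPseudoCoherentVia β m K := by
  rw [via_sum α hα (fun j => β (MvPolynomial.X j)), via_sum β hβ (fun i => α (MvPolynomial.X i))]
  let s := MvPolynomial.renameEquiv R (Equiv.sumComm (Fin k) (Fin n))
  let γ' : MvPolynomial (Fin n ⊕ Fin k) R →+* A :=
    (MvPolynomial.aeval (R := R) (Sum.elim (fun i => α (MvPolynomial.X i)) fun j => β (MvPolynomial.X j)) :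
      MvPolynomial (Fin n ⊕ Fin k) R →+* A)
  obtain ⟨e⟩ := nonempty_restrictComp (s : MvPolynomial (Fin k ⊕ Fin n) R →+* MvPolynomial (Fin n ⊕ Fin k) R) γ' K
  refine Iff.symm ((good_of_bijective _ s.bijective _ m).trans
    (Iff.trans ⟨pc_of_iso e.symm, pc_of_iso e⟩ (pc_restrict_congr ?_ K m)))
  refine MvPolynomial.ringHom_ext (fun r => ?_) fun i => ?_
  · simp [γ', s]
  · rcases i with j | i <;> simp [γ', s]

/-- Any presentation may be used. -/
theorem isRel_iff {n : ℕ} (α : MvPolynomial (Fin n) R →ₐ[R] A) (hα : Function.Surjective α)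
    (K : Dual.D A) (m : ℤ) :
    DerCA.IsRelPseudoCoherent R A m K ↔ DerCA.IsRelPseudoCoherentVia α m K :=
  ⟨fun ⟨_, β, hβ, h⟩ => (via_iff β hβ α hα K m).1 h, fun h => ⟨n, α, hα, h⟩⟩

variable (R A) in
lemma exists_presentation [Algebra.FiniteType R A] :
    ∃ (n : ℕ) (α : MvPolynomial (Fin n) R →ₐ[R] A), Function.Surjective α :=
  Algebra.FiniteType.iff_quotient_mvPolynomial''.1 inferInstance

end Presentation

section Props

variable {R A : Type u} [CommRing R] [CommRing A] [Algebra R A] {n : ℕ} (φ : MvPolynomial (Fin n) R →+* A)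

open CategoryTheory.Pretriangulated

lemma nonempty_restrictInD {B C : Type u} [CommRing B] [CommRing C] (φ : B →+* C) (M : ModuleCat.{u} C) :
    Nonempty ((DRing.restrictD φ).obj (Dual.inD C M) ≅
      Dual.inD B ((ModuleCat.restrictScalars φ).obj M)) :=
  ⟨(DRing.restrictD φ).mapIso ((DerivedCategory.singleFunctorIsoCompQ (ModuleCat.{u} C) 0).app M) ≪≫
    (restrictDIso φ (Iso.refl _)).symm ≪≫
    DerivedCategory.Q.mapIso ((HomologicalComplex.singleMapHomologicalComplex (ModuleCat.restrictScalars.{u} φ)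
      (ComplexShape.up ℤ) 0).app M) ≪≫
    (DerivedCategory.singleFunctorIsoCompQ (ModuleCat.{u} B) 0).symm.app _⟩

lemma pcModule_restrict_iff {B C : Type u} [CommRing B] [CommRing C] (φ : B →+* C) (M : ModuleCat.{u} C) (m : ℤ) :
    DRing.IsPseudoCoherent B m ((DRing.restrictD φ).obj (Dual.inD C M)) ↔
      DRing.IsPseudoCoherentModule B m ((ModuleCat.restrictScalars φ).obj M) := by
  obtain ⟨e⟩ := nonempty_restrictInD φ M
  exact ⟨pc_of_iso e, pc_of_iso e.symm⟩

lemma finite_restrict_iff {B C : Type u} [CommRing B] [CommRing C] (φ : B →+* C) (hφ : Function.Surjective φ)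
    (M : ModuleCat.{u} C) : Module.Finite B ((ModuleCat.restrictScalars φ).obj M) ↔ Module.Finite C M := by
  let := φ.toAlgebra
  let : Module B M := Module.compHom M φ
  have : IsScalarTower B C M := IsScalarTower.of_algebraMap_smul fun _ _ => rfl
  change Module.Finite B M ↔ _
  refine ⟨fun _ => Module.Finite.of_restrictScalars_finite B C M, fun _ => ?_⟩
  have : Module.Finite B C := Module.Finite.of_surjective (Algebra.linearMap B C) hφ
  exact Module.Finite.trans C M

theorem relPC_distTriang [Algebra.FiniteType R A] (m : ℤ) (T : Triangle (Dual.D A))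
    (hT : T ∈ distinguishedTriangles) :
    (DerCA.IsRelPseudoCoherent R A (m + 1) T.obj₁ → DerCA.IsRelPseudoCoherent R A m T.obj₂ →
        DerCA.IsRelPseudoCoherent R A m T.obj₃) ∧
      (DerCA.IsRelPseudoCoherent R A m T.obj₁ → DerCA.IsRelPseudoCoherent R A m T.obj₃ →
        DerCA.IsRelPseudoCoherent R A m T.obj₂) ∧
      (DerCA.IsRelPseudoCoherent R A (m + 1) T.obj₂ → DerCA.IsRelPseudoCoherent R A m T.obj₃ →
        DerCA.IsRelPseudoCoherent R A (m + 1) T.obj₁) := by
  obtain ⟨n, α, hα⟩ := exists_presentation R A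
  simp only [isRel_iff α hα]
  have hT' := (DRing.restrictD (α : MvPolynomial (Fin n) R →+* A)).map_distinguished _ hT
  exact ⟨pc_cone hT', pc_middle hT', pc_first hT'⟩

theorem relPC_biprod (m : ℤ) (K L : Dual.D A) [HasBinaryBiproduct K L]
    (h : DerCA.IsRelPseudoCoherent R A m (K ⊞ L)) :
    DerCA.IsRelPseudoCoherent R A m K ∧ DerCA.IsRelPseudoCoherent R A m L := by
  obtain ⟨n, α, hα, h⟩ := h
  let F := DRing.restrictD (α : MvPolynomial (Fin n) R →+* A)
  have : PreservesBinaryBiproduct K L F := preservesBinaryBiproduct_of_preservesBiproduct F K L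
  have : HasBinaryBiproduct (F.obj K) (F.obj L) := Functor.hasBinaryBiproduct_of_preserves F K L
  obtain ⟨h1, h2⟩ := pc_of_biprod (pc_of_iso (F.mapBiprod K L) h)
  exact ⟨⟨n, α, hα, h1⟩, n, α, hα, h2⟩

theorem relPC_of_terms [Algebra.FiniteType R A] (m : ℤ) (K : DRing.Cx A) (b : ℤ)
    (hb : DRing.VanishesAbove K b)
    (h : ∀ i : ℤ, DerCA.IsRelPseudoCoherentModule R A (m - i) (K.X i)) :
    DerCA.IsRelPseudoCoherent R A m (DRing.toD K) := by
  obtain ⟨n, α, hα⟩ := exists_presentation R A
  refine ⟨n, α, hα, pc_of_iso (restrictDIso (α : MvPolynomial (Fin n) R →+* A) (Iso.refl _))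
    (pc_of_terms _ (fun i hi => (ModuleCat.restrictScalars (α : MvPolynomial (Fin n) R →+* A)).map_isZero (hb i hi))
      fun i _ => ?_)⟩
  exact (pcModule_restrict_iff _ (K.X i) _).1 ((isRel_iff α hα _ _).1 (h i))

theorem relPC_of_homology [Algebra.FiniteType R A] (m : ℤ) (K : Dual.D A)
    (hb : ∃ b : ℤ, ∀ i : ℤ, b < i → Subsingleton (Dual.HD A K i))
    (h : ∀ i : ℤ, DerCA.IsRelPseudoCoherentModule R A (m - i) (Dual.HD A K i)) :
    DerCA.IsRelPseudoCoherent R A m K := by
  obtain ⟨n, α, hα⟩ := exists_presentation R A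
  obtain ⟨b, hb⟩ := hb
  refine ⟨n, α, hα, pc_of_cohomology ⟨b, fun i hi => (PCRestrict.subsingleton_HD_restrict_iff _ K i).2 (hb i hi)⟩
    fun i _ => ?_⟩
  exact pcModule_congr (DTrunc.homologyMapDerivedIso
      (ModuleCat.restrictScalars.{u} (α : MvPolynomial (Fin n) R →+* A)) K i).symm.toLinearEquiv
    ((pcModule_restrict_iff _ ((HF i).obj K) _).1 ((isRel_iff α hα _ _).1 (h i)))

theorem relPC_iff_of_noetherian [IsNoetherianRing R] [Algebra.FiniteType R A] (m : ℤ) (K : Dual.D A) :
    DerCA.IsRelPseudoCoherent R A m K ↔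
      (∃ b : ℤ, ∀ i : ℤ, b < i → Subsingleton (Dual.HD A K i)) ∧
        ∀ i : ℤ, m ≤ i → Module.Finite A (Dual.HD A K i) := by
  obtain ⟨n, α, hα⟩ := exists_presentation R A
  let φ : MvPolynomial (Fin n) R →+* A := α
  have hfin : ∀ i, Module.Finite (MvPolynomial (Fin n) R) (Dual.HD _ ((DRing.restrictD φ).obj K) i) ↔
      Module.Finite A (Dual.HD A K i) := fun i => by
    rw [← finite_restrict_iff φ hα]
    exact Module.Finite.equiv_iff
      (DTrunc.homologyMapDerivedIso (ModuleCat.restrictScalars.{u} φ) K i).toLinearEquiv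
  have hA : ∀ I : Ideal (MvPolynomial (Fin n) R), I.FG → Module.FinitePresentation (MvPolynomial (Fin n) R) I :=
    fun I _ => Module.finitePresentation_of_finite _ _
  rw [isRel_iff α hα]
  change DRing.IsPseudoCoherent _ m ((DRing.restrictD φ).obj K) ↔ _
  have hbd : ∀ {b : ℤ}, (∀ i, b < i → Subsingleton (Dual.HD _ ((DRing.restrictD φ).obj K) i)) ↔
      ∀ i, b < i → Subsingleton (Dual.HD A K i) :=
    fun {b} => forall₂_congr fun i _ => PCRestrict.subsingleton_HD_restrict_iff φ K i
  constructor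
  · intro h
    obtain ⟨b, hb⟩ := pc_boundedAbove h
    obtain ⟨h1, h2⟩ := (pc_iff_of_coherent hA ⟨b, hb⟩).1 h
    refine ⟨⟨b, hbd.1 hb⟩, fun i hi => (hfin i).1 ?_⟩
    rcases eq_or_lt_of_le hi with rfl | hlt
    · exact h1
    · have := h2 i hlt; infer_instance
  · rintro ⟨⟨b, hb⟩, h⟩
    refine (pc_iff_of_coherent hA ⟨b, hbd.2 hb⟩).2 ⟨(hfin m).2 (h m le_rfl), fun i hi => ?_⟩
    have := (hfin i).2 (h i hi.le)
    exact Module.finitePresentation_of_finite _ _

theorem relPCModule_iff [Algebra.FiniteType R A] (α : MvPolynomial (Fin n) R →ₐ[R] A)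
    (hα : Function.Surjective α) (M : Type u) [AddCommGroup M] [Module A M] :
    (DerCA.IsRelPseudoCoherentModule R A 0 M ↔ Module.Finite A M) ∧
      (DerCA.IsRelPseudoCoherentModule R A (-1) M ↔
        @Module.FinitePresentation (MvPolynomial (Fin n) R) M _ _ (Module.compHom M α.toRingHom)) :=
  ⟨((isRel_iff α hα _ _).trans (pcModule_restrict_iff _ (ModuleCat.of A M) 0)).trans
      (pcModule_zero_iff.trans (finite_restrict_iff _ hα _)),
    ((isRel_iff α hα _ _).trans (pcModule_restrict_iff _ (ModuleCat.of A M) (-1))).trans pcModule_negOne_iff⟩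

theorem relPCModuleAll_iff_of_noetherian [IsNoetherianRing R] [Algebra.FiniteType R A] (M : Type u)
    [AddCommGroup M] [Module A M] : DerCA.IsRelPseudoCoherentModuleAll R A M ↔ Module.Finite A M := by
  have : ∀ m, DerCA.IsRelPseudoCoherentModule R A m M ↔ (∀ i : ℤ, m ≤ i → Module.Finite A (Dual.HD A (Dual.inD A M) i)) :=
    fun m => (relPC_iff_of_noetherian m _).trans
      (and_iff_right ⟨0, fun i hi => subsingleton_HD_inD A M i (by omega)⟩)
  constructor
  · intro h
    have := (this 0).1 (h 0) 0 le_rfl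
    exact Module.Finite.equiv (inDEquiv A M)
  · intro hM m
    refine (this m).2 fun i _ => ?_
    by_cases hi : i = 0
    · subst hi; exact Module.Finite.equiv (inDEquiv A M).symm
    · have := subsingleton_HD_inD A M i hi
      infer_instance

end Props

end Groth.Agent.DRing.RelPC
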