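import Groth.Agent.DRing.PerfectAmp
import Groth.Agent.DRing.SingleTensor
import Mathlib.CategoryTheory.Abelian.Projective.Extend
import Mathlib.CategoryTheory.Monoidal.Tor

/-!
# Balancing of `Tor` and tor dimension of modules

`Tor_p(M, N)` (resolving `N`) vanishes iff `P ⊗ N` is exact in degree `-p` for a K-flat resolution `P`
of `M`, and `HasTorDimLE d M ↔ HasTorAmplitudeIn (-d) 0 M[0]`.
-/

universe u

open CategoryTheory CategoryTheory.Limits MonoidalCategory DerivedCategory

attribute [local instance] HasDerivedCategory.standard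

namespace Groth.Agent.DRing.TorBalance

open Homology DBasic KFlat TorAmp

variable {A : Type u} [CommRing A]

/-- The derived tensor product of modules is symmetric, on exactness. -/
theorem exactAt_balance {M N : ModuleCat.{u} A} {P Q' : DRing.Cx A} (hP : IsKFlat P)
    (hQ : IsKFlat Q')
    (eP : DRing.toD P ≅ DRing.toD (SingleTensor.S0 M))
    (eQ : DRing.toD Q' ≅ DRing.toD (SingleTensor.S0 N)) (i : ℤ) :
    (DRing.tensorCx Q' M).ExactAt i ↔ (DRing.tensorCx P N).ExactAt i := by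
  obtain ⟨R₁, π₁, hR₁, -, hq₁, -⟩ := KProjRes.exists_resolution (SingleTensor.S0 M)
  obtain ⟨R₂, π₂, hR₂, -, hq₂, -⟩ := KProjRes.exists_resolution (SingleTensor.S0 N)
  have h₁ := isKFlat_of_isKProjective R₁
  have h₂ := isKFlat_of_isKProjective R₂
  rw [exactAt_tensor_congr hQ h₂ (eQ ≪≫ (asIso (DerivedCategory.Q.map π₂)).symm) M i,
    exactAt_tensor_congr hP h₁ (eP ≪≫ (asIso (DerivedCategory.Q.map π₁)).symm) N i]
  have := quasiIso_whiskerRight h₂ π₁
  have := quasiIso_whiskerLeft h₁ π₂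
  exact (exactAt_iff_of_quasiIso (SingleTensor.iso M R₂).hom i).trans
    ((exactAt_iff_of_quasiIso (π₁ ▷ R₂) i).symm.trans
      ((exactAt_iff_of_quasiIso (R₁ ◁ π₂) i).trans
        ((exactAt_iff_of_quasiIso (Tensor.braid R₁ (SingleTensor.S0 N)).hom i).trans
          (exactAt_iff_of_quasiIso (SingleTensor.iso N R₁).hom i).symm)))

section Resolution

variable {N : ModuleCat.{u} A} (R : ProjectiveResolution N)

/-- `Q^{-k} ⊗ M ≅ M ⊗ R_k`. -/
noncomputable def resXIso (M : ModuleCat.{u} A) (n : ℤ) (k : ℕ) (h : -(k : ℤ) = n) :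
    (DRing.tensorCx R.cochainComplex M).X n ≅ M ⊗ R.complex.X k :=
  (β_ (R.cochainComplex.X n) M) ≪≫ (tensorLeft M).mapIso (R.cochainComplexXIso n k h)

lemma resXIso_comm (M : ModuleCat.{u} A) (n₁ n₂ : ℤ) (k₁ k₂ : ℕ) (h₁ : -(k₁ : ℤ) = n₁)
    (h₂ : -(k₂ : ℤ) = n₂) :
    (DRing.tensorCx R.cochainComplex M).d n₁ n₂ ≫ (resXIso R M n₂ k₂ h₂).hom =
      (resXIso R M n₁ k₁ h₁).hom ≫ M ◁ R.complex.d k₁ k₂ := by
  change R.cochainComplex.d n₁ n₂ ▷ M ≫ (β_ (R.cochainComplex.X n₂) M).hom ≫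
    M ◁ (R.cochainComplexXIso n₂ k₂ h₂).hom = ((β_ (R.cochainComplex.X n₁) M).hom ≫
      M ◁ (R.cochainComplexXIso n₁ k₁ h₁).hom) ≫ M ◁ R.complex.d k₁ k₂
  rw [BraidedCategory.braiding_naturality_left_assoc, ← MonoidalCategory.whiskerLeft_comp,
    R.cochainComplex_d n₁ n₂ k₁ k₂ h₁ h₂, Category.assoc, Category.assoc,
    Iso.inv_hom_id, Category.comp_id, MonoidalCategory.whiskerLeft_comp, Category.assoc]

lemma subsingleton_tor_iff (M : ModuleCat.{u} A) (k : ℕ) :
    Subsingleton (((CategoryTheory.Tor (ModuleCat.{u} A) (k + 1)).obj M).obj N) ↔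
      (DRing.tensorCx R.cochainComplex M).ExactAt (-((k + 1 : ℕ) : ℤ)) := by
  have e := R.isoLeftDerivedObj (tensorLeft M) (k + 1)
  let C := ((tensorLeft M).mapHomologicalComplex (ComplexShape.down ℕ)).obj R.complex
  have h : Subsingleton (((CategoryTheory.Tor (ModuleCat.{u} A) (k + 1)).obj M).obj N) ↔
      C.ExactAt (k + 1) := by
    rw [HomologicalComplex.exactAt_iff_isZero_homology]
    exact ⟨fun hs => (@ModuleCat.isZero_of_subsingleton A _ _ hs).of_iso e.symm,
      fun hz => ModuleCat.subsingleton_of_isZero (hz.of_iso e)⟩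
  rw [h, C.exactAt_iff' (k + 2) (k + 1) k (by simp) (by simp),
    (DRing.tensorCx R.cochainComplex M).exactAt_iff' (-((k + 2 : ℕ) : ℤ)) (-((k + 1 : ℕ) : ℤ))
      (-(k : ℤ)) (by simp; omega) (by simp)]
  exact (ShortComplex.exact_iff_of_iso (ShortComplex.isoMk (resXIso R M _ (k + 2) rfl)
    (resXIso R M _ (k + 1) rfl) (resXIso R M _ k rfl)
    (resXIso_comm R M _ _ (k + 2) (k + 1) rfl rfl).symm
    (resXIso_comm R M _ _ (k + 1) k rfl rfl).symm)).symm

lemma isKFlat_cochainComplex : IsKFlat R.cochainComplex :=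
  isKFlat_of_projective (b := 0) (fun i hi => CochainComplex.isZero_of_isStrictlyLE _ 0 i hi)
    (fun i => (IsProjective.iff_projective _).2
      (inferInstanceAs (Projective (R.cochainComplex.X i))))

/-- The resolution represents `N[0]`. -/
noncomputable def resIso : DRing.toD R.cochainComplex ≅ DRing.toD (SingleTensor.S0 N) :=
  have h : IsIso (DerivedCategory.Q.map R.π') :=
    (DerivedCategory.isIso_Q_map_iff_quasiIso (C := ModuleCat.{u} A) R.π').2 inferInstance
  @asIso _ _ _ _ (DerivedCategory.Q.map R.π') h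

end Resolution

/-- `M[0]` as the image of the complex. -/
noncomputable def inDS0 (M : Type u) [AddCommGroup M] [Module A M] :
    DRing.toD (SingleTensor.S0 (ModuleCat.of A M)) ≅ Dual.inD A M :=
  ((singleFunctorIsoCompQ (ModuleCat.{u} A) 0).app (ModuleCat.of A M)).symm

/-- Balancing: `Tor_{k+1}(M, N) = 0` through a K-flat resolution of `M`. -/
theorem subsingleton_tor_iff_left {P : DRing.Cx A} (hP : IsKFlat P) {M : Type u} [AddCommGroup M]
    [Module A M] (e : DRing.toD P ≅ Dual.inD A M) (N : Type u) [AddCommGroup N] [Module A N] (k : ℕ) :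
    Subsingleton (DRing.Tor A (k + 1) M N) ↔
      (DRing.tensorCx P (ModuleCat.of A N)).ExactAt (-((k + 1 : ℕ) : ℤ)) := by
  obtain ⟨R⟩ := HasProjectiveResolution.out (Z := ModuleCat.of A N)
  exact (subsingleton_tor_iff R (ModuleCat.of A M) k).trans (exactAt_balance hP
    (isKFlat_cochainComplex R) (e ≪≫ (inDS0 M).symm) (resIso R) _)

/-- Tor dimension of a module is the tor amplitude of `M[0]`. -/
theorem hasTorDimLE_iff (d : ℕ) (M : Type u) [AddCommGroup M] [Module A M] :
    DRing.HasTorDimLE A d M ↔ DRing.HasTorAmplitudeIn A (-(d : ℤ)) 0 (Dual.inD A M) := by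
  obtain ⟨P, hb, hproj, ⟨e⟩⟩ := Trunc.exists_projRep (Dual.inD A M) 0
    (fun i hi => PC.subsingleton_HD_inD A M i (by omega))
  have hP := isKFlat_of_projective hb hproj
  rw [hasTorAmp_iff hP e]
  constructor
  · intro h N i hi
    rcases hi with hi | hi
    · obtain ⟨k, rfl⟩ : ∃ k : ℕ, i = -((k + 1 : ℕ) : ℤ) := ⟨(-i - 1).toNat, by omega⟩
      exact (subsingleton_tor_iff_left hP e N k).1 (h N (k + 1) (by omega))
    · exact ((DRing.tensorCx P N).exactAt_iff i).2
        (ShortComplex.exact_of_isZero_X₂ _ ((tensorRight N).map_isZero (hb i hi)))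
  · intro h N _ _ p hp
    obtain ⟨k, rfl⟩ : ∃ k, p = k + 1 := ⟨p - 1, by omega⟩
    exact (subsingleton_tor_iff_left hP e N k).2 (h (ModuleCat.of A N) _ (Or.inl (by omega)))

theorem hasTorDimLE_zero_iff (M : Type u) [AddCommGroup M] [Module A M] :
    DRing.HasTorDimLE A 0 M ↔ Module.Flat A M := by
  rw [hasTorDimLE_iff]
  exact ⟨fun h => Perfect.flat_of_torAmp (b := 0) (by simpa using h),
    fun _ => by simpa using Perfect.torAmp_of_flat⟩

end Groth.Agent.DRing.TorBalance
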