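import Groth.Agent.DRing.Homology
import Groth.Agent.DRing.KProj
import Mathlib.Algebra.Homology.HomotopyCategory.HomComplexSingle
import Mathlib.Algebra.Category.ModuleCat.FilteredColimits
import Mathlib.Algebra.Category.ModuleCat.Colimits
import Mathlib.Algebra.Category.ModuleCat.Biproducts

/-!
# Bounded above resolutions with terms in a class of modules

Given a complex `K`, exact above `b`, and a class `C` of modules closed under finite sums, such
that at every finite stage the next cone cohomology is covered by a member of `C`, there is a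
quasi-isomorphism to `K` from a complex vanishing above `b` with terms in `C`.
-/

universe u

open CategoryTheory CategoryTheory.Limits CochainComplex CochainComplex.HomComplex

namespace Groth.Agent.DRing.BARes

open Homology KProj

variable {R : Type u} [Ring R] {K : CochainComplex (ModuleCat.{u} R) ℤ}

/-- Exactness of the cone of `α` in degree `i`, elementwise. -/
def ConeExact {E : CochainComplex (ModuleCat.{u} R) ℤ} (α : E ⟶ K) (i : ℤ) : Prop :=
  ∀ (e : E.X (i + 1)) (x : K.X i), IsCyc E (i + 1) e →
    (α.f (i + 1)).hom e + (K.d i (i + 1)).hom x = 0 →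
      ∃ (e' : E.X i) (x' : K.X (i - 1)), -(E.d i (i + 1)).hom e' = e ∧
        (α.f i).hom e' + (K.d (i - 1) i).hom x' = x

section Cone

variable {E : CochainComplex (ModuleCat.{u} R) ℤ} (α : E ⟶ K)

/-- An element of the cone from its two components. -/
noncomputable def pairC (i j : ℤ) (h : i + 1 = j) (e : E.X j) (x : K.X i) :
    (mappingCone α).X i :=
  ((mappingCone.inl α).v j i (by omega)).hom e + ((mappingCone.inr α).f i).hom x

lemma fst_pairC (i j : ℤ) (h : i + 1 = j) (e : E.X j) (x : K.X i) :
    ((mappingCone.fst α).1.v i j h).hom (pairC α i j h e x) = e := by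
  simp only [pairC, map_add, ← LinearMap.comp_apply, ← ModuleCat.hom_comp,
    mappingCone.inl_v_fst_v, mappingCone.inr_f_fst_v, ModuleCat.hom_id, LinearMap.id_apply,
    ModuleCat.hom_zero, LinearMap.zero_apply, add_zero]

lemma snd_pairC (i j : ℤ) (h : i + 1 = j) (e : E.X j) (x : K.X i) :
    ((mappingCone.snd α).v i i (add_zero i)).hom (pairC α i j h e x) = x := by
  simp only [pairC, map_add, ← LinearMap.comp_apply, ← ModuleCat.hom_comp,
    mappingCone.inl_v_snd_v, mappingCone.inr_f_snd_v, ModuleCat.hom_id, LinearMap.id_apply,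
    ModuleCat.hom_zero, LinearMap.zero_apply, zero_add]

lemma ext_cone (i j : ℤ) (h : i + 1 = j) {c c' : (mappingCone α).X i}
    (h₁ : ((mappingCone.fst α).1.v i j h).hom c = ((mappingCone.fst α).1.v i j h).hom c')
    (h₂ : ((mappingCone.snd α).v i i (add_zero i)).hom c =
      ((mappingCone.snd α).v i i (add_zero i)).hom c') : c = c' := by
  have hid := mappingCone.id_X α i j h
  have hc := congrArg (fun f => f.hom c) hid
  have hc' := congrArg (fun f => f.hom c') hid
  simp only [ModuleCat.hom_add, ModuleCat.hom_comp, LinearMap.add_apply, LinearMap.comp_apply,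
    ModuleCat.hom_id, LinearMap.id_apply] at hc hc'
  rw [← hc, ← hc', h₁, h₂]

lemma fst_d (i j k : ℤ) (hij : i + 1 = j) (hjk : j + 1 = k) (c : (mappingCone α).X i) :
    ((mappingCone.fst α).1.v j k hjk).hom (((mappingCone α).d i j).hom c) =
      -(E.d j k).hom (((mappingCone.fst α).1.v i j hij).hom c) := by
  rw [← LinearMap.comp_apply, ← ModuleCat.hom_comp, mappingCone.d_fst_v α i j k hij hjk]
  simp

lemma snd_d (i j : ℤ) (hij : i + 1 = j) (c : (mappingCone α).X i) :
    ((mappingCone.snd α).v j j (add_zero j)).hom (((mappingCone α).d i j).hom c) =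
      (α.f j).hom (((mappingCone.fst α).1.v i j hij).hom c) +
        (K.d i j).hom (((mappingCone.snd α).v i i (add_zero i)).hom c) := by
  rw [← LinearMap.comp_apply, ← ModuleCat.hom_comp, mappingCone.d_snd_v α i j hij]
  simp

lemma isCyc_pairC (i j : ℤ) (h : i + 1 = j) (e : E.X j) (x : K.X i) :
    IsCyc (mappingCone α) i (pairC α i j h e x) ↔
      IsCyc E j e ∧ (α.f j).hom e + (K.d i j).hom x = 0 := by
  subst h
  have h1 := fst_d α i (i + 1) (i + 1 + 1) rfl rfl (pairC α i (i + 1) rfl e x)
  have h2 := snd_d α i (i + 1) rfl (pairC α i (i + 1) rfl e x)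
  rw [fst_pairC] at h1 h2
  rw [snd_pairC] at h2
  unfold IsCyc
  constructor
  · intro hd
    rw [hd, map_zero] at h1 h2
    exact ⟨neg_eq_zero.1 h1.symm, h2.symm⟩
  · rintro ⟨he, hx⟩
    rw [he, neg_zero] at h1
    rw [hx] at h2
    exact ext_cone α (i + 1) (i + 1 + 1) rfl (by rw [h1, map_zero]) (by rw [h2, map_zero])

lemma coneExact_iff_exactAt (i : ℤ) : ConeExact α i ↔ (mappingCone α).ExactAt i := by
  rw [exactAt_iff_forall i (i - 1) (by omega)]
  constructor
  · intro h z hz
    have hz' : z = pairC α i (i + 1) rfl (((mappingCone.fst α).1.v i (i + 1) rfl).hom z)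
        (((mappingCone.snd α).v i i (add_zero i)).hom z) :=
      ext_cone α i (i + 1) rfl (fst_pairC α i (i + 1) rfl _ _).symm (snd_pairC α i (i + 1) rfl _ _).symm
    rw [hz'] at hz
    obtain ⟨he, hx⟩ := (isCyc_pairC α i (i + 1) rfl _ _).1 hz
    obtain ⟨e', x', h1, h2⟩ := h _ _ he hx
    refine ⟨pairC α (i - 1) i (by omega) e' x', ext_cone α i (i + 1) rfl ?_ ?_⟩
    · rw [fst_d α (i - 1) i (i + 1) (by omega) rfl, fst_pairC, h1]
    · rw [snd_d α (i - 1) i (by omega), fst_pairC, snd_pairC, h2]
  · intro h e x he hx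
    obtain ⟨w, hw⟩ := h _ ((isCyc_pairC α i (i + 1) rfl e x).2 ⟨he, hx⟩)
    refine ⟨((mappingCone.fst α).1.v (i - 1) i (by omega)).hom w,
      ((mappingCone.snd α).v (i - 1) (i - 1) (add_zero _)).hom w, ?_, ?_⟩
    · rw [← fst_d α (i - 1) i (i + 1) (by omega) rfl, hw, fst_pairC]
    · rw [← snd_d α (i - 1) i (by omega), hw, snd_pairC]

end Cone

variable (K) (C : ModuleCat.{u} R → Prop) (b : ℤ)

/-- The hypothesis of the construction: the next cone cohomology is covered by a member of `C`. -/
def Step : Prop :=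
  ∀ (m : ℤ) (E : CochainComplex (ModuleCat.{u} R) ℤ) (α : E ⟶ K), m ≤ b + 1 →
    (∀ i, i < m ∨ b < i → IsZero (E.X i)) → (∀ i, C (E.X i)) →
    (∀ i, m ≤ i → (mappingCone α).ExactAt i) →
    ∃ (F : ModuleCat.{u} R) (g : F ⟶ (mappingCone α).X (m - 1)), C F ∧
      g ≫ (mappingCone α).d (m - 1) m = 0 ∧
      ∀ z, IsCyc (mappingCone α) (m - 1) z → ∃ (f : F) (w : (mappingCone α).X (m - 2)),
        g.hom f + ((mappingCone α).d (m - 2) (m - 1)).hom w = z

/-- A stage of the resolution. -/
structure Stage (n : ℕ) : Type (u + 1) where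
  E : CochainComplex (ModuleCat.{u} R) ℤ
  α : E ⟶ K
  vanish : ∀ i, i < b + 1 - n ∨ b < i → IsZero (E.X i)
  mem : ∀ i, C (E.X i)
  exact : ∀ i, b + 1 - n ≤ i → ConeExact α i

variable {K C b}

section Next

variable {n : ℕ} (s : Stage K C b n) (hiso : ∀ {M N : ModuleCat.{u} R}, (M ≅ N) → C M → C N)
  (hzero : ∀ M : ModuleCat.{u} R, IsZero M → C M)
  (hsum : ∀ M N : ModuleCat.{u} R, C M → C N → C (M ⊞ N))
  (hstep : Step K C b)

include hiso hzero hsum hstep in
lemma exists_next : ∃ (s' : Stage K C b (n + 1)) (ι : s.E ⟶ s'.E), ι ≫ s'.α = s.α ∧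
    (∀ i, b + 1 - n ≤ i → IsIso (ι.f i)) ∧ ∀ i, Function.Injective (ι.f i).hom := by
  obtain ⟨m, hm⟩ : ∃ m, m = b + 1 - (n : ℤ) := ⟨_, rfl⟩
  obtain ⟨F, g, hF, hg, hgs⟩ := hstep m s.E s.α (by omega)
    (fun i hi => s.vanish i (by omega)) s.mem
    (fun i hi => (coneExact_iff_exactAt s.α i).1 (s.exact i (by omega)))
  let uE : F ⟶ s.E.X m := g ≫ (mappingCone.fst s.α).1.v (m - 1) m (by omega)
  let vK : F ⟶ K.X (m - 1) := -(g ≫ (mappingCone.snd s.α).v (m - 1) (m - 1) (add_zero _))
  have hu : uE ≫ s.E.d m (m + 1) = 0 := by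
    have := mappingCone.d_fst_v s.α (m - 1) m (m + 1) (by omega) rfl
    have h2 := congrArg (g ≫ ·) this
    simp only [reassoc_of% hg, zero_comp, Preadditive.comp_neg] at h2
    simp only [uE, Category.assoc]
    exact neg_eq_zero.1 h2.symm
  have huv : vK ≫ K.d (m - 1) m = uE ≫ s.α.f m := by
    have := congrArg (g ≫ ·) (mappingCone.d_snd_v s.α (m - 1) m (by omega))
    simp only [reassoc_of% hg, zero_comp, Preadditive.comp_add] at this
    simp only [vK, uE, Preadditive.neg_comp, Category.assoc]
    exact neg_eq_of_add_eq_zero_left this.symm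
  let S := (singleFunctor (ModuleCat.{u} R) m).obj F
  let ψ : S ⟶ s.E := HomologicalComplex.mkHomFromSingle uE (fun k (hk : m + 1 = k) => hk ▸ hu)
  have hψ : ψ.f m = (HomologicalComplex.singleObjXSelf (.up ℤ) m F).hom ≫ uE :=
    HomologicalComplex.mkHomFromSingle_f _ _
  let h : Cochain S K (-1) := Cochain.fromSingleMk vK (show m + (-1) = m - 1 by omega)
  have hh : δ (-1) 0 h = Cochain.ofHom (ψ ≫ s.α) := by
    rw [Cochain.δ_fromSingleMk vK _ 0 m (add_zero m), huv]
    ext p : 1
    by_cases hp : p = m
    · subst hp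
      rw [Cochain.fromSingleMk_v, Cochain.ofHom_v, HomologicalComplex.comp_f, hψ]
      rfl
    · exact (HomologicalComplex.isZero_single_obj_X _ _ _ _ hp).eq_of_src _ _
  have hS : ∀ i, i ≠ m → IsZero (S.X i) := fun i hi =>
    HomologicalComplex.isZero_single_obj_X _ _ _ _ hi
  have hiso' : ∀ i, m ≤ i → Function.Surjective ((mappingCone.inr ψ).f i).hom := by
    intro i hi c
    refine ⟨((mappingCone.snd ψ).v i i (add_zero i)).hom c, ext_cone ψ i (i + 1) rfl ?_ ?_⟩
    · have := ModuleCat.subsingleton_of_isZero (hS (i + 1) (by omega))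
      exact Subsingleton.elim _ _
    · rw [← LinearMap.comp_apply, ← ModuleCat.hom_comp, mappingCone.inr_f_snd_v]; rfl
  have hinj : ∀ i, Function.Injective ((mappingCone.inr ψ).f i).hom := fun i x y hxy => by
    have := congrArg ((mappingCone.snd ψ).v i i (add_zero i)).hom hxy
    rwa [← LinearMap.comp_apply, ← LinearMap.comp_apply, ← ModuleCat.hom_comp,
      mappingCone.inr_f_snd_v] at this
  refine ⟨{ E := mappingCone ψ
            α := mappingCone.desc ψ h s.α hh
            vanish := fun i hi => ?_
            mem := fun i => ?_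
            exact := fun i hi => ?_ }, mappingCone.inr ψ, mappingCone.inr_desc ψ h s.α hh, ?_, hinj⟩
  · rw [mappingCone.isZero_X_iff]
    exact ⟨hS _ (by omega), s.vanish i (by omega)⟩
  · refine hiso (HomologicalComplex.homotopyCofiber.XIsoBiprod ψ i (i + 1) rfl).symm (hsum _ _ ?_ (s.mem i))
    by_cases h' : i + 1 = m
    · rw [h']; exact hiso (HomologicalComplex.singleObjXSelf (.up ℤ) m F).symm hF
    · exact hzero _ (hS _ h')
  · intro e x he hx
    have hdα : ∀ j (y : s.E.X j), ((mappingCone.desc ψ h s.α hh).f j).hom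
        (((mappingCone.inr ψ).f j).hom y) = (s.α.f j).hom y := fun j y => by
      rw [← LinearMap.comp_apply, ← ModuleCat.hom_comp, mappingCone.inr_f_desc_f]
    obtain ⟨e₀, rfl⟩ := hiso' (i + 1) (by omega) e
    have he₀ : IsCyc s.E (i + 1) e₀ := by
      unfold IsCyc at he ⊢
      rw [hom_d] at he
      exact hinj _ (he.trans (map_zero _).symm)
    rw [hdα] at hx
    by_cases hi' : m ≤ i
    · obtain ⟨e', x', h1, h2⟩ := s.exact i (by omega) e₀ x he₀ hx
      refine ⟨((mappingCone.inr ψ).f i).hom e', x', ?_, ?_⟩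
      · rw [hom_d, ← map_neg, h1]
      · rw [hdα, h2]
    · obtain rfl : i = m - 1 := by omega
      let z := pairC s.α (m - 1) (m - 1 + 1) rfl e₀ x
      obtain ⟨f, w, hfw⟩ := hgs z ((isCyc_pairC s.α _ _ rfl e₀ x).2 ⟨he₀, hx⟩)
      let w₀ := ((mappingCone.fst s.α).1.v (m - 2) (m - 1) (by omega)).hom w
      have hw₀ : w₀ = 0 := by
        have := ModuleCat.subsingleton_of_isZero (s.vanish (m - 1) (by omega))
        exact Subsingleton.elim _ _
      have h1 : (uE.hom f) = (s.E.XIsoOfEq (show m - 1 + 1 = m by omega)).hom.hom e₀ := by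
        have := congrArg ((mappingCone.fst s.α).1.v (m - 1) m (by omega)).hom hfw
        rw [map_add, fst_d s.α (m - 2) (m - 1) m (by omega) (by omega)] at this
        change uE.hom f + -(s.E.d (m - 1) m).hom w₀ = _ at this
        rw [hw₀, map_zero, neg_zero, add_zero] at this
        rw [this]
        have key : ∀ (k : ℤ) (hk : m - 1 + 1 = k), ((mappingCone.fst s.α).1.v (m - 1) k hk).hom z =
            (s.E.XIsoOfEq hk).hom.hom e₀ := by
          rintro _ rfl
          rw [fst_pairC]
          rfl
        exact key m (by omega)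
      have h2 : -(vK.hom f) + (K.d (m - 2) (m - 1)).hom
          (((mappingCone.snd s.α).v (m - 2) (m - 2) (add_zero _)).hom w) = x := by
        have := congrArg ((mappingCone.snd s.α).v (m - 1) (m - 1) (add_zero _)).hom hfw
        rw [map_add, snd_d s.α (m - 2) (m - 1) (by omega), snd_pairC] at this
        change _ + ((s.α.f (m - 1)).hom w₀ + _) = x at this
        rw [hw₀, map_zero, zero_add] at this
        rw [← this]
        simp [vK]
      let f' : S.X m := (HomologicalComplex.singleObjXSelf (.up ℤ) m F).inv.hom (-f)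
      have hf' : (HomologicalComplex.singleObjXSelf (.up ℤ) m F).hom.hom f' = -f := by
        simp only [f', ← LinearMap.comp_apply, ← ModuleCat.hom_comp, Iso.inv_hom_id,
          ModuleCat.hom_id, LinearMap.id_apply]
      refine ⟨((mappingCone.inl ψ).v m (m - 1) (by omega)).hom f',
        (K.XIsoOfEq (show m - 2 = m - 1 - 1 by omega)).hom.hom
          (((mappingCone.snd s.α).v (m - 2) (m - 2) (add_zero _)).hom w), ?_, ?_⟩
      · have key : ∀ (k : ℤ) (hk : m = k) (y : s.E.X k),
            (s.E.XIsoOfEq hk).inv.hom y = -(ψ.f m).hom f' →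
            -((mappingCone ψ).d (m - 1) k).hom (((mappingCone.inl ψ).v m (m - 1) (by omega)).hom f')
              = ((mappingCone.inr ψ).f k).hom y := by
          rintro _ rfl y hy
          rw [← LinearMap.comp_apply, ← ModuleCat.hom_comp,
            mappingCone.inl_v_d ψ m (m - 1) (m + 1) (by omega) (by omega)]
          have hd : S.d m (m + 1) = 0 := HomologicalComplex.single_obj_d _ _ _ _ _
          rw [hd, zero_comp, sub_zero, ModuleCat.hom_comp, LinearMap.comp_apply, ← map_neg, ← hy]
          rfl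
        refine key _ (by omega) e₀ ?_
        erw [hψ]
        change _ = -(uE.hom ((HomologicalComplex.singleObjXSelf (.up ℤ) m F).hom.hom f'))
        rw [hf', map_neg, neg_neg, h1]
        rfl
      · rw [← LinearMap.comp_apply, ← ModuleCat.hom_comp, mappingCone.inl_v_desc_f]
        rw [Cochain.fromSingleMk_v]
        change vK.hom ((HomologicalComplex.singleObjXSelf (.up ℤ) m F).hom.hom f') + _ = x
        rw [hf', map_neg,
          ← LinearMap.comp_apply, ← ModuleCat.hom_comp, HomologicalComplex.XIsoOfEq_hom_comp_d]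
        exact h2
  · intro i hi
    rw [ConcreteCategory.isIso_iff_bijective]
    exact ⟨hinj i, hiso' i (by omega)⟩

end Next

/-- Bounded above resolution with terms in `C`. -/
theorem exists_resolution (hK : ∀ i, b < i → K.ExactAt i)
    (hiso : ∀ {M N : ModuleCat.{u} R}, (M ≅ N) → C M → C N)
    (hzero : ∀ M : ModuleCat.{u} R, IsZero M → C M)
    (hsum : ∀ M N : ModuleCat.{u} R, C M → C N → C (M ⊞ N))
    (hstep : Step K C b) :
    ∃ (P : CochainComplex (ModuleCat.{u} R) ℤ) (π : P ⟶ K),
      (∀ i, b < i → IsZero (P.X i)) ∧ (∀ i, C (P.X i)) ∧ QuasiIso π := by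
  let Z : CochainComplex (ModuleCat.{u} R) ℤ := zeroCx fun _ => ModuleCat.of R PUnit.{u + 1}
  have hZ : ∀ i, IsZero (Z.X i) := fun i => ModuleCat.isZero_of_subsingleton _
  let s₀ : Stage K C b 0 :=
    { E := Z
      α := 0
      vanish := fun i _ => hZ i
      mem := fun i => hzero _ (hZ i)
      exact := fun i hi e x _ hx => by
        have := ModuleCat.subsingleton_of_isZero (hZ (i + 1))
        have hx' : IsCyc K i x := by simpa [IsCyc] using hx
        obtain ⟨w, hw⟩ := (exactAt_iff_forall i (i - 1) (by omega)).1 (hK i (by omega)) x hx'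
        exact ⟨0, w, Subsingleton.elim _ _, by simpa using hw⟩ }
  choose nxt ι hια hιiso hιinj using fun (n : ℕ) (s : Stage K C b n) =>
    exists_next s hiso hzero hsum hstep
  let st : ∀ n, Stage K C b n := fun n => Nat.rec s₀ (fun k sk => nxt k sk) n
  let tr : ∀ n, (st n).E ⟶ (st (n + 1)).E := fun n => ι n (st n)
  let P := colimit (Functor.ofSequence tr)
  let π : P ⟶ K := colimit.desc _ (Cocone.mk K (NatTrans.ofSequence (fun n => (st n).α) (fun n => by
    dsimp
    rw [Functor.ofSequence_map_homOfLE_succ]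
    exact (hια n (st n)).trans (Category.comp_id _).symm)))
  have : PreservesFilteredColimitsOfSize.{0, 0} (forget (ModuleCat.{u} R)) :=
    preservesSmallestFilteredColimits_of_preservesFilteredColimits _
  have hπ : ∀ n, incl _ tr n ≫ π = (st n).α := fun n => colimit.ι_desc _ _
  have hrep : ∀ i (x : P.X i), ∃ n y, ((incl _ tr n).f i).hom y = x := fun i x =>
    Concrete.isColimit_exists_rep _
      (isColimitOfPreserves (HomologicalComplex.eval (ModuleCat.{u} R) (.up ℤ) i)
        (colimit.isColimit (Functor.ofSequence tr))) x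
  have hmono : ∀ n k (h : n ≤ k) i, Function.Injective
      (((Functor.ofSequence tr).map (homOfLE h)).f i).hom := by
    intro n k h i
    induction k, h using Nat.le_induction with
    | base => simp [homOfLE_refl, Function.injective_id]
    | succ k hk ih =>
      rw [← homOfLE_comp hk (Nat.le_add_right k 1), Functor.map_comp,
        Functor.ofSequence_map_homOfLE_succ]
      exact (hιinj k (st k) i).comp ih
  have hinj : ∀ n i, Function.Injective ((incl _ tr n).f i).hom := by
    intro n i x y hxy
    obtain ⟨k, f, g, hfg⟩ := Concrete.isColimit_exists_of_rep_eq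
      (Functor.ofSequence tr ⋙ HomologicalComplex.eval (ModuleCat.{u} R) (.up ℤ) i)
      (isColimitOfPreserves (HomologicalComplex.eval (ModuleCat.{u} R) (.up ℤ) i)
        (colimit.isColimit (Functor.ofSequence tr))) x y hxy
    obtain rfl : g = f := Subsingleton.elim _ _
    exact hmono n k (leOfHom g) i hfg
  have hup : ∀ n k (_ : n ≤ k) i (y : (st n).E.X i), ∃ y',
      ((incl _ tr k).f i).hom y' = ((incl _ tr n).f i).hom y := by
    intro n k h i y
    refine ⟨(((Functor.ofSequence tr).map (homOfLE h)).f i).hom y, ?_⟩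
    have hw : (Functor.ofSequence tr).map (homOfLE h) ≫ incl _ tr k = incl _ tr n :=
      colimit.w (Functor.ofSequence tr) (homOfLE h)
    exact congrArg (fun φ : (st n).E ⟶ P => (φ.f i).hom y) hw
  have hsurj : ∀ (n : ℕ) i, b + 1 - (n : ℤ) ≤ i → Function.Surjective ((incl _ tr n).f i).hom := by
    intro n i hi x
    obtain ⟨k, y, rfl⟩ := hrep i x
    obtain ⟨y', hy'⟩ := hup k (max n k) (le_max_right _ _) i y
    have hs : ∀ l (_ : n ≤ l) (z : (st l).E.X i), ∃ z', ((incl _ tr n).f i).hom z' =
        ((incl _ tr l).f i).hom z := by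
      intro l hl
      induction l, hl using Nat.le_induction with
      | base => exact fun z => ⟨z, rfl⟩
      | succ l hl ih =>
        intro z
        obtain ⟨z₁, rfl⟩ := ((ConcreteCategory.isIso_iff_bijective _).1
          (hιiso l (st l) i (by omega))).2 z
        obtain ⟨z', hz'⟩ := ih z₁
        refine ⟨z', hz'.trans ?_⟩
        exact (congrArg (fun φ : (st l).E ⟶ P => (φ.f i).hom z₁) (colimit_ι_succ _ tr l)).symm
    obtain ⟨z', hz'⟩ := hs _ (le_max_left n k) y'
    exact ⟨z', hz'.trans hy'⟩
  refine ⟨P, π, fun i hi => ?_, fun i => ?_, quasiIso_of_bijective π fun i => ?_⟩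
  · have := ModuleCat.subsingleton_of_isZero (hZ i)
    have : Subsingleton (P.X i) := (hsurj 0 i (by omega)).subsingleton
    exact ModuleCat.isZero_of_subsingleton _
  · have : IsIso ((incl _ tr (b + 1 - i).toNat).f i) :=
      (ConcreteCategory.isIso_iff_bijective _).2
        ⟨hinj _ i, hsurj (b + 1 - i).toNat i (by omega)⟩
    exact hiso (asIso ((incl _ tr (b + 1 - i).toNat).f i)) ((st _).mem i)
  · have hstage : ∀ n (j : ℤ) (y : (st n).E.X j),
        (π.f j).hom (((incl _ tr n).f j).hom y) = ((st n).α.f j).hom y := fun n j y =>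
      congrArg (fun φ : (st n).E ⟶ K => (φ.f j).hom y) (hπ n)
    constructor
    · rw [homologyMap_injective_iff π i (i - 1) (by omega)]
      intro e w he hew
      obtain ⟨k, y₀, rfl⟩ := hrep i e
      obtain ⟨y, hy⟩ := hup k (max k (b + 2 - i).toNat) (le_max_left _ _) i y₀
      generalize hn : max k (b + 2 - i).toNat = n at y hy
      have hyc : IsCyc (st n).E i y := by
        rw [← hy] at he
        unfold IsCyc at he
        rw [hom_d] at he
        exact hinj n (i + 1) (he.trans (map_zero _).symm)
      rw [← hy, hstage] at hew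
      have key : ∀ (j : ℤ) (hj : j + 1 = i) (w : K.X j), ((st n).α.f i).hom y = (K.d j i).hom w →
          ∃ e' : P.X j, (P.d j i).hom e' = ((incl _ tr n).f i).hom y := by
        intro j hj v hv
        subst hj
        obtain ⟨e', x', h1, -⟩ := (st n).exact j (by omega) y (-v) hyc (by rw [map_neg, hv, add_neg_cancel])
        exact ⟨-((incl _ tr n).f j).hom e', by rw [map_neg, hom_d, ← map_neg, h1]⟩
      rw [← hy]
      exact key (i - 1) (by omega) w hew
    · rw [homologyMap_surjective_iff π i (i - 1) (by omega)]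
      intro z hz
      obtain ⟨e', x', h1, h2⟩ := (st (b + 1 - i).toNat).exact i (by omega) 0 z (isCyc_zero _)
        (by rw [map_zero, zero_add]; exact hz)
      refine ⟨((incl _ tr (b + 1 - i).toNat).f i).hom e', x', ?_, by rw [hstage, h2]⟩
      unfold IsCyc
      rw [hom_d, neg_eq_zero.1 h1, map_zero]

end Groth.Agent.DRing.BARes
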