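import Groth.Agent.DRing.PseudoCoherent
import Groth.Agent.DRing.BoundedAboveRes
import Mathlib.Algebra.Homology.DerivedCategory.FullyFaithful
import Mathlib.Algebra.Homology.DerivedCategory.SingleTriangle
import Mathlib.Algebra.Module.FinitePresentation

/-!
# Pseudo-coherence tools

`M[0]` and its cohomology, finite free covers of a cohomology module, `pc_of_finite_top`, and
`IsPseudoCoherent' K ↔ ∀ m, IsPseudoCoherent m K`.
-/

universe u

open CategoryTheory CategoryTheory.Limits CategoryTheory.Pretriangulated DerivedCategory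

attribute [local instance] HasDerivedCategory.standard

namespace Groth.Agent.DRing.PC

open DBasic Homology

variable {A : Type u} [CommRing A]

/-- The complex with a single module in degree `n`. -/
noncomputable abbrev sgl (n : ℤ) (M : ModuleCat.{u} A) : DRing.Cx A :=
  (HomologicalComplex.single (ModuleCat.{u} A) (ComplexShape.up ℤ) n).obj M

lemma vanishesOutside_sgl (n : ℤ) (M : ModuleCat.{u} A) :
    DRing.VanishesOutside (sgl n M) n n := fun i hi =>
  HomologicalComplex.isZero_single_obj_X _ _ _ _ (by omega)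

lemma finiteFree_sgl (n : ℤ) {M : ModuleCat.{u} A} (hM : Module.Finite A M ∧ Module.Free A M) :
    DRing.TermwiseFiniteFree (sgl n M) := fun i => by
  by_cases h : i = n
  · subst h
    exact finiteFree_of_iso (HomologicalComplex.singleObjXSelf (ComplexShape.up ℤ) i M).symm hM
  · exact finiteFree_of_isZero (HomologicalComplex.isZero_single_obj_X _ _ _ _ h)

section Cover

variable {K : DRing.Cx A} {i : ℤ}

/-- Cycles as a submodule mapping onto the homology. -/
noncomputable def clsLin (K : DRing.Cx A) (i : ℤ) :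
    LinearMap.ker (K.d i (i + 1)).hom →ₗ[A] K.homology i where
  toFun z := cls z.1 z.2
  map_add' z w := cls_add z.2 w.2
  map_smul' r z := cls_smul z.2 r

lemma clsLin_surjective : Function.Surjective (clsLin K i) := fun x => by
  obtain ⟨z, hz, rfl⟩ := cls_surjective x
  exact ⟨⟨z, hz⟩, rfl⟩

/-- A finite homology module is covered by cycles from a finite free module. -/
lemma exists_cover (K : DRing.Cx A) (i j k : ℤ) (hij : j + 1 = i) (hik : i + 1 = k)
    (hfin : Module.Finite A (K.homology i)) :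
    ∃ (F : ModuleCat.{u} A) (g : F ⟶ K.X i), (Module.Finite A F ∧ Module.Free A F) ∧
      g ≫ K.d i k = 0 ∧
      ∀ z, IsCyc K i z → ∃ (f : F) (w : K.X j), g.hom f + (K.d j i).hom w = z := by
  subst hik
  obtain ⟨n, q, hq⟩ := Module.Finite.exists_fin' A (K.homology i)
  obtain ⟨l, hl⟩ := Module.projective_lifting_property (clsLin K i) q clsLin_surjective
  refine ⟨ModuleCat.of A (Fin n → A),
    ModuleCat.ofHom ((LinearMap.ker (K.d i (i + 1)).hom).subtype.comp l),
    ⟨inferInstanceAs (Module.Finite A (Fin n → A)), inferInstanceAs (Module.Free A (Fin n → A))⟩,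
    ModuleCat.hom_ext (LinearMap.ext fun x => (l x).2), fun z hz => ?_⟩
  obtain ⟨f, hf⟩ := hq (cls z hz)
  have : cls (l f).1 (l f).2 = cls z hz := (LinearMap.congr_fun hl f).trans hf
  obtain ⟨w, hw⟩ := (cls_eq_iff j hij (l f).2 hz).1 this
  refine ⟨f, -w, ?_⟩
  rw [map_neg, hw]
  change (l f).1 + -((l f).1 - z) = z
  abel

end Cover

/-- Surjecting onto a finite cohomology module by a shifted finite free module. -/
lemma exists_sgl_epi (K : Dual.D A) (i : ℤ) (hfin : Module.Finite A (Dual.HD A K i)) :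
    ∃ (F : ModuleCat.{u} A) (α : DRing.toD (sgl i F) ⟶ K),
      (Module.Finite A F ∧ Module.Free A F) ∧ Epi ((HF i).map α) := by
  obtain ⟨P, _, -, ⟨e⟩⟩ := exists_kproj_iso K
  have : Module.Finite A (P.homology i) :=
    Module.Finite.equiv (((HF i).mapIso e).symm ≪≫ hIso P i).toLinearEquiv
  obtain ⟨F, g, hF, hg, hgs⟩ := exists_cover P i (i - 1) (i + 1) (by omega) rfl this
  let ψ : sgl i F ⟶ P := HomologicalComplex.mkHomFromSingle g
    (fun k (hk : i + 1 = k) => by subst hk; exact hg)
  refine ⟨F, Q.map ψ ≫ e.hom, hF, ?_⟩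
  have hs : Function.Surjective (HomologicalComplex.homologyMap ψ i).hom := by
    rw [homologyMap_surjective_iff ψ i (i - 1) (by omega)]
    intro z hz
    obtain ⟨f, w, hfw⟩ := hgs z hz
    refine ⟨(HomologicalComplex.singleObjXSelf (ComplexShape.up ℤ) i F).inv.hom f, w, ?_, ?_⟩
    · have hd : (sgl i F).d i (i + 1) = 0 := HomologicalComplex.single_obj_d _ _ _ _ _
      unfold IsCyc
      rw [hd]; rfl
    · rw [show ψ.f i = (HomologicalComplex.singleObjXSelf (ComplexShape.up ℤ) i F).hom ≫ g from
        HomologicalComplex.mkHomFromSingle_f _ _]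
      change g.hom ((HomologicalComplex.singleObjXSelf (ComplexShape.up ℤ) i F).hom.hom
        ((HomologicalComplex.singleObjXSelf (ComplexShape.up ℤ) i F).inv.hom f)) + _ = z
      rw [← LinearMap.comp_apply (f := (HomologicalComplex.singleObjXSelf _ i F).hom.hom),
        ← ModuleCat.hom_comp, Iso.inv_hom_id]
      exact hfw
  rw [Functor.map_comp, HF_map_Q_eq]
  have : Epi (HomologicalComplex.homologyMap ψ i) := (ModuleCat.epi_iff_surjective _).2 hs
  infer_instance

/-- `H^{>m} = 0` and `H^m` finite imply `m`-pseudo-coherence. -/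
lemma pc_of_finite_top {m : ℤ} {K : Dual.D A}
    (hv : ∀ i, m < i → Subsingleton (Dual.HD A K i)) (hfin : Module.Finite A (Dual.HD A K m)) :
    DRing.IsPseudoCoherent A m K := by
  obtain ⟨F, α, hF, hα⟩ := exists_sgl_epi K m hfin
  refine isPseudoCoherent_of_approx α (vanishesOutside_sgl m F) (finiteFree_sgl m hF)
    ⟨fun i hi => isIso_of_source_target_iso_zero _ (IsZero.isoZero ?_) (IsZero.isoZero ?_), hα⟩
  · refine IsZero.of_iso ?_ (hIso (sgl m F) i)
    exact ((HomologicalComplex.exactAt_single_obj _ _ _ _ (by omega))).isZero_homology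
  · exact (subsingleton_HD_iff_isZero K i).1 (hv i hi)

lemma pc_of_bounded {E : DRing.Cx A} {a b : ℤ} (hE : DRing.VanishesOutside E a b)
    (hf : DRing.TermwiseFiniteFree E) (m : ℤ) : DRing.IsPseudoCoherent A m (DRing.toD E) :=
  isPseudoCoherent_of_approx (𝟙 _) hE hf (isApprox_of_isIso _ m)

/-- `m`-pseudo-coherent for all `m` and `H^{>b} = 0`: a finite free representative vanishing above `b`. -/
theorem exists_finiteFree_rep {K : Dual.D A} (h : ∀ m, DRing.IsPseudoCoherent A m K) {b : ℤ}
    (hb : ∀ i, b < i → Subsingleton (Dual.HD A K i)) :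
    ∃ E : DRing.Cx A, DRing.VanishesAbove E b ∧ DRing.TermwiseFiniteFree E ∧
      Nonempty (DRing.toD E ≅ K) := by
  obtain ⟨P, _, -, ⟨e⟩⟩ := exists_kproj_iso K
  have hK : ∀ i, b < i → P.ExactAt i := fun i hi => by
    rw [HomologicalComplex.exactAt_iff_isZero_homology, ← subsingleton_HD_toD_iff,
      subsingleton_HD_congr e]
    exact hb i hi
  obtain ⟨E, π, hEb, hEf, hπ⟩ := BARes.exists_resolution (K := P)
    (C := fun M => Module.Finite A M ∧ Module.Free A M) (b := b) hK
    (fun e h => finiteFree_of_iso e h) (fun M hM => finiteFree_of_isZero hM)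
    (fun M N hM hN => finiteFree_biprod hM hN) (fun m E α hm hE hf hex => by
      have hT := DerivedCategory.mappingCone_triangle_distinguished α
      have h2 : DRing.IsPseudoCoherent A (m - 1)
          (DRing.toD (CochainComplex.mappingCone α)) :=
        pc_cone hT (pc_of_bounded (a := m) (b := b) hE hf _) (pc_of_iso e.symm (h _))
      have hv : ∀ i, m - 1 < i →
          Subsingleton (Dual.HD A (DRing.toD (CochainComplex.mappingCone α)) i) := fun i hi => by
        rw [subsingleton_HD_toD_iff, ← HomologicalComplex.exactAt_iff_isZero_homology]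
        exact hex i (by omega)
      have := finite_top h2 hv
      have : Module.Finite A ((CochainComplex.mappingCone α).homology (m - 1)) :=
        Module.Finite.equiv (hIso (CochainComplex.mappingCone α) (m - 1)).toLinearEquiv
      exact exists_cover _ (m - 1) (m - 2) m (by omega) (by omega) this)
  exact ⟨E, hEb, hEf, ⟨asIso (Q.map π) ≪≫ e⟩⟩

/-- Pseudo-coherent means `m`-pseudo-coherent for all `m`. -/
theorem pc'_iff (K : Dual.D A) :
    DRing.IsPseudoCoherent' A K ↔ ∀ m, DRing.IsPseudoCoherent A m K := by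
  constructor
  · rintro ⟨E, b, hb, hf, ⟨e⟩⟩ m
    refine pc_of_iso e (isPseudoCoherent_of_approx (Q.map (KFlat.sigmaGEι E m))
      (vanishesOutside_sigmaGE hb m) (finiteFree_sigmaGE hf m) (isApprox_sigmaGEι E m))
  · intro h
    obtain ⟨b, hb⟩ := pc_boundedAbove (h 0)
    obtain ⟨E, h1, h2, h3⟩ := exists_finiteFree_rep h hb
    exact ⟨E, b, h1, h2, h3⟩

section Prime

lemma pc'_of_iso {K L : Dual.D A} (e : K ≅ L) (h : DRing.IsPseudoCoherent' A K) :
    DRing.IsPseudoCoherent' A L := by
  obtain ⟨E, b, hb, hf, ⟨f⟩⟩ := h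
  exact ⟨E, b, hb, hf, ⟨f ≪≫ e⟩⟩

variable {T : Triangle (Dual.D A)}

lemma pc'_cone (hT : T ∈ distinguishedTriangles)
    (h₁ : DRing.IsPseudoCoherent' A T.obj₁) (h₂ : DRing.IsPseudoCoherent' A T.obj₂) :
    DRing.IsPseudoCoherent' A T.obj₃ :=
  (pc'_iff _).2 fun m => pc_cone hT ((pc'_iff _).1 h₁ _) ((pc'_iff _).1 h₂ _)

lemma pc'_middle (hT : T ∈ distinguishedTriangles)
    (h₁ : DRing.IsPseudoCoherent' A T.obj₁) (h₃ : DRing.IsPseudoCoherent' A T.obj₃) :
    DRing.IsPseudoCoherent' A T.obj₂ :=
  (pc'_iff _).2 fun m => pc_middle hT ((pc'_iff _).1 h₁ _) ((pc'_iff _).1 h₃ _)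

lemma pc'_first (hT : T ∈ distinguishedTriangles)
    (h₂ : DRing.IsPseudoCoherent' A T.obj₂) (h₃ : DRing.IsPseudoCoherent' A T.obj₃) :
    DRing.IsPseudoCoherent' A T.obj₁ :=
  (pc'_iff _).2 fun m => by
    have := pc_first (m := m - 1) hT ((pc'_iff _).1 h₂ _) ((pc'_iff _).1 h₃ _)
    rwa [sub_add_cancel] at this

lemma pc'_shift {K : Dual.D A} (h : DRing.IsPseudoCoherent' A K) (n : ℤ) :
    DRing.IsPseudoCoherent' A ((shiftFunctor (Dual.D A) n).obj K) :=
  (pc'_iff _).2 fun _ => pc_shift ((pc'_iff _).1 h _) n _ rfl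

lemma pc'_of_biprod {K L : Dual.D A} [HasBinaryBiproduct K L]
    (h : DRing.IsPseudoCoherent' A (K ⊞ L)) :
    DRing.IsPseudoCoherent' A K ∧ DRing.IsPseudoCoherent' A L :=
  ⟨(pc'_iff _).2 fun m => (pc_of_biprod ((pc'_iff _).1 h m)).1,
    (pc'_iff _).2 fun m => (pc_of_biprod ((pc'_iff _).1 h m)).2⟩

end Prime

section Modules

variable (A) (M : Type u) [AddCommGroup M] [Module A M]

/-- `H^0(M[0]) ≅ M`. -/
noncomputable def inDIso : (HF 0).obj (Dual.inD A M) ≅ ModuleCat.of A M :=
  (singleFunctorCompHomologyFunctorIso (ModuleCat.{u} A) 0).app (ModuleCat.of A M)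

/-- `H^0(M[0])` as a linear equivalence. -/
noncomputable def inDEquiv : Dual.HD A (Dual.inD A M) 0 ≃ₗ[A] M := (inDIso A M).toLinearEquiv

lemma subsingleton_HD_inD (i : ℤ) (hi : i ≠ 0) : Subsingleton (Dual.HD A (Dual.inD A M) i) := by
  rcases lt_or_gt_of_ne hi with h | h
  · exact (subsingleton_HD_iff_isZero _ _).2 (isZero_of_isGE _ 0 i h)
  · exact (subsingleton_HD_iff_isZero _ _).2 (isZero_of_isLE _ 0 i h)

lemma pcModule_of_pos {m : ℤ} (hm : 0 < m) : DRing.IsPseudoCoherentModule A m M :=
  pc_of_vanishGE fun i hi => subsingleton_HD_inD A M i (by omega)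

variable {A M}

lemma pcModule_zero_iff : DRing.IsPseudoCoherentModule A 0 M ↔ Module.Finite A M := by
  constructor
  · intro h
    have := finite_top h fun i hi => subsingleton_HD_inD A M i (by omega)
    exact Module.Finite.equiv (inDEquiv A M)
  · intro h
    exact pc_of_finite_top (fun i hi => subsingleton_HD_inD A M i (by omega))
      (Module.Finite.equiv (inDEquiv A M).symm)

lemma pcModule'_of_finiteFree [Module.Finite A M] [Module.Free A M] :
    DRing.IsPseudoCoherentModule' A M :=
  ⟨sgl 0 (ModuleCat.of A M), 0, fun i hi => vanishesOutside_sgl 0 _ i (Or.inr hi),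
    finiteFree_sgl 0 ⟨‹_›, ‹_›⟩,
    ⟨((singleFunctorIsoCompQ (ModuleCat.{u} A) 0).app _).symm⟩⟩

/-- The triangle of a short exact sequence of modules. -/
lemma exists_triangle_of_surjective {N : Type u} [AddCommGroup N] [Module A N] (f : M →ₗ[A] N)
    (hf : Function.Surjective f) :
    ∃ T : Triangle (Dual.D A), T ∈ distinguishedTriangles ∧
      T.obj₁ = Dual.inD A (LinearMap.ker f) ∧ T.obj₂ = Dual.inD A M ∧ T.obj₃ = Dual.inD A N := by
  let S : ShortComplex (ModuleCat.{u} A) :=
    .moduleCatMk (LinearMap.ker f).subtype f (LinearMap.ext fun x => x.2)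
  have hS : S.ShortExact :=
    { exact := by
        rw [ShortComplex.moduleCat_exact_iff_range_eq_ker]
        exact Submodule.range_subtype _
      mono_f := (ModuleCat.mono_iff_injective _).2 (Submodule.subtype_injective _)
      epi_g := (ModuleCat.epi_iff_surjective _).2 hf }
  exact ⟨hS.singleTriangle, hS.singleTriangle_distinguished, rfl, rfl, rfl⟩

/-- `M` is `(m-1)`-pseudo-coherent iff the kernel of a finite free cover is `m`-pseudo-coherent. -/
lemma pcModule_step_iff {F : Type u} [AddCommGroup F] [Module A F] [Module.Finite A F]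
    [Module.Free A F] (f : F →ₗ[A] M) (hf : Function.Surjective f) (m : ℤ) :
    DRing.IsPseudoCoherentModule A (m - 1) M ↔
      DRing.IsPseudoCoherentModule A m (LinearMap.ker f) := by
  obtain ⟨T, hT, h1, h2, h3⟩ := exists_triangle_of_surjective f hf
  have hF : ∀ k, DRing.IsPseudoCoherent A k T.obj₂ := by
    rw [h2]; exact (pc'_iff _).1 pcModule'_of_finiteFree
  unfold DRing.IsPseudoCoherentModule
  rw [← h1, ← h3]
  constructor
  · intro h
    have := pc_first (m := m - 1) hT (hF _) h
    rwa [sub_add_cancel] at this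
  · intro h
    exact pc_cone hT (by rwa [sub_add_cancel]) (hF _)

lemma pcModule_negOne_iff :
    DRing.IsPseudoCoherentModule A (-1) M ↔ Module.FinitePresentation A M := by
  constructor
  · intro h
    have := pcModule_zero_iff.1 (pc_mono h (show (-1 : ℤ) ≤ 0 by omega))
    obtain ⟨n, f, hf⟩ := Module.Finite.exists_fin' A M
    have h2 := pcModule_zero_iff.1 ((pcModule_step_iff f hf 0).1 (by simpa using h))
    exact Module.finitePresentation_of_surjective f hf (Module.Finite.iff_fg.1 h2)
  · intro h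
    obtain ⟨n, f, hf⟩ := Module.Finite.exists_fin' A M
    have h2 : Module.Finite A (LinearMap.ker f) :=
      Module.Finite.iff_fg.2 (Module.FinitePresentation.fg_ker f hf)
    simpa using (pcModule_step_iff f hf 0).2 (pcModule_zero_iff.2 h2)

end Modules

end Groth.Agent.DRing.PC
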