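import Groth.Agent.DRing.Braid
import Mathlib.Algebra.Homology.HomotopyCategory.MappingCone

/-!
# The total tensor product commutes with mapping cones in the first variable
-/

universe u

open CategoryTheory CategoryTheory.Limits MonoidalCategory CochainComplex HomComplex

namespace Groth.Agent.DRing.ConeTensor

open Tensor (ιT ιT_d)

variable {R : Type u} [CommRing R]

@[reassoc]
lemma ιT_whiskerRight {E E' : CochainComplex (ModuleCat.{u} R) ℤ} (g : E ⟶ E')
    (L : CochainComplex (ModuleCat.{u} R) ℤ) (p q n : ℤ) (h : p + q = n) :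
    ιT E L p q n h ≫ (g ▷ L).f n = g.f p ▷ L.X q ≫ ιT E' L p q n h := by
  refine (HomologicalComplex.ι_mapBifunctorMap _ _ _ _ p q n h).trans ?_
  simp

lemma neg_whiskerRight {X Y : ModuleCat.{u} R} (f : X ⟶ Y) (Z : ModuleCat.{u} R) :
    (-f) ▷ Z = -(f ▷ Z) :=
  (tensorRight Z).map_neg

variable {E E' : CochainComplex (ModuleCat.{u} R) ℤ} (φ : E ⟶ E')
  (L : CochainComplex (ModuleCat.{u} R) ℤ)

/-- The shifted inclusion, tensored. -/
noncomputable def α (n n' : ℤ) (hn : n + 1 = n') :
    (E ⊗ L).X n' ⟶ (mappingCone φ ⊗ L).X n :=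
  HomologicalComplex.mapBifunctorDesc fun p q h =>
    (mappingCone.inl φ).v p (p - 1) (by omega) ▷ L.X q ≫ ιT (mappingCone φ) L (p - 1) q n
      (by change p + q = n' at h; omega)

/-- The components of the comparison. -/
noncomputable def Ψ (n : ℤ) : (mappingCone φ ⊗ L).X n ⟶ (mappingCone (φ ▷ L)).X n :=
  HomologicalComplex.mapBifunctorDesc fun p q h =>
    (mappingCone.fst φ).1.v p (p + 1) rfl ▷ L.X q ≫ ιT E L (p + 1) q (n + 1)
        (by change p + q = n at h; omega) ≫ (mappingCone.inl (φ ▷ L)).v (n + 1) n (by omega) +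
      (mappingCone.snd φ).v p p (add_zero p) ▷ L.X q ≫ ιT E' L p q n h ≫
        (mappingCone.inr (φ ▷ L)).f n

@[reassoc]
lemma ιT_α (p p' q n n' : ℤ) (hn : n + 1 = n') (hp : p' + 1 = p) (h : p + q = n') :
    ιT E L p q n' h ≫ α φ L n n' hn =
      (mappingCone.inl φ).v p p' (by omega) ▷ L.X q ≫
        ιT (mappingCone φ) L p' q n (by omega) := by
  obtain rfl : p' = p - 1 := by omega
  exact HomologicalComplex.ι_mapBifunctorDesc _ _ _ _

@[reassoc]
lemma ιT_Ψ (p p' q n n' : ℤ) (hn : n + 1 = n') (hp : p + 1 = p') (h : p + q = n) :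
    ιT (mappingCone φ) L p q n h ≫ Ψ φ L n =
      (mappingCone.fst φ).1.v p p' hp ▷ L.X q ≫ ιT E L p' q n' (by omega) ≫
          (mappingCone.inl (φ ▷ L)).v n' n (by omega) +
        (mappingCone.snd φ).v p p (add_zero p) ▷ L.X q ≫ ιT E' L p q n h ≫
          (mappingCone.inr (φ ▷ L)).f n := by
  subst hn hp
  exact HomologicalComplex.ι_mapBifunctorDesc _ _ _ _

/-- The inverse components. -/
noncomputable def Φ (n : ℤ) : (mappingCone (φ ▷ L)).X n ⟶ (mappingCone φ ⊗ L).X n :=
  (mappingCone.fst (φ ▷ L)).1.v n (n + 1) rfl ≫ α φ L n (n + 1) rfl +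
    (mappingCone.snd (φ ▷ L)).v n n (add_zero n) ≫ (mappingCone.inr φ ▷ L).f n

lemma Ψ_Φ (n : ℤ) : Ψ φ L n ≫ Φ φ L n = 𝟙 _ := by
  refine Tensor.hom_ext fun p q h => ?_
  rw [ιT_Ψ_assoc φ L p (p + 1) q n (n + 1) rfl rfl h, Category.comp_id, Φ]
  simp only [Preadditive.add_comp, Preadditive.comp_add, Category.assoc,
    mappingCone.inl_v_fst_v_assoc, mappingCone.inl_v_snd_v_assoc, mappingCone.inr_f_fst_v_assoc,
    mappingCone.inr_f_snd_v_assoc, zero_comp, comp_zero, add_zero, zero_add]
  rw [ιT_α φ L (p + 1) p q n (n + 1) rfl rfl, ιT_whiskerRight, ← comp_whiskerRight_assoc,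
    ← comp_whiskerRight_assoc, ← Preadditive.add_comp, ← MonoidalPreadditive.add_whiskerRight,
    mappingCone.id_X, id_whiskerRight, Category.id_comp]

lemma Φ_Ψ (n : ℤ) : Φ φ L n ≫ Ψ φ L n = 𝟙 _ := by
  refine mappingCone.ext_from _ (n + 1) n rfl ?_ ?_
  · simp only [Φ, Preadditive.add_comp, Preadditive.comp_add, Category.assoc,
      mappingCone.inl_v_fst_v_assoc, mappingCone.inl_v_snd_v_assoc, zero_comp, add_zero, Category.comp_id]
    refine Tensor.hom_ext fun p q h => ?_
    obtain ⟨p', rfl⟩ : ∃ p', p = p' + 1 := ⟨p - 1, by omega⟩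
    rw [ιT_α_assoc φ L (p' + 1) p' q n (n + 1) rfl rfl, ιT_Ψ φ L p' (p' + 1) q n (n + 1) rfl rfl]
    simp only [Preadditive.comp_add, ← comp_whiskerRight_assoc, mappingCone.inl_v_fst_v,
      mappingCone.inl_v_snd_v, id_whiskerRight, MonoidalPreadditive.zero_whiskerRight, zero_comp,
      Category.id_comp, add_zero]
  · simp only [Φ, Preadditive.add_comp, Preadditive.comp_add, Category.assoc,
      mappingCone.inr_f_fst_v_assoc, mappingCone.inr_f_snd_v_assoc, zero_comp, zero_add, Category.comp_id]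
    refine Tensor.hom_ext fun p q h => ?_
    rw [ιT_whiskerRight_assoc, ιT_Ψ φ L p (p + 1) q n (n + 1) rfl rfl h]
    simp only [Preadditive.comp_add, ← comp_whiskerRight_assoc, mappingCone.inr_f_fst_v,
      mappingCone.inr_f_snd_v, id_whiskerRight, MonoidalPreadditive.zero_whiskerRight, zero_comp,
      Category.id_comp, zero_add]

/-- The total tensor product commutes with mapping cones in the first variable. -/
noncomputable def iso : mappingCone φ ⊗ L ≅ mappingCone (φ ▷ L) :=
  HomologicalComplex.Hom.isoOfComponents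
    (fun n => ⟨Ψ φ L n, Φ φ L n, Ψ_Φ φ L n, Φ_Ψ φ L n⟩)
    (fun n n' (hn : n + 1 = n') => by
      refine Tensor.hom_ext fun p q h => ?_
      dsimp only
      rw [ιT_Ψ_assoc φ L p (p + 1) q n n' hn rfl h, ← Category.assoc (ιT _ L p q n h),
        ιT_d p q n n' h hn]
      simp only [Preadditive.add_comp, Category.assoc, Linear.units_smul_comp,
        ιT_Ψ φ L (p + 1) (p + 1 + 1) q n' (n' + 1) rfl rfl,
        ιT_Ψ φ L p (p + 1) (q + 1) n' (n' + 1) rfl rfl]
      refine mappingCone.ext_to _ n' (n' + 1) rfl ?_ ?_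
      · simp only [Preadditive.add_comp, Preadditive.comp_add, Category.assoc, Linear.units_smul_comp,
          mappingCone.inl_v_fst_v, mappingCone.inr_f_fst_v, mappingCone.d_fst_v (φ ▷ L) n n' (n' + 1) hn rfl,
          mappingCone.inl_v_fst_v_assoc, mappingCone.inr_f_fst_v_assoc, Preadditive.neg_comp,
          Preadditive.comp_neg, comp_zero, zero_comp, neg_zero, add_zero, Category.comp_id, smul_zero]
        rw [ιT_d (p + 1) q n' (n' + 1) (by omega) rfl, ← comp_whiskerRight_assoc,
          mappingCone.d_fst_v φ p (p + 1) (p + 1 + 1) rfl rfl]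
        simp only [Preadditive.comp_add, Linear.comp_units_smul, comp_whiskerRight,
          neg_whiskerRight, Preadditive.neg_comp, neg_add, whisker_exchange_assoc,
          Category.assoc, Int.negOnePow_succ, Units.neg_smul, neg_neg, Preadditive.comp_neg, Linear.comp_units_smul]
      · simp only [Preadditive.add_comp, Preadditive.comp_add, Category.assoc, Linear.units_smul_comp,
          mappingCone.inl_v_snd_v, mappingCone.inr_f_snd_v, mappingCone.d_snd_v (φ ▷ L) n n' hn,
          mappingCone.inl_v_fst_v_assoc, mappingCone.inr_f_fst_v_assoc, mappingCone.inl_v_snd_v_assoc,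
          mappingCone.inr_f_snd_v_assoc, comp_zero, zero_comp, add_zero, zero_add, Category.comp_id]
        rw [ιT_whiskerRight φ L (p + 1) q n' (by omega), ιT_d p q n n' h hn, ← comp_whiskerRight_assoc,
          ← comp_whiskerRight_assoc, mappingCone.d_snd_v φ p (p + 1) rfl]
        simp only [Preadditive.comp_add, Linear.comp_units_smul, comp_whiskerRight,
          MonoidalPreadditive.add_whiskerRight, Preadditive.add_comp, whisker_exchange_assoc,
          Category.assoc]
        abel)

end Groth.Agent.DRing.ConeTensor
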