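import Groth.Agent.DRing.PCBaseChange
import Mathlib.Algebra.Category.ModuleCat.Descent
import Mathlib.Algebra.Homology.ShortComplex.ExactFunctor
import Mathlib.RingTheory.TensorProduct.Finite

/-!
# Descent of `m`-pseudo-coherence along jointly faithfully flat families
-/

universe u

open CategoryTheory CategoryTheory.Limits CategoryTheory.Pretriangulated DerivedCategory TensorProduct

attribute [local instance] HasDerivedCategory.standard

namespace Groth.Agent.DRing.PCDescent

open DBasic Homology PC

variable {A B : Type u} [CommRing A] [CommRing B] (φ : A →+* B)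

/-- Homology commutes with flat extension of scalars. -/
noncomputable def homologyExtIso (hφ : φ.Flat) (P : DRing.Cx A) (i : ℤ) :
    ((LTensor.extCx φ).obj P).homology i ≅
      (ModuleCat.extendScalars.{u, u, u} φ).obj (P.homology i) :=
  have := ModuleCat.preservesFiniteLimits_extendScalars_of_flat hφ
  have := (ModuleCat.extendRestrictScalarsAdj.{u} φ).leftAdjoint_preservesColimits
  (P.sc i).mapHomologyIso (ModuleCat.extendScalars.{u, u, u} φ)

/-- Modules detected by a jointly faithfully flat family. -/
def Detects {ι : Type} {B : ι → Type u} [∀ i, CommRing (B i)] (φ : ∀ i, A →+* B i) : Prop :=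
  ∀ M : ModuleCat.{u} A, (∀ i, Subsingleton ((ModuleCat.extendScalars.{u, u, u} (φ i)).obj M)) →
    Subsingleton M

variable {ι : Type} [Fintype ι] {B' : ι → Type u} [∀ i, CommRing (B' i)] {ψ : ∀ i, A →+* B' i}

theorem finite_of_detects (hd : Detects ψ) (M : ModuleCat.{u} A)
    (h : ∀ i, Module.Finite (B' i) ((ModuleCat.extendScalars.{u, u, u} (ψ i)).obj M)) :
    Module.Finite A M := by
  classical
  have h1 : ∀ i, ∃ s : Finset M,
      letI := (ψ i).toAlgebra
      Submodule.span (B' i) ((fun m : M => (1 : B' i) ⊗ₜ[A] m) '' (s : Set M)) = ⊤ := by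
    intro i
    letI := (ψ i).toAlgebra
    haveI : Module.Finite (B' i) (B' i ⊗[A] M) := h i
    obtain ⟨T, hT⟩ := (Module.Finite.fg_top : (⊤ : Submodule (B' i) (B' i ⊗[A] M)).FG)
    choose S hS using fun t : T => TensorProduct.exists_finset (t : B' i ⊗[A] M)
    refine ⟨T.attach.biUnion fun t => (S t).image Prod.snd, eq_top_iff.mpr ?_⟩
    rw [← hT, Submodule.span_le]
    intro t ht
    rw [SetLike.mem_coe, show t = _ from hS ⟨t, ht⟩]
    refine Submodule.sum_mem _ fun p hp => ?_
    rw [show p.1 ⊗ₜ[A] p.2 = p.1 • ((1 : B' i) ⊗ₜ[A] p.2) by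
      rw [TensorProduct.smul_tmul', smul_eq_mul, mul_one]]
    refine Submodule.smul_mem _ _ (Submodule.subset_span ⟨p.2, ?_, rfl⟩)
    exact Finset.mem_coe.mpr (Finset.mem_biUnion.mpr
      ⟨⟨t, ht⟩, Finset.mem_attach _ _, Finset.mem_image_of_mem _ hp⟩)
  choose s hs using h1
  let N : Submodule A M := Submodule.span A ((Finset.univ.biUnion s : Finset M) : Set M)
  have hN : Subsingleton (ModuleCat.of A (M ⧸ N)) := hd _ fun i => by
    letI := (ψ i).toAlgebra
    show Subsingleton (B' i ⊗[A] (M ⧸ N))
    refine subsingleton_of_forall_eq 0 fun z => ?_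
    obtain ⟨w, rfl⟩ := LinearMap.lTensor_surjective (B' i) N.mkQ_surjective z
    have hw : w ∈ Submodule.span (B' i) ((fun m : M => (1 : B' i) ⊗ₜ[A] m) '' (s i : Set M)) :=
      (hs i).symm ▸ Submodule.mem_top
    induction hw using Submodule.span_induction with
    | mem x hx =>
      obtain ⟨m, hm, rfl⟩ := hx
      rw [LinearMap.lTensor_tmul, Submodule.mkQ_apply, (Submodule.Quotient.mk_eq_zero N).mpr
        (Submodule.subset_span (Finset.mem_coe.mpr
          (Finset.mem_biUnion.mpr ⟨i, Finset.mem_univ _, Finset.mem_coe.mp hm⟩))), TensorProduct.tmul_zero]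
    | zero => exact map_zero _
    | add x y _ _ hx hy => rw [map_add, hx, hy, add_zero]
    | smul r x _ hx =>
      rw [← LinearMap.baseChange_eq_ltensor] at hx ⊢
      rw [map_smul, hx, smul_zero]
  have : N = ⊤ := by
    have : Subsingleton (M ⧸ N) := hN
    exact Submodule.Quotient.subsingleton_iff.mp this
  exact ⟨⟨_, this⟩⟩

/-- Descent of `m`-pseudo-coherence. -/
theorem pc_of_detects (hψ : ∀ i, (ψ i).Flat) (hd : Detects ψ) (K : DRing.Cx A) (m : ℤ)
    (hK : ∀ i, DRing.IsPseudoCoherent (B' i) m (DRing.toD ((LTensor.extCx (ψ i)).obj K))) :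
    DRing.IsPseudoCoherent A m (DRing.toD K) := by
  classical
  have hom : ∀ (P : DRing.Cx A) (j : ℤ), (∀ i, Subsingleton
      (Dual.HD (B' i) (DRing.toD ((LTensor.extCx (ψ i)).obj P)) j)) →
      Subsingleton (Dual.HD A (DRing.toD P) j) := fun P j h => by
    have : Subsingleton (P.homology j) := hd _ fun i => by
      have := h i
      exact ((hIso ((LTensor.extCx (ψ i)).obj P) j) ≪≫ homologyExtIso (ψ i) (hψ i) P j).toLinearEquiv.symm.toEquiv.subsingleton
    exact (hIso P j).toLinearEquiv.toEquiv.subsingleton
  choose c hc using fun i => pc_boundedAbove (hK i)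
  obtain ⟨b₀, hb₀⟩ := Finset.exists_le (Finset.univ.image c)
  have hb : ∀ j, b₀ < j → Subsingleton (Dual.HD A (DRing.toD K) j) := fun j hj =>
    hom K j fun i => hc i j (lt_of_le_of_lt (hb₀ _ (Finset.mem_image_of_mem c (Finset.mem_univ i))) hj)
  suffices ∀ (k : ℕ) (P : DRing.Cx A),
      (∀ j, m + k < j → Subsingleton (Dual.HD A (DRing.toD P) j)) →
      (∀ i, DRing.IsPseudoCoherent (B' i) m (DRing.toD ((LTensor.extCx (ψ i)).obj P))) →
      DRing.IsPseudoCoherent A m (DRing.toD P) from
    this (b₀ - m).toNat K (fun j hj => hb j (by omega)) hK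
  have top : ∀ (n : ℤ) (P : DRing.Cx A), m ≤ n →
      (∀ j, n < j → Subsingleton (Dual.HD A (DRing.toD P) j)) →
      (∀ i, DRing.IsPseudoCoherent (B' i) m (DRing.toD ((LTensor.extCx (ψ i)).obj P))) →
      Module.Finite A (P.homology n) := by
    intro n P hn hv hP
    refine finite_of_detects hd _ fun i => ?_
    have hv' : ∀ j, n < j →
        Subsingleton (Dual.HD (B' i) (DRing.toD ((LTensor.extCx (ψ i)).obj P)) j) := fun j hj => by
      have h0 : IsZero (P.homology j) :=
        ((subsingleton_HD_iff_isZero _ _).1 (hv j hj)).of_iso (hIso P j).symm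
      rw [subsingleton_HD_iff_isZero]
      exact (((ModuleCat.extendScalars.{u, u, u} (ψ i)).map_isZero h0).of_iso
        (homologyExtIso (ψ i) (hψ i) P j)).of_iso (hIso _ j)
    have := finite_top (pc_mono (hP i) hn) hv'
    exact Module.Finite.equiv
      ((hIso ((LTensor.extCx (ψ i)).obj P) n) ≪≫ homologyExtIso (ψ i) (hψ i) P n).toLinearEquiv
  intro k
  induction k with
  | zero =>
    intro P hv hP
    have := top m P le_rfl (fun j hj => hv j (by push_cast; omega)) hP
    exact pc_of_finite_top (fun j hj => hv j (by push_cast; omega))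
      (Module.Finite.equiv (hIso P m).toLinearEquiv.symm)
  | succ k ih =>
    intro P hv hP
    obtain ⟨n, hn⟩ : ∃ n : ℤ, n = m + k + 1 := ⟨_, rfl⟩
    have hfin := top n P (by omega) (fun j hj => hv j (by push_cast; omega)) hP
    obtain ⟨F, g, hF, hg, hgs⟩ := exists_cover P n (n - 1) (n + 1) (by omega) rfl hfin
    let f : sgl n F ⟶ P := HomologicalComplex.mkHomFromSingle g
      (fun j (hj : n + 1 = j) => by subst hj; exact hg)
    have happ : IsApprox n (Q.map f) := by
      refine ⟨fun j hj => ?_, ?_⟩
      · exact isIso_of_source_target_iso_zero _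
          (IsZero.isoZero ((subsingleton_HD_iff_isZero _ _).1 (subsingleton_HD_sgl F (by omega))))
          (IsZero.isoZero ((subsingleton_HD_iff_isZero _ _).1 (hv j (by push_cast; omega))))
      · rw [HF_map_Q_eq]
        have : Epi (HomologicalComplex.homologyMap f n) := by
          refine (ModuleCat.epi_iff_surjective _).2 ?_
          rw [homologyMap_surjective_iff f n (n - 1) (by omega)]
          intro z hz
          obtain ⟨x, w, hxw⟩ := hgs z hz
          refine ⟨(HomologicalComplex.singleObjXSelf (ComplexShape.up ℤ) n F).inv.hom x, w, ?_, ?_⟩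
          · have hd0 : (sgl n F).d n (n + 1) = 0 := HomologicalComplex.single_obj_d _ _ _ _ _
            unfold IsCyc
            rw [hd0]; rfl
          · rw [show f.f n = (HomologicalComplex.singleObjXSelf (ComplexShape.up ℤ) n F).hom ≫ g from
              HomologicalComplex.mkHomFromSingle_f _ _]
            change g.hom ((HomologicalComplex.singleObjXSelf (ComplexShape.up ℤ) n F).hom.hom
              ((HomologicalComplex.singleObjXSelf (ComplexShape.up ℤ) n F).inv.hom x)) + _ = z
            rw [← LinearMap.comp_apply (f := (HomologicalComplex.singleObjXSelf _ n F).hom.hom),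
              ← ModuleCat.hom_comp, Iso.inv_hom_id]
            exact hxw
        infer_instance
    have hT := mappingCone_triangle_distinguished f
    have hC := (isApprox_iff_vanishGE _ hT n).1 happ
    have hPC : DRing.IsPseudoCoherent A m (DRing.toD (CochainComplex.mappingCone f)) := by
      refine ih _ (fun j hj => hC j (by omega)) fun i => ?_
      refine pc_of_iso (Q.mapIso (CochainComplex.mappingCone.mapHomologicalComplexIso f
        (ModuleCat.extendScalars.{u, u, u} (ψ i))).symm)
          (pc_cone (mappingCone_triangle_distinguished ((LTensor.extCx (ψ i)).map f)) ?_ (hP i))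
      exact pc_of_bounded (a := n) (b := n)
        (fun j hj => Perfect.isZero_extCx (ψ i) (vanishesOutside_sgl n F j hj))
        (fun j => ⟨Perfect.finite_extendScalars (ψ i) (finiteFree_sgl n hF j).1,
          Perfect.free_extendScalars (ψ i) (finiteFree_sgl n hF j).2⟩) _
    exact pc_middle hT (pc_of_bounded (vanishesOutside_sgl n F) (finiteFree_sgl n hF) m) hPC

/-- A spanning family of elements gives a detecting family of localizations. -/
theorem detects_away {r : ℕ} (f : Fin r → A) (hf : Ideal.span (Set.range f) = ⊤) :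
    Detects (fun i => algebraMap A (Localization.Away (f i))) := by
  intro M h
  refine subsingleton_of_forall_eq 0 fun x => ?_
  refine (Submodule.mem_bot A).mp
    (Submodule.mem_of_span_eq_top_of_smul_pow_mem _ (Set.range f) hf x ?_)
  rintro ⟨_, i, rfl⟩
  have hi := h i
  have e : (algebraMap A (Localization.Away (f i))).toAlgebra =
      (inferInstance : Algebra A (Localization.Away (f i))) :=
    Algebra.algebra_ext _ _ fun _ => rfl
  have hi' : Subsingleton (@TensorProduct A _ (Localization.Away (f i)) M _ _
      (algebraMap A (Localization.Away (f i))).toAlgebra.toModule _) := hi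
  rw [e] at hi'
  haveI : Subsingleton (LocalizedModule (Submonoid.powers (f i)) M) :=
    (IsLocalizedModule.isBaseChange (Submonoid.powers (f i)) (Localization.Away (f i))
      (LocalizedModule.mkLinearMap (Submonoid.powers (f i)) M)).equiv.symm.toEquiv.subsingleton
  obtain ⟨⟨_, n, rfl⟩, hn⟩ := (IsLocalizedModule.eq_zero_iff (Submonoid.powers (f i))
    (LocalizedModule.mkLinearMap (Submonoid.powers (f i)) M) (m := x)).mp (Subsingleton.elim _ _)
  exact ⟨n, hn⟩

end Groth.Agent.DRing.PCDescent
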