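import Groth.Agent.DRing.RelPCFinite
import Groth.Agent.DRing.PCDescent
import Groth.Agent.DRing.Descent
import Mathlib.RingTheory.Localization.Away.AdjoinRoot
import Mathlib.RingTheory.Localization.BaseChange

/-!
# Relative pseudo-coherence and localisation
-/

universe u

open CategoryTheory CategoryTheory.Limits DerivedCategory
open scoped TensorProduct

attribute [local instance] HasDerivedCategory.standard

namespace Groth.Agent.DRing.RelPC

open DBasic PC TensorAmp

variable {P A : Type u} [CommRing P] [CommRing A]

lemma flat_away (g : P) : (algebraMap P (Localization.Away g)).Flat :=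
  RingHom.flat_algebraMap_iff.2 (IsLocalization.flat (Localization.Away g) (Submonoid.powers g))

lemma pc_extCx_of_flat {B : Type u} [CommRing B] (ψ : P →+* B) (hψ : ψ.Flat) {X : DRing.Cx P} {m : ℤ}
    (h : DRing.IsPseudoCoherent P m (DRing.toD X)) :
    DRing.IsPseudoCoherent B m (DRing.toD ((LTensor.extCx ψ).obj X)) := by
  have := LTensor.hasLBaseChange ψ
  obtain ⟨Y, π, hY, -, hq, -⟩ := KProjRes.exists_resolution X
  have := Descent.quasiIso_extCx ψ hψ π
  exact pc_of_iso ((Perfect.baseChangeIsoOfRep ψ (KFlat.isKFlat_of_isKProjective Y) (asIso (Q.map π))).symm ≪≫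
    Perfect.baseChangeIsoOfRep ψ (KFlat.isKFlat_of_isKProjective Y) (Iso.refl _) |> fun e =>
      (asIso (Q.map ((LTensor.extCx ψ).map π))))
    (pc_of_iso (Perfect.baseChangeIsoOfRep ψ (KFlat.isKFlat_of_isKProjective Y) (Iso.refl _)).symm
      (pc_baseChange ψ (pc_of_iso (asIso (Q.map π)).symm h)))

lemma good_algebraMap_away (g : P) :
    ∃ E : Polynomial P →+* Localization.Away g, Good E ∧ Function.Surjective E ∧
      ∀ x, E (Polynomial.C x) = algebraMap P (Localization.Away g) x := by
  let e := Localization.awayEquivAdjoin g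
  refine ⟨(e.symm : AdjoinRoot (Polynomial.C g * Polynomial.X - 1) →+* Localization.Away g).comp
    (AdjoinRoot.mk _), ?_, e.symm.surjective.comp AdjoinRoot.mk_surjective, fun x => ?_⟩
  · refine good_comp (good_of_surjective _ AdjoinRoot.mk_surjective
      (a := Polynomial.C g * Polynomial.X - 1) ?_ ?_) (good_of_bijective _ e.symm.bijective)
    · ext x
      rw [RingHom.mem_ker, AdjoinRoot.mk_eq_zero, Ideal.mem_span_singleton]
    · intro x hx
      rw [mul_sub, mul_one, sub_eq_zero] at hx
      ext n
      induction n with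
      | zero =>
        rw [← hx, ← mul_assoc, Polynomial.coeff_mul_X_zero, Polynomial.coeff_zero]
      | succ n ih =>
        rw [← hx, ← mul_assoc, Polynomial.coeff_mul_X, Polynomial.coeff_mul_C, ih]
        simp
  · exact e.symm.commutes x

/-- `ψ` inverts `x`, which kills `M`. -/
lemma isZero_ext_of_smul_eq_zero {P' : Type u} [CommRing P'] (ψ : P →+* P') {x : P} (hx : IsUnit (ψ x))
    (M : ModuleCat.{u} P) (hM : ∀ y : M, x • y = 0) :
    IsZero ((ModuleCat.extendScalars.{u, u, u} ψ).obj M) := by
  let : Algebra P P' := ψ.toAlgebra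
  have : Subsingleton (P' ⊗[P] M) := by
    refine subsingleton_of_forall_eq 0 fun z => ?_
    induction z using TensorProduct.induction_on with
    | zero => rfl
    | tmul s y =>
      obtain ⟨u, hu⟩ := hx.exists_right_inv
      rw [show s = x • (u * s) from by rw [Algebra.smul_def, RingHom.algebraMap_toAlgebra, ← mul_assoc, hu, one_mul],
        TensorProduct.smul_tmul, hM, TensorProduct.tmul_zero]
    | add z w hz hw => rw [hz, hw, add_zero]
  exact @ModuleCat.isZero_of_subsingleton _ _ _ this

section Square

variable {P' A' : Type u} [CommRing P'] [CommRing A'] (α : P →+* A) (ψ : P →+* P') (φ : A →+* A')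
  (ρ : P' →+* A') (h : ∀ x, ρ (ψ x) = φ (α x))

/-- Base change along a square. -/
noncomputable def sqHom (M : ModuleCat.{u} A) :
    (ModuleCat.extendScalars.{u, u, u} ψ).obj ((ModuleCat.restrictScalars α).obj M) ⟶
      (ModuleCat.restrictScalars ρ).obj ((ModuleCat.extendScalars.{u, u, u} φ).obj M) :=
  ((ModuleCat.extendRestrictScalarsAdj.{u, u, u} ψ).homEquiv _ _).symm
    (ModuleCat.ofHom (X := ((ModuleCat.restrictScalars α).obj M : ModuleCat.{u} P))
      (Y := (ModuleCat.restrictScalars ψ).obj
        ((ModuleCat.restrictScalars ρ).obj ((ModuleCat.extendScalars.{u, u, u} φ).obj M)))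
      { toFun := fun m => ((ModuleCat.extendRestrictScalarsAdj.{u, u, u} φ).unit.app M).hom m
        map_add' := map_add _
        map_smul' := fun r m => by
          refine (map_smul ((ModuleCat.extendRestrictScalarsAdj.{u, u, u} φ).unit.app M).hom (α r)
            (show (M : Type u) from m)).trans ?_
          change φ (α r) • (show ((ModuleCat.extendScalars.{u, u, u} φ).obj M : Type u) from
                ((ModuleCat.extendRestrictScalarsAdj.{u, u, u} φ).unit.app M).hom m) =
            ρ (ψ r) • (show ((ModuleCat.extendScalars.{u, u, u} φ).obj M : Type u) from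
                ((ModuleCat.extendRestrictScalarsAdj.{u, u, u} φ).unit.app M).hom m)
          rw [h] })

lemma sqHom_tmul (M : ModuleCat.{u} A) (s : P') (m : M) :
    letI := ψ.toAlgebra; letI := φ.toAlgebra
    (sqHom α ψ φ ρ h M).hom
        (s ⊗ₜ[P] (show (((ModuleCat.restrictScalars α).obj M : ModuleCat.{u} P) : Type u) from m)) =
      (show ((ModuleCat.restrictScalars ρ).obj ((ModuleCat.extendScalars.{u, u, u} φ).obj M) : Type u) from
        ((ρ s) ⊗ₜ[A] m : A' ⊗[A] M)) := by
  let := ψ.toAlgebra
  let := φ.toAlgebra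
  change ρ s • ((1 : A') ⊗ₜ[A] m : A' ⊗[A] M) = _
  rw [TensorProduct.smul_tmul', smul_eq_mul, mul_one]

lemma bijective_sqHom (i1 : Algebra P A) (i2 : Algebra P P') (i3 : Algebra A A') (i4 : Algebra P' A')
    (e1 : i1 = α.toAlgebra) (e2 : i2 = ψ.toAlgebra) (e3 : i3 = φ.toAlgebra) (e4 : i4 = ρ.toAlgebra)
    [Algebra P A'] [IsScalarTower P A A'] [IsScalarTower P P' A'] [Algebra.IsPushout P P' A A']
    (M : ModuleCat.{u} A) : Function.Bijective (sqHom α ψ φ ρ h M).hom := by
  subst e1 e2 e3 e4
  let : Algebra P A := α.toAlgebra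
  let : Algebra P P' := ψ.toAlgebra
  let : Algebra A A' := φ.toAlgebra
  let : Algebra P' A' := ρ.toAlgebra
  let : Module P M := Module.compHom M α
  have : IsScalarTower P A M := IsScalarTower.of_algebraMap_smul fun _ _ => rfl
  let E := (Algebra.IsPushout.cancelBaseChangeAux P P' A A' M).symm
  suffices hE : ⇑E = (sqHom α ψ φ ρ h M).hom by exact hE ▸ E.bijective
  refine funext fun x => ?_
  induction x using TensorProduct.induction_on with
  | zero => exact (map_zero E).trans (map_zero (sqHom α ψ φ ρ h M).hom).symm
  | tmul s m => exact (Algebra.IsPushout.cancelBaseChangeAux_symm_tmul _ _ _ _ _ s m).trans (sqHom_tmul α ψ φ ρ h M s m).symm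
  | add x y hx hy =>
    exact (map_add E x y).trans ((congrArg₂ (· + ·) hx hy).trans (map_add (sqHom α ψ φ ρ h M).hom x y).symm)

/-- Base change along a cocartesian square, naturally. -/
noncomputable def sqIso (hb : ∀ M, Function.Bijective (sqHom α ψ φ ρ h M).hom) :
    ModuleCat.restrictScalars.{u} α ⋙ ModuleCat.extendScalars.{u, u, u} ψ ≅
      ModuleCat.extendScalars.{u, u, u} φ ⋙ ModuleCat.restrictScalars ρ :=
  have : ∀ M, IsIso (sqHom α ψ φ ρ h M) := fun M => (ConcreteCategory.isIso_iff_bijective _).2 (hb M)
  NatIso.ofComponents (fun M => asIso (sqHom α ψ φ ρ h M)) fun {M N} f => ModuleCat.hom_ext (LinearMap.ext fun x => by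
    let := ψ.toAlgebra
    let := φ.toAlgebra
    induction x using TensorProduct.induction_on with
    | zero => exact (map_zero _).trans (map_zero _).symm
    | tmul s m =>
      exact (sqHom_tmul α ψ φ ρ h N s (f.hom m)).trans
        (congrArg ((ModuleCat.extendScalars.{u, u, u} φ ⋙ ModuleCat.restrictScalars ρ).map f).hom
          (sqHom_tmul α ψ φ ρ h M s m)).symm
    | add x y hx hy => exact (map_add _ x y).trans ((congrArg₂ (· + ·) hx hy).trans (map_add _ x y).symm))

end Square

lemma bijective_locHom (α : P →+* A) (g : P) (M : ModuleCat.{u} A) :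
    Function.Bijective (sqHom α (algebraMap P (Localization.Away g)) (algebraMap A (Localization.Away (α g)))
      (Localization.awayMap α g) (fun x => IsLocalization.map_eq _ x) M).hom := by
  let : Algebra P A := α.toAlgebra
  let : Algebra (Localization.Away g) (Localization.Away (α g)) := (Localization.awayMap α g).toAlgebra
  let iA : Algebra P (Localization.Away g) := inferInstance
  let iB : Algebra A (Localization.Away (α g)) := inferInstance
  have : IsScalarTower P A (Localization.Away (α g)) := IsScalarTower.of_algebraMap_eq fun x => rfl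
  have : IsScalarTower P (Localization.Away g) (Localization.Away (α g)) :=
    IsScalarTower.of_algebraMap_eq fun x => by
      rw [IsScalarTower.algebraMap_apply P A (Localization.Away (α g))]
      refine Eq.symm ?_
      change Localization.awayMap α g (algebraMap P (Localization.Away g) x) = _
      exact IsLocalization.map_eq _ x
  have : IsLocalization (Algebra.algebraMapSubmonoid A (Submonoid.powers g)) (Localization.Away (α g)) := by
    rw [Algebra.algebraMapSubmonoid_powers]
    exact inferInstanceAs (IsLocalization.Away (α g) (Localization.Away (α g)))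
  have : Algebra.IsPushout P (Localization.Away g) A (Localization.Away (α g)) :=
    (Algebra.isPushout_of_isLocalization (Submonoid.powers g) (Localization.Away g) A
      (Localization.Away (α g))).symm
  exact bijective_sqHom α (algebraMap P (Localization.Away g)) (algebraMap A (Localization.Away (α g))) _ _
    α.toAlgebra iA iB (Localization.awayMap α g).toAlgebra rfl (Algebra.algebra_ext _ _ fun _ => rfl)
    (Algebra.algebra_ext _ _ fun _ => rfl) rfl M

lemma pc_loc_iff (α : P →+* A) (g : P) (K : DRing.Cx A) (m : ℤ) :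
    DRing.IsPseudoCoherent (Localization.Away g) m ((DRing.restrictD (Localization.awayMap α g)).obj
        (DRing.toD ((LTensor.extCx (algebraMap A (Localization.Away (α g)))).obj K))) ↔
      DRing.IsPseudoCoherent (Localization.Away g) m
        (DRing.toD ((LTensor.extCx (algebraMap P (Localization.Away g))).obj ((DRing.restrictCx α).obj K))) := by
  have e := DerivedCategory.Q.mapIso ((NatIso.mapHomologicalComplex
    (sqIso α _ _ _ _ (bijective_locHom α g)) (ComplexShape.up ℤ)).app K)
  have e2 := restrictDIso (Localization.awayMap α g)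
    (Iso.refl (DRing.toD ((LTensor.extCx (algebraMap A (Localization.Away (α g)))).obj K)))
  exact ⟨pc_of_iso (e2.symm ≪≫ e.symm), pc_of_iso (e ≪≫ e2)⟩

theorem isRel_away_iff {R : Type u} [CommRing R] [Algebra R A] {n : ℕ}
    (α : MvPolynomial (Fin n) R →ₐ[R] A) (hα : Function.Surjective α) (g : MvPolynomial (Fin n) R)
    (f : A) (hg : α g = f) (K : DRing.Cx A) (m : ℤ) :
    DerCA.IsRelPseudoCoherent R (Localization.Away f) m
        (DRing.toD ((LTensor.extCx (algebraMap A (Localization.Away f))).obj K)) ↔
      DRing.IsPseudoCoherent (Localization.Away g) m (DRing.toD ((LTensor.extCx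
        (algebraMap (MvPolynomial (Fin n) R) (Localization.Away g))).obj
          ((DRing.restrictCx (α : MvPolynomial (Fin n) R →+* A)).obj K))) := by
  subst hg
  let φ : MvPolynomial (Fin n) R →+* A := α
  obtain ⟨E, hE, hEs, hEC⟩ := good_algebraMap_away g
  let ρ : Localization.Away g →+* Localization.Away (α g) := Localization.awayMap φ g
  let c : MvPolynomial (Fin (n + 1)) R →+* Localization.Away (α g) :=
    ρ.comp (E.comp (MvPolynomial.finSuccEquiv R n : MvPolynomial (Fin (n + 1)) R →+* Polynomial (MvPolynomial (Fin n) R)))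
  have hc : ∀ r : R, c (algebraMap R _ r) = algebraMap R (Localization.Away (α g)) r := fun r => by
    change Localization.awayMap φ g (E (MvPolynomial.finSuccEquiv R n (MvPolynomial.C r))) = _
    rw [show MvPolynomial.finSuccEquiv R n (MvPolynomial.C r) = Polynomial.C (MvPolynomial.C r) by
      simp [MvPolynomial.finSuccEquiv_apply], hEC,
      show Localization.awayMap φ g (algebraMap _ (Localization.Away g) (MvPolynomial.C r)) =
        algebraMap A (Localization.Away (φ g)) (φ (MvPolynomial.C r)) from IsLocalization.map_eq _ _,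
      show φ (MvPolynomial.C r) = algebraMap R A r from α.commutes r,
      ← IsScalarTower.algebraMap_apply]
    rfl
  let δ : MvPolynomial (Fin (n + 1)) R →ₐ[R] Localization.Away (α g) := { c with commutes' := hc }
  have hρ : Function.Surjective ρ :=
    Localization.awayMap_surjective_iff.2 fun a => ⟨(hα a).choose, 0, by
      rw [pow_zero, one_mul]; exact (hα a).choose_spec⟩
  have hδ : Function.Surjective δ := hρ.comp (hEs.comp (MvPolynomial.finSuccEquiv R n).surjective)
  rw [isRel_iff δ hδ]
  refine ((pc_restrict_congr (φ := (δ : MvPolynomial (Fin (n + 1)) R →+* Localization.Away (α g))) (ψ := c) rfl _ m).trans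
    (samePC_comp (good_comp (good_of_bijective _ (MvPolynomial.finSuccEquiv R n).bijective) hE) ρ _ m)).trans ?_
  exact pc_loc_iff φ g K m

theorem isRel_away_of_isRel {R : Type u} [CommRing R] [Algebra R A] (f : A) (K : DRing.Cx A) {m : ℤ}
    (h : DerCA.IsRelPseudoCoherent R A m (DRing.toD K)) :
    DerCA.IsRelPseudoCoherent R (Localization.Away f) m
      (DRing.toD ((LTensor.extCx (algebraMap A (Localization.Away f))).obj K)) := by
  obtain ⟨n, α, hα, h⟩ := h
  obtain ⟨g, hg⟩ := hα f
  exact (isRel_away_iff α hα g f hg K m).2 (pc_extCx_of_flat _ (flat_away g)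
    (pc_of_iso (restrictDIso (α : MvPolynomial (Fin n) R →+* A) (Iso.refl _)).symm h))

theorem isRel_iff_away {R : Type u} [CommRing R] [Algebra R A] [Algebra.FiniteType R A] (K : DRing.Cx A)
    (m : ℤ) {r : ℕ} (f : Fin r → A) (hf : Ideal.span (Set.range f) = ⊤) :
    DerCA.IsRelPseudoCoherent R A m (DRing.toD K) ↔
      ∀ i, DerCA.IsRelPseudoCoherent R (Localization.Away (f i)) m
        (DRing.toD ((LTensor.extCx (algebraMap A (Localization.Away (f i)))).obj K)) := by
  refine ⟨fun h i => isRel_away_of_isRel (f i) K h, fun h => ?_⟩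
  obtain ⟨n, α, hα⟩ := exists_presentation R A
  let φ : MvPolynomial (Fin n) R →+* A := α
  choose g hg using fun i => hα (f i)
  obtain ⟨c, hc⟩ := (Submodule.mem_span_range_iff_exists_fun A).1 (hf ▸ Submodule.mem_top (x := (1 : A)))
  choose c' hc' using fun i => hα (c i)
  let h₀ : MvPolynomial (Fin n) R := 1 - ∑ i, c' i * g i
  have hh₀ : α h₀ = 0 := by
    simp only [h₀, map_sub, map_one, map_sum, map_mul, hc', hg]
    rw [sub_eq_zero, ← hc]
    simp
  let G : Fin (r + 1) → MvPolynomial (Fin n) R := Fin.cons h₀ g
  have hG : Ideal.span (Set.range G) = ⊤ := by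
    rw [Ideal.eq_top_iff_one]
    have : h₀ + ∑ i, c' i * g i ∈ Ideal.span (Set.range G) := add_mem (Ideal.subset_span ⟨0, rfl⟩)
      (Ideal.sum_mem _ fun i _ => Ideal.mul_mem_left _ _ (Ideal.subset_span ⟨i.succ, by simp [G]⟩))
    rwa [show h₀ + ∑ i, c' i * g i = 1 from sub_add_cancel _ _] at this
  refine ⟨n, α, hα, pc_of_iso (restrictDIso φ (Iso.refl _)) ?_⟩
  refine PCDescent.pc_of_detects (fun i => flat_away (G i)) (PCDescent.detects_away G hG) _ m fun i => ?_
  refine Fin.cases ?_ (fun j => ?_) i
  · refine pc_of_vanishGE fun k _ => (subsingleton_HD_toD_iff _ k).2 ?_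
    refine ShortComplex.isZero_homology_of_isZero_X₂ _ ?_
    refine isZero_ext_of_smul_eq_zero _ (IsLocalization.Away.algebraMap_isUnit (G 0)) _ fun y => ?_
    change α h₀ • (show (K.X k : Type u) from y) = 0
    rw [hh₀, zero_smul]
  · simp only [G, Fin.cons_succ]
    exact (isRel_away_iff α hα (g j) (f j) (hg j) K m).1 (h j)

theorem isRelAll_away_self {R : Type u} [CommRing R] (f : R) :
    DerCA.IsRelPseudoCoherentModuleAll R (Localization.Away f) (Localization.Away f) := by
  obtain ⟨E, hE, hEs, hEC⟩ := good_algebraMap_away f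
  let ι := MvPolynomial.uniqueAlgEquiv R (Fin 1)
  let δ : MvPolynomial (Fin 1) R →ₐ[R] Localization.Away f :=
    (({ E with commutes' := fun r => hEC r } : Polynomial R →ₐ[R] Localization.Away f)).comp ι.toAlgHom
  have hδ : Function.Surjective δ := hEs.comp ι.surjective
  exact fun m => (isRel_iff δ hδ _ _).2 ((good_comp (good_of_bijective (ι : MvPolynomial (Fin 1) R →+* Polynomial R)
    ι.bijective) hE _ _).1 ((pc'_iff _).1 pcModule'_of_finiteFree m))

end Groth.Agent.DRing.RelPC
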