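import Groth.Agent.LocCoh.TorLES
import Groth.Agent.DRing.RelPCLoc
import Groth.Agent.DRing.Homology
import Groth.Agent.DRing.PCBaseChange
import Groth.Agent.LocCoh.RGamma

/-!
# Tor-independent complexes: acyclicity is preserved by base change
-/

universe u
attribute [local instance] HasDerivedCategory.standard
open CategoryTheory CategoryTheory.Limits MonoidalCategory DerivedCategory CochainComplex HomComplex
open scoped TensorProduct

namespace Groth.Agent.DRing.TorIndep

open LocCoh.Tor

variable {R : Type u} [CommRing R] (N : ModuleCat.{u} R)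

/-- `Tor_{n+1}(M, N) = 0` for all `n`. -/
def Ind (M : ModuleCat.{u} R) : Prop := ∀ (n : ℕ) (x : T (n + 1) M N), x = 0

variable {N}

theorem ind_of_flat (M : ModuleCat.{u} R) [Module.Flat R M] : Ind N M :=
  fun n x => tor_succ_eq_zero_of_flat M n N x

variable {S : ShortComplex (ModuleCat.{u} R)}

theorem ind_left (hS : S.ShortExact) (h₂ : Ind N S.X₂) (h₃ : Ind N S.X₃) : Ind N S.X₁ := fun n x => by
  obtain ⟨y, rfl⟩ := (tor_exact₁ hS (n + 1) N x).1 (h₂ n _)
  rw [h₃ (n + 1) y, map_zero]

theorem ind_middle (hS : S.ShortExact) (h₁ : Ind N S.X₁) (h₃ : Ind N S.X₃) : Ind N S.X₂ := fun n x => by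
  obtain ⟨y, rfl⟩ := (tor_exact₂ hS (n + 1) N x).1 (h₃ n _)
  rw [h₁ n y, map_zero]

theorem injective_lTensor (hS : S.ShortExact) (h₃ : Ind N S.X₃) :
    Function.Injective (S.f.hom.lTensor N) := by
  have h0 : Function.Injective (tf S.f 0 N).hom := by
    rw [← LinearMap.ker_eq_bot, LinearMap.ker_eq_bot']
    intro x hx
    obtain ⟨y, rfl⟩ := (tor_exact₁ hS 0 N x).1 hx
    rw [h₃ 0 y, map_zero]
  have h1 : Function.Injective (S.f.hom.rTensor N) := by
    intro a b hab
    obtain ⟨a', rfl⟩ := (t0 S.X₁ N).toLinearEquiv.surjective a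
    obtain ⟨b', rfl⟩ := (t0 S.X₁ N).toLinearEquiv.surjective b
    refine congrArg _ (h0 ((t0 S.X₂ N).toLinearEquiv.injective ?_))
    have e := fun z => ConcreteCategory.congr_hom (t0_naturality_left S.f N) z
    exact ((e a').trans hab).trans (e b').symm
  intro a b hab
  refine (TensorProduct.comm R N S.X₁).injective (h1 ?_)
  have e : ∀ z, S.f.hom.rTensor N (TensorProduct.comm R N S.X₁ z) =
      TensorProduct.comm R N S.X₂ (S.f.hom.lTensor N z) := fun z => by
    induction z using TensorProduct.induction_on with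
    | zero => simp
    | tmul p q => simp
    | add p q hp hq => simp only [map_add, hp, hq]
  rw [e, e, hab]

section Complex

variable {C : CochainComplex (ModuleCat.{u} R) ℤ}

/-- Cycles. -/
abbrev Z (C : CochainComplex (ModuleCat.{u} R) ℤ) (k : ℤ) : Submodule R (C.X k) :=
  LinearMap.ker (C.d k (k + 1)).hom

/-- The differential into cycles. -/
noncomputable abbrev dZ (C : CochainComplex (ModuleCat.{u} R) ℤ) (k : ℤ) : C.X k →ₗ[R] Z C (k + 1) :=
  (C.d k (k + 1)).hom.codRestrict _ fun x =>
    ConcreteCategory.congr_hom (C.d_comp_d k (k + 1) (k + 1 + 1)) x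

theorem surjective_dZ (hC : ∀ i, C.ExactAt i) (k : ℤ) : Function.Surjective (dZ C k) := by
  rintro ⟨z, hz⟩
  obtain ⟨w, hw⟩ := (Homology.exactAt_iff_forall (K := C) (k + 1) k rfl).1 (hC _) z
    ((Homology.isCyc_iff rfl z).2 hz)
  exact ⟨w, Subtype.ext hw⟩

/-- `0 → Z k → C k → Z (k+1) → 0` -/
noncomputable def SZ (C : CochainComplex (ModuleCat.{u} R) ℤ) (k : ℤ) : ShortComplex (ModuleCat.{u} R) :=
  ShortComplex.mk (ModuleCat.ofHom (Z C k).subtype) (ModuleCat.ofHom (dZ C k))
    (ModuleCat.hom_ext (LinearMap.ext fun x => Subtype.ext x.2))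

theorem shortExact_SZ (hC : ∀ i, C.ExactAt i) (k : ℤ) : (SZ C k).ShortExact where
  exact := (ShortComplex.moduleCat_exact_iff _).2 fun x hx => ⟨⟨x, congrArg Subtype.val hx⟩, rfl⟩
  mono_f := (ModuleCat.mono_iff_injective _).2 (Submodule.injective_subtype _)
  epi_g := (ModuleCat.epi_iff_surjective _).2 (surjective_dZ hC k)

theorem ind_Z (hC : ∀ i, C.ExactAt i) {b : ℤ} (hb : ∀ i, b < i → IsZero (C.X i))
    (h : ∀ i, Ind N (C.X i)) : ∀ k, Ind N (ModuleCat.of R (Z C k)) := by
  suffices H : ∀ (m : ℕ) (k : ℤ), b < k + (m : ℤ) → Ind N (ModuleCat.of R (Z C k)) from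
    fun k => H (b + 1 - k).toNat k (by omega)
  intro m
  induction m with
  | zero =>
    intro k hk
    have := ModuleCat.subsingleton_of_isZero (hb k (by omega))
    have : Subsingleton (Z C k) := inferInstance
    exact @ind_of_flat R _ N (ModuleCat.of R (Z C k))
      (inferInstanceAs (Module.Flat R (Z C k)))
  | succ m ih =>
    intro k hk
    exact ind_left (shortExact_SZ hC k) (h k) (ih (k + 1) (by omega))

theorem exact_lTensor (hC : ∀ i, C.ExactAt i) {b : ℤ} (hb : ∀ i, b < i → IsZero (C.X i))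
    (h : ∀ i, Ind N (C.X i)) (k : ℤ) :
    Function.Exact ((C.d k (k + 1)).hom.lTensor N) ((C.d (k + 1) (k + 1 + 1)).hom.lTensor N) := by
  have hd : ∀ j, (C.d j (j + 1)).hom = (Z C (j + 1)).subtype.comp (dZ C j) := fun j => rfl
  have inj := injective_lTensor (shortExact_SZ hC (k + 1 + 1)) (ind_Z hC hb h (k + 1 + 1 + 1))
  have ex : Function.Exact ((Z C (k + 1)).subtype.lTensor N) ((dZ C (k + 1)).lTensor N) :=
    lTensor_exact N ((ShortComplex.ShortExact.moduleCat_exact_iff_function_exact _).mp
      (shortExact_SZ hC (k + 1)).exact) (surjective_dZ hC (k + 1))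
  have sur := LinearMap.lTensor_surjective N (surjective_dZ hC k)
  rw [hd k, hd (k + 1), LinearMap.lTensor_comp, LinearMap.lTensor_comp]
  intro z
  refine ⟨fun hz => ?_, ?_⟩
  · obtain ⟨y, rfl⟩ := (ex z).1 (inj (hz.trans (map_zero _).symm))
    obtain ⟨x, rfl⟩ := sur y
    exact ⟨x, rfl⟩
  · rintro ⟨x, rfl⟩
    simp only [LinearMap.comp_apply]
    rw [ex.apply_apply_eq_zero, map_zero]

end Complex

/-- Flat modules over a tor-independent algebra are tor-independent. -/
theorem ind_restrict_of_flat {A : Type u} [CommRing A] [Algebra R A]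
    (htor : Ind N (ModuleCat.of R A))
    (M : Type u) [AddCommGroup M] [Module A M] [Module R M] [IsScalarTower R A M] [Module.Flat A M] :
    Ind N (ModuleCat.of R M) := by
  intro n x
  let Q := projectiveResolution N
  let C := Q.complex
  have hz : ((tC Q).obj (ModuleCat.of R A)).ExactAt (n + 1) := by
    have : Subsingleton (T (n + 1) (ModuleCat.of R A) N) := subsingleton_of_forall_eq 0 (htor n)
    rw [HomologicalComplex.exactAt_iff_isZero_homology]
    exact (@ModuleCat.isZero_of_subsingleton R _ _ this).of_iso (tIso Q (n + 1) _).symm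
  rw [HomologicalComplex.exactAt_iff' _ (n + 2) (n + 1) n (by simp) (by simp),
    ShortComplex.ShortExact.moduleCat_exact_iff_function_exact] at hz
  have hA : Function.Exact ((C.d (n + 2) (n + 1)).hom.baseChange A) ((C.d (n + 1) n).hom.baseChange A) := hz
  have hM := Module.Flat.lTensor_exact M hA
  let e := fun j => TensorProduct.AlgebraTensorModule.cancelBaseChange R A A M (C.X j)
  have sq : ∀ i j z, (C.d i j).hom.lTensor M (e i z) = e j (((C.d i j).hom.baseChange A).lTensor M z) := by
    intro i j z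
    induction z using TensorProduct.induction_on with
    | zero => simp
    | add p q hp hq => simp only [map_add, hp, hq]
    | tmul m w =>
      induction w using TensorProduct.induction_on with
      | zero => simp
      | add p q hp hq => simp only [TensorProduct.tmul_add, map_add, hp, hq]
      | tmul a c => simp [e]
  have hMR : Function.Exact ((C.d (n + 2) (n + 1)).hom.lTensor M) ((C.d (n + 1) n).hom.lTensor M) := by
    intro y
    obtain ⟨z, rfl⟩ := (e (n + 1)).surjective y
    rw [sq, LinearEquiv.map_eq_zero_iff, hM z]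
    constructor
    · rintro ⟨w, rfl⟩; exact ⟨e (n + 2) w, sq _ _ w⟩
    · rintro ⟨v, hv⟩
      obtain ⟨w, rfl⟩ := (e (n + 2)).surjective v
      exact ⟨w, (e (n + 1)).injective ((sq _ _ w).symm.trans hv)⟩
  have hz' : ((tC Q).obj (ModuleCat.of R M)).ExactAt (n + 1) := by
    rw [HomologicalComplex.exactAt_iff' _ (n + 2) (n + 1) n (by simp) (by simp),
      ShortComplex.ShortExact.moduleCat_exact_iff_function_exact]
    exact hMR
  have := ModuleCat.subsingleton_of_isZero (hz'.isZero_homology.of_iso (tIso Q (n + 1) (ModuleCat.of R M)))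
  exact Subsingleton.elim _ _

/-- The terms of a cone are extensions. -/
theorem ind_mappingCone {P : Type u} [CommRing P] (ι : R →+* P) {E E' : CochainComplex (ModuleCat.{u} P) ℤ}
    (f : E ⟶ E') (i : ℤ) (h₁ : Ind N ((ModuleCat.restrictScalars ι).obj (E.X (i + 1))))
    (h₂ : Ind N ((ModuleCat.restrictScalars ι).obj (E'.X i))) :
    Ind N ((ModuleCat.restrictScalars ι).obj ((mappingCone f).X i)) := by
  let S := ShortComplex.mk ((mappingCone.inr f).f i) ((mappingCone.fst f).1.v i (i + 1) rfl)
    (mappingCone.inr_f_fst_v f i (i + 1) rfl)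
  have hS : S.ShortExact := (ShortComplex.Splitting.mk ((mappingCone.snd f).v i i (add_zero i))
    ((mappingCone.inl f).v (i + 1) i (by omega)) (mappingCone.inr_f_snd_v f i)
    (mappingCone.inl_v_fst_v f (i + 1) i rfl)
    ((add_comm _ _).trans (mappingCone.id_X f i (i + 1) rfl))).shortExact
  exact ind_middle (hS.map_of_exact (ModuleCat.restrictScalars ι)) h₂ h₁

/-- Base change along `P → P'` of an acyclic complex of `R`-tor-independent modules. -/
theorem acyclic_extCx {R' P P' : Type u} [CommRing R'] [Algebra R R'] [CommRing P] [CommRing P']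
    (ι : R →+* P) (ι' : R' →+* P') (ψ : P →+* P') (hsq : ∀ r, ι' (algebraMap R R' r) = ψ (ι r))
    (hb : ∀ M, Function.Bijective (RelPC.sqHom ι (algebraMap R R') ψ ι' hsq M).hom)
    (C : DRing.Cx P) (hC : C.Acyclic) {b : ℤ} (hvan : ∀ i, b < i → IsZero (C.X i))
    (h : ∀ i, Ind ((ModuleCat.restrictScalars (algebraMap R R')).obj (ModuleCat.of R' R'))
      ((ModuleCat.restrictScalars ι).obj (C.X i))) :
    ((LTensor.extCx ψ).obj C).Acyclic := by
  let Cr := (DRing.restrictCx ι).obj C
  have hCr : ∀ i, Cr.ExactAt i := fun i => by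
    rw [Homology.exactAt_iff_forall (K := Cr) i (i - 1) (by omega)]
    intro z hz
    have hz' : ((C.d i (i + 1)).hom) z = 0 := (Homology.isCyc_iff (K := Cr) rfl z).1 hz
    exact (Homology.exactAt_iff_forall (K := C) i (i - 1) (by omega)).1 (hC i) z
      ((Homology.isCyc_iff rfl z).2 hz')
  intro i
  obtain ⟨k, rfl⟩ : ∃ k, i = k + 1 := ⟨i - 1, by omega⟩
  have ex := exact_lTensor (N := (ModuleCat.restrictScalars (algebraMap R R')).obj (ModuleCat.of R' R')) (C := Cr) hCr
    (fun i hi => (ModuleCat.restrictScalars ι).map_isZero (hvan i hi)) h k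
  rw [Homology.exactAt_iff_forall (k + 1) k rfl]
  intro z hz
  have hz' := (Homology.isCyc_iff rfl z).1 hz
  let e := RelPC.sqIso ι (algebraMap R R') ψ ι' hsq hb
  have nat : ∀ (i j : ℤ) (w : (ModuleCat.extendScalars.{u, u, u} (algebraMap R R')).obj (Cr.X i)),
      (((LTensor.extCx ψ).obj C).d i j).hom ((e.app (C.X i)).hom.hom w) =
        (e.app (C.X j)).hom.hom (((ModuleCat.extendScalars.{u, u, u} (algebraMap R R')).map (Cr.d i j)).hom w) :=
    fun i j w => (ConcreteCategory.congr_hom (e.hom.naturality (C.d i j)) w).symm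
  obtain ⟨w, rfl⟩ : ∃ w, (e.app (C.X (k + 1))).hom.hom w = z :=
    (e.app (C.X (k + 1))).toLinearEquiv.surjective z
  rw [nat] at hz'
  have hw := (e.app (C.X (k + 1 + 1))).toLinearEquiv.injective (hz'.trans (map_zero _).symm)
  obtain ⟨v, hv⟩ := (ex w).1 hw
  exact ⟨(e.app (C.X k)).hom.hom v, (nat k (k + 1) v).trans (congrArg _ hv)⟩

theorem ind_of_tor {A R' : Type u} [CommRing A] [Algebra R A] [CommRing R'] [Algebra R R']
    (htor : ∀ p : ℕ, 0 < p → Subsingleton (DRing.Tor R p A R')) :
    Ind ((ModuleCat.restrictScalars (algebraMap R R')).obj (ModuleCat.of R' R')) (ModuleCat.of R A) := by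
  intro n x
  let e : R' ≃ₗ[R] ((ModuleCat.restrictScalars (algebraMap R R')).obj (ModuleCat.of R' R') : ModuleCat.{u} R) :=
    { toFun := fun r => r
      invFun := fun r => r
      left_inv := fun _ => rfl
      right_inv := fun _ => rfl
      map_add' := fun _ _ => rfl
      map_smul' := fun a r => Algebra.smul_def a r }
  let i := ((CategoryTheory.Tor (ModuleCat.{u} R) (n + 1)).obj (ModuleCat.of R A)).mapIso e.toModuleIso
  have := htor (n + 1) n.succ_pos
  exact i.toLinearEquiv.symm.injective (Subsingleton.elim (α := DRing.Tor R (n + 1) A R') _ _)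

end Groth.Agent.DRing.TorIndep
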