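import Groth.Agent.DRing.PCTrunc

/-!
# Dévissage of bounded objects of `D(A)` into shifted modules
-/

universe u

open CategoryTheory CategoryTheory.Limits CategoryTheory.Pretriangulated DerivedCategory

attribute [local instance] HasDerivedCategory.standard

namespace Groth.Agent.DRing.Devissage

open DBasic Homology PC ZeroObject

variable {A : Type u} [CommRing A]

/-- Splitting off the top cohomology. -/
lemma exists_lower (K : Dual.D A) (n : ℤ) (hv : ∀ i, n < i → Subsingleton (Dual.HD A K i)) :
    ∃ T : Triangle (Dual.D A), T ∈ distinguishedTriangles ∧ T.obj₂ = K ∧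
      T.obj₃ = DRing.toD (sgl n (ModuleCat.of A (Dual.HD A K n))) ∧
      (∀ i, n ≤ i → Subsingleton (Dual.HD A T.obj₁ i)) ∧
      ∀ i, i < n → Nonempty ((HF i).obj T.obj₁ ≅ (HF i).obj K) := by
  obtain ⟨φ, hφ⟩ := exists_toTop K n hv
  obtain ⟨C, f, δ, hT⟩ := distinguished_cocone_triangle₁ φ
  have hzero : ∀ i, i ≠ n →
      IsZero ((HF i).obj (DRing.toD (sgl n (ModuleCat.of A (Dual.HD A K n))))) := fun i hi =>
    (subsingleton_HD_iff_isZero _ _).1 (subsingleton_HD_sgl _ hi)
  have hepi : ∀ i, i ≠ n → Epi ((HF i).map f) := fun i hi =>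
    (HomologySequence.epi_homologyMap_mor₁_iff _ hT i).2 ((hzero i hi).eq_of_tgt _ _)
  have hmono : ∀ i, i ≠ n + 1 → Mono ((HF i).map f) := fun i hi =>
    (HomologySequence.mono_homologyMap_mor₁_iff _ hT (i - 1) i (by omega)).2
      ((hzero (i - 1) (by omega)).eq_of_src _ _)
  refine ⟨Triangle.mk f φ δ, hT, rfl, rfl, fun i hi => ?_, fun i hi => ?_⟩
  · rw [subsingleton_HD_iff_isZero]
    have hf0 : (HF i).map f = 0 := by
      by_cases hin : i = n
      · subst hin
        have : (HF i).map f ≫ (HF i).map φ = 0 := by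
          rw [← Functor.map_comp, show f ≫ φ = 0 from comp_distTriang_mor_zero₁₂ _ hT,
            Functor.map_zero]
        rwa [← cancel_mono ((HF i).map φ), zero_comp]
      · exact ((subsingleton_HD_iff_isZero K i).1 (hv i (by omega))).eq_of_tgt _ _
    have hm : Mono ((HF i).map f) := by
      by_cases hin : i = n + 1
      · subst hin
        refine (HomologySequence.mono_homologyMap_mor₁_iff _ hT n (n + 1) rfl).2 ?_
        have : Epi ((HF n).map (Triangle.mk f φ δ).mor₂) := inferInstanceAs (Epi ((HF n).map φ))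
        exact zero_of_epi_comp _ (HomologySequence.comp_δ _ hT n (n + 1) rfl)
      · exact hmono i hin
    rw [IsZero.iff_id_eq_zero]
    change 𝟙 ((HF i).obj C) = 0
    rw [← cancel_mono ((HF i).map f), Category.id_comp, zero_comp, hf0]
  · have := hepi i (by omega)
    have := hmono i (by omega)
    exact ⟨@asIso _ _ _ _ ((HF i).map f) (by
      exact @isIso_of_mono_of_epi _ _ _ _ _ ((HF i).map f) (hmono i (by omega)) (hepi i (by omega)))⟩

/-- `(M ↦ M[-n])` respects isomorphisms. -/
noncomputable def sglMapIso (n : ℤ) {M N : ModuleCat.{u} A} (e : M ≅ N) :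
    DRing.toD (sgl n M) ≅ DRing.toD (sgl n N) :=
  Q.mapIso ((HomologicalComplex.single (ModuleCat.{u} A) (ComplexShape.up ℤ) n).mapIso e)

lemma isZero_of_subsingleton_HD {K : Dual.D A} (h : ∀ i, Subsingleton (Dual.HD A K i)) :
    IsZero K := by
  have : IsIso (0 : K ⟶ (Q.obj (0 : DRing.Cx A) : Dual.D A)) := by
    rw [isIso_iff_HF]
    exact fun i => isIso_of_source_target_iso_zero _ ((subsingleton_HD_iff_isZero K i).1 (h i)).isoZero
      ((HF i).map_isZero (Q.map_isZero (isZero_zero _))).isoZero
  exact (Q.map_isZero (isZero_zero _)).of_iso (asIso (0 : K ⟶ (Q.obj (0 : DRing.Cx A) : Dual.D A)))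

/-- Dévissage from cohomology. -/
theorem of_cohomology (Φ : Dual.D A → Prop) (hiso : ∀ {K L : Dual.D A}, (K ≅ L) → Φ K → Φ L)
    (hzero : ∀ K : Dual.D A, IsZero K → Φ K)
    (hmid : ∀ T : Triangle (Dual.D A), T ∈ distinguishedTriangles → Φ T.obj₁ → Φ T.obj₃ → Φ T.obj₂)
    (K : Dual.D A) {a b : ℤ} (hb : ∀ i, i < a ∨ b < i → Subsingleton (Dual.HD A K i))
    (h : ∀ i, Φ (DRing.toD (sgl i (ModuleCat.of A (Dual.HD A K i))))) : Φ K := by
  suffices ∀ (k : ℕ) (K : Dual.D A),
      (∀ i, i < a ∨ a + k ≤ i → Subsingleton (Dual.HD A K i)) →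
      (∀ i, Φ (DRing.toD (sgl i (ModuleCat.of A (Dual.HD A K i))))) → Φ K from
    this (b + 1 - a).toNat K (fun i hi => hb i (by omega)) h
  clear hb h K
  intro k
  induction k with
  | zero => exact fun K hv _ => hzero K (isZero_of_subsingleton_HD fun i => hv i (by omega))
  | succ k ih =>
    intro K hv h
    obtain ⟨T, hT, h2, h3, hup, hlow⟩ := exists_lower K (a + k) fun i hi => hv i (by omega)
    subst h2
    refine hmid T hT (ih T.obj₁ ?_ ?_) (h3.symm ▸ h (a + k))
    · rintro i (hi | hi)
      · obtain ⟨e⟩ := hlow i (by omega)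
        rw [subsingleton_HD_iff_isZero, e.isZero_iff, ← subsingleton_HD_iff_isZero]
        exact hv i (Or.inl hi)
      · exact hup i hi
    · intro i
      by_cases hi : a + k ≤ i
      · have := hup i hi
        exact hzero _ (Q.map_isZero ((HomologicalComplex.single _ _ i).map_isZero
          (ModuleCat.isZero_of_subsingleton (ModuleCat.of A (Dual.HD A T.obj₁ i)))))
      · obtain ⟨e⟩ := hlow i (by omega)
        exact hiso (sglMapIso i e).symm (h i)

/-- The triangle of brutal truncations. -/
lemma exists_stupid_triangle (P : DRing.Cx A) (a : ℤ) :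
    ∃ T : Triangle (Dual.D A), T ∈ distinguishedTriangles ∧
      T.obj₁ = DRing.toD (KFlat.sigmaGE P (a + 1)) ∧ T.obj₂ = DRing.toD (KFlat.sigmaGE P a) ∧
      T.obj₃ = DRing.toD (sgl a (P.X a)) := by
  let f := KFlat.sigmaGEMap P (show a ≤ a + 1 by omega)
  let g : KFlat.sigmaGE P a ⟶ sgl a (P.X a) :=
    HomologicalComplex.mkHomToSingle (ModuleCat.ofHom (KFlat.truncSub P a a).subtype)
      (fun j (hj : j + 1 = a) => (KFlat.sigmaGE_X_isZero P (by omega)).eq_of_src _ _)
  have hg : ∀ x, (g.f a).hom x =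
      (HomologicalComplex.singleObjXSelf (ComplexShape.up ℤ) a (P.X a)).inv.hom x.1 := fun x => by
    rw [show g.f a = _ from HomologicalComplex.mkHomToSingle_f _ _]; rfl
  have hfg : f ≫ g = 0 := HomologicalComplex.to_single_hom_ext
    ((KFlat.sigmaGE_X_isZero P (show a < a + 1 by omega)).eq_of_src _ _)
  have hS : (ShortComplex.mk f g hfg).ShortExact := by
    refine HomologicalComplex.shortExact_of_degreewise_shortExact _ fun i => ?_
    refine { exact := ?_, mono_f := ?_, epi_g := ?_ }
    · rw [ShortComplex.moduleCat_exact_iff]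
      intro x hx
      by_cases hi : a + 1 ≤ i
      · exact ⟨⟨x.1, mem_truncSub hi x.1⟩, Subtype.ext rfl⟩
      · refine ⟨0, Subtype.ext ?_⟩
        change (0 : P.X i) = x.1
        by_cases hia : i = a
        · subst hia
          refine ((HomologicalComplex.singleObjXSelf (ComplexShape.up ℤ) i (P.X i)).symm.toLinearEquiv).injective ?_
          exact (map_zero _).trans (((hg x).symm.trans hx).symm)
        · have hle : KFlat.truncSub P a i ≤ ⊥ := le_of_eq (if_neg (by omega))
          exact ((Submodule.mem_bot A).1 (hle x.2)).symm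
    · exact (ModuleCat.mono_iff_injective _).2
        (Submodule.inclusion_injective (KFlat.truncSub_mono P (by omega) i))
    · refine (ModuleCat.epi_iff_surjective _).2 ?_
      by_cases hia : i = a
      · subst hia
        intro y
        obtain ⟨y, rfl⟩ :=
          (HomologicalComplex.singleObjXSelf (ComplexShape.up ℤ) i (P.X i)).symm.toLinearEquiv.surjective y
        exact ⟨⟨y, mem_truncSub le_rfl y⟩, hg _⟩
      · have := ModuleCat.subsingleton_of_isZero
          (HomologicalComplex.isZero_single_obj_X (ComplexShape.up ℤ) a (P.X a) i hia)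
        exact fun y => ⟨0, Subsingleton.elim (α := (sgl a (P.X a)).X i) _ _⟩
  exact ⟨triangleOfSES hS, triangleOfSES_distinguished hS, rfl, rfl, rfl⟩

/-- Dévissage from terms. -/
theorem of_terms (Φ : Dual.D A → Prop) (hiso : ∀ {K L : Dual.D A}, (K ≅ L) → Φ K → Φ L)
    (hzero : ∀ K : Dual.D A, IsZero K → Φ K)
    (hmid : ∀ T : Triangle (Dual.D A), T ∈ distinguishedTriangles → Φ T.obj₁ → Φ T.obj₃ → Φ T.obj₂)
    (P : DRing.Cx A) {a b : ℤ} (hb : DRing.VanishesOutside P a b)
    (h : ∀ i, Φ (DRing.toD (sgl i (P.X i)))) : Φ (DRing.toD P) := by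
  have key : ∀ (k : ℕ) (c : ℤ), b + 1 ≤ c + (k : ℤ) → Φ (DRing.toD (KFlat.sigmaGE P c)) := by
    intro k
    induction k with
    | zero =>
      intro c hc
      refine hzero _ (isZero_of_subsingleton_HD fun i => (subsingleton_HD_toD_iff _ i).2 ?_)
      refine ShortComplex.isZero_homology_of_isZero_X₂ _ ?_
      by_cases hi : i < c
      · exact KFlat.sigmaGE_X_isZero P hi
      · exact vanishesOutside_sigmaGE (fun i hi => hb i (Or.inr hi)) c i (Or.inr (by omega))
    | succ k ih =>
      intro c hc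
      obtain ⟨T, hT, h1, h2, h3⟩ := exists_stupid_triangle P c
      rw [← h2]
      exact hmid T hT (h1.symm ▸ ih (c + 1) (by omega)) (h3.symm ▸ h c)
  have : IsIso (KFlat.sigmaGEι P a) := by
    have : ∀ i, IsIso ((KFlat.sigmaGEι P a).f i) := fun i => by
      rw [ConcreteCategory.isIso_iff_bijective]
      refine ⟨Subtype.val_injective, fun x => ?_⟩
      by_cases hi : a ≤ i
      · exact ⟨⟨x, mem_truncSub hi x⟩, rfl⟩
      · have := ModuleCat.subsingleton_of_isZero (hb i (Or.inl (by omega)))
        exact ⟨0, Subsingleton.elim _ _⟩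
    exact HomologicalComplex.Hom.isIso_of_components _
  exact hiso (Q.mapIso (asIso (KFlat.sigmaGEι P a))) (key (b + 1 - a).toNat a (by omega))

end Groth.Agent.DRing.Devissage
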