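import Groth.Agent.DRing.TorAmp
import Groth.Agent.DRing.Devissage
import Mathlib.RingTheory.Flat.EquationalCriterion

/-!
# Perfect objects: pseudo-coherent of finite tor dimension
-/

universe u

open CategoryTheory CategoryTheory.Limits CategoryTheory.Pretriangulated MonoidalCategory
  DerivedCategory

attribute [local instance] HasDerivedCategory.standard

namespace Groth.Agent.DRing.Perfect

open Homology DBasic KFlat PC TorAmp ZeroObject

variable {A : Type u} [CommRing A]

lemma pcModule'_of_finiteProjective {M : Type u} [AddCommGroup M] [Module A M] [Module.Finite A M]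
    [Module.Projective A M] : DRing.IsPseudoCoherentModule' A M := by
  have key : ∀ (k : ℕ) (N : Type u) [AddCommGroup N] [Module A N] [Module.Finite A N]
      [Module.Projective A N], DRing.IsPseudoCoherentModule A (-(k : ℤ)) N := by
    intro k
    induction k with
    | zero => intro N _ _ _ _; simpa using pcModule_zero_iff.2 (inferInstanceAs (Module.Finite A N))
    | succ k ih =>
      intro N _ _ _ _
      obtain ⟨n, f, hf⟩ := Module.Finite.exists_fin' A N
      obtain ⟨g, hg⟩ := Module.projective_lifting_property f LinearMap.id hf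
      let r : (Fin n → A) →ₗ[A] LinearMap.ker f :=
        (LinearMap.id - g.comp f).codRestrict _ fun x => by
          simp only [LinearMap.mem_ker, LinearMap.sub_apply, LinearMap.id_apply, LinearMap.comp_apply,
            map_sub]
          rw [show f (g (f x)) = f x from LinearMap.congr_fun hg (f x), sub_self]
      have hr : r.comp (LinearMap.ker f).subtype = LinearMap.id := by
        refine LinearMap.ext fun x => Subtype.ext ?_
        have hx : f x = 0 := x.2
        simp [r, hx]
      have : Module.Finite A (LinearMap.ker f) :=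
        Module.Finite.of_surjective r fun x => ⟨x, LinearMap.congr_fun hr x⟩
      have : Module.Projective A (LinearMap.ker f) :=
        Module.Projective.of_split (LinearMap.ker f).subtype r hr
      have h := (pcModule_step_iff f hf (-(k : ℤ))).2 (ih (LinearMap.ker f))
      rwa [show -((k + 1 : ℕ) : ℤ) = -(k : ℤ) - 1 by push_cast; ring]
  exact pcModule'_iff.2 fun m => pc_mono (key (-m).toNat M) (by omega)

lemma pc'_of_finiteProjective {E : DRing.Cx A} {b : ℤ} (hb : DRing.VanishesAbove E b)
    (hf : DRing.TermwiseFiniteProjective E) : DRing.IsPseudoCoherent' A (DRing.toD E) :=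
  (pc'_iff _).2 fun _ => pc_of_terms E hb fun i _ =>
    pcModule'_iff.1 (have := (hf i).1; have := (hf i).2; pcModule'_of_finiteProjective) _

/-- A pseudo-coherent object of tor amplitude in `[a, b]` has a finite projective representative
in `[a, b]`. -/
theorem exists_rep {K : Dual.D A} {a b : ℤ} (hK : DRing.IsPseudoCoherent' A K)
    (h : DRing.HasTorAmplitudeIn A a b K) :
    ∃ E : DRing.Cx A, DRing.VanishesOutside E a b ∧ DRing.TermwiseFiniteProjective E ∧
      Nonempty (DRing.toD E ≅ K) := by
  obtain ⟨P, hb, hf, ⟨e⟩⟩ := exists_finiteFree_rep ((pc'_iff K).1 hK)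
    (fun i hi => torAmp_boundedHD h i (Or.inr hi))
  have hproj : ∀ i, Module.Projective A (P.X i) := fun i => have := (hf i).2; inferInstance
  have hP := isKFlat_of_projective hb hproj
  obtain ⟨h1, h2, h3⟩ := exists_tauGE_rep hb (fun i => have := hproj i; inferInstance)
    (fun M i hi => (hasTorAmp_iff hP e a b).1 h M i (Or.inl hi)) e
  refine ⟨_, h1, fun i => ?_, h3⟩
  have := (hf i).1
  have := (hf (a - 1)).1
  have hfin : Module.Finite A ((Trunc.tauGE P a).X i) :=
    Module.Finite.of_surjective (Trunc.killSub P a i).mkQ (Submodule.mkQ_surjective _)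
  rcases lt_trichotomy i a with hi | rfl | hi
  · exact ⟨hfin, Trunc.projective_of_isZero (Trunc.tauGE_X_isZero P a hi)⟩
  · have := hproj i
    have : Module.FinitePresentation A (P.X i) := Module.finitePresentation_of_projective _ _
    have : Module.FinitePresentation A (P.X i ⧸ Trunc.killSub P i i) :=
      Module.finitePresentation_of_surjective (Trunc.killSub P i i).mkQ (Submodule.mkQ_surjective _)
        (by rw [Submodule.ker_mkQ, Trunc.killSub_eq_range]; exact Module.Finite.iff_fg.1 inferInstance)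
    have : Module.Flat A (P.X i ⧸ Trunc.killSub P i i) := h2 i
    exact ⟨hfin, (Module.Flat.projective_of_finitePresentation (R := A)
      (M := P.X i ⧸ Trunc.killSub P i i) :)⟩
  · exact ⟨hfin, Trunc.projective_of_iso (Trunc.tauGE_XIso P a hi).symm (hproj i)⟩

/-- Perfect means pseudo-coherent of finite tor dimension. -/
theorem perfect_iff (K : Dual.D A) :
    DRing.IsPerfect A K ↔ DRing.IsPseudoCoherent' A K ∧ DRing.HasFiniteTorDimCx A K := by
  constructor
  · rintro ⟨E, a, b, hE, hf, ⟨e⟩⟩
    exact ⟨pc'_of_iso e (pc'_of_finiteProjective (fun i hi => hE i (Or.inr hi)) hf),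
      a, b, E, hE, fun i => have := (hf i).2; inferInstance, ⟨e⟩⟩
  · rintro ⟨h1, a, b, h2⟩
    obtain ⟨E, hE, hf, he⟩ := exists_rep h1 h2
    exact ⟨E, a, b, hE, hf, he⟩

lemma perfect_of_iso {K L : Dual.D A} (e : K ≅ L) (h : DRing.IsPerfect A K) :
    DRing.IsPerfect A L := by
  obtain ⟨E, a, b, hE, hf, ⟨e'⟩⟩ := h
  exact ⟨E, a, b, hE, hf, ⟨e' ≪≫ e⟩⟩

lemma finiteTorDim_two_of_three {T : Triangle (Dual.D A)} (hT : T ∈ distinguishedTriangles) :
    (DRing.HasFiniteTorDimCx A T.obj₁ → DRing.HasFiniteTorDimCx A T.obj₂ →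
        DRing.HasFiniteTorDimCx A T.obj₃) ∧
      (DRing.HasFiniteTorDimCx A T.obj₁ → DRing.HasFiniteTorDimCx A T.obj₃ →
        DRing.HasFiniteTorDimCx A T.obj₂) ∧
      (DRing.HasFiniteTorDimCx A T.obj₂ → DRing.HasFiniteTorDimCx A T.obj₃ →
        DRing.HasFiniteTorDimCx A T.obj₁) := by
  refine ⟨?_, ?_, ?_⟩ <;> rintro ⟨a, b, h⟩ ⟨a', b', h'⟩
  · refine ⟨min (a - 1) a', max (b - 1) b', (torAmp_of_triangle hT _ _).1 ?_ ?_⟩
    · exact torAmp_mono h (by omega) (by omega)
    · exact torAmp_mono h' (by omega) (by omega)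
  · refine ⟨min a a', max b b', (torAmp_of_triangle hT _ _).2.1 ?_ ?_⟩
    · exact torAmp_mono h (by omega) (by omega)
    · exact torAmp_mono h' (by omega) (by omega)
  · refine ⟨min (a - 1) a' + 1, max (b - 1) b' + 1, (torAmp_of_triangle hT _ _).2.2 ?_ ?_⟩
    · exact torAmp_mono h (by omega) (by omega)
    · exact torAmp_mono h' (by omega) (by omega)

lemma perfect_two_of_three {T : Triangle (Dual.D A)} (hT : T ∈ distinguishedTriangles) :
    (DRing.IsPerfect A T.obj₁ → DRing.IsPerfect A T.obj₂ → DRing.IsPerfect A T.obj₃) ∧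
      (DRing.IsPerfect A T.obj₁ → DRing.IsPerfect A T.obj₃ → DRing.IsPerfect A T.obj₂) ∧
      (DRing.IsPerfect A T.obj₂ → DRing.IsPerfect A T.obj₃ → DRing.IsPerfect A T.obj₁) := by
  simp only [perfect_iff]
  obtain ⟨t1, t2, t3⟩ := finiteTorDim_two_of_three hT
  exact ⟨fun h h' => ⟨pc'_cone hT h.1 h'.1, t1 h.2 h'.2⟩,
    fun h h' => ⟨pc'_middle hT h.1 h'.1, t2 h.2 h'.2⟩,
    fun h h' => ⟨pc'_first hT h.1 h'.1, t3 h.2 h'.2⟩⟩

lemma perfect_of_isZero {K : Dual.D A} (h : IsZero K) : DRing.IsPerfect A K := by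
  have hz : ∀ i, IsZero ((0 : DRing.Cx A).X i) := fun i =>
    (HomologicalComplex.eval (ModuleCat.{u} A) (.up ℤ) i).map_isZero (isZero_zero _)
  refine ⟨0, 0, 0, fun i _ => hz i, fun i => ⟨?_, Trunc.projective_of_isZero (hz i)⟩,
    ⟨(Q.map_isZero (isZero_zero _)).iso h⟩⟩
  have := ModuleCat.subsingleton_of_isZero (hz i)
  infer_instance

lemma perfect_shift {K : Dual.D A} (h : DRing.IsPerfect A K) (n : ℤ) :
    DRing.IsPerfect A ((shiftFunctor (Dual.D A) n).obj K) := by
  rw [perfect_iff] at h ⊢
  obtain ⟨h1, a, b, h2⟩ := h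
  exact ⟨pc'_shift h1 n, a - n, b - n, torAmp_shift h2 n (by omega) (by omega)⟩

end Groth.Agent.DRing.Perfect
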