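import Mathlib.RingTheory.AdicCompletion.Exactness
import Mathlib.RingTheory.AdicCompletion.Completeness
import Mathlib.RingTheory.Flat.Basic
import Mathlib.RingTheory.Flat.Equalizer
import Mathlib.LinearAlgebra.TensorProduct.RightExactness
import Mathlib.LinearAlgebra.DirectSum.Finsupp
import Mathlib.LinearAlgebra.TensorProduct.Quotient
import Mathlib.RingTheory.Filtration

/-!
# Exactness of adic completion under an Artin-Rees condition
-/

universe u

open scoped TensorProduct

namespace Groth.Agent.DRing.AdicExact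

variable {A : Type u} [CommRing A] (I : Ideal A) {K E M : Type u} [AddCommGroup K] [Module A K]
  [AddCommGroup E] [Module A E] [AddCommGroup M] [Module A M] (i : K →ₗ[A] E) (g : E →ₗ[A] M)

/-- The `I`-adic topology of `K` is induced along `i`. -/
def Induced : Prop :=
  ∀ n : ℕ, ∃ m : ℕ, n ≤ m ∧ ∀ x : K, i x ∈ (I ^ m • ⊤ : Submodule A E) → x ∈ (I ^ n • ⊤ : Submodule A K)

variable {I i g}

lemma map_injective (h : Induced I i) : Function.Injective (AdicCompletion.map I i) := by
  rw [injective_iff_map_eq_zero]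
  intro x hx
  refine AdicCompletion.ext fun n => ?_
  obtain ⟨m, hnm, hm⟩ := h n
  obtain ⟨a, ha⟩ := Submodule.mkQ_surjective _ (x.val m)
  have h1 := congrArg (fun z => z.val m) hx
  simp only [AdicCompletion.map_val_apply, ← ha, AdicCompletion.val_zero_apply] at h1
  have h2 := hm a ((Submodule.Quotient.mk_eq_zero _).1 h1)
  rw [AdicCompletion.val_zero_apply, ← x.2 hnm, ← ha]
  exact (Submodule.Quotient.mk_eq_zero _).2 h2

lemma map_exact (h : Induced I i) (hg : Function.Surjective g) (hig : Function.Exact i g) :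
    Function.Exact (AdicCompletion.map I i) (AdicCompletion.map I g) := by
  classical
  intro y
  constructor
  · intro hy
    have hex : ∀ n, ∃ a : K, y.val n = Submodule.Quotient.mk (i a) := by
      intro n
      obtain ⟨b, hb⟩ := Submodule.mkQ_surjective _ (y.val n)
      have h1 := congrArg (fun z => z.val n) hy
      simp only [AdicCompletion.map_val_apply, ← hb, AdicCompletion.val_zero_apply] at h1
      have h2 : g b ∈ (I ^ n • ⊤ : Submodule A M) := (Submodule.Quotient.mk_eq_zero _).1 h1
      rw [← LinearMap.range_eq_top.2 hg, LinearMap.range_eq_map, ← Submodule.map_smul''] at h2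
      obtain ⟨z, hz, hgz⟩ := Submodule.mem_map.1 h2
      obtain ⟨a, ha⟩ := (hig (b - z)).1 (by rw [map_sub, hgz, sub_self])
      exact ⟨a, by rw [← hb, ha]; exact (Submodule.Quotient.eq _).2 (by simpa using hz)⟩
    choose a ha using hex
    choose m0 hm0 hm using h
    let φ : ℕ → ℕ := fun n => (Finset.range (n + 1)).sup m0
    have hle : ∀ n, m0 n ≤ φ n := fun n => Finset.le_sup (Finset.self_mem_range_succ n)
    have hmono : ∀ {p q}, p ≤ q → φ p ≤ φ q := fun hpq =>
      Finset.sup_mono (Finset.range_mono (by omega))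
    refine ⟨⟨fun n => Submodule.Quotient.mk (a (φ n)), fun {p q} hpq => ?_⟩, AdicCompletion.ext fun n => ?_⟩
    · refine (Submodule.Quotient.eq _).2 (hm p _ (Submodule.smul_mono_left (Ideal.pow_le_pow_right (hle p)) ?_))
      rw [map_sub]
      have := y.2 (hmono hpq)
      rw [ha (φ p), ha (φ q)] at this
      exact (Submodule.Quotient.eq _).1 this
    · have := y.2 ((hm0 n).trans (hle n))
      rw [ha (φ n)] at this
      exact this
  · rintro ⟨x, rfl⟩
    rw [AdicCompletion.map_comp_apply, hig.linearMap_comp_eq_zero, AdicCompletion.map_zero,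
      LinearMap.zero_apply]

/-- Artin–Rees. -/
lemma induced_of_finite [IsNoetherianRing A] [Module.Finite A E] (hi : Function.Injective i) :
    Induced I i := fun n => by
  obtain ⟨k, hk⟩ := Ideal.exists_pow_inf_eq_pow_smul I (LinearMap.range i)
  refine ⟨n + k, by omega, fun x hx => ?_⟩
  rw [← Submodule.comap_map_eq_of_injective hi (I ^ n • ⊤ : Submodule A K), Submodule.map_smul'',
    Submodule.map_top]
  change i x ∈ (I ^ n • LinearMap.range i : Submodule A E)
  have h1 : i x ∈ I ^ (n + k - k) • (I ^ k • ⊤ ⊓ LinearMap.range i) := by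
    rw [← hk (n + k) (by omega)]
    exact ⟨hx, x, rfl⟩
  rw [Nat.add_sub_cancel] at h1
  exact SetLike.le_def.1 (smul_mono_right (I ^ n) inf_le_right) h1

lemma mem_smul_top_finsupp (J : Ideal A) (α : Type u) (x : α →₀ E) :
    x ∈ (J • ⊤ : Submodule A (α →₀ E)) ↔ ∀ a, x a ∈ (J • ⊤ : Submodule A E) := by
  classical
  constructor
  · intro hx a
    have := Submodule.mem_map_of_mem (f := Finsupp.lapply (R := A) (M := E) a) hx
    rw [Submodule.map_smul''] at this
    exact SetLike.le_def.1 (smul_mono_right J le_top) this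
  · intro hx
    rw [← Finsupp.sum_single x]
    refine Submodule.sum_mem _ fun a _ => ?_
    have := Submodule.mem_map_of_mem (f := Finsupp.lsingle (R := A) (M := E) a) (hx a)
    rw [Submodule.map_smul''] at this
    exact SetLike.le_def.1 (smul_mono_right J le_top) this

/-- Finitely supported families. -/
lemma induced_finsupp (h : Induced I i) (α : Type u) :
    Induced I (Finsupp.mapRange.linearMap i : (α →₀ K) →ₗ[A] (α →₀ E)) := fun n => by
  obtain ⟨m, hnm, hm⟩ := h n
  refine ⟨m, hnm, fun x hx => (mem_smul_top_finsupp _ α x).2 fun a => hm _ ?_⟩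
  exact (mem_smul_top_finsupp _ α _).1 hx a

/-- Tensoring a sequence with flat quotient. -/
lemma induced_lTensor {L N : Type u} [AddCommGroup L] [Module A L] [AddCommGroup N] [Module A N]
    [Module.Flat A N] {P : Type u} [AddCommGroup P] [Module A P] (j : P →ₗ[A] L) (q : L →ₗ[A] N)
    (hj : Function.Injective j) (hq : Function.Surjective q) (hjq : Function.Exact j q)
    (X : Type u) [AddCommGroup X] [Module A X] : Induced I (j.lTensor X) := fun n => by
  refine ⟨n, le_rfl, fun x hx => ?_⟩
  have hinj := LinearMap.lTensor_injective_of_exact_of_flat q hq j hj hjq ((A ⧸ I ^ n) ⊗[A] X)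
  have h1 : ((1 : A ⧸ I ^ n) ⊗ₜ[A] j.lTensor X x) = 0 :=
    (TensorProduct.quotTensorEquivQuotSMul (X ⊗[A] L) (I ^ n)).injective (by
      rw [map_zero]
      erw [TensorProduct.quotTensorEquivQuotSMul_mk_tmul]
      simpa using hx)
  have hcomm : ∀ z : X ⊗[A] P,
      j.lTensor ((A ⧸ I ^ n) ⊗[A] X) ((TensorProduct.assoc A _ _ _).symm ((1 : A ⧸ I ^ n) ⊗ₜ[A] z)) =
        (TensorProduct.assoc A _ _ _).symm ((1 : A ⧸ I ^ n) ⊗ₜ[A] j.lTensor X z) := fun z => by
    induction z using TensorProduct.induction_on with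
    | zero => simp
    | tmul a b => simp
    | add a b ha hb => simp only [TensorProduct.tmul_add, map_add, ha, hb]
  have h2 : ((1 : A ⧸ I ^ n) ⊗ₜ[A] x) = 0 := (TensorProduct.assoc A _ _ _).symm.injective
    (hinj (by rw [map_zero, hcomm, h1, map_zero, map_zero]))
  have h3 := congrArg (TensorProduct.quotTensorEquivQuotSMul (X ⊗[A] P) (I ^ n)) h2
  rw [map_zero] at h3
  erw [TensorProduct.quotTensorEquivQuotSMul_mk_tmul] at h3
  simpa using h3

end Groth.Agent.DRing.AdicExact
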