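import Groth.Agent.DRing.DerivedComplete
import Mathlib.RingTheory.PowerSeries.Inverse
import Mathlib.RingTheory.AdicCompletion.Noetherian
import Mathlib.RingTheory.AdicCompletion.Functoriality
import Mathlib.RingTheory.PowerSeries.Ideal

/-!
# Derived complete modules with finite reduction over Noetherian rings
-/

universe u

open CategoryTheory

attribute [local instance] HasDerivedCategory.standard

namespace Groth.Agent.DRing.AdicFinite

open Tel
open scoped PowerSeries

variable {R : Type u} [CommRing R] {M : Type u} [AddCommGroup M] [Module R M] {f : R}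

/-- Dropping the constant term. -/
noncomputable def shift (a : R⟦X⟧) : R⟦X⟧ := PowerSeries.mk fun n => PowerSeries.coeff (n + 1) a

lemma coeff_shift_iterate (k : ℕ) : ∀ (a : R⟦X⟧) (n : ℕ),
    PowerSeries.coeff n (shift^[k] a) = PowerSeries.coeff (n + k) a := by
  induction k with
  | zero => intro a n; rfl
  | succ k ih =>
    intro a n
    rw [Function.iterate_succ_apply, ih, shift, PowerSeries.coeff_mk]
    congr 1

lemma eq_C_add_X_mul_shift (a : R⟦X⟧) :
    a = PowerSeries.C (PowerSeries.coeff 0 a) + PowerSeries.X * shift a := by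
  ext n
  cases n with
  | zero => simp [shift]
  | succ n => simp [shift, PowerSeries.coeff_succ_X_mul]

section Act

variable (h : Tel.Tel M f)

/-- The sum `∑ aₖ fᵏ • m`. -/
noncomputable def act (a : R⟦X⟧) (m : M) : M := sol h fun k => PowerSeries.coeff k a • m

lemma act_eq (a : R⟦X⟧) (m : M) :
    act h a m = PowerSeries.coeff 0 a • m + f • act h (shift a) m := by
  refine (sol_eq h _).trans (congrArg (fun y => _ + f • sol h y) (funext fun k => ?_))
  simp [shift]

lemma act_unique (G : R⟦X⟧ → M) (m : M)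
    (hG : ∀ a, G a = PowerSeries.coeff 0 a • m + f • G (shift a)) (a : R⟦X⟧) : G a = act h a m := by
  let F : ℕ → M := fun k => G (shift^[k] a)
  have hF : D f M F = fun k => PowerSeries.coeff k a • m := funext fun k => by
    rw [D_apply, sub_eq_iff_eq_add]
    refine (hG _).trans ?_
    rw [coeff_shift_iterate, zero_add]
    simp only [F, Function.iterate_succ_apply']
  have : (LinearEquiv.ofBijective (D f M) h).symm (fun k => PowerSeries.coeff k a • m) = F := by
    rw [LinearEquiv.symm_apply_eq]; exact hF.symm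
  exact (congrFun this 0).symm

lemma act_add (a b : R⟦X⟧) (m : M) : act h (a + b) m = act h a m + act h b m := by
  simp only [act, ← map_add]
  congr 1
  funext k
  simp [add_smul]

lemma act_add' (a : R⟦X⟧) (m m' : M) : act h a (m + m') = act h a m + act h a m' := by
  simp only [act, ← map_add]
  congr 1
  funext k
  simp [smul_add]

lemma act_zero (m : M) : act h 0 m = 0 := by
  rw [act, ← (sol h).map_zero]
  congr 1
  funext k
  simp

lemma act_zero' (a : R⟦X⟧) : act h a (0 : M) = 0 := by
  rw [act, ← (sol h).map_zero]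
  congr 1
  funext k
  simp

lemma act_C_mul (r : R) (a : R⟦X⟧) (m : M) : act h (PowerSeries.C r * a) m = r • act h a m := by
  rw [act, act, ← map_smul]
  congr 1
  funext k
  simp [smul_smul]

lemma act_X_mul (a : R⟦X⟧) (m : M) : act h (PowerSeries.X * a) m = f • act h a m := by
  rw [act_eq, PowerSeries.coeff_zero_X_mul, zero_smul, zero_add]
  congr 2
  ext n
  simp [shift]

lemma act_one (m : M) : act h 1 m = m := by
  rw [act_eq, PowerSeries.coeff_zero_one, one_smul,
    show shift (1 : R⟦X⟧) = 0 by ext n; simp [shift], act_zero, smul_zero, add_zero]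

lemma act_mul (a b : R⟦X⟧) (m : M) : act h (a * b) m = act h a (act h b m) :=
  act_unique h (fun c => act h (c * b) m) (act h b m) (fun c => by
    conv_lhs => rw [eq_C_add_X_mul_shift c, add_mul, mul_assoc, act_add, act_C_mul, act_X_mul]) a

/-- A module complete along `f` is a module over power series. -/
@[reducible] noncomputable def psModule : Module R⟦X⟧ M where
  smul := act h
  one_smul := act_one h
  mul_smul := act_mul h
  smul_zero := act_zero' h
  smul_add := act_add' h
  add_smul := act_add h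
  zero_smul := act_zero h

end Act

/-- Successive approximation along `X`. -/
theorem finite_of_finite_quotient [Module R⟦X⟧ M] (ht : Tel.Tel M (PowerSeries.X : R⟦X⟧))
    (hfin : Module.Finite R⟦X⟧ (M ⧸ LinearMap.range ((PowerSeries.X : R⟦X⟧) • (LinearMap.id : M →ₗ[R⟦X⟧] M)))) :
    Module.Finite R⟦X⟧ M := by
  let N := LinearMap.range ((PowerSeries.X : R⟦X⟧) • (LinearMap.id : M →ₗ[R⟦X⟧] M))
  obtain ⟨n, q, hq⟩ := Module.Finite.exists_fin' R⟦X⟧ (M ⧸ N)
  obtain ⟨p, hp⟩ := Module.projective_lifting_property N.mkQ q N.mkQ_surjective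
  refine Module.Finite.of_surjective p fun m => ?_
  have hstep : ∀ x : M, ∃ (r : Fin n → R) (y : M),
      x = p (fun i => PowerSeries.C (r i)) + (PowerSeries.X : R⟦X⟧) • y := by
    intro x
    obtain ⟨c, hc⟩ := hq (N.mkQ x)
    rw [← hp] at hc
    obtain ⟨z, hz⟩ := (Submodule.Quotient.eq N).1 hc.symm
    refine ⟨fun i => PowerSeries.coeff 0 (c i), z + p (fun i => shift (c i)), ?_⟩
    rw [smul_add, ← map_smul, ← add_assoc, add_right_comm, ← map_add]
    have : (fun i => PowerSeries.C (PowerSeries.coeff 0 (c i))) +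
        (PowerSeries.X : R⟦X⟧) • (fun i => shift (c i)) = c :=
      funext fun i => (eq_C_add_X_mul_shift (c i)).symm
    rw [this]
    exact eq_add_of_sub_eq' hz.symm
  choose r nxt hnxt using hstep
  let ms : ℕ → M := fun k => nxt^[k] m
  let a : Fin n → R⟦X⟧ := fun i => PowerSeries.mk fun k => r (ms k) i
  let xs : ℕ → M := fun k => p fun i => shift^[k] (a i)
  have hxs : ∀ k, xs k = p (fun i => PowerSeries.C (r (ms k) i)) + (PowerSeries.X : R⟦X⟧) • xs (k + 1) := by
    intro k
    simp only [xs]
    rw [← map_smul, ← map_add]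
    refine congrArg p (funext fun i => (eq_C_add_X_mul_shift _).trans ?_)
    rw [coeff_shift_iterate, zero_add]
    simp [a, Function.iterate_succ_apply']
  have h0 := (tel_iff.1 ht).1 (fun k => xs k - ms k) fun k => by
    rw [hxs k, show ms (k + 1) = nxt (ms k) from Function.iterate_succ_apply' _ _ _, smul_sub]
    conv_lhs => arg 2; rw [hnxt (ms k)]
    abel
  exact ⟨a, sub_eq_zero.1 (congrFun h0 0)⟩

lemma C_mem_jacobson {r : R} (hr : r ∈ (⊥ : Ideal R).jacobson) :
    PowerSeries.C r ∈ (⊥ : Ideal R⟦X⟧).jacobson :=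
  Ideal.mem_jacobson_bot.2 fun y => PowerSeries.isUnit_iff_constantCoeff.2 (by
    simpa using Ideal.mem_jacobson_bot.1 hr (PowerSeries.constantCoeff y))

lemma X_mem_jacobson : (PowerSeries.X : R⟦X⟧) ∈ (⊥ : Ideal R⟦X⟧).jacobson :=
  Ideal.mem_jacobson_bot.2 fun y => PowerSeries.isUnit_iff_constantCoeff.2 (by simp)

/-- A finite module structure over a bigger Noetherian ring. -/
theorem exists_finite_ring (n : ℕ) : ∀ (R : Type u) [CommRing R] [IsNoetherianRing R] (M : Type u)
    [AddCommGroup M] [Module R M] (l : List R), l.length = n → (∀ g ∈ l, Tel.Tel M g) →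
    Module.Finite R (M ⧸ Ideal.span {x | x ∈ l} • (⊤ : Submodule R M)) →
    ∃ (R' : Type u) (_ : CommRing R') (_ : IsNoetherianRing R') (φ : R →+* R') (_ : Module R' M),
      (∀ (r : R) (m : M), φ r • m = r • m) ∧ Module.Finite R' M ∧
      (∀ r ∈ (⊥ : Ideal R).jacobson, φ r ∈ (⊥ : Ideal R').jacobson) ∧
      ∀ g ∈ l, ∃ j ∈ (⊥ : Ideal R').jacobson, ∀ m : M, g • m = j • m := by
  induction n with
  | zero =>
    intro R _ _ M _ _ l hl _ hfin
    obtain rfl : l = [] := List.length_eq_zero_iff.1 hl
    refine ⟨R, inferInstance, inferInstance, RingHom.id R, inferInstance, fun _ _ => rfl, ?_,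
      fun r hr => hr, fun g hg => absurd hg (List.not_mem_nil)⟩
    exact Module.Finite.equiv (Submodule.quotEquivOfEqBot (Ideal.span {x | x ∈ ([] : List R)} • (⊤ : Submodule R M)) (by
      rw [show {x | x ∈ ([] : List R)} = (∅ : Set R) from Set.ext fun x => by simp, Ideal.span_empty,
        Submodule.bot_smul]))
  | succ n ih =>
    intro R _ _ M _ _ l hl ht hfin
    obtain ⟨f, l, rfl⟩ : ∃ f l', l = f :: l' := by
      cases l with
      | nil => simp at hl
      | cons f l' => exact ⟨f, l', rfl⟩
    let : Module R⟦X⟧ M := psModule (ht f List.mem_cons_self)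
    have hC : ∀ (r : R) (m : M), (PowerSeries.C r : R⟦X⟧) • m = r • m := fun r m => by
      change act _ (PowerSeries.C r) m = _
      rw [← mul_one (PowerSeries.C r), act_C_mul, act_one]
    have hX : ∀ m : M, (PowerSeries.X : R⟦X⟧) • m = f • m := fun m => by
      change act _ PowerSeries.X m = _
      rw [← mul_one PowerSeries.X, act_X_mul, act_one]
    have : IsScalarTower R R⟦X⟧ M := IsScalarTower.of_algebraMap_smul fun r m => hC r m
    have hTel : ∀ (s : R⟦X⟧) (g : R), (∀ m : M, s • m = g • m) → Tel.Tel M g → Tel.Tel M s :=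
      fun s g hs hg => by
        have : ⇑(D s M) = ⇑(D g M) := funext fun x => funext fun k => by simp [hs]
        unfold Tel.Tel
        rw [this]; exact hg
    let l' : List R⟦X⟧ := l.map fun g => PowerSeries.C g
    have htl' : ∀ g ∈ l', Tel.Tel M g := fun g hg => by
      obtain ⟨g, hg', rfl⟩ := List.mem_map.1 hg
      exact hTel _ g (hC g) (ht g (List.mem_cons_of_mem _ hg'))
    have htX := hTel _ f hX (ht f List.mem_cons_self)
    let J : Ideal R⟦X⟧ := Ideal.span {x | x ∈ l'}
    let v : (Fin l'.length → M) →ₗ[R⟦X⟧] M :=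
      ∑ i : Fin l'.length, l'[i] • LinearMap.proj i
    have hv : LinearMap.range v = J • ⊤ := by
      apply le_antisymm
      · rintro _ ⟨x, rfl⟩
        simp only [v, LinearMap.coe_sum, Finset.sum_apply, LinearMap.smul_apply, LinearMap.coe_proj,
          Function.eval]
        exact Submodule.sum_mem _ fun i _ => Submodule.smul_mem_smul
          (Ideal.subset_span (List.getElem_mem _)) Submodule.mem_top
      · rw [← Submodule.span_univ, Submodule.span_smul_span, Submodule.span_le]
        rintro _ ⟨g, hg, x, -, rfl⟩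
        obtain ⟨i, hi, rfl⟩ := List.mem_iff_getElem.1 hg
        refine ⟨Pi.single ⟨i, hi⟩ x, ?_⟩
        simp [v, Pi.single_apply]
    let Q := M ⧸ LinearMap.range v
    have htQ : Tel.Tel Q (PowerSeries.X : R⟦X⟧) :=
      tel_coker (tel_pi (fun _ : Fin l'.length => M) fun _ => htX) htX v
    let N := LinearMap.range ((PowerSeries.X : R⟦X⟧) • (LinearMap.id : Q →ₗ[R⟦X⟧] Q))
    let π : M →ₗ[R] Q ⧸ N := ((N.mkQ.comp (LinearMap.range v).mkQ).restrictScalars R)
    have hπ : Function.Surjective π := N.mkQ_surjective.comp (LinearMap.range v).mkQ_surjective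
    have hann : Ideal.span {x | x ∈ f :: l} ≤ Module.annihilator R (Q ⧸ N) := by
      refine Ideal.span_le.2 fun g hg => Module.mem_annihilator.2 fun y => ?_
      obtain ⟨m, rfl⟩ := hπ y
      rw [← map_smul]
      change N.mkQ ((LinearMap.range v).mkQ (g • m)) = 0
      rcases List.mem_cons.1 hg with rfl | hg
      · rw [← hX, map_smul]
        exact (Submodule.Quotient.mk_eq_zero N).2 ⟨_, rfl⟩
      · rw [← hC]
        refine (congrArg N.mkQ ((Submodule.Quotient.mk_eq_zero _).2 ?_)).trans (map_zero _)
        rw [hv]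
        exact Submodule.smul_mem_smul (Ideal.subset_span (List.mem_map.2 ⟨g, hg, rfl⟩)) Submodule.mem_top
    have hfinR : Module.Finite R (Q ⧸ N) := by
      refine Module.Finite.of_surjective (Submodule.liftQ _ π ?_) (fun y => ?_) (hM := hfin)
      · refine Submodule.smul_le.2 fun a ha m _ => ?_
        rw [LinearMap.mem_ker, map_smul]
        exact Module.mem_annihilator.1 (hann ha) _
      · obtain ⟨m, rfl⟩ := hπ y
        exact ⟨Submodule.Quotient.mk m, rfl⟩
    have hfinQ : Module.Finite R⟦X⟧ Q :=
      finite_of_finite_quotient htQ (Module.Finite.of_restrictScalars_finite R R⟦X⟧ (Q ⧸ N))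
    obtain ⟨R', i1, i2, φ, i3, h1, h2, h3, h4⟩ := ih R⟦X⟧ M l' (by simpa [l'] using hl) htl'
      (Module.Finite.equiv (Submodule.quotEquivOfEq _ _ hv))
    refine ⟨R', i1, i2, φ.comp PowerSeries.C, i3, fun r m => (h1 _ m).trans (hC r m), h2,
      fun r hr => h3 _ (C_mem_jacobson hr), fun g hg => ?_⟩
    rcases List.mem_cons.1 hg with rfl | hg
    · exact ⟨φ PowerSeries.X, h3 _ X_mem_jacobson, fun m => ((h1 _ m).trans (hX m)).symm⟩
    · obtain ⟨j, hj, hj'⟩ := h4 _ (List.mem_map.2 ⟨g, hg, rfl⟩)
      exact ⟨j, hj, fun m => (hC g m).symm.trans (hj' m)⟩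

theorem isAdicComplete_and_finite {A : Type u} [CommRing A] [IsNoetherianRing A] (I : Ideal A)
    (M : Type u) [AddCommGroup M] [Module A M] (hc : I ≤ telIdeal A M)
    (hf : Module.Finite A (M ⧸ I • (⊤ : Submodule A M))) :
    IsAdicComplete I M ∧ Module.Finite (AdicCompletion I A) (AdicCompletion I M) := by
  obtain ⟨s, hs⟩ := IsNoetherian.noetherian I
  change Ideal.span (s : Set A) = I at hs
  have hset : {x | x ∈ s.toList} = (s : Set A) := Set.ext fun x => Finset.mem_toList
  obtain ⟨R', i1, i2, φ, i3, h1, h2, -, h4⟩ := exists_finite_ring s.toList.length A M s.toList rfl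
    (fun g hg => hc (hs ▸ Ideal.subset_span (Finset.mem_toList.1 hg))) (by rw [hset, hs]; exact hf)
  let J : Ideal R' := (⊥ : Ideal R').jacobson
  have hI : ∀ a ∈ I, ∃ j ∈ J, ∀ m : M, a • m = j • m := by
    intro a ha
    rw [← hs] at ha
    induction ha using Submodule.span_induction with
    | mem g hg => exact h4 g (Finset.mem_toList.2 hg)
    | zero => exact ⟨0, J.zero_mem, fun m => by simp⟩
    | add a b _ _ iha ihb =>
      obtain ⟨ja, hja, ea⟩ := iha
      obtain ⟨jb, hjb, eb⟩ := ihb
      exact ⟨ja + jb, J.add_mem hja hjb, fun m => by rw [add_smul, add_smul, ea, eb]⟩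
    | smul r a _ iha =>
      obtain ⟨ja, hja, ea⟩ := iha
      exact ⟨φ r * ja, J.mul_mem_left _ hja, fun m => by rw [smul_eq_mul, mul_smul, mul_smul, h1, ea]⟩
  have hle : ∀ n : ℕ, ∀ x ∈ (I ^ n • ⊤ : Submodule A M), x ∈ (J ^ n • ⊤ : Submodule R' M) := by
    intro n
    induction n with
    | zero => intro x _; simp
    | succ n ihn =>
      intro x hx
      rw [pow_succ', mul_smul] at hx
      refine Submodule.smul_induction_on hx (fun a ha y hy => ?_) fun y z hy hz => add_mem hy hz
      obtain ⟨j, hj, ej⟩ := hI a ha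
      rw [ej, pow_succ', mul_smul]
      exact Submodule.smul_mem_smul hj (ihn y hy)
  have hH : IsHausdorff I M := ⟨fun x hx => by
    refine (IsHausdorff.of_le_jacobson J M le_rfl).haus x fun n => ?_
    exact SModEq.zero.2 (hle n x (SModEq.zero.1 (hx n)))⟩
  have hP : IsPrecomplete I M := ⟨fun a ha => by
    obtain ⟨x, hx⟩ := DerComplete.of_surjective M I ⟨s, hs⟩ hc (AdicCompletion.mk I M
      (AdicCompletion.AdicCauchySequence.mk I M a fun n => ha (Nat.le_succ n)))
    exact ⟨x, fun n => (SModEq.sub_mem.2 ((Submodule.Quotient.eq _).1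
      (congrArg (fun z : AdicCompletion I M => z.val n) hx))).symm⟩⟩
  refine ⟨{ toIsHausdorff := hH, toIsPrecomplete := hP }, ?_⟩
  obtain ⟨k, q, hq⟩ := Module.Finite.exists_fin' A (M ⧸ I • (⊤ : Submodule A M))
  obtain ⟨p, hp⟩ := Module.projective_lifting_property (I • ⊤ : Submodule A M).mkQ q
    (Submodule.mkQ_surjective _)
  have := Module.Finite.equiv (AdicCompletion.piEquivFin I k).symm
  exact Module.Finite.of_surjective (AdicCompletion.map I p)
    (AdicCompletion.map_surjective_of_mkQ_comp_surjective (by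
      change Function.Surjective ((I • ⊤ : Submodule A M).mkQ.comp p)
      rw [hp]; exact hq))

end Groth.Agent.DRing.AdicFinite
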