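import Groth.Agent.DRing.DBasic
import Mathlib.LinearAlgebra.Trace
import Mathlib.Order.Interval.Finset.Basic
import Mathlib.Algebra.Order.BigOperators.Group.LocallyFinite
import Mathlib.Data.Int.Interval

/-! The alternating trace of an endomorphism of a bounded finite free complex. -/

universe u
attribute [local instance] HasDerivedCategory.standard
open CategoryTheory CategoryTheory.Limits DerivedCategory

namespace Groth.Agent.DRing.AltTrace

variable {A : Type u} [CommRing A]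

/-- The alternating trace. -/
noncomputable def tr {P : CochainComplex (ModuleCat.{u} A) ℤ} (a b : ℤ) (f : P ⟶ P) : A :=
  ∑ i ∈ Finset.Icc a b, ((i.negOnePow : ℤˣ) : ℤ) • LinearMap.trace A (P.X i) (f.f i).hom

theorem telescope {M : Type*} [AddCommGroup M] (u : ℤ → M) (a b : ℤ) (hab : a ≤ b + 1) :
    ∑ i ∈ Finset.Icc a b, ((i.negOnePow : ℤˣ) : ℤ) • (u i + u (i - 1)) =
      ((b.negOnePow : ℤˣ) : ℤ) • u b - (((a - 1).negOnePow : ℤˣ) : ℤ) • u (a - 1) := by
  obtain ⟨n, hn⟩ : ∃ n : ℕ, b = a - 1 + n := ⟨(b + 1 - a).toNat, by omega⟩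
  subst hn
  clear hab
  induction n with
  | zero => simp [Finset.Icc_eq_empty (show ¬ a ≤ a - 1 + ((0 : ℕ) : ℤ) by omega)]
  | succ n ih =>
    have h1 : Finset.Icc a (a - 1 + ((n + 1 : ℕ) : ℤ)) =
        insert (a - 1 + ((n + 1 : ℕ) : ℤ)) (Finset.Icc a (a - 1 + (n : ℤ))) := by
      ext i
      simp only [Finset.mem_Icc, Finset.mem_insert]
      omega
    rw [h1, Finset.sum_insert (by simp only [Finset.mem_Icc]; omega), ih]
    have h2 : a - 1 + ((n + 1 : ℕ) : ℤ) - 1 = a - 1 + (n : ℤ) := by omega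
    have h3 : ((((a - 1 + ((n + 1 : ℕ) : ℤ)) : ℤ).negOnePow : ℤˣ) : ℤ) =
        -(((a - 1 + (n : ℤ)).negOnePow : ℤˣ) : ℤ) := by
      rw [show a - 1 + ((n + 1 : ℕ) : ℤ) = (a - 1 + (n : ℤ)) + 1 by omega, Int.negOnePow_succ]
      simp
    rw [h2, h3, smul_add, neg_smul, neg_smul]
    abel

variable {P Q' : CochainComplex (ModuleCat.{u} A) ℤ}

theorem tr_homotopic {a b : ℤ} (hP : DRing.VanishesOutside P a b) (hPf : DRing.TermwiseFiniteFree P)
    {f g : P ⟶ P} (h : Homotopy f g) : tr a b f = tr a b g := by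
  by_cases hab : a ≤ b + 1
  swap
  · simp [tr, Finset.Icc_eq_empty (show ¬ a ≤ b by omega)]
  haveI := fun i => (hPf i).1
  haveI := fun i => (hPf i).2
  let u : ℤ → A := fun i => LinearMap.trace A (P.X i) ((h.hom (i + 1) i).hom ∘ₗ (P.d i (i + 1)).hom)
  have key : ∀ i, LinearMap.trace A (P.X i) (f.f i).hom =
      LinearMap.trace A (P.X i) (g.f i).hom + (u i + u (i - 1)) := by
    intro i
    have h1 : f.f i = P.d i (i + 1) ≫ h.hom (i + 1) i + h.hom i (i - 1) ≫ P.d (i - 1) i + g.f i := by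
      conv_lhs => rw [h.comm i]
      rw [dNext_eq h.hom (show (ComplexShape.up ℤ).Rel i (i + 1) from rfl),
        prevD_eq h.hom (show (ComplexShape.up ℤ).Rel (i - 1) i by simp)]
    have h2 : u (i - 1) = LinearMap.trace A (P.X i) ((P.d (i - 1) i).hom ∘ₗ (h.hom i (i - 1)).hom) := by
      obtain ⟨j, rfl⟩ : ∃ j, i = j + 1 := ⟨i - 1, by omega⟩
      rw [show (j + 1 - 1 : ℤ) = j by omega]
      exact LinearMap.trace_comp_comm' _ _
    rw [h2, h1, ModuleCat.hom_add, ModuleCat.hom_add, map_add, map_add, ModuleCat.hom_comp,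
      ModuleCat.hom_comp]
    abel
  have hb : u b = 0 := by
    simp only [u, (hP (b + 1) (Or.inr (by omega))).eq_of_tgt (P.d b (b + 1)) 0, ModuleCat.hom_zero,
      LinearMap.comp_zero, map_zero]
  have ha : u (a - 1) = 0 := by
    simp only [u, (hP (a - 1) (Or.inl (by omega))).eq_of_tgt (h.hom (a - 1 + 1) (a - 1)) 0,
      ModuleCat.hom_zero, LinearMap.zero_comp, map_zero]
  simp only [tr, key, smul_add, Finset.sum_add_distrib]
  rw [← Finset.sum_add_distrib (f := fun i : ℤ => ((i.negOnePow : ℤˣ) : ℤ) • u i)]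
  simp only [← smul_add]
  rw [telescope u a b hab, ha, hb, smul_zero, smul_zero, sub_zero, add_zero]

theorem tr_comm {a b : ℤ} (hPf : DRing.TermwiseFiniteFree P) (hQf : DRing.TermwiseFiniteFree Q')
    (F : P ⟶ Q') (G : Q' ⟶ P) : tr a b (F ≫ G) = tr a b (G ≫ F) := by
  haveI := fun i => (hPf i).1
  haveI := fun i => (hPf i).2
  haveI := fun i => (hQf i).1
  haveI := fun i => (hQf i).2
  refine Finset.sum_congr rfl fun i _ => congrArg _ ?_
  rw [HomologicalComplex.comp_f, HomologicalComplex.comp_f, ModuleCat.hom_comp, ModuleCat.hom_comp]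
  exact LinearMap.trace_comp_comm' _ _

theorem isKProjective_of_finiteFree {P : DRing.Cx A} {a b : ℤ} (hP : DRing.VanishesOutside P a b)
    (hPf : DRing.TermwiseFiniteFree P) : P.IsKProjective := by
  refine DBasic.isKProjective_of_projective P b (fun i hi => hP i (Or.inr hi)) (fun i => ?_)
  haveI := (hPf i).2
  infer_instance

theorem tr_eq_of_iso {P Q' : DRing.Cx A} {a b : ℤ} (hP : DRing.VanishesOutside P a b)
    (hQ : DRing.VanishesOutside Q' a b) (hPf : DRing.TermwiseFiniteFree P)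
    (hQf : DRing.TermwiseFiniteFree Q') (f : P ⟶ P) (g : Q' ⟶ Q')
    (α : DRing.toD P ≅ DRing.toD Q')
    (h : α.hom ≫ DerivedCategory.Q.map g = DerivedCategory.Q.map f ≫ α.hom) :
    tr a b f = tr a b g := by
  haveI := isKProjective_of_finiteFree hP hPf
  haveI := isKProjective_of_finiteFree hQ hQf
  obtain ⟨F, hF⟩ := DBasic.exists_Q_map_eq α.hom
  obtain ⟨G, hG⟩ := DBasic.exists_Q_map_eq α.inv
  have h1 : Q.map ((f ≫ F) ≫ G) = Q.map f := by
    rw [Functor.map_comp, Functor.map_comp, hF, hG, Category.assoc]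
    erw [α.hom_inv_id, Category.comp_id]
  have h2 : Q.map (G ≫ f ≫ F) = Q.map g := by
    rw [Functor.map_comp, Functor.map_comp, hF, hG]
    erw [← h]
    erw [α.inv_hom_id_assoc]
  obtain ⟨H1⟩ := (DBasic.Q_map_eq_iff _ _).1 h1
  obtain ⟨H2⟩ := (DBasic.Q_map_eq_iff _ _).1 h2
  rw [← tr_homotopic hP hPf H1, ← tr_homotopic hQ hQf H2]
  exact tr_comm hPf hQf (f ≫ F) G

end Groth.Agent.DRing.AltTrace
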