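import Groth.Prelude.Def_CohDer
import Groth.Agent.DHA.KInj.Products
import Groth.Agent.DHA.KInjectiveResolution
import Groth.Agent.DHA.Telescope
import Groth.Agent.DRing.DBasic
import Mathlib.Algebra.Homology.GrothendieckAbelian
import Mathlib.Algebra.Category.ModuleCat.AB
import Mathlib.CategoryTheory.Limits.Shapes.Opposites.Products

/-!
# Coproducts in `D(R)`, compactness and telescopes
-/

universe v u w

open CategoryTheory CategoryTheory.Limits CategoryTheory.Pretriangulated

attribute [local instance] HasDerivedCategory.standard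

namespace Groth.Agent.DRing.Compact

section General

variable {D : Type*} [Category.{v} D]

/-- A colimit cofan is a coproduct after reindexing. -/
lemma hasCoproduct_reindex {I : Type w} {J : Type v} (σ : J ≃ I) {E : I → D} {c : Cofan E} (hc : IsColimit c) :
    HasCoproduct fun j => E (σ j) :=
  have : HasCoproduct E := ⟨⟨⟨_, hc⟩⟩⟩
  hasColimit_equivalence_comp (Discrete.equivalence σ) (F := Discrete.functor E) |> fun _ =>
    hasColimit_of_iso (Discrete.natIso fun _ => Iso.refl _ : Discrete.functor (fun j => E (σ j)) ≅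
      (Discrete.equivalence σ).functor ⋙ Discrete.functor E)

variable [Preadditive D]

lemma homSum_of {K : D} {ι : Type v} [DecidableEq ι] (X : ι → D) [HasCoproduct X] (i : ι) (f : K ⟶ X i) :
    CohDer.homSumToHomCoprod K X (DirectSum.of _ i f) = f ≫ Sigma.ι X i := by
  unfold CohDer.homSumToHomCoprod
  have : ‹DecidableEq ι› = fun a b => Classical.propDecidable (a = b) := Subsingleton.elim _ _
  subst this
  simp [DirectSum.toAddMonoid_of, Preadditive.rightComp]

/-- Compactness gives finite decompositions of maps into any colimit cofan. -/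
lemma exists_sum {I : Type w} {J : Type v} (σ : J ≃ I) {K : D} {E : I → D} {c : Cofan E} (hc : IsColimit c)
    (hK : ∀ [HasCoproduct fun j => E (σ j)],
      Function.Surjective (CohDer.homSumToHomCoprod K (fun j => E (σ j))))
    (φ : K ⟶ c.pt) : ∃ (s : Finset I) (y : ∀ i, K ⟶ E i), φ = ∑ i ∈ s, y i ≫ c.inj i := by
  classical
  have := hasCoproduct_reindex σ hc
  let g : (∐ fun j => E (σ j)) ⟶ c.pt := Sigma.desc fun j => c.inj (σ j)
  let h : c.pt ⟶ ∐ fun j => E (σ j) := Cofan.IsColimit.desc hc fun i =>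
    eqToHom (by rw [σ.apply_symm_apply]) ≫ Sigma.ι (fun j => E (σ j)) (σ.symm i)
  have hσ : ∀ {i i' : I} (e : i = i'), eqToHom (congrArg E e) ≫ c.inj i' = c.inj i := by
    rintro i _ rfl; exact Category.id_comp _
  have hhg : h ≫ g = 𝟙 c.pt := Cofan.IsColimit.hom_ext hc _ _ fun i => by
    rw [Cofan.IsColimit.fac_assoc, Category.assoc, Sigma.ι_desc, hσ (σ.apply_symm_apply i).symm]
    exact (Category.comp_id _).symm
  obtain ⟨x, hx⟩ := hK (φ ≫ h)
  let y : ∀ i, K ⟶ E i := fun i => x (σ.symm i) ≫ eqToHom (by rw [σ.apply_symm_apply])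
  refine ⟨(DFinsupp.support x).map σ.toEmbedding, y, ?_⟩
  rw [Finset.sum_map]
  have hy : ∀ j, y (σ j) ≫ c.inj (σ j) = x j ≫ c.inj (σ j) := fun j => by
    have key : ∀ j' (e : j' = j), (x j' ≫ eqToHom (congrArg (fun t => E (σ t)) e)) ≫ c.inj (σ j) = x j ≫ c.inj (σ j) := by
      rintro _ rfl; rw [eqToHom_refl, Category.comp_id]
    exact key _ (σ.symm_apply_apply j)
  calc φ = CohDer.homSumToHomCoprod K _ x ≫ g := by rw [hx, Category.assoc, hhg, Category.comp_id]
    _ = (CohDer.homSumToHomCoprod K _ (∑ i ∈ DFinsupp.support x, DirectSum.of _ i (x i))) ≫ g := by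
      rw [DirectSum.sum_support_of]
    _ = _ := by
      rw [map_sum, Preadditive.sum_comp]
      refine Finset.sum_congr rfl fun j _ => ?_
      rw [homSum_of, Category.assoc, Sigma.ι_desc]
      exact (hy j).symm

/-- Finite decompositions give bijectivity. -/
lemma bijective_of_exists_sum {I : Type v} {K : D} {E : I → D} [HasCoproduct E]
    (h : ∀ φ : K ⟶ ∐ E, ∃ (s : Finset I) (y : ∀ i, K ⟶ E i), φ = ∑ i ∈ s, y i ≫ Sigma.ι E i) :
    Function.Bijective (CohDer.homSumToHomCoprod K E) := by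
  classical
  refine ⟨fun x x' hxx => ?_, fun φ => ?_⟩
  · let π : ∀ j, (∐ E) ⟶ E j := fun j => Sigma.desc (Pi.single j (𝟙 (E j)))
    have key : ∀ (x : DirectSum I fun i => K ⟶ E i) j, CohDer.homSumToHomCoprod K E x ≫ π j = x j := by
      intro x j
      induction x using DirectSum.induction_on with
      | zero => simp
      | of i f =>
        rw [homSum_of, Category.assoc, Sigma.ι_desc]
        rcases eq_or_ne i j with rfl | hij
        · rw [Pi.single_eq_same, Category.comp_id, DirectSum.of_eq_same]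
        · rw [Pi.single_eq_of_ne hij, comp_zero, DirectSum.of_eq_of_ne _ _ _ (Ne.symm hij)]
      | add a b ha hb => rw [map_add, Preadditive.add_comp, ha, hb]; rfl
    exact DFinsupp.ext fun j => by rw [← key x j, hxx, key x' j]
  · obtain ⟨s, y, rfl⟩ := h φ
    exact ⟨∑ i ∈ s, DirectSum.of _ i (y i), by simp [map_sum, homSum_of]⟩

variable {E : ℕ → D} (f : ∀ n, E n ⟶ E (n + 1)) {c : Cofan E} (hc : IsColimit c)

/-- `1 - shift` on a countable coproduct. -/
noncomputable def oneSub : c.pt ⟶ c.pt :=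
  Cofan.IsColimit.desc hc fun n => c.inj n - f n ≫ c.inj (n + 1)

lemma inj_oneSub (n : ℕ) : c.inj n ≫ oneSub f hc = c.inj n - f n ≫ c.inj (n + 1) :=
  Cofan.IsColimit.fac hc _ n

/-- `1 - shift` is injective on finitely supported maps. -/
lemma eq_zero_of_comp_oneSub {K : D} (s : Finset ℕ) (y : ∀ n, K ⟶ E n)
    (h : (∑ n ∈ s, y n ≫ c.inj n) ≫ oneSub f hc = 0) : (∑ n ∈ s, y n ≫ c.inj n) = 0 := by
  classical
  let π : ∀ j, c.pt ⟶ E j := fun j => Cofan.IsColimit.desc hc (Pi.single (M := fun k => E k ⟶ E j) j (𝟙 (E j)))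
  have hπ : ∀ j k, c.inj k ≫ π j = Pi.single (M := fun k => E k ⟶ E j) j (𝟙 (E j)) k := fun j k => Cofan.IsColimit.fac hc _ k
  have hz : ∀ j, (∑ n ∈ s, y n ≫ c.inj n) ≫ π j = if j ∈ s then y j else 0 := fun j => by
    rw [Preadditive.sum_comp]
    simp only [Category.assoc, hπ]
    split_ifs with hj
    · rw [Finset.sum_eq_single_of_mem j hj fun b _ hb => by rw [Pi.single_eq_of_ne hb, comp_zero],
        Pi.single_eq_same, Category.comp_id]
    · exact Finset.sum_eq_zero fun b hb => by
        rw [Pi.single_eq_of_ne (ne_of_mem_of_not_mem hb hj), comp_zero]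
  have hall : ∀ j, (∑ n ∈ s, y n ≫ c.inj n) ≫ π j = 0 := by
    intro j
    induction j with
    | zero =>
      have : oneSub f hc ≫ π 0 = π 0 := Cofan.IsColimit.hom_ext hc _ _ fun k => by
        rw [← Category.assoc, inj_oneSub, Preadditive.sub_comp, Category.assoc, hπ, hπ,
          Pi.single_eq_of_ne (show k + 1 ≠ 0 by omega), comp_zero, sub_zero]
      rw [← this, ← Category.assoc, h, zero_comp]
    | succ j ih =>
      have : oneSub f hc ≫ π (j + 1) = π (j + 1) - π j ≫ f j := Cofan.IsColimit.hom_ext hc _ _ fun k => by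
        rw [← Category.assoc, inj_oneSub, Preadditive.sub_comp, Category.assoc, hπ, hπ,
          Preadditive.comp_sub, hπ, ← Category.assoc, hπ]
        rcases eq_or_ne k j with rfl | hkj
        · rw [Pi.single_eq_same, Pi.single_eq_same, Category.id_comp, Category.comp_id]
        · rw [Pi.single_eq_of_ne (show k + 1 ≠ j + 1 by omega), Pi.single_eq_of_ne hkj,
            comp_zero, zero_comp]
      have h2 := congrArg (· ≫ π (j + 1)) h
      simp only [Category.assoc, this, Preadditive.comp_sub, zero_comp] at h2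
      rw [← Category.assoc, ih, zero_comp, sub_zero] at h2
      exact h2
  refine Finset.sum_eq_zero fun j hj => ?_
  have := hall j
  rw [hz, if_pos hj] at this
  rw [this, zero_comp]

end General

variable {R : Type u} [CommRing R]

instance : HasExactColimitsOfShape ℕ (DRing.Cx R) :=
  HasExactColimitsOfShape.of_domain_equivalence (DRing.Cx R) (J := AsSmall.{u} ℕ) (AsSmall.equiv (C := ℕ)).symm

/-- Coproducts of complexes are coproducts in `D(R)`. -/
lemma nonempty_isColimit_Q {I : Type u} (L : I → DRing.Cx R) :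
    Nonempty (IsColimit (Cofan.mk (DerivedCategory.Q.obj (∐ L)) fun i => DerivedCategory.Q.map (Sigma.ι L i))) :=
  DHA.KInj.nonempty_isColimit_Q (fun K => by
    obtain ⟨J, g, h1, h2, -⟩ := DHA.KInj.exists_resolution (ModuleCat.{u} R) K
    exact ⟨J, g, h1, h2⟩) L

variable (F : ℕ ⥤ DRing.Cx R) {c : Cocone F} (hc : IsColimit c) (K : Dual.D R)
  (hK : ∀ (E : ℕ → Dual.D R) [HasCoproduct fun i : ULift.{u + 1} ℕ => E i.down],
      Function.Surjective (CohDer.homSumToHomCoprod K (fun i : ULift.{u + 1} ℕ => E i.down)))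

include hc hK in
/-- Maps out of an object compact for sequences commute with sequential colimits of complexes. -/
theorem hom_colimit :
    (∀ x : K ⟶ DRing.toD c.pt, ∃ (n : ℕ) (y : K ⟶ DRing.toD (F.obj n)),
        y ≫ DerivedCategory.Q.map (c.ι.app n) = x) ∧
      (∀ (n : ℕ) (y : K ⟶ DRing.toD (F.obj n)), y ≫ DerivedCategory.Q.map (c.ι.app n) = 0 →
        ∃ (m : ℕ) (h : n ≤ m), y ≫ DerivedCategory.Q.map (F.map (homOfLE h)) = 0) := by
  classical
  let E : ℕ → DRing.Cx R := F.obj
  let ψ : (∐ E) ⟶ ∐ E := Sigma.desc fun n => Sigma.ι E n - F.map (homOfLE (Nat.le_add_right n 1)) ≫ Sigma.ι E (n + 1)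
  let q : (∐ E) ⟶ c.pt := Sigma.desc fun n => c.ι.app n
  have w : ψ ≫ q = 0 := Sigma.hom_ext _ _ fun n => by
    rw [← Category.assoc, Sigma.ι_desc, Preadditive.sub_comp, Category.assoc, Sigma.ι_desc, Sigma.ι_desc,
      Limits.comp_zero]
    exact sub_eq_zero.2 (c.w _).symm
  have hS := DHA.Telescope.shortExact F (coproductIsCoproduct E) hc ψ (fun n => Sigma.ι_desc _ n) q
    (fun n => Sigma.ι_desc _ n) w
  have hT := DerivedCategory.triangleOfSES_distinguished hS
  obtain ⟨hD⟩ := nonempty_isColimit_Q (R := R) (fun n : ULift.{u} ℕ => E n.down)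
  let e : (∐ fun n : ULift.{u} ℕ => E n.down) ≅ ∐ E :=
    { hom := Sigma.desc fun i => Sigma.ι E i.down
      inv := Sigma.desc fun n => Sigma.ι (fun n : ULift.{u} ℕ => E n.down) ⟨n⟩
      hom_inv_id := Sigma.hom_ext _ _ fun i => by simp
      inv_hom_id := Sigma.hom_ext _ _ fun i => by simp }
  let cD : Cofan fun n => DerivedCategory.Q.obj (E n) :=
    Cofan.mk (DerivedCategory.Q.obj (∐ E)) fun n => DerivedCategory.Q.map (Sigma.ι E n)
  have hcD : IsColimit cD := Cofan.IsColimit.mk _
    (fun t => DerivedCategory.Q.map e.inv ≫ Cofan.IsColimit.desc hD fun i => t.inj i.down)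
    (fun t j => by
      change DerivedCategory.Q.map (Sigma.ι E j) ≫ _ = _
      rw [← Category.assoc, ← Functor.map_comp, show Sigma.ι E j ≫ e.inv =
        Sigma.ι (fun n : ULift.{u} ℕ => E n.down) ⟨j⟩ by simp [e]]
      exact Cofan.IsColimit.fac hD _ ⟨j⟩)
    (fun t m hm => by
      refine (cancel_epi (DerivedCategory.Q.mapIso e).hom).1 ?_
      refine Cofan.IsColimit.hom_ext hD _ _ fun i => ?_
      change DerivedCategory.Q.map (Sigma.ι (fun n : ULift.{u} ℕ => E n.down) i) ≫ DerivedCategory.Q.map e.hom ≫ m =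
        DerivedCategory.Q.map (Sigma.ι (fun n : ULift.{u} ℕ => E n.down) i) ≫ DerivedCategory.Q.map e.hom ≫
          DerivedCategory.Q.map e.inv ≫ _
      rw [← Category.assoc (DerivedCategory.Q.map e.hom) (DerivedCategory.Q.map e.inv), ← DerivedCategory.Q.map_comp,
        e.hom_inv_id, CategoryTheory.Functor.map_id, Category.id_comp, ← Category.assoc, ← DerivedCategory.Q.map_comp,
        show Sigma.ι (fun n : ULift.{u} ℕ => E n.down) i ≫ e.hom = Sigma.ι E i.down by simp [e]]
      exact (hm i.down).trans (Cofan.IsColimit.fac hD (fun i => t.inj i.down) i).symm)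
  let f : ∀ n, DerivedCategory.Q.obj (E n) ⟶ DerivedCategory.Q.obj (E (n + 1)) := fun n =>
    DerivedCategory.Q.map (F.map (homOfLE (Nat.le_add_right n 1)))
  have hψ : oneSub f hcD = DerivedCategory.Q.map ψ := Cofan.IsColimit.hom_ext hcD _ _ fun n => by
    rw [inj_oneSub]
    change DerivedCategory.Q.map _ - DerivedCategory.Q.map _ ≫ DerivedCategory.Q.map _ =
      DerivedCategory.Q.map _ ≫ DerivedCategory.Q.map _
    rw [← Functor.map_comp, ← Functor.map_sub, ← Functor.map_comp, Sigma.ι_desc]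
  have dec : ∀ φ : K ⟶ cD.pt, ∃ (s : Finset ℕ) (y : ∀ i, K ⟶ DerivedCategory.Q.obj (E i)),
      φ = ∑ i ∈ s, y i ≫ cD.inj i := exists_sum Equiv.ulift.{u + 1} hcD (@fun inst => @hK (fun n => DerivedCategory.Q.obj (E n)) inst)
  have hq : ∀ n, cD.inj n ≫ DerivedCategory.Q.map q = DerivedCategory.Q.map (c.ι.app n) := fun n => by
    change DerivedCategory.Q.map _ ≫ _ = _
    rw [← Functor.map_comp, Sigma.ι_desc]
  have hsum : ∀ (s : Finset ℕ) (y : ∀ i, K ⟶ DerivedCategory.Q.obj (E i)) (m : ℕ) (hm : ∀ i ∈ s, i ≤ m),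
      (∑ i ∈ s, y i ≫ cD.inj i) ≫ DerivedCategory.Q.map q =
        (∑ i ∈ s, if h : i ≤ m then y i ≫ DerivedCategory.Q.map (F.map (homOfLE h)) else 0) ≫
          DerivedCategory.Q.map (c.ι.app m) := by
    intro s y m hm
    rw [Preadditive.sum_comp, Preadditive.sum_comp]
    refine Finset.sum_congr rfl fun i hi => ?_
    rw [dif_pos (hm i hi), Category.assoc, hq, Category.assoc, ← Functor.map_comp, c.w]
  refine ⟨fun x => ?_, fun n y hy => ?_⟩
  · let δ := (DerivedCategory.triangleOfSES hS).mor₃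
    have hx : x ≫ δ = 0 := by
      let S1 := shiftFunctor (Dual.D R) (1 : ℤ)
      have hsh := isColimitCofanMkObjOfIsColimit S1 (fun n => DerivedCategory.Q.obj (E n)) _ hcD
      obtain ⟨s, z, hz⟩ := exists_sum Equiv.ulift.{u + 1} hsh (@fun inst => @hK (fun n => S1.obj (DerivedCategory.Q.obj (E n))) inst) (x ≫ δ)
      have h1 : oneSub (fun n => S1.map (f n)) hsh = S1.map (DerivedCategory.Q.map ψ) :=
        Cofan.IsColimit.hom_ext hsh _ _ fun k => by
          rw [inj_oneSub, ← hψ]
          change S1.map _ - S1.map _ ≫ S1.map _ = S1.map _ ≫ S1.map _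
          rw [← S1.map_comp, ← S1.map_sub]
          exact (congrArg S1.map (inj_oneSub f hcD k)).symm.trans (S1.map_comp _ _)
      refine hz.trans (eq_zero_of_comp_oneSub (fun n => S1.map (f n)) hsh s z ?_)
      rw [h1]
      refine (congrArg (· ≫ S1.map (DerivedCategory.Q.map ψ)) hz).symm.trans ?_
      refine (Category.assoc _ _ _).trans ?_
      exact (congrArg (x ≫ ·) (comp_distTriang_mor_zero₃₁ _ hT)).trans Limits.comp_zero
    obtain ⟨w', rfl⟩ := Triangle.coyoneda_exact₃ _ hT x hx
    obtain ⟨s, y, hy⟩ := dec w'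
    refine ⟨s.sup id, _, (hsum s y (s.sup id) fun i hi => Finset.le_sup (f := id) hi).symm.trans ?_⟩
    rw [← hy]
    rfl
  · obtain ⟨z, hz⟩ := Triangle.coyoneda_exact₂ _ hT (y ≫ cD.inj n) (by
      change (y ≫ cD.inj n) ≫ DerivedCategory.Q.map q = 0
      rw [Category.assoc, hq]; exact hy)
    obtain ⟨s, z', hz'⟩ := dec z
    let m := max n (s.sup id + 1)
    let P : cD.pt ⟶ DerivedCategory.Q.obj (E m) := Cofan.IsColimit.desc hcD fun k =>
      if h : k ≤ m then DerivedCategory.Q.map (F.map (homOfLE h)) else 0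
    have hP : ∀ k (h : k ≤ m), cD.inj k ≫ P = DerivedCategory.Q.map (F.map (homOfLE h)) := fun k h =>
      (Cofan.IsColimit.fac hcD _ k).trans (dif_pos h)
    refine ⟨m, le_max_left _ _, ?_⟩
    rw [← hP n (le_max_left _ _), ← Category.assoc]
    refine (congrArg (· ≫ P) hz).trans ?_
    suffices h0 : ((∑ i ∈ s, z' i ≫ cD.inj i) ≫ oneSub f hcD) ≫ P = 0 by
      rw [hψ] at h0
      exact (congrArg (fun t => (t ≫ DerivedCategory.Q.map ψ) ≫ P) hz').trans h0
    rw [Preadditive.sum_comp, Preadditive.sum_comp]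
    refine Finset.sum_eq_zero fun k hk => ?_
    have hk' : k + 1 ≤ m := le_trans (Nat.succ_le_succ (Finset.le_sup (f := id) hk)) (le_max_right _ _)
    simp only [Category.assoc]
    rw [← Category.assoc (cD.inj k), inj_oneSub, Preadditive.sub_comp, Category.assoc, hP k (by omega), hP (k + 1) hk',
      ← Functor.map_comp, ← Functor.map_comp, homOfLE_comp, sub_self, Limits.comp_zero]

end Groth.Agent.DRing.Compact
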