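import Groth.Agent.DRing.DerivedCompletion

/-!
# Cohomological amplitude of derived completion, completion of triangles
-/

universe u

open CategoryTheory CategoryTheory.Limits CategoryTheory.Pretriangulated DerivedCategory
  MonoidalCategory

attribute [local instance] HasDerivedCategory.standard

namespace Groth.Agent.DRing.Completion

open DBasic Homology PC TelComplex
open scoped TensorProduct

variable {A : Type u} [CommRing A]

lemma exactAt_HC (f : A) (E : DRing.Cx A) [E.IsKInjective] (i : ℤ) (h0 : E.ExactAt i)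
    (h1 : E.ExactAt (i - 1)) : ((HC f).obj E).ExactAt i := by
  have hT : ∀ g : T f i ⟶ E, Nonempty (Homotopy g 0) := by
    refine (nullHomotopic_iff f E i).2 fun a b hb hab => ?_
    choose c hc using fun k => (exactAt_iff_forall i (i - 1) (by omega)).1 h0 (b k) (hb k)
    have hcyc : ∀ k, IsCyc E (i - 1) (a k - (c k - f • c (k + 1))) := fun k => by
      rw [isCyc_iff (show i - 1 + 1 = i by omega), map_sub, map_sub, map_smul, hc, hc, hab, sub_self]
    choose e he using fun k => (exactAt_iff_forall (i - 1) (i - 2) (by omega)).1 h1 _ (hcyc k)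
    exact ⟨c, e, hc, fun k => by rw [he k]; abel⟩
  obtain ⟨p, hp⟩ := exists_qis f i
  have : IsIso (Q.map p) := inferInstance
  refine (exactAt_iff_forall i (i - 1) (by omega)).2 fun z hz => ?_
  let z' : Localization.Away f →ₗ[A] E.X i := z
  let S := sgl i (ModuleCat.of A (Localization.Away f))
  let v : S ⟶ E := HomologicalComplex.mkHomFromSingle (ModuleCat.ofHom z')
    (fun k (hk : i + 1 = k) => ModuleCat.hom_ext (LinearMap.congr_fun ((isCyc_iff hk z).1 hz) |>
      fun h => LinearMap.ext h))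
  obtain ⟨H⟩ := (InjAmp.Q_map_eq_iff_inj v 0).1 ((cancel_epi (Q.map p)).1 (by
    rw [← Functor.map_comp, ← Functor.map_comp, InjAmp.Q_map_eq_iff_inj, Limits.comp_zero]
    exact hT _))
  let σ := HomologicalComplex.singleObjXSelf (ComplexShape.up ℤ) i (ModuleCat.of A (Localization.Away f))
  refine ⟨(σ.inv ≫ H.hom i (i - 1)).hom, LinearMap.ext fun b => ?_⟩
  have hc := H.comm i
  rw [dNext_eq H.hom (show (ComplexShape.up ℤ).Rel i (i + 1) from rfl),
    prevD_eq H.hom (show (ComplexShape.up ℤ).Rel (i - 1) i by simp),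
    HomologicalComplex.single_obj_d, zero_comp, zero_add, HomologicalComplex.zero_f, add_zero] at hc
  rw [show v.f i = σ.hom ≫ ModuleCat.ofHom z' from HomologicalComplex.mkHomFromSingle_f _ _,
    ← σ.eq_inv_comp] at hc
  exact (LinearMap.congr_fun (congrArg ModuleCat.Hom.hom hc) b).symm

lemma exactAt_cpl (f : A) (E : DRing.Cx A) [E.IsKInjective] (i : ℤ) (h0 : E.ExactAt i)
    (h1 : E.ExactAt (i + 1)) : (cpl f E).ExactAt i := by
  have hH : ((HC f).obj E).ExactAt (i + 1) := exactAt_HC f E (i + 1) h1 (by rwa [add_sub_cancel_right])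
  let T := DerivedCategory.Q.mapTriangle.obj (CochainComplex.mappingCone.triangle (evC f E))
  have hT : T ∈ distinguishedTriangles := mappingCone_triangle_distinguished (evC f E)
  rw [HomologicalComplex.exactAt_iff_isZero_homology]
  refine IsZero.of_iso ?_ (hIso (cpl f E) i).symm
  exact (DerivedCategory.HomologySequence.exact₃ T hT i (i + 1) rfl).isZero_of_both_zeros
    ((IsZero.of_iso h0.isZero_homology (hIso E i)).eq_of_src _ _)
    ((IsZero.of_iso hH.isZero_homology (hIso ((HC f).obj E) (i + 1))).eq_of_tgt _ _)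

theorem exists_completion_amp (s : Finset A) (E : DRing.Cx A) [E.IsKInjective] :
    ∃ C : DRing.Cx A, C.IsKInjective ∧ (∀ f ∈ s, Contr ((HC f).obj C)) ∧
      (∀ g : A, Contr ((HC g).obj E) → Contr ((HC g).obj C)) ∧
      (∀ i : ℤ, (∀ j : ℤ, i ≤ j → j ≤ i + (s.card : ℤ) → E.ExactAt j) → C.ExactAt i) ∧
      ∃ ι : E ⟶ C, ∀ L : DRing.Cx A, L.IsKInjective → (∀ f ∈ s, Contr ((HC f).obj L)) →
        Function.Bijective fun v : Q.obj C ⟶ Q.obj L => Q.map ι ≫ v := by
  classical
  induction s using Finset.induction with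
  | empty =>
    exact ⟨E, inferInstance, fun f hf => absurd hf (Finset.notMem_empty f), fun _ h => h,
      fun i h => h i le_rfl (by omega), 𝟙 E,
      fun L _ _ => ⟨fun v w h => by simpa using h, fun w => ⟨w, by simp⟩⟩⟩
  | insert f s hf ih =>
    obtain ⟨C, hC, h1, h2, hamp, ι, h3⟩ := ih
    refine ⟨cpl f C, isKInjective_mappingCone _, fun g hg => ?_,
      fun g hg => contr_cpl_of_contr f g C (h2 g hg), fun i hi => ?_,
      ι ≫ CochainComplex.mappingCone.inr (evC f C), fun L hL hLs => ?_⟩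
    · rcases Finset.mem_insert.1 hg with rfl | hg
      · exact contr_cpl g C
      · exact contr_cpl_of_contr f g C (h1 g hg)
    · rw [Finset.card_insert_of_notMem hf] at hi
      exact exactAt_cpl f C i (hamp i fun j h4 h5 => hi j h4 (by push_cast; omega))
        (hamp (i + 1) fun j h4 h5 => hi j (by omega) (by push_cast; omega))
    · have := (h3 L hL fun g hg => hLs g (Finset.mem_insert_of_mem hg)).comp
        (bijective_cpl f C L (hLs f (Finset.mem_insert_self f s)))
      convert this using 1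
      funext v
      simp

variable (I : Ideal A)

/-- The universal property of the completion. -/
def IsUniversal {K C : Dual.D A} (η : K ⟶ C) : Prop :=
  DRing.IsDerivedComplete I C ∧
    ∀ E : Dual.D A, DRing.IsDerivedComplete I E → Function.Bijective fun v : C ⟶ E => η ≫ v

lemma IsUniversal.exists_iso {K C C' : Dual.D A} {η : K ⟶ C} {η' : K ⟶ C'} (h : IsUniversal I η)
    (h' : IsUniversal I η') : ∃ e : C ≅ C', η ≫ e.hom = η' := by
  obtain ⟨a, ha⟩ := (h.2 C' h'.1).2 η'
  obtain ⟨b, hb⟩ := (h'.2 C h.1).2 η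
  dsimp only at ha hb
  refine ⟨⟨a, b, (h.2 C h.1).1 ?_, (h'.2 C' h'.1).1 ?_⟩, ha⟩
  · dsimp only; rw [← Category.assoc, ha, hb, Category.comp_id]
  · dsimp only; rw [← Category.assoc, hb, ha, Category.comp_id]

variable [DRing.HasDerivedCompletion I]

lemma isUniversal_unit (K : Dual.D A) : IsUniversal I (DRing.toDerivedCompletion I K) := by
  refine ⟨((DRing.derivedCompletion I).obj K).property, fun E hE => ?_⟩
  let L : DRing.DComp I := ⟨E, hE⟩
  let e : (((DRing.derivedCompletion I).obj K).obj ⟶ E) ≃ ((DRing.derivedCompletion I).obj K ⟶ L) :=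
    { toFun := fun v => ObjectProperty.homMk v
      invFun := fun w => w.hom }
  have h : (fun v : ((DRing.derivedCompletion I).obj K).obj ⟶ E => DRing.toDerivedCompletion I K ≫ v) =
      ((DRing.derivedCompletionAdj I).homEquiv K L) ∘ e := by
    funext v
    exact ((DRing.derivedCompletionAdj I).homEquiv_unit (f := e v)).symm
  exact h ▸ ((DRing.derivedCompletionAdj I).homEquiv K L).bijective.comp e.bijective

/-- Amplitude of derived completion. -/
theorem isZero_HF_completion (s : Finset A) (hs : Ideal.span (s : Set A) = I) (K : Dual.D A) (i : ℤ)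
    (hK : ∀ j : ℤ, i ≤ j → j ≤ i + (s.card : ℤ) → IsZero ((HF j).obj K)) :
    IsZero ((HF i).obj ((DRing.derivedCompletion I).obj K).obj) := by
  subst hs
  obtain ⟨E, hE, ⟨e⟩⟩ := exists_kinj K
  obtain ⟨C, hC, h1, -, hamp, ι, h3⟩ := exists_completion_amp s E
  have hcomp : DRing.IsDerivedComplete (Ideal.span (s : Set A)) (DRing.toD C) := by
    rw [TelComplex.isDerivedComplete_iff]
    intro f hf j
    exact (Ideal.span_le (I := Tel.telIdeal A (Dual.HD A (DRing.toD C) j))).2
      (fun g hg => (DerComplete.subsingleton_hom_away_iff _ g).1 ((complete_iff_contr g C).2 (h1 g hg)) j) hf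
  have hu : IsUniversal (Ideal.span (s : Set A)) (e.inv ≫ Q.map ι) := by
    refine ⟨hcomp, fun L hL => ?_⟩
    obtain ⟨E', hE', ⟨e'⟩⟩ := exists_kinj L
    have hb := h3 E' hE' fun f hf => (complete_iff_contr f E').1 fun n =>
      (complete_congr f e' n).2 (hL f (Ideal.subset_span hf) n)
    have h4 : (fun v : DRing.toD C ⟶ L => (e.inv ≫ Q.map ι) ≫ v) =
        (Iso.homCongr e e') ∘ (fun v : Q.obj C ⟶ Q.obj E' => Q.map ι ≫ v) ∘
          (Iso.homCongr (Iso.refl _) e').symm := funext fun v => by simp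
    exact h4 ▸ (Iso.homCongr e e').bijective.comp (hb.comp (Iso.homCongr (Iso.refl _) e').symm.bijective)
  obtain ⟨c, -⟩ := IsUniversal.exists_iso _ (isUniversal_unit _ K) hu
  refine IsZero.of_iso ?_ ((HF i).mapIso c ≪≫ hIso C i)
  refine (hamp i fun j h4 h5 => ?_).isZero_homology
  exact (E.exactAt_iff_isZero_homology j).2 (IsZero.of_iso (hK j h4 h5) ((hIso E j).symm ≪≫ (HF j).mapIso e))

omit [DRing.HasDerivedCompletion I] in
lemma complete_cone {T : Triangle (Dual.D A)} (hT : T ∈ distinguishedTriangles)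
    (h1 : DRing.IsDerivedComplete I T.obj₁) (h2 : DRing.IsDerivedComplete I T.obj₂) :
    DRing.IsDerivedComplete I T.obj₃ := by
  intro f hf n
  refine subsingleton_of_forall_eq 0 fun v => ?_
  have hTn := Triangle.shift_distinguished T hT n
  have h11 : Subsingleton (Dual.inD A (Localization.Away f) ⟶ ((T.obj₁)⟦n⟧)⟦(1 : ℤ)⟧) :=
    (Iso.homCongr (Iso.refl _) ((shiftFunctorAdd (Dual.D A) n 1).app T.obj₁)).subsingleton_congr.1 (h1 f hf (n + 1))
  obtain ⟨w, hw⟩ := Triangle.coyoneda_exact₃ _ hTn v (h11.elim _ _)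
  rw [hw, (h2 f hf n).elim w 0]
  exact zero_comp

omit [DRing.HasDerivedCompletion I] in
lemma complete_shift {K : Dual.D A} (h : DRing.IsDerivedComplete I K) (k : ℤ) :
    DRing.IsDerivedComplete I (K⟦k⟧) := fun f hf n =>
  (Iso.homCongr (Iso.refl _) ((shiftFunctorAdd (Dual.D A) k n).app K)).subsingleton_congr.1 (h f hf (k + n))

omit [DRing.HasDerivedCompletion I] in
lemma IsUniversal.shift {K C : Dual.D A} {η : K ⟶ C} (h : IsUniversal I η) (k : ℤ) :
    IsUniversal I (η⟦k⟧') := by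
  refine ⟨complete_shift I h.1 k, fun E hE => ?_⟩
  let adj := (shiftEquiv (Dual.D A) k).toAdjunction
  have hb := h.2 ((shiftEquiv (Dual.D A) k).inverse.obj E) (complete_shift I hE (-k))
  have hh : (fun v : C⟦k⟧ ⟶ E => η⟦k⟧' ≫ v) = (adj.homEquiv K E).symm ∘ (fun w => η ≫ w) ∘ adj.homEquiv C E := by
    funext v
    refine ((adj.homEquiv K E).eq_symm_apply).2 ?_
    exact adj.homEquiv_naturality_left η v
  exact hh ▸ (adj.homEquiv K E).symm.bijective.comp (hb.comp (adj.homEquiv C E).bijective)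

/-- The cone of a completed map is the completion of the cone. -/
theorem exists_cone_universal {T : Triangle (Dual.D A)} (hT : T ∈ distinguishedTriangles) :
    ∃ (C' : Dual.D A) (l : ((DRing.derivedCompletion I).obj T.obj₂).obj ⟶ C')
      (δ : C' ⟶ (((DRing.derivedCompletion I).obj T.obj₁).obj)⟦(1 : ℤ)⟧) (γ : T.obj₃ ⟶ C'),
      Triangle.mk ((DRing.derivedCompletion I).map T.mor₁).hom l δ ∈ distinguishedTriangles ∧
        IsUniversal I γ ∧ T.mor₂ ≫ γ = DRing.toDerivedCompletion I T.obj₂ ≫ l := by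
  obtain ⟨C', l, δ, hT'⟩ := distinguished_cocone_triangle ((DRing.derivedCompletion I).map T.mor₁).hom
  let a := DRing.toDerivedCompletion I T.obj₁
  let b := DRing.toDerivedCompletion I T.obj₂
  have hnat : T.mor₁ ≫ b = a ≫ ((DRing.derivedCompletion I).map T.mor₁).hom :=
    ((DRing.derivedCompletionAdj I).unit.naturality T.mor₁)
  obtain ⟨γ, hγ1, hγ2⟩ := complete_distinguished_triangle_morphism T _ hT hT' a b hnat
  change T.obj₃ ⟶ C' at γ
  change T.mor₂ ≫ γ = b ≫ l at hγ1
  change T.mor₃ ≫ a⟦(1 : ℤ)⟧' = γ ≫ δ at hγ2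
  have hc : DRing.IsDerivedComplete I C' := complete_cone I hT'
    ((DRing.derivedCompletion I).obj T.obj₁).property ((DRing.derivedCompletion I).obj T.obj₂).property
  have ha := isUniversal_unit I T.obj₁
  have hb := isUniversal_unit I T.obj₂
  have ha1 := ha.shift I (1 : ℤ)
  refine ⟨C', l, δ, γ, hT', ⟨hc, fun E hE => ⟨fun v w hvw => ?_, fun β => ?_⟩⟩, hγ1⟩
  · rw [← sub_eq_zero]
    have h0 : γ ≫ (v - w) = 0 := by rw [Preadditive.comp_sub]; exact sub_eq_zero.2 hvw
    have h1 : l ≫ (v - w) = 0 := (hb.2 E hE).1 (by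
      change b ≫ l ≫ (v - w) = b ≫ 0
      rw [← Category.assoc, ← hγ1, Category.assoc, h0, comp_zero, comp_zero])
    obtain ⟨χ, hχ⟩ := Triangle.yoneda_exact₃ _ hT' (v - w) h1
    change (((DRing.derivedCompletion I).obj T.obj₁).obj)⟦(1 : ℤ)⟧ ⟶ E at χ
    change (v - w) = δ ≫ χ at hχ
    rw [hχ]
    have h2 : T.mor₃ ≫ a⟦(1 : ℤ)⟧' ≫ χ = 0 := by
      rw [← Category.assoc, hγ2, Category.assoc, ← hχ, h0]
    obtain ⟨ω, hω⟩ := Triangle.yoneda_exact₂ _ (rot_of_distTriang _ (rot_of_distTriang _ hT)) (a⟦(1 : ℤ)⟧' ≫ χ) h2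
    obtain ⟨ω', hω'⟩ := ((hb.shift I (1 : ℤ)).2 E hE).2 ω
    have h3 : χ = ((DRing.derivedCompletion I).map T.mor₁).hom⟦(1 : ℤ)⟧' ≫ (-ω') := (ha1.2 E hE).1 (by
      change a⟦(1 : ℤ)⟧' ≫ χ = a⟦(1 : ℤ)⟧' ≫ _
      refine hω.trans ?_
      change (-(T.mor₁⟦(1 : ℤ)⟧')) ≫ ω = _
      dsimp only at hω'
      rw [← hω']
      rw [← Category.assoc (a⟦(1 : ℤ)⟧'), ← Functor.map_comp, ← hnat, Functor.map_comp, Category.assoc,
        Preadditive.comp_neg, Preadditive.comp_neg, Preadditive.neg_comp])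
    rw [h3, ← Category.assoc,
      show δ ≫ ((DRing.derivedCompletion I).map T.mor₁).hom⟦(1 : ℤ)⟧' = 0 from comp_distTriang_mor_zero₃₁ _ hT', zero_comp]
  · obtain ⟨μ, hμ⟩ := (hb.2 E hE).2 (T.mor₂ ≫ β)
    dsimp only at hμ
    have h0 : ((DRing.derivedCompletion I).map T.mor₁).hom ≫ μ = 0 := (ha.2 E hE).1 (by
      change a ≫ _ = a ≫ 0
      rw [← Category.assoc, ← hnat, Category.assoc, hμ, ← Category.assoc,
        comp_distTriang_mor_zero₁₂ _ hT, zero_comp, comp_zero])
    obtain ⟨ν, hν⟩ := Triangle.yoneda_exact₂ _ hT' μ h0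
    change C' ⟶ E at ν
    change μ = l ≫ ν at hν
    have h1 : T.mor₂ ≫ (β - γ ≫ ν) = 0 := by
      rw [Preadditive.comp_sub, ← hμ, ← Category.assoc T.mor₂, hγ1, Category.assoc, ← hν, sub_self]
    obtain ⟨ω, hω⟩ := Triangle.yoneda_exact₃ _ hT _ h1
    obtain ⟨ω', hω'⟩ := (ha1.2 E hE).2 ω
    refine ⟨ν + δ ≫ ω', ?_⟩
    dsimp only at hω' ⊢
    rw [Preadditive.comp_add, ← Category.assoc γ, ← hγ2, Category.assoc, hω', ← hω]
    abel

/-- The cohomology of the cone of a completed map. -/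
theorem exists_completed_triangle {T : Triangle (Dual.D A)} (hT : T ∈ distinguishedTriangles) :
    ∃ (C' : Dual.D A) (l : ((DRing.derivedCompletion I).obj T.obj₂).obj ⟶ C')
      (δ : C' ⟶ (((DRing.derivedCompletion I).obj T.obj₁).obj)⟦(1 : ℤ)⟧),
      Triangle.mk ((DRing.derivedCompletion I).map T.mor₁).hom l δ ∈ distinguishedTriangles ∧
        Nonempty (C' ≅ ((DRing.derivedCompletion I).obj T.obj₃).obj) := by
  obtain ⟨C', l, δ, γ, h, hu, -⟩ := exists_cone_universal I hT
  obtain ⟨e, -⟩ := IsUniversal.exists_iso I hu (isUniversal_unit I T.obj₃)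
  exact ⟨C', l, δ, h, ⟨e⟩⟩

end Groth.Agent.DRing.Completion

namespace Groth.Agent.DRing.Completion

open DBasic

variable {A : Type u} [CommRing A] (I : Ideal A) [DRing.HasDerivedCompletion I]

/-- `H^i` of a completed map from the cohomology of a cone. -/
theorem exists_cone_vanishing {K L : Dual.D A} (φ : K ⟶ L) (s : Finset A) (hs : Ideal.span (s : Set A) = I) :
    ∃ (C C' : Dual.D A) (g : L ⟶ C) (h : C ⟶ K⟦(1 : ℤ)⟧)
      (l : ((DRing.derivedCompletion I).obj L).obj ⟶ C')
      (δ : C' ⟶ (((DRing.derivedCompletion I).obj K).obj)⟦(1 : ℤ)⟧),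
      Triangle.mk φ g h ∈ distinguishedTriangles ∧
      Triangle.mk ((DRing.derivedCompletion I).map φ).hom l δ ∈ distinguishedTriangles ∧
      ∀ i : ℤ, (∀ j : ℤ, i ≤ j → j ≤ i + (s.card : ℤ) → IsZero ((HF j).obj C)) → IsZero ((HF i).obj C') := by
  obtain ⟨C, g, h, hT⟩ := distinguished_cocone_triangle φ
  obtain ⟨C', l, δ, hT', ⟨e⟩⟩ := exists_completed_triangle I hT
  exact ⟨C, C', g, h, l, δ, hT, hT', fun i hi =>
    (isZero_HF_completion I s hs C i hi).of_iso ((HF i).mapIso e)⟩

open DerivedCategory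

omit [DRing.HasDerivedCompletion I] in
lemma mono_of_isZero {T : Triangle (Dual.D A)} (hT : T ∈ distinguishedTriangles) (i : ℤ)
    (h : IsZero ((HF (i - 1)).obj T.obj₃)) : Mono ((HF i).map T.mor₁) :=
  (HomologySequence.mono_homologyMap_mor₁_iff _ hT (i - 1) i (by omega)).2 (h.eq_of_src _ _)

omit [DRing.HasDerivedCompletion I] in
lemma epi_of_isZero {T : Triangle (Dual.D A)} (hT : T ∈ distinguishedTriangles) (i : ℤ)
    (h : IsZero ((HF i).obj T.obj₃)) : Epi ((HF i).map T.mor₁) :=
  (HomologySequence.epi_homologyMap_mor₁_iff _ hT i).2 (h.eq_of_tgt _ _)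

omit [DRing.HasDerivedCompletion I] in
lemma isZero_of_epi_mono {T : Triangle (Dual.D A)} (hT : T ∈ distinguishedTriangles) (i : ℤ)
    (h : Epi ((HF i).map T.mor₁)) (h' : Mono ((HF (i + 1)).map T.mor₁)) : IsZero ((HF i).obj T.obj₃) :=
  (HomologySequence.exact₃ T hT i (i + 1) rfl).isZero_of_both_zeros
    ((HomologySequence.epi_homologyMap_mor₁_iff _ hT i).1 h)
    ((HomologySequence.mono_homologyMap_mor₁_iff _ hT i (i + 1) rfl).1 h')

/-- Completion preserves isomorphisms of cohomology above a degree. -/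
theorem map_pos (hI : I.FG) {K L : Dual.D A} (φ : K ⟶ L) (hiso : ∀ i : ℤ, 1 ≤ i → IsIso ((HF i).map φ))
    (hepi : Epi ((HF 0).map φ)) :
    (∀ i : ℤ, 1 ≤ i → IsIso ((HF i).map ((DRing.derivedCompletion I).map φ).hom)) ∧
      Epi ((HF 0).map ((DRing.derivedCompletion I).map φ).hom) := by
  obtain ⟨s, hs⟩ := hI
  obtain ⟨C, C', g, h, l, δ, hT, hT', hv⟩ := exists_cone_vanishing I φ s hs
  have hC : ∀ j : ℤ, 0 ≤ j → IsZero ((HF j).obj C) := fun j hj => by
    refine isZero_of_epi_mono hT j ?_ ?_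
    · rcases eq_or_lt_of_le hj with rfl | h
      · exact hepi
      · have := hiso j (by omega); change Epi ((HF j).map φ); infer_instance
    · have := hiso (j + 1) (by omega); change Mono ((HF (j + 1)).map φ); infer_instance
  have hC' : ∀ j : ℤ, 0 ≤ j → IsZero ((HF j).obj C') := fun j hj => hv j fun k h1 _ => hC k (by omega)
  refine ⟨fun i hi => ?_, epi_of_isZero hT' 0 (hC' 0 le_rfl)⟩
  have h1 : Mono ((HF i).map ((DRing.derivedCompletion I).map φ).hom) := mono_of_isZero hT' i (hC' (i - 1) (by omega))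
  have h2 : Epi ((HF i).map ((DRing.derivedCompletion I).map φ).hom) := epi_of_isZero hT' i (hC' i (by omega))
  exact isIso_of_mono_of_epi _

/-- Completion preserves isomorphisms of cohomology below a degree, up to the number of generators. -/
theorem map_neg (s : Finset A) (hs : Ideal.span (s : Set A) = I) {K L : Dual.D A} (φ : K ⟶ L)
    (hiso : ∀ i : ℤ, i ≤ -1 → IsIso ((HF i).map φ)) (hmono : Mono ((HF 0).map φ)) :
    (∀ i : ℤ, i ≤ -(s.card : ℤ) - 1 → IsIso ((HF i).map ((DRing.derivedCompletion I).map φ).hom)) ∧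
      Mono ((HF (-(s.card : ℤ))).map ((DRing.derivedCompletion I).map φ).hom) := by
  obtain ⟨C, C', g, h, l, δ, hT, hT', hv⟩ := exists_cone_vanishing I φ s hs
  have hC : ∀ j : ℤ, j ≤ -1 → IsZero ((HF j).obj C) := fun j hj => by
    refine isZero_of_epi_mono hT j ?_ ?_
    · have := hiso j hj; change Epi ((HF j).map φ); infer_instance
    · rcases eq_or_lt_of_le hj with rfl | h
      · exact hmono
      · have := hiso (j + 1) (by omega); change Mono ((HF (j + 1)).map φ); infer_instance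
  have hC' : ∀ j : ℤ, j ≤ -(s.card : ℤ) - 1 → IsZero ((HF j).obj C') := fun j hj =>
    hv j fun k _ h2 => hC k (by omega)
  refine ⟨fun i hi => ?_, mono_of_isZero hT' _ (hC' _ (by omega))⟩
  have h1 : Mono ((HF i).map ((DRing.derivedCompletion I).map φ).hom) := mono_of_isZero hT' i (hC' (i - 1) (by omega))
  have h2 : Epi ((HF i).map ((DRing.derivedCompletion I).map φ).hom) := epi_of_isZero hT' i (hC' i (by omega))
  exact isIso_of_mono_of_epi _

end Groth.Agent.DRing.Completion
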