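import Groth.Agent.DRing.CompletionFlatTensor
import Groth.Agent.DRing.Devissage

/-!
# Derived completion of objects with finite cohomology
-/

universe u

open CategoryTheory CategoryTheory.Limits CategoryTheory.Pretriangulated DerivedCategory
open scoped TensorProduct

attribute [local instance] HasDerivedCategory.standard

namespace Groth.Agent.DRing.CompletionModule

open DBasic Completion PC

variable {A : Type u} [CommRing A] (I : Ideal A) [DRing.HasDerivedCompletion I]

/-- `H^0` of `M[0]` is `M`. -/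
noncomputable abbrev h0 : F0 (A := A) ⋙ HF 0 ≅ 𝟭 (ModuleCat.{u} A) :=
  singleFunctorCompHomologyFunctorIso (ModuleCat.{u} A) 0

/-- The module statement. -/
theorem exists_equiv_of_good (hI : I.FG) (X : ModuleCat.{u} A) (h : Good I X) :
    (∀ i : ℤ, i ≠ 0 → Subsingleton (Dual.HD A ((DRing.derivedCompletion I).obj (F0.obj X)).obj i)) ∧
      ∃ e : Dual.HD A ((DRing.derivedCompletion I).obj (F0.obj X)).obj 0 ≃ₗ[A] AdicCompletion I X,
        ∀ x : X, e ((h0.inv.app X ≫ (HF 0).map (DRing.toDerivedCompletion I (F0.obj X))).hom x) =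
          AdicCompletion.of I X x := by
  refine ⟨fun i hi => (subsingleton_HD_iff_isZero _ i).2 (isZero_of_good I hI h hi),
    LinearEquiv.ofBijective (gam I hI X).hom (bijective_gam_of_good I hI h), fun x => ?_⟩
  have hkey : (h0.inv.app X ≫ (HF 0).map (DRing.toDerivedCompletion I (F0.obj X))) ≫ gam I hI X =
      (ofC I).app X := by
    have h1 : h0.inv.app X ≫ (HF 0).map (F0.map ((ofC I).app X)) = (ofC I).app X ≫ h0.inv.app ((adic I).obj X) :=
      (h0.inv.naturality ((ofC I).app X)).symm
    rw [gam, Category.assoc, ← Category.assoc ((HF 0).map (DRing.toDerivedCompletion I (F0.obj X))),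
      ← Functor.map_comp, unit_cmp, ← Category.assoc]
    refine (congrArg (· ≫ h0.hom.app ((adic I).obj X)) h1).trans ?_
    rw [Category.assoc, Iso.inv_hom_id_app]
    exact Category.comp_id _
  exact LinearMap.congr_fun (congrArg ModuleCat.Hom.hom hkey) x

variable [IsNoetherianRing A]

lemma good_finite (M : ModuleCat.{u} A) [Module.Finite A M] : Good I M :=
  good_of_iso I (TensorProduct.rid A M).toModuleIso (good_tensor I M A)

/-- The completion of `M[-n]`. -/
lemma exists_single_universal (M : ModuleCat.{u} A) [Module.Finite A M] (n : ℤ) :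
    IsUniversal I ((shiftFunctor (Dual.D A) (-n)).map (ofD I M)) :=
  (good_finite I M).shift I (-n)

lemma isZero_completion_sgl (M : ModuleCat.{u} A) [Module.Finite A M] {i n : ℤ} (hi : i ≠ n) :
    IsZero ((HF i).obj ((DRing.derivedCompletion I).obj (DRing.toD (sgl n M))).obj) := by
  have hu := exists_single_universal I M n
  have hv : IsUniversal I ((inDShiftIso M n).inv ≫ (shiftFunctor (Dual.D A) (-n)).map (ofD I M)) :=
    CompletionTensor.isUniversal_of_arrow I _ (inDShiftIso M n) (Iso.refl _) (by rw [Iso.refl_hom, Category.comp_id]; exact (Iso.hom_inv_id_assoc _ _).symm) hu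
  obtain ⟨e, -⟩ := IsUniversal.exists_iso I (isUniversal_unit I _) hv
  exact IsZero.of_iso (IsZero.of_iso (isZero_HF_F0 _ (show -n + i ≠ 0 by omega))
    (HFShiftIso _ (-n) i (-n + i) rfl)) ((HF i).mapIso e)

omit [IsNoetherianRing A] in
lemma isZero_of_triangle (i : ℤ) {T : Triangle (Dual.D A)} (hT : T ∈ distinguishedTriangles)
    (h1 : IsZero ((HF i).obj ((DRing.derivedCompletion I).obj T.obj₁).obj))
    (h3 : IsZero ((HF i).obj ((DRing.derivedCompletion I).obj T.obj₃).obj)) :
    IsZero ((HF i).obj ((DRing.derivedCompletion I).obj T.obj₂).obj) := by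
  obtain ⟨C', l, δ, hT', ⟨e⟩⟩ := exists_completed_triangle I hT
  exact (HomologySequence.exact₂ _ hT' i).isZero_of_both_zeros (h1.eq_of_src _ _)
    ((h3.of_iso ((HF i).mapIso e)).eq_of_tgt _ _)

omit [DRing.HasDerivedCompletion I] [IsNoetherianRing A] in
lemma exists_trunc (C : Dual.D A) (k : ℤ) :
    ∃ T : Triangle (Dual.D A), T ∈ distinguishedTriangles ∧ T.obj₂ = C ∧
      (∀ j, k < j → IsZero ((HF j).obj T.obj₁)) ∧ (∀ j, j ≤ k → IsZero ((HF j).obj T.obj₃)) ∧
      (∀ j, j ≤ k → IsIso ((HF j).map T.mor₁)) ∧ ∀ j, k + 1 < j + 1 → IsIso ((HF j).map T.mor₂) := by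
  obtain ⟨X, Y, hX, hY, f, g, h, hT⟩ :=
    (DerivedCategory.TStructure.t (C := ModuleCat.{u} A)).exists_triangle C k (k + 1) rfl
  have hX' : ∀ j, k < j → IsZero ((HF j).obj X) := fun j hj =>
    (DerivedCategory.isLE_iff X k).1 ⟨hX⟩ j hj
  have hY' : ∀ j, j ≤ k → IsZero ((HF j).obj Y) := fun j hj =>
    (DerivedCategory.isGE_iff Y (k + 1)).1 ⟨hY⟩ j (by omega)
  refine ⟨Triangle.mk f g h, hT, rfl, hX', hY', fun j hj => ?_, fun j hj => ?_⟩
  · have h1 : Mono ((HF j).map f) := mono_of_isZero hT j (hY' (j - 1) (by omega))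
    have h2 : Epi ((HF j).map f) := epi_of_isZero hT j (hY' j hj)
    exact @isIso_of_mono_of_epi _ _ _ _ _ ((HF j).map f) h1 h2
  · have h1 : Mono ((HF j).map g) :=
      (HomologySequence.mono_homologyMap_mor₂_iff _ hT j).2 ((hX' j (by omega)).eq_of_src _ _)
    have h2 : Epi ((HF j).map g) :=
      (HomologySequence.epi_homologyMap_mor₂_iff _ hT j (j + 1) rfl).2 ((hX' (j + 1) (by omega)).eq_of_tgt _ _)
    exact @isIso_of_mono_of_epi _ _ _ _ _ ((HF j).map g) h1 h2

/-- For finite cohomology, `H^i(K) = 0` gives `H^i(K^∧) = 0`. -/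
theorem isZero_of_isZero (C : Dual.D A) (hC : ∀ j, Module.Finite A (Dual.HD A C j)) (i : ℤ)
    (h0' : IsZero ((HF i).obj C)) : IsZero ((HF i).obj ((DRing.derivedCompletion I).obj C).obj) := by
  obtain ⟨s, hs⟩ := IsNoetherian.noetherian I
  obtain ⟨T, hT, rfl, hup, hlow, hiso, -⟩ := exists_trunc C (i + (s.card : ℤ))
  refine isZero_of_triangle I i hT ?_ (isZero_HF_completion I s hs _ i fun j _ hj => hlow j hj)
  obtain ⟨T', hT', h2, hup', hlow', hiso', hiso2⟩ := exists_trunc T.obj₁ i
  rw [← h2]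
  refine isZero_of_triangle I i hT' (isZero_HF_completion I s hs _ i fun j hj _ => ?_) ?_
  · rcases eq_or_lt_of_le hj with rfl | hj
    · have := hiso' i le_rfl
      have := hiso i (by omega)
      exact h0'.of_iso (asIso ((HF i).map T'.mor₁) ≪≫ (HF i).mapIso (eqToIso h2) ≪≫ asIso ((HF i).map T.mor₁))
    · exact hup' j hj
  · refine Devissage.of_cohomology (fun D => IsZero ((HF i).obj ((DRing.derivedCompletion I).obj D).obj))
      (fun e h => h.of_iso ((HF i).mapIso ((ObjectProperty.ι _).mapIso ((DRing.derivedCompletion I).mapIso e.symm))))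
      (fun D hD => (HF i).map_isZero ((ObjectProperty.ι _).map_isZero ((DRing.derivedCompletion I).map_isZero hD)))
      (fun T hT h1 h3 => isZero_of_triangle I i hT h1 h3) T'.obj₃ (a := i + 1) (b := i + (s.card : ℤ))
      (fun j hj => (subsingleton_HD_iff_isZero _ j).2 ?_) (fun j => ?_)
    · rcases hj with hj | hj
      · exact hlow' j (by omega)
      · by_cases hji : j ≤ i
        · exact hlow' j hji
        · have := hiso2 j (by omega)
          exact ((hup j hj).of_iso ((HF j).mapIso (eqToIso h2))).of_iso (asIso ((HF j).map T'.mor₂)).symm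
    · by_cases hji : j ≤ i
      · exact (HF i).map_isZero ((ObjectProperty.ι _).map_isZero ((DRing.derivedCompletion I).map_isZero
          (DerivedCategory.Q.map_isZero ((HomologicalComplex.single _ _ j).map_isZero (hlow' j hji)))))
      · have hfin : Module.Finite A (Dual.HD A T'.obj₃ j) := by
          by_cases hjt : j ≤ i + (s.card : ℤ)
          · have := hiso2 j (by omega)
            have := hiso j hjt
            exact Module.Finite.equiv (((asIso ((HF j).map T'.mor₂)).symm ≪≫ (HF j).mapIso (eqToIso h2) ≪≫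
              asIso ((HF j).map T.mor₁)).symm.toLinearEquiv) (M := Dual.HD A T.obj₂ j)
          · have := hiso2 j (by omega)
            have := ModuleCat.subsingleton_of_isZero
              (((hup j (by omega)).of_iso ((HF j).mapIso (eqToIso h2))).of_iso (asIso ((HF j).map T'.mor₂)).symm)
            exact inferInstanceAs (Module.Finite A ((HF j).obj T'.obj₃))
        exact isZero_completion_sgl I (ModuleCat.of A (Dual.HD A T'.obj₃ j)) (by omega)

/-- `H^n` of the completion is the completion of `H^n`. -/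
def Cmp (K : Dual.D A) (n : ℤ) : Prop :=
  ∃ (M : ModuleCat.{u} A) (h : (HF n).obj K ≅ M)
    (e : (HF n).obj ((DRing.derivedCompletion I).obj K).obj ≅ (adic I).obj M),
    (HF n).map (DRing.toDerivedCompletion I K) ≫ e.hom = h.hom ≫ (ofC I).app M

omit [IsNoetherianRing A] in
lemma Cmp.transfer {K L : Dual.D A} {n : ℤ} (φ : K ⟶ L) [IsIso ((HF n).map φ)]
    [IsIso ((HF n).map ((DRing.derivedCompletion I).map φ).hom)] : Cmp I K n ↔ Cmp I L n := by
  have hsq : (HF n).map φ ≫ (HF n).map (DRing.toDerivedCompletion I L) =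
      (HF n).map (DRing.toDerivedCompletion I K) ≫ (HF n).map ((DRing.derivedCompletion I).map φ).hom := by
    rw [← Functor.map_comp, ← Functor.map_comp, unit_natural]
  constructor
  · rintro ⟨M, h, e, w⟩
    refine ⟨M, (asIso ((HF n).map φ)).symm ≪≫ h,
      (asIso ((HF n).map ((DRing.derivedCompletion I).map φ).hom)).symm ≪≫ e, ?_⟩
    rw [Iso.trans_hom, Iso.trans_hom, Iso.symm_hom, Iso.symm_hom, asIso_inv, asIso_inv, Category.assoc, ← w,
      IsIso.eq_inv_comp, reassoc_of% hsq, IsIso.hom_inv_id_assoc]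
  · rintro ⟨M, h, e, w⟩
    refine ⟨M, asIso ((HF n).map φ) ≪≫ h, asIso ((HF n).map ((DRing.derivedCompletion I).map φ).hom) ≪≫ e, ?_⟩
    rw [Iso.trans_hom, Iso.trans_hom, asIso_hom, asIso_hom, Category.assoc, ← w, reassoc_of% hsq]

lemma cmp_shifted (M : ModuleCat.{u} A) [Module.Finite A M] (n : ℤ) :
    Cmp I ((shiftFunctor (Dual.D A) (-n)).obj (F0.obj M)) n := by
  let K := (shiftFunctor (Dual.D A) (-n)).obj (F0.obj M)
  obtain ⟨e, he⟩ := IsUniversal.exists_iso I (isUniversal_unit I K) (exists_single_universal I M n)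
  let σ := (DerivedCategory.homologyFunctor (ModuleCat.{u} A) 0).shiftIso (-n) n 0 (by omega)
  refine ⟨M, σ.app (F0.obj M) ≪≫ h0.app M, (HF n).mapIso e ≪≫ σ.app _ ≪≫ h0.app _, ?_⟩
  have h1 := σ.hom.naturality (ofD I M)
  have h2 := h0.hom.naturality ((ofC I).app M)
  have he' : (HF n).map (DRing.toDerivedCompletion I K) ≫ (HF n).map e.hom =
      (HF n).map ((shiftFunctor (Dual.D A) (-n)).map (ofD I M)) :=
    ((HF n).map_comp _ _).symm.trans (congrArg (HF n).map he)
  refine (Category.assoc _ _ _).symm.trans ((congrArg (· ≫ (σ.hom.app _ ≫ h0.hom.app _)) he').trans ?_)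
  refine (Category.assoc _ _ _).symm.trans ((congrArg (· ≫ h0.hom.app ((adic I).obj M)) h1).trans ?_)
  exact (Category.assoc _ _ _).trans ((congrArg (σ.hom.app (F0.obj M) ≫ ·) h2).trans (Category.assoc _ _ _).symm)

omit [IsNoetherianRing A] in
lemma isIso_completed {T : Triangle (Dual.D A)} (hT : T ∈ distinguishedTriangles) (n : ℤ)
    (h1 : IsZero ((HF (n - 1)).obj ((DRing.derivedCompletion I).obj T.obj₃).obj))
    (h2 : IsZero ((HF n).obj ((DRing.derivedCompletion I).obj T.obj₃).obj)) :
    IsIso ((HF n).map ((DRing.derivedCompletion I).map T.mor₁).hom) := by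
  obtain ⟨C', l, δ, hT', ⟨e⟩⟩ := exists_completed_triangle I hT
  have : Mono ((HF n).map ((DRing.derivedCompletion I).map T.mor₁).hom) :=
    mono_of_isZero hT' n (h1.of_iso ((HF (n - 1)).mapIso e))
  have : Epi ((HF n).map ((DRing.derivedCompletion I).map T.mor₁).hom) :=
    epi_of_isZero hT' n (h2.of_iso ((HF n).mapIso e))
  exact isIso_of_mono_of_epi _

theorem cmp_of_finite (K : Dual.D A) (hK : ∀ j, Module.Finite A (Dual.HD A K j)) (n : ℤ) : Cmp I K n := by
  obtain ⟨T, hT, rfl, hup, hlow, hiso, hiso2⟩ := exists_trunc K n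
  have hfin3 : ∀ j, Module.Finite A (Dual.HD A T.obj₃ j) := fun j => by
    by_cases hj : j ≤ n
    · have := ModuleCat.subsingleton_of_isZero (hlow j hj)
      exact inferInstanceAs (Module.Finite A ((HF j).obj T.obj₃))
    · have := hiso2 j (by omega)
      exact Module.Finite.equiv (asIso ((HF j).map T.mor₂)).toLinearEquiv (M := Dual.HD A T.obj₂ j)
  have h1i := hiso n le_rfl
  have h2i := isIso_completed I hT n (isZero_of_isZero I _ hfin3 _ (hlow (n - 1) (by omega)))
    (isZero_of_isZero I _ hfin3 _ (hlow n le_rfl))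
  rw [← Cmp.transfer I T.mor₁]
  obtain ⟨b, hb⟩ := exists_toTop T.obj₁ n fun j hj => (subsingleton_HD_iff_isZero _ j).2 (hup j hj)
  let M := ModuleCat.of A (Dual.HD A T.obj₁ n)
  have : Module.Finite A M := Module.Finite.equiv (asIso ((HF n).map T.mor₁)).symm.toLinearEquiv (M := Dual.HD A T.obj₂ n)
  let b' : T.obj₁ ⟶ (shiftFunctor (Dual.D A) (-n)).obj (F0.obj M) := b ≫ (inDShiftIso M n).inv
  have hb' : IsIso ((HF n).map b') := by
    rw [Functor.map_comp]; infer_instance
  obtain ⟨C, g, h, hT2⟩ := distinguished_cocone_triangle b'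
  have hC : ∀ j, n - 1 ≤ j → IsZero ((HF j).obj C) := fun j hj => by
    have hz : ∀ j, j ≠ n → IsZero ((HF j).obj ((shiftFunctor (Dual.D A) (-n)).obj (F0.obj M))) := fun j hj =>
      IsZero.of_iso ((subsingleton_HD_iff_isZero _ j).1 (subsingleton_HD_sgl M hj))
        ((HF j).mapIso (inDShiftIso M n))
    refine isZero_of_epi_mono hT2 j ?_ ?_
    · by_cases hjn : j = n
      · subst hjn; exact inferInstanceAs (Epi ((HF j).map b'))
      · exact ⟨fun f g _ => (hz j hjn).eq_of_src f g⟩
    · by_cases hjn : j + 1 = n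
      · rw [hjn]; exact inferInstanceAs (Mono ((HF n).map b'))
      · exact ⟨fun f g _ => (hup (j + 1) (by omega)).eq_of_tgt f g⟩
  obtain ⟨s, hs⟩ := IsNoetherian.noetherian I
  have := isIso_completed I hT2 n (isZero_HF_completion I s hs _ _ fun j hj _ => hC j hj)
    (isZero_HF_completion I s hs _ _ fun j hj _ => hC j (by omega))
  have : IsIso ((HF n).map ((DRing.derivedCompletion I).map b').hom) := this
  exact (Cmp.transfer I b').2 (cmp_shifted I M n)

theorem exists_equiv_of_finite (K : Dual.D A) (hK : ∀ j, Module.Finite A (Dual.HD A K j)) (n : ℤ) :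
    ∃ e : Dual.HD A ((DRing.derivedCompletion I).obj K).obj n ≃ₗ[A] AdicCompletion I (Dual.HD A K n),
      ∀ x : Dual.HD A K n, e (((HF n).map (DRing.toDerivedCompletion I K)).hom x) =
        AdicCompletion.of I (Dual.HD A K n) x := by
  obtain ⟨M, h, e, w⟩ := cmp_of_finite I K hK n
  let e' := e ≪≫ (adic I).mapIso h.symm
  have w' : (HF n).map (DRing.toDerivedCompletion I K) ≫ e'.hom = (ofC I).app ((HF n).obj K) := by
    have hn := (ofC I).naturality h.inv
    calc (HF n).map (DRing.toDerivedCompletion I K) ≫ e'.hom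
        = ((HF n).map (DRing.toDerivedCompletion I K) ≫ e.hom) ≫ (adic I).map h.inv := (Category.assoc _ _ _).symm
      _ = h.hom ≫ (ofC I).app M ≫ (adic I).map h.inv := by rw [w]; exact Category.assoc _ _ _
      _ = (ofC I).app ((HF n).obj K) := by rw [← hn, Functor.id_map, h.hom_inv_id_assoc]
  exact ⟨e'.toLinearEquiv, fun x => LinearMap.congr_fun (congrArg ModuleCat.Hom.hom w') x⟩

end Groth.Agent.DRing.CompletionModule
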