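import Groth.Agent.DRing.TensorAmp
import Groth.Agent.DRing.LTensor
import Mathlib.RingTheory.Flat.Equalizer

/-!
# Tor amplitude bounded below
-/

universe u

open CategoryTheory CategoryTheory.Limits DerivedCategory MonoidalCategory

attribute [local instance] HasDerivedCategory.standard

namespace Groth.Agent.DRing.TorAmpGE

open DBasic Homology DRing.KFlat TorAmp

variable {R : Type u} [CommRing R]

/-- Submodules with flat quotient of flat modules are flat. -/
lemma flat_sub {N : Type u} [AddCommGroup N] [Module R N] [Module.Flat R N] (S : Submodule R N)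
    [Module.Flat R (N ⧸ S)] : Module.Flat R S := by
  rw [Module.Flat.iff_lTensor_preserves_injective_linearMap]
  intro A B _ _ _ _ f hf
  have hinj : Function.Injective (S.subtype.rTensor A) := by
    have h := LinearMap.lTensor_injective_of_exact_of_flat S.mkQ (Submodule.mkQ_surjective _) S.subtype
      S.injective_subtype (LinearMap.exact_subtype_mkQ S) A
    have e : S.subtype.rTensor A = (_root_.TensorProduct.comm R A N).toLinearMap ∘ₗ
        S.subtype.lTensor A ∘ₗ (_root_.TensorProduct.comm R S A).toLinearMap :=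
      TensorProduct.ext' fun _ _ => rfl
    rw [e]
    exact (_root_.TensorProduct.comm R A N).injective.comp (h.comp (_root_.TensorProduct.comm R S A).injective)
  have h2 : Function.Injective ((S.subtype.rTensor B) ∘ₗ f.lTensor S) := by
    rw [LinearMap.rTensor_comp_lTensor, ← LinearMap.lTensor_comp_rTensor]
    exact (Module.Flat.lTensor_preserves_injective_linearMap (M := N) f hf).comp hinj
  exact Function.Injective.of_comp h2

variable (P : DRing.Cx R) (a : ℤ)

/-- The subcomplex killed by `τ≥a`. -/
noncomputable def killCx : DRing.Cx R where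
  X i := ModuleCat.of R (Trunc.killSub P a i)
  d i j := ModuleCat.ofHom ((P.d i j).hom.restrict fun x hx => Trunc.killSub_mapsTo P a x hx)
  shape i j h := by
    ext x
    simp [P.shape i j h]
  d_comp_d' i j k _ _ := by
    ext x
    exact d_d (K := P) i j k x.1

/-- Its inclusion. -/
noncomputable def killι : killCx P a ⟶ P where
  f i := ModuleCat.ofHom (Trunc.killSub P a i).subtype
  comm' _ _ _ := rfl

lemma isKFlat_tauGE (hP : IsKFlat P) (hflat : ∀ i, Module.Flat R (P.X i))
    (h : ∀ M : ModuleCat.{u} R, (DRing.tensorCx P M).ExactAt (a - 1)) :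
    IsKFlat (Trunc.tauGE P a) := by
  have h3 : DRing.TermwiseFlat (Trunc.tauGE P a) := flat_tauGE hflat a h
  have hz : killι P a ≫ Trunc.tauGEπ P a = 0 := HomologicalComplex.hom_ext _ _ fun i =>
    ModuleCat.hom_ext (LinearMap.ext fun x => (Submodule.Quotient.mk_eq_zero _).2 x.2)
  let S := ShortComplex.mk (killι P a) (Trunc.tauGEπ P a) hz
  have hS : S.ShortExact := HomologicalComplex.shortExact_of_degreewise_shortExact _ fun i =>
    ModuleCat.shortComplex_shortExact _ (LinearMap.exact_subtype_mkQ (Trunc.killSub P a i))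
      (Trunc.killSub P a i).injective_subtype (Submodule.mkQ_surjective _)
  have h1 : IsKFlat (killCx P a) := by
    refine isKFlat_of_boundedAbove_flat _ a (fun i hi => ?_) fun i => ?_
    · have : Subsingleton (Trunc.killSub P a i) := by
        rw [Trunc.killSub_eq_bot P a hi]; infer_instance
      exact ModuleCat.isZero_of_subsingleton (ModuleCat.of R (Trunc.killSub P a i))
    · have := hflat i
      have : Module.Flat R (P.X i ⧸ Trunc.killSub P a i) := h3 i
      exact flat_sub (Trunc.killSub P a i)
  exact (two_of_three hS (pure_of_flat hS fun i => h3 i)).1 h1 hP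

theorem torAmp_ge_iff (K : DRing.Cx R) [DRing.HasLTensorCx R K] :
    (∀ (M : ModuleCat.{u} R) (i : ℤ), i < a →
        Subsingleton (Dual.HD R ((DRing.LTensorCx R K).obj
          (DRing.toD ((CochainComplex.singleFunctor (ModuleCat.{u} R) 0).obj M))) i)) ↔
      ∃ E : DRing.Cx R, IsKFlat E ∧ DRing.TermwiseFlat E ∧ (∀ i : ℤ, i < a → IsZero (E.X i)) ∧
        Nonempty (DRing.toD E ≅ DRing.toD K) := by
  obtain ⟨P, π, _, hproj, hq, -⟩ := KProjRes.exists_resolution K
  have hPk : IsKFlat P := isKFlat_of_isKProjective P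
  have key : ∀ (M : ModuleCat.{u} R) (i : ℤ), Subsingleton (Dual.HD R ((DRing.LTensorCx R K).obj
      (DRing.toD ((CochainComplex.singleFunctor (ModuleCat.{u} R) 0).obj M))) i) ↔
      (DRing.tensorCx P M).ExactAt i := by
    intro M i
    obtain ⟨F, α, hFb, hFp, hα⟩ := Trunc.exists_projRes (SingleTensor.S0 M) 0
      fun j hj => HomologicalComplex.exactAt_single_obj _ _ _ _ (by omega)
    have hF : IsKFlat F := isKFlat_of_projective hFb hFp
    have := LTensor.isIso_toTensor K hF
    let e : (DRing.LTensorCx R K).obj (DRing.toD ((CochainComplex.singleFunctor (ModuleCat.{u} R) 0).obj M)) ≅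
        DRing.toD (F ⊗ K) :=
      ((DRing.LTensorCx R K).mapIso (asIso (Q.map α))).symm ≪≫ asIso (LTensor.toTensor K F)
    rw [subsingleton_HD_congr e, subsingleton_HD_toD_iff, ← HomologicalComplex.exactAt_iff_isZero_homology,
      exactAt_iff_of_quasiIso (Tensor.braid F K).hom i, TensorAmp.exactAt_tensor_res π hPk hF α]
  simp only [key]
  constructor
  · intro h
    have hflat : ∀ i, Module.Flat R (P.X i) := fun i => have := hproj i; inferInstance
    have : QuasiIso (Trunc.tauGEπ P a) := Trunc.quasiIso_tauGEπ P a fun i hi =>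
      (exactAt_tensor_self P i).1 (h _ i hi)
    exact ⟨Trunc.tauGE P a, isKFlat_tauGE P a hPk hflat fun M => h M (a - 1) (by omega),
      flat_tauGE hflat a fun M => h M (a - 1) (by omega), fun i hi => Trunc.tauGE_X_isZero P a hi,
      ⟨(asIso (Q.map (Trunc.tauGEπ P a))).symm ≪≫ asIso (Q.map π)⟩⟩
  · rintro ⟨E, hE, -, hz, ⟨e⟩⟩ M i hi
    exact (exactAt_tensor_congr hE hPk (e ≪≫ (asIso (Q.map π)).symm) M i).1
      (((DRing.tensorCx E M).exactAt_iff i).2
        (ShortComplex.exact_of_isZero_X₂ _ ((tensorRight M).map_isZero (hz i hi))))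

end Groth.Agent.DRing.TorAmpGE
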