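import Groth.Agent.DRing.CompletionShift
import Groth.Agent.DRing.TorAmpGE

/-!
# The completion of `M ⊗ N` for `M` finite and `N` flat
-/

universe u

open CategoryTheory CategoryTheory.Limits DerivedCategory
open scoped TensorProduct

attribute [local instance] HasDerivedCategory.standard

namespace Groth.Agent.DRing.CompletionModule

variable {A : Type u} [CommRing A] [IsNoetherianRing A] (I : Ideal A) [DRing.HasDerivedCompletion I]

theorem good_finsupp (M : Type u) [AddCommGroup M] [Module A M] [Module.Finite A M] (α : Type u) :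
    Good I (ModuleCat.of A (α →₀ M)) := by
  let Cl : ModuleCat.{u} A → Prop := fun X => ∃ (M : Type u) (_ : AddCommGroup M) (_ : Module A M)
    (_ : Module.Finite A M) (α : Type u), Nonempty (X ≅ ModuleCat.of A (α →₀ M))
  refine good_of_class I (IsNoetherian.noetherian I) Cl ?_ _ ⟨M, _, _, inferInstance, α, ⟨Iso.refl _⟩⟩
  rintro X ⟨M, _, _, _, α, ⟨e⟩⟩
  obtain ⟨n, q, hq⟩ := Module.Finite.exists_fin' A M
  let j := (LinearMap.ker q).subtype
  have hjq : Function.Exact j q := LinearMap.exact_subtype_ker_map q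
  let J : (α →₀ LinearMap.ker q) →ₗ[A] (α →₀ (Fin n → A)) := Finsupp.mapRange.linearMap j
  let P : (α →₀ (Fin n → A)) →ₗ[A] (α →₀ M) := Finsupp.mapRange.linearMap q
  let i : ModuleCat.of A (α →₀ LinearMap.ker q) ⟶ ModuleCat.of A (α →₀ (Fin n → A)) := ModuleCat.ofHom J
  let p : ModuleCat.of A (α →₀ (Fin n → A)) ⟶ X := ModuleCat.ofHom P ≫ e.inv
  have hz : ∀ x, P (J x) = 0 := fun x => Finsupp.ext fun a => (x a).2
  have w : i ≫ p = 0 := ModuleCat.hom_ext (LinearMap.ext fun x => by
    change e.inv.hom (P (J x)) = 0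
    rw [hz, map_zero])
  refine ⟨_, _, i, p, w, ?_, ⟨LinearMap.ker q, inferInstance, inferInstance, inferInstance, α, ⟨Iso.refl _⟩⟩, ?_,
    AdicExact.induced_finsupp (AdicExact.induced_of_finite (Submodule.injective_subtype _)) α⟩
  · have he : Function.Bijective e.inv.hom := ConcreteCategory.bijective_of_isIso e.inv
    refine { exact := ?_, mono_f := ?_, epi_g := ?_ }
    · refine (ShortComplex.ShortExact.moduleCat_exact_iff_function_exact _).2 fun x => ?_
      change e.inv.hom (P x) = 0 ↔ x ∈ Set.range J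
      rw [map_eq_zero_iff _ he.1]
      refine ⟨fun hx => ?_, fun ⟨y, hy⟩ => hy ▸ hz y⟩
      classical
      refine ⟨Finsupp.onFinset x.support (fun a => ⟨x a, LinearMap.mem_ker.2 (DFunLike.congr_fun hx a)⟩)
        fun a ha => Finsupp.mem_support_iff.2 fun h => ha (Subtype.ext h), ?_⟩
      exact Finsupp.ext fun a => rfl
    · exact (ModuleCat.mono_iff_injective _).2
        (Finsupp.mapRange_injective _ (map_zero _) (Submodule.injective_subtype _))
    · exact (ModuleCat.epi_iff_surjective _).2 (he.2.comp (Finsupp.mapRange_surjective _ (map_zero _) hq))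
  · let e' : ((α × ULift.{u} (Fin n)) →₀ A) ≃ₗ[A] (α →₀ (Fin n → A)) :=
      (Finsupp.curryLinearEquiv A).trans (Finsupp.mapRange.linearEquiv
        ((Finsupp.linearEquivFunOnFinite A A (ULift.{u} (Fin n))).trans
          (LinearEquiv.funCongrLeft A A Equiv.ulift.symm)))
    exact good_of_iso I e'.toModuleIso (good_free I _)

omit [IsNoetherianRing A] [DRing.HasDerivedCompletion I] in
lemma exists_flat_pres (N : Type u) [AddCommGroup N] [Module A N] [Module.Flat A N] :
    ∃ (K : Type u) (_ : AddCommGroup K) (_ : Module A K) (_ : Module.Flat A K) (j : K →ₗ[A] (N →₀ A))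
      (q : (N →₀ A) →ₗ[A] N), Function.Injective j ∧ Function.Surjective q ∧ Function.Exact j q := by
  let q : (N →₀ A) →ₗ[A] N := Finsupp.linearCombination A id
  have hq : Function.Surjective q := fun x => ⟨Finsupp.single x 1, by simp [q]⟩
  have : Module.Flat A ((N →₀ A) ⧸ LinearMap.ker q) :=
    Module.Flat.of_linearEquiv (q.quotKerEquivOfSurjective hq)
  exact ⟨LinearMap.ker q, inferInstance, inferInstance, TorAmpGE.flat_sub (LinearMap.ker q),
    (LinearMap.ker q).subtype, q, Submodule.injective_subtype _, hq, LinearMap.exact_subtype_ker_map q⟩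

theorem good_tensor (M N : Type u) [AddCommGroup M] [Module A M] [Module.Finite A M] [AddCommGroup N]
    [Module A N] [Module.Flat A N] : Good I (ModuleCat.of A (M ⊗[A] N)) := by
  let Cl : ModuleCat.{u} A → Prop := fun X => ∃ (N : Type u) (_ : AddCommGroup N) (_ : Module A N)
    (_ : Module.Flat A N), Nonempty (X ≅ ModuleCat.of A (M ⊗[A] N))
  refine good_of_class I (IsNoetherian.noetherian I) Cl ?_ _ ⟨N, _, _, inferInstance, ⟨Iso.refl _⟩⟩
  rintro X ⟨N, _, _, _, ⟨e⟩⟩
  obtain ⟨K, _, _, hK, j, q, hj, hq, hjq⟩ := exists_flat_pres (A := A) N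
  let i := ModuleCat.ofHom (j.lTensor M)
  let p := ModuleCat.ofHom (q.lTensor M) ≫ e.inv
  have hMex : Function.Exact (j.lTensor M) (q.lTensor M) := lTensor_exact M hjq hq
  have w : i ≫ p = 0 := ModuleCat.hom_ext (LinearMap.ext fun x => by
    change e.inv.hom (q.lTensor M (j.lTensor M x)) = 0
    rw [hMex.apply_apply_eq_zero, map_zero])
  refine ⟨_, _, i, p, w, ?_, ⟨K, inferInstance, inferInstance, hK, ⟨Iso.refl _⟩⟩, ?_,
    AdicExact.induced_lTensor j q hj hq hjq M⟩
  · have he : Function.Bijective e.inv.hom := ConcreteCategory.bijective_of_isIso e.inv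
    refine { exact := ?_, mono_f := ?_, epi_g := ?_ }
    · refine (ShortComplex.ShortExact.moduleCat_exact_iff_function_exact _).2 fun x => ?_
      change e.inv.hom (q.lTensor M x) = 0 ↔ x ∈ Set.range (j.lTensor M)
      rw [map_eq_zero_iff _ he.1]
      exact hMex x
    · exact (ModuleCat.mono_iff_injective _).2
        (LinearMap.lTensor_injective_of_exact_of_flat q hq j hj hjq M)
    · exact (ModuleCat.epi_iff_surjective _).2 (he.2.comp (LinearMap.lTensor_surjective M hq))
  · classical
    let e' : M ⊗[A] (N →₀ A) ≃ₗ[A] (N →₀ M) :=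
      (TensorProduct.finsuppRight A A M A N).trans (Finsupp.mapRange.linearEquiv (TensorProduct.rid A M))
    exact good_of_iso I e'.symm.toModuleIso (good_finsupp I M N)

end Groth.Agent.DRing.CompletionModule
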