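import Groth.Agent.DRing.CompletionTensor
import Groth.Agent.DRing.DerivedNakayama
import Groth.Agent.RegLoc.DecayFlat
import Mathlib.RingTheory.AdicCompletion.Completeness
import Mathlib.LinearAlgebra.TensorProduct.Quotient

/-!
# Derived completion of modules versus adic completion: free modules
-/

universe u

open CategoryTheory CategoryTheory.Limits CategoryTheory.Pretriangulated MonoidalCategory DerivedCategory

attribute [local instance] HasDerivedCategory.standard

namespace Groth.Agent.DRing.CompletionModule

open DBasic Completion PC Homology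

variable {A : Type u} [CommRing A] (I : Ideal A)

/-- Adic completion as a functor to `A`-modules. -/
noncomputable def adic : ModuleCat.{u} A ⥤ ModuleCat.{u} A where
  obj M := ModuleCat.of A (AdicCompletion I M)
  map g := ModuleCat.ofHom ((AdicCompletion.map I g.hom).restrictScalars A)
  map_id M := by
    refine ModuleCat.hom_ext (LinearMap.ext fun x => ?_)
    simp [AdicCompletion.map_id]
  map_comp g g' := by
    refine ModuleCat.hom_ext (LinearMap.ext fun x => ?_)
    simp [AdicCompletion.map_comp_apply]

/-- `M → M^`. -/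
noncomputable def ofC : 𝟭 (ModuleCat.{u} A) ⟶ adic I where
  app M := ModuleCat.ofHom (AdicCompletion.of I M)
  naturality M N g := ModuleCat.hom_ext (LinearMap.ext fun x => (AdicCompletion.map_of (I := I) g.hom x).symm)

/-- `M[0] → M^[0]`. -/
noncomputable def ofD (M : ModuleCat.{u} A) :
    (singleFunctor (ModuleCat.{u} A) 0).obj M ⟶ (singleFunctor (ModuleCat.{u} A) 0).obj ((adic I).obj M) :=
  (singleFunctor (ModuleCat.{u} A) 0).map ((ofC I).app M)

/-- The derived completion of `M` is its adic completion. -/
def Good (M : ModuleCat.{u} A) : Prop := IsUniversal I (ofD I M)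

lemma tel_of_killed {N : Type u} [AddCommGroup N] [Module A N] {f : A} (h : ∀ x : N, f • x = 0) :
    Tel.Tel N f := by
  refine Tel.tel_iff.2 ⟨fun x hx => funext fun k => ?_, fun m => ⟨m, fun k => ?_⟩⟩
  · rw [hx k, h]; rfl
  · rw [h, sub_zero]

lemma complete_inD_killed (N : ModuleCat.{u} A) (h : ∀ f ∈ I, ∀ x : N, f • x = 0) :
    DRing.IsDerivedComplete I ((singleFunctor (ModuleCat.{u} A) 0).obj N) :=
  (DerComplete.isDerivedComplete_inD_iff_le I N).2 fun f hf => tel_of_killed (h f hf)

lemma complete_adic (hI : I.FG) (M : ModuleCat.{u} A) :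
    DRing.IsDerivedComplete I ((singleFunctor (ModuleCat.{u} A) 0).obj ((adic I).obj M)) := by
  have := AdicCompletion.isAdicComplete (M := M) hI
  exact (DerComplete.isDerivedComplete_inD_iff_le I (AdicCompletion I M)).2 fun f hf =>
    DerComplete.tel_of_isAdicComplete I hf

lemma good_of_iso {M N : ModuleCat.{u} A} (e : M ≅ N) (h : Good I M) : Good I N :=
  CompletionTensor.isUniversal_of_arrow I (ofD I N) ((singleFunctor (ModuleCat.{u} A) 0).mapIso e)
    ((singleFunctor (ModuleCat.{u} A) 0).mapIso ((adic I).mapIso e))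
    (by
      change (singleFunctor (ModuleCat.{u} A) 0).map _ ≫ (singleFunctor (ModuleCat.{u} A) 0).map _ =
        (singleFunctor (ModuleCat.{u} A) 0).map _ ≫ (singleFunctor (ModuleCat.{u} A) 0).map _
      rw [← Functor.map_comp, ← Functor.map_comp]
      exact congrArg _ ((ofC I).naturality e.hom).symm) h

lemma bijective_ofC_rTensor (hI : I.FG) (M : ModuleCat.{u} A) :
    Function.Bijective ((AdicCompletion.of I M).rTensor (A ⧸ I)) := by
  let e := TensorProduct.tensorQuotEquivQuotSMul M I
  let e' := TensorProduct.tensorQuotEquivQuotSMul (AdicCompletion I M) I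
  have hker : (I • ⊤ : Submodule A (AdicCompletion I M)) = LinearMap.ker (AdicCompletion.eval I M 1) := by
    have := AdicCompletion.pow_smul_top_eq_ker_eval (M := M) (n := 1) hI
    exact (congrArg (fun J : Ideal A => (J • ⊤ : Submodule A (AdicCompletion I M))) (pow_one I)).symm.trans this
  have hpow : (I ^ 1 • ⊤ : Submodule A M) = I • ⊤ := by rw [pow_one]
  let q : (M ⧸ (I • ⊤ : Submodule A M)) →ₗ[A] AdicCompletion I M ⧸ (I • ⊤ : Submodule A (AdicCompletion I M)) :=
    Submodule.mapQ _ _ (AdicCompletion.of I M) (Submodule.map_le_iff_le_comap.1 (by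
      rw [Submodule.map_smul'']; exact smul_mono_right I le_top))
  have hq : Function.Bijective q := by
    constructor
    · rw [injective_iff_map_eq_zero]
      intro x hx
      obtain ⟨x, rfl⟩ := Submodule.mkQ_surjective _ x
      rw [Submodule.mkQ_apply, Submodule.mapQ_apply, Submodule.Quotient.mk_eq_zero, hker] at hx
      rw [Submodule.mkQ_apply, Submodule.Quotient.mk_eq_zero, ← hpow]
      exact (Submodule.Quotient.mk_eq_zero _).1 hx
    · intro y
      obtain ⟨y, rfl⟩ := Submodule.mkQ_surjective _ y
      obtain ⟨x, hx⟩ := Submodule.mkQ_surjective _ (AdicCompletion.eval I M 1 y)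
      refine ⟨Submodule.Quotient.mk x, ?_⟩
      rw [Submodule.mkQ_apply, Submodule.mapQ_apply, Submodule.Quotient.eq, hker, LinearMap.mem_ker, map_sub,
        sub_eq_zero]
      exact hx
  have hfun : ∀ z, e' ((AdicCompletion.of I M).rTensor (A ⧸ I) z) = q (e z) := fun z => by
    induction z using TensorProduct.induction_on with
    | zero => simp
    | tmul m a =>
      obtain ⟨a, rfl⟩ := Ideal.Quotient.mk_surjective a
      simp [e, e', q, TensorProduct.tensorQuotEquivQuotSMul_tmul_mk]
    | add a b ha hb => simp only [map_add, ha, hb]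
  have : ((AdicCompletion.of I M).rTensor (A ⧸ I) : _ → _) = e'.symm ∘ q ∘ e := funext fun z => by
    rw [Function.comp_apply, Function.comp_apply, ← hfun, e'.symm_apply_apply]
  rw [this]
  exact e'.symm.bijective.comp (hq.comp e.bijective)

/-- Free modules, and more generally flat modules with flat completion. -/
theorem good_of_flat [IsNoetherianRing A] [DRing.HasDerivedCompletion I] (M : ModuleCat.{u} A)
    [Module.Flat A M] [Module.Flat A (AdicCompletion I M)] : Good I M := by
  have hI : I.FG := IsNoetherian.noetherian I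
  let X := ModuleCat.of A (A ⧸ I)
  have := LTensor.hasLTensor X
  let T := DRing.LTensor A X
  let F := singleFunctor (ModuleCat.{u} A) 0
  obtain ⟨c, hc⟩ := ((isUniversal_unit I (F.obj M)).2 _ (complete_adic I hI M)).2 (ofD I M)
  dsimp only at hc
  suffices hci : IsIso c by
    refine ⟨complete_adic I hI M, fun L hL => ?_⟩
    have hb := (isUniversal_unit I (F.obj M)).2 L hL
    have h5 : (fun v : _ ⟶ L => ofD I M ≫ v) =
        (fun v => DRing.toDerivedCompletion I (F.obj M) ≫ v) ∘ (Iso.homCongr (asIso c).symm (Iso.refl L)) :=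
      funext fun v => by simp [← hc]
    exact h5 ▸ hb.comp (Iso.homCongr (asIso c).symm (Iso.refl L)).bijective
  -- the map becomes invertible after `⊗^L A/I`
  let M' := (adic I).obj M
  have hM' : Module.Flat A M' := inferInstanceAs (Module.Flat A (AdicCompletion I M))
  let S := HomologicalComplex.single (ModuleCat.{u} A) (ComplexShape.up ℤ) 0
  let ι := singleFunctorIsoCompQ (ModuleCat.{u} A) 0
  let GC := (tensorRight X).mapHomologicalComplex (ComplexShape.up ℤ)
  let sm := HomologicalComplex.singleMapHomologicalComplex (tensorRight X) (ComplexShape.up ℤ) 0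
  have hb : IsIso (T.map (ofD I M)) := by
    have h1 : IsIso ((tensorRight X).map ((ofC I).app M)) :=
      (ConcreteCategory.isIso_iff_bijective _).2 (bijective_ofC_rTensor I hI M)
    have h2 : IsIso (GC.map (S.map ((ofC I).app M))) :=
      (NatIso.isIso_map_iff sm ((ofC I).app M)).2 (inferInstanceAs (IsIso (S.map ((tensorRight X).map _))))
    have i1 := LTensor.isIso_toTerm_LTensor X (RHomAway.isKFlat_S M)
    have i2 := LTensor.isIso_toTerm_LTensor X (RHomAway.isKFlat_S M')
    have h3 : IsIso (T.map (Q.map (S.map ((ofC I).app M))) ≫ LTensor.toTerm (tensorRight X) (S.obj M')) := by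
      rw [show T.map (Q.map (S.map ((ofC I).app M))) ≫ LTensor.toTerm (tensorRight X) (S.obj M') =
        LTensor.toTerm (tensorRight X) (S.obj M) ≫ Q.map (GC.map (S.map ((ofC I).app M))) from
          LTensor.toTerm_natural (tensorRight X) (S.map ((ofC I).app M))]
      infer_instance
    have h4 : IsIso (T.map (Q.map (S.map ((ofC I).app M)))) := IsIso.of_isIso_comp_right _ (LTensor.toTerm (tensorRight X) (S.obj M'))
    exact (NatIso.isIso_map_iff (Functor.isoWhiskerRight ι T) ((ofC I).app M)).2 h4
  have hsrc : DRing.IsDerivedComplete I (T.obj (F.obj M)) := by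
    refine CompletionTensor.isDerivedComplete_congr I ?_
      (complete_inD_killed I ((tensorRight X).obj M) fun f hf x => ?_)
    · exact ι.app _ ≪≫ Q.mapIso (sm.app M).symm ≪≫ (LTensor.LTensorIso X (RHomAway.isKFlat_S M)).symm ≪≫
        T.mapIso (ι.app M).symm
    · change TensorProduct A M (A ⧸ I) at x
      induction x using TensorProduct.induction_on with
      | zero => exact smul_zero f
      | tmul m a =>
        obtain ⟨a, rfl⟩ := Ideal.Quotient.mk_surjective a
        change f • (m ⊗ₜ[A] Ideal.Quotient.mk I a) = 0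
        rw [← TensorProduct.tmul_smul, show f • Ideal.Quotient.mk I a = Ideal.Quotient.mk I (f * a) from rfl,
          Ideal.Quotient.eq_zero_iff_mem.2 (I.mul_mem_right a hf), TensorProduct.tmul_zero]
      | add x y hx hy => exact (smul_add f x y).trans (by rw [hx, hy, add_zero])
  have hu : IsIso (T.map (DRing.toDerivedCompletion I (F.obj M))) := by
    have hv := CompletionTensor.isUniversal_LTensor I (A ⧸ I) (F.obj M) 0 fun i hi =>
      (subsingleton_HD_iff_isZero _ i).2 ((DerivedCategory.isLE_iff _ 0).1
        (inferInstanceAs ((F.obj M).IsLE 0)) i hi)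
    have hid : IsUniversal I (𝟙 (T.obj (F.obj M))) :=
      ⟨hsrc, fun L _ => ⟨fun v w h => by simpa using h, fun w => ⟨w, Category.id_comp w⟩⟩⟩
    obtain ⟨e, he⟩ := IsUniversal.exists_iso I hid hv
    rw [Category.id_comp] at he
    rw [← he]
    infer_instance
  have hTc : IsIso (T.map c) := by
    have : IsIso (T.map (DRing.toDerivedCompletion I (F.obj M)) ≫ T.map c) := by
      rw [← Functor.map_comp, hc]; exact hb
    exact IsIso.of_isIso_comp_left (T.map (DRing.toDerivedCompletion I (F.obj M))) _
  -- derived Nakayama for the cone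
  have hbd : ∀ i : ℤ, 0 < i → Subsingleton (Dual.HD A (((DRing.derivedCompletion I).obj (F.obj M)).obj) i) := by
    obtain ⟨s, hs⟩ := hI
    exact fun i hi => (subsingleton_HD_iff_isZero _ i).2 (isZero_HF_completion I s hs _ i fun j hj _ =>
      (DerivedCategory.isLE_iff _ 0).1 (inferInstanceAs ((F.obj M).IsLE 0)) j (by omega))
  obtain ⟨P, hP1, hP2, ⟨eP⟩⟩ := ProjAmp.exists_freeRep _ 0 hbd
  obtain ⟨R, hR1, hR2, ⟨eR⟩⟩ := ProjAmp.exists_freeRep (F.obj M') 0 fun i hi =>
    (subsingleton_HD_iff_isZero _ i).2 ((DerivedCategory.isLE_iff _ 0).1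
      (inferInstanceAs ((F.obj M').IsLE 0)) i hi)
  have := isKProjective_of_projective P 0 hP1 fun i => have := hP2 i; Module.Projective.of_free
  have := isKProjective_of_projective R 0 hR1 fun i => have := hR2 i; Module.Projective.of_free
  obtain ⟨g, hg⟩ := exists_Q_map_eq (L := R) (eP.hom ≫ c ≫ eR.inv)
  let Z := CochainComplex.mappingCone g
  have hZp : Z.IsKProjective := KProj.isKProjective_mappingCone g
  have hT : Q.mapTriangle.obj (CochainComplex.mappingCone.triangle g) ∈ distinguishedTriangles :=
    mappingCone_triangle_distinguished g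
  have hZc : DRing.IsDerivedComplete I (DRing.toD Z) := complete_cone I hT
    (CompletionTensor.isDerivedComplete_congr I eP.symm ((DRing.derivedCompletion I).obj (F.obj M)).property)
    (CompletionTensor.isDerivedComplete_congr I eR.symm (complete_adic I hI M))
  have hgT : IsIso (Q.map (GC.map g)) := by
    have i1 := LTensor.isIso_toTerm_LTensor X (KFlat.isKFlat_of_isKProjective P)
    have i2 := LTensor.isIso_toTerm_LTensor X (KFlat.isKFlat_of_isKProjective R)
    have : IsIso (T.map (Q.map g)) := by rw [hg, Functor.map_comp, Functor.map_comp]; infer_instance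
    have h : IsIso (LTensor.toTerm (tensorRight X) P ≫ Q.map (GC.map g)) := by
      rw [show LTensor.toTerm (tensorRight X) P ≫ Q.map (GC.map g) =
        T.map (Q.map g) ≫ LTensor.toTerm (tensorRight X) R from (LTensor.toTerm_natural (tensorRight X) g).symm]
      infer_instance
    exact IsIso.of_isIso_comp_left (LTensor.toTerm (tensorRight X) P) _
  have hZ0 : IsZero (DRing.toD Z) := by
    refine Devissage.isZero_of_subsingleton_HD fun i => ?_
    refine (DerComplete.bound_iff I hI (DRing.toD Z) hZc (i - 1)).2 (fun j _ => ?_) i (by omega)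
    rw [subsingleton_HD_congr (LTensor.LTensorIso X (KFlat.isKFlat_of_isKProjective Z)) j,
      subsingleton_HD_iff_isZero]
    have hcone : IsZero (Q.obj (CochainComplex.mappingCone (GC.map g))) :=
      Triangle.isZero₃_of_isIso₁ _ (mappingCone_triangle_distinguished (GC.map g)) hgT
    exact (HF j).map_isZero
      (IsZero.of_iso hcone (Q.mapIso (CochainComplex.mappingCone.mapHomologicalComplexIso g (tensorRight X))))
  have hgi : IsIso (Q.map g) := (Triangle.isZero₃_iff_isIso₁ _ hT).1 hZ0
  have : IsIso (eP.hom ≫ c ≫ eR.inv) := hg ▸ hgi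
  have : IsIso (c ≫ eR.inv) := IsIso.of_isIso_comp_left eP.hom _
  exact IsIso.of_isIso_comp_right c eR.inv

theorem good_free [IsNoetherianRing A] [DRing.HasDerivedCompletion I] (α : Type u) :
    Good I (ModuleCat.of A (α →₀ A)) :=
  have : Module.Flat A (AdicCompletion I (α →₀ A)) := RegLoc.DecayFlat.flat_completion_finsupp I α
  good_of_flat I _

end Groth.Agent.DRing.CompletionModule
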