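import Groth.Agent.DRing.CompletionModule
import Groth.Agent.DRing.AdicExact
import Mathlib.Algebra.Homology.DerivedCategory.SingleTriangle

/-!
# Dimension shifting for completion of modules
-/

universe u

open CategoryTheory CategoryTheory.Limits CategoryTheory.Pretriangulated DerivedCategory

attribute [local instance] HasDerivedCategory.standard

namespace Groth.Agent.DRing.CompletionModule

open DBasic Completion PC

variable {A : Type u} [CommRing A] (I : Ideal A) [DRing.HasDerivedCompletion I]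

/-- `M[0]`. -/
noncomputable abbrev F0 : ModuleCat.{u} A ⥤ Dual.D A := singleFunctor (ModuleCat.{u} A) 0

/-- The completion of `M[0]`. -/
noncomputable abbrev comp0 : ModuleCat.{u} A ⥤ Dual.D A :=
  F0 ⋙ DRing.derivedCompletion I ⋙ ObjectProperty.ι (DRing.IsDerivedComplete I)

lemma exists_cmp (hI : I.FG) (M : ModuleCat.{u} A) :
    ∃ c : (comp0 I).obj M ⟶ F0.obj ((adic I).obj M),
      DRing.toDerivedCompletion I (F0.obj M) ≫ c = ofD I M :=
  ((isUniversal_unit I (F0.obj M)).2 _ (complete_adic I hI M)).2 (ofD I M)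

/-- The comparison. -/
noncomputable def cmp (hI : I.FG) (M : ModuleCat.{u} A) : (comp0 I).obj M ⟶ F0.obj ((adic I).obj M) :=
  (exists_cmp I hI M).choose

lemma unit_cmp (hI : I.FG) (M : ModuleCat.{u} A) :
    DRing.toDerivedCompletion I (F0.obj M) ≫ cmp I hI M = ofD I M :=
  (exists_cmp I hI M).choose_spec

lemma unit_natural {K L : Dual.D A} (φ : K ⟶ L) :
    φ ≫ DRing.toDerivedCompletion I L =
      DRing.toDerivedCompletion I K ≫ ((DRing.derivedCompletion I).map φ).hom :=
  (DRing.derivedCompletionAdj I).unit.naturality φ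

lemma cmp_natural (hI : I.FG) {M N : ModuleCat.{u} A} (g : M ⟶ N) :
    (comp0 I).map g ≫ cmp I hI N = cmp I hI M ≫ F0.map ((adic I).map g) := by
  refine ((isUniversal_unit I (F0.obj M)).2 _ (complete_adic I hI N)).1 ?_
  dsimp only
  rw [← Category.assoc, ← Category.assoc, unit_cmp]
  refine (congrArg (· ≫ cmp I hI N) (unit_natural I (F0.map g)).symm).trans ?_
  rw [Category.assoc, unit_cmp]
  refine (F0.map_comp _ _).symm.trans ((congrArg F0.map ((ofC I).naturality g)).trans ?_)
  exact F0.map_comp _ _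

lemma good_iff_isIso (hI : I.FG) (M : ModuleCat.{u} A) : Good I M ↔ IsIso (cmp I hI M) := by
  constructor
  · intro h
    obtain ⟨e, he⟩ := IsUniversal.exists_iso I (isUniversal_unit I (F0.obj M)) h
    have : cmp I hI M = e.hom := ((isUniversal_unit I (F0.obj M)).2 _ (complete_adic I hI M)).1
      ((unit_cmp I hI M).trans he.symm)
    rw [this]; infer_instance
  · intro h
    exact CompletionTensor.isUniversal_of_arrow I (ofD I M) (Iso.refl _) (asIso (cmp I hI M))
      (by rw [Iso.refl_hom, Category.id_comp]; exact unit_cmp I hI M) (isUniversal_unit I (F0.obj M))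

/-- The degree-zero comparison. -/
noncomputable def gam (hI : I.FG) (M : ModuleCat.{u} A) :
    (HF 0).obj ((comp0 I).obj M) ⟶ (adic I).obj M :=
  (HF 0).map (cmp I hI M) ≫ (singleFunctorCompHomologyFunctorIso (ModuleCat.{u} A) 0).hom.app _

lemma gam_natural (hI : I.FG) {M N : ModuleCat.{u} A} (g : M ⟶ N) :
    (HF 0).map ((comp0 I).map g) ≫ gam I hI N = gam I hI M ≫ (adic I).map g := by
  rw [gam, gam, ← Category.assoc, ← Functor.map_comp, cmp_natural, Functor.map_comp, Category.assoc,
    Category.assoc]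
  exact congrArg (_ ≫ ·) ((singleFunctorCompHomologyFunctorIso (ModuleCat.{u} A) 0).hom.naturality _)

lemma gam_natural_apply (hI : I.FG) {M N : ModuleCat.{u} A} (g : M ⟶ N) (w : (HF 0).obj ((comp0 I).obj M)) :
    (gam I hI N).hom (((HF 0).map ((comp0 I).map g)).hom w) =
      ((adic I).map g).hom ((gam I hI M).hom w) :=
  LinearMap.congr_fun (congrArg ModuleCat.Hom.hom (gam_natural I hI g)) w

lemma isZero_HF_F0 (N : ModuleCat.{u} A) {i : ℤ} (hi : i ≠ 0) : IsZero ((HF i).obj (F0.obj N)) :=
  IsZero.of_iso ((subsingleton_HD_iff_isZero _ i).1 (subsingleton_HD_sgl N (n := 0) hi))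
    ((HF i).mapIso ((singleFunctorIsoCompQ (ModuleCat.{u} A) 0).app N))

lemma isZero_pos (hI : I.FG) (M : ModuleCat.{u} A) {i : ℤ} (hi : 0 < i) :
    IsZero ((HF i).obj ((comp0 I).obj M)) := by
  obtain ⟨s, hs⟩ := hI
  exact isZero_HF_completion I s hs (F0.obj M) i fun j hj _ => isZero_HF_F0 M (by omega)

lemma bijective_gam_of_good (hI : I.FG) {M : ModuleCat.{u} A} (h : Good I M) :
    Function.Bijective (gam I hI M).hom := by
  have := (good_iff_isIso I hI M).1 h
  have h1 : IsIso ((HF 0).map (cmp I hI M)) := inferInstance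
  have : IsIso (gam I hI M) :=
    IsIso.comp_isIso' h1 (Iso.isIso_hom ((singleFunctorCompHomologyFunctorIso (ModuleCat.{u} A) 0).app _))
  exact ConcreteCategory.bijective_of_isIso (gam I hI M)

lemma isZero_of_good (hI : I.FG) {M : ModuleCat.{u} A} (h : Good I M) {i : ℤ} (hi : i ≠ 0) :
    IsZero ((HF i).obj ((comp0 I).obj M)) := by
  have := (good_iff_isIso I hI M).1 h
  exact IsZero.of_iso (isZero_HF_F0 _ hi) ((HF i).mapIso (asIso (cmp I hI M)))

lemma good_of_components (hI : I.FG) (M : ModuleCat.{u} A) (h0 : Function.Bijective (gam I hI M).hom)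
    (hne : ∀ i : ℤ, i ≠ 0 → IsZero ((HF i).obj ((comp0 I).obj M))) : Good I M := by
  rw [good_iff_isIso I hI, isIso_iff_HF]
  intro i
  by_cases hi : i = 0
  · subst hi
    have : IsIso (gam I hI M) := (ConcreteCategory.isIso_iff_bijective _).2 h0
    exact @IsIso.of_isIso_comp_right _ _ _ _ _ _ ((singleFunctorCompHomologyFunctorIso (ModuleCat.{u} A) 0).hom.app _)
      (Iso.isIso_hom ((singleFunctorCompHomologyFunctorIso (ModuleCat.{u} A) 0).app _)) this
  · exact isIso_of_source_target_iso_zero _ (hne i hi).isoZero (isZero_HF_F0 _ hi).isoZero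

/-- The completed triangle of a short exact sequence. -/
lemma exists_seq {S : ShortComplex (ModuleCat.{u} A)} (hS : S.ShortExact) :
    ∃ δ, Triangle.mk ((comp0 I).map S.f) ((comp0 I).map S.g) δ ∈ distinguishedTriangles := by
  obtain ⟨C', l, δ, γ, hT', hu, hγ⟩ := exists_cone_universal I hS.singleTriangle_distinguished
  obtain ⟨e, he⟩ := IsUniversal.exists_iso I hu (isUniversal_unit I _)
  have hl : l ≫ e.hom = (comp0 I).map S.g := by
    refine ((isUniversal_unit I (F0.obj S.X₂)).2 _ ((DRing.derivedCompletion I).obj (F0.obj S.X₃)).property).1 ?_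
    refine ((Category.assoc _ _ _).symm.trans ((congrArg (· ≫ e.hom) hγ.symm).trans ?_)).trans
      (unit_natural I (F0.map S.g))
    rw [Category.assoc, he]
    rfl
  refine ⟨e.inv ≫ δ, isomorphic_distinguished _ hT' _ (Triangle.isoMk _ _ (Iso.refl _) (Iso.refl _) e.symm ?_ ?_ ?_)⟩
  · exact (Category.comp_id _).trans (Category.id_comp _).symm
  · exact ((congrArg (· ≫ e.inv) hl).symm.trans ((Category.assoc _ _ _).trans
      (by rw [e.hom_inv_id]; exact Category.comp_id _))).trans (Category.id_comp _).symm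
  · exact ((congrArg (fun t => (e.inv ≫ δ) ≫ t) (CategoryTheory.Functor.map_id _ _)).trans (Category.comp_id _))

/-- Dimension shifting. -/
theorem good_of_class (hI : I.FG) (Cl : ModuleCat.{u} A → Prop)
    (h : ∀ M, Cl M → ∃ (K E : ModuleCat.{u} A) (i : K ⟶ E) (p : E ⟶ M) (w : i ≫ p = 0),
      (ShortComplex.mk i p w).ShortExact ∧ Cl K ∧ Good I E ∧ AdicExact.Induced I i.hom)
    (M : ModuleCat.{u} A) (hM : Cl M) : Good I M := by
  have surj : ∀ M, Cl M → Function.Surjective (gam I hI M).hom := by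
    intro M hM y
    obtain ⟨K, E, i, p, w, hS, -, hE, -⟩ := h M hM
    obtain ⟨x, rfl⟩ := AdicCompletion.map_surjective I hS.moduleCat_surjective_g y
    obtain ⟨v, rfl⟩ := (bijective_gam_of_good I hI hE).2 x
    exact ⟨_, gam_natural_apply I hI p v⟩
  have inj : ∀ M, Cl M → Function.Injective (gam I hI M).hom := by
    intro M hM
    obtain ⟨K, E, i, p, w, hS, hK, hE, hind⟩ := h M hM
    obtain ⟨δ, hT⟩ := exists_seq I hS
    have hex := (ShortComplex.ShortExact.moduleCat_exact_iff_function_exact _).1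
      (HomologySequence.exact₂ _ hT 0)
    have hepi : Function.Surjective ((HF 0).map ((comp0 I).map p)).hom := by
      rw [← ModuleCat.epi_iff_surjective]
      exact (HomologySequence.epi_homologyMap_mor₂_iff _ hT 0 1 rfl).2
        ((isZero_pos I hI K zero_lt_one).eq_of_tgt _ _)
    rw [injective_iff_map_eq_zero]
    intro z hz
    obtain ⟨v, rfl⟩ := hepi z
    rw [gam_natural_apply] at hz
    obtain ⟨k, hk⟩ := (AdicExact.map_exact hind hS.moduleCat_surjective_g
      ((ShortComplex.ShortExact.moduleCat_exact_iff_function_exact _).1 hS.exact) _).1 hz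
    obtain ⟨u, rfl⟩ := surj K hK k
    have : v = ((HF 0).map ((comp0 I).map i)).hom u :=
      (bijective_gam_of_good I hI hE).1 (hk.symm.trans (gam_natural_apply I hI i u).symm)
    exact (hex v).2 ⟨u, this.symm⟩
  have neg : ∀ (k : ℕ) (M : ModuleCat.{u} A), Cl M →
      IsZero ((HF (-1 - (k : ℤ))).obj ((comp0 I).obj M)) := by
    intro k
    induction k with
    | zero =>
      intro M hM
      obtain ⟨K, E, i, p, w, hS, hK, hE, hind⟩ := h M hM
      obtain ⟨δ, hT⟩ := exists_seq I hS
      refine isZero_of_epi_mono hT _ ⟨fun f g _ => ?_⟩ ?_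
      · exact (isZero_of_good I hI hE (by omega)).eq_of_src f g
      · rw [show (-1 - ((0 : ℕ) : ℤ)) + 1 = 0 by omega]
        refine (ModuleCat.mono_iff_injective _).2 fun x y hxy => ?_
        refine inj K hK (AdicExact.map_injective hind ?_)
        have hxy' := congrArg (gam I hI E).hom hxy
        exact (gam_natural_apply I hI i x).symm.trans (hxy'.trans (gam_natural_apply I hI i y))
    | succ k ih =>
      intro M hM
      obtain ⟨K, E, i, p, w, hS, hK, hE, -⟩ := h M hM
      obtain ⟨δ, hT⟩ := exists_seq I hS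
      refine isZero_of_epi_mono hT _ ⟨fun f g _ => ?_⟩ ?_
      · exact (isZero_of_good I hI hE (by omega)).eq_of_src f g
      · rw [show (-1 - ((k + 1 : ℕ) : ℤ)) + 1 = -1 - (k : ℤ) by omega]
        exact ⟨fun f g _ => (ih K hK).eq_of_tgt f g⟩
  refine good_of_components I hI M ⟨inj M hM, surj M hM⟩ fun i hi => ?_
  rcases lt_or_gt_of_ne hi with hi | hi
  · obtain ⟨k, rfl⟩ : ∃ k : ℕ, i = -1 - (k : ℤ) := ⟨(-1 - i).toNat, by omega⟩
    exact neg k M hM
  · exact isZero_pos I hI M hi

end Groth.Agent.DRing.CompletionModule
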