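import Groth.Agent.DRing.Trunc
import Groth.Agent.DRing.LTensor

/-!
# Tor amplitude in `D(A)`

The criterion by vanishing of `H^i(K ⊗^L M)`, closure properties.
-/

universe u

open CategoryTheory CategoryTheory.Limits CategoryTheory.Pretriangulated MonoidalCategory
  DerivedCategory

attribute [local instance] HasDerivedCategory.standard

namespace Groth.Agent.DRing.TorAmp

open Homology DBasic KFlat

variable {A : Type u} [CommRing A]

/-- `H^i(P ⊗ M) = 0` outside `[a, b]` for all modules `M`. -/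
def TorVan (P : DRing.Cx A) (a b : ℤ) : Prop :=
  ∀ (M : ModuleCat.{u} A) (i : ℤ), i < a ∨ b < i → (DRing.tensorCx P M).ExactAt i

lemma exactAt_iff_of_quasiIso {P P' : DRing.Cx A} (f : P ⟶ P') [QuasiIso f] (i : ℤ) :
    P.ExactAt i ↔ P'.ExactAt i := by
  rw [HomologicalComplex.exactAt_iff_isZero_homology, HomologicalComplex.exactAt_iff_isZero_homology]
  exact (isoOfQuasiIsoAt f i).isZero_iff

lemma exactAt_tensor_iff {P P' : DRing.Cx A} (f : P ⟶ P') [QuasiIso f] (hP : IsKFlat P)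
    (hP' : IsKFlat P') (M : ModuleCat.{u} A) (i : ℤ) :
    (DRing.tensorCx P M).ExactAt i ↔ (DRing.tensorCx P' M).ExactAt i := by
  have := SingleTensor.quasiIso_tensorRight M f hP hP'
  exact exactAt_iff_of_quasiIso
    (((tensorRight M).mapHomologicalComplex (ComplexShape.up ℤ)).map f) i

/-- K-flat representatives of the same object tensor alike. -/
lemma exactAt_tensor_congr {P P' : DRing.Cx A} (hP : IsKFlat P) (hP' : IsKFlat P')
    (e : DRing.toD P ≅ DRing.toD P') (M : ModuleCat.{u} A) (i : ℤ) :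
    (DRing.tensorCx P M).ExactAt i ↔ (DRing.tensorCx P' M).ExactAt i := by
  obtain ⟨R, π, hR, -, hq, -⟩ := KProjRes.exists_resolution P
  obtain ⟨g, hg⟩ := exists_Q_map_eq (L := P') (Q.map π ≫ e.hom)
  have : QuasiIso g := (isIso_Q_map_iff_quasiIso (C := ModuleCat.{u} A) g).1 (by rw [hg]; infer_instance)
  rw [← exactAt_tensor_iff π (isKFlat_of_isKProjective R) hP M i,
    exactAt_tensor_iff g (isKFlat_of_isKProjective R) hP' M i]

lemma isKFlat_of_flat {E : DRing.Cx A} {a b : ℤ} (h1 : DRing.VanishesOutside E a b)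
    (h2 : DRing.TermwiseFlat E) : IsKFlat E :=
  isKFlat_of_boundedAbove_flat E b (fun i hi => h1 i (Or.inr hi)) h2

lemma isKFlat_of_projective {E : DRing.Cx A} {b : ℤ} (h1 : DRing.VanishesAbove E b)
    (h2 : ∀ i, Module.Projective A (E.X i)) : IsKFlat E :=
  isKFlat_of_boundedAbove_flat E b h1 fun i => have := h2 i; inferInstance

lemma torVan_of_flat {E : DRing.Cx A} {a b : ℤ} (h1 : DRing.VanishesOutside E a b) :
    TorVan E a b := fun M i hi =>
  ((DRing.tensorCx E M).exactAt_iff i).2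
    (ShortComplex.exact_of_isZero_X₂ _ ((tensorRight M).map_isZero (h1 i hi)))

/-- `P ⊗ A ≅ P`. -/
lemma exactAt_tensor_self (P : DRing.Cx A) (i : ℤ) :
    (DRing.tensorCx P (𝟙_ (ModuleCat.{u} A))).ExactAt i ↔ P.ExactAt i := by
  have e : DRing.tensorCx P (𝟙_ (ModuleCat.{u} A)) ≅ P :=
    (NatIso.mapHomologicalComplex (rightUnitorNatIso (ModuleCat.{u} A)) (ComplexShape.up ℤ)).app P ≪≫
      (Functor.mapHomologicalComplexIdIso (ModuleCat.{u} A) (ComplexShape.up ℤ)).app P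
  rw [HomologicalComplex.exactAt_iff_isZero_homology, HomologicalComplex.exactAt_iff_isZero_homology]
  exact ((HomologicalComplex.homologyFunctor _ _ i).mapIso e).isZero_iff

/-- The cokernel of a differential of a flat complex, exact after tensoring, is flat. -/
lemma flat_coker {P : DRing.Cx A} (hP : ∀ i, Module.Flat A (P.X i)) (a : ℤ)
    (h : ∀ M : ModuleCat.{u} A, (DRing.tensorCx P M).ExactAt (a - 1)) :
    Module.Flat A (P.X a ⧸ LinearMap.range (P.d (a - 1) a).hom) := by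
  rw [Module.Flat.iff_lTensor_preserves_injective_linearMap]
  intro N N' _ _ _ _ f hf
  let d := (P.d (a - 1) a).hom
  let q := (LinearMap.range d).mkQ
  have hq : Function.Surjective q := Submodule.mkQ_surjective _
  have hdq : Function.Exact d q := LinearMap.exact_iff.2 (by simp [q])
  let g := (LinearMap.range f).mkQ
  have hg : Function.Surjective g := Submodule.mkQ_surjective _
  have hfg : Function.Exact f g := LinearMap.exact_iff.2 (by simp [g])
  rw [injective_iff_map_eq_zero]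
  intro x hx
  obtain ⟨x₀, rfl⟩ := LinearMap.rTensor_surjective N hq x
  have h1 : LinearMap.rTensor N' q (LinearMap.lTensor (P.X a) f x₀) = 0 := by
    rw [← LinearMap.comp_apply, LinearMap.rTensor_comp_lTensor, ← LinearMap.lTensor_comp_rTensor,
      LinearMap.comp_apply]
    exact hx
  obtain ⟨w', hw'⟩ := (rTensor_exact N' hdq hq _).1 h1
  have h2 : LinearMap.rTensor (N' ⧸ LinearMap.range f) d
      (LinearMap.lTensor (P.X (a - 1)) g w') = 0 := by
    rw [← LinearMap.comp_apply, LinearMap.rTensor_comp_lTensor, ← LinearMap.lTensor_comp_rTensor,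
      LinearMap.comp_apply, hw', ← LinearMap.comp_apply, ← LinearMap.lTensor_comp,
      hfg.linearMap_comp_eq_zero, LinearMap.lTensor_zero, LinearMap.zero_apply]
  obtain ⟨v'', hv''⟩ := (exactAt_iff_forall (a - 1) (a - 2) (by omega)).1
    (h (ModuleCat.of A (N' ⧸ LinearMap.range f))) _
    ((isCyc_iff (show a - 1 + 1 = a by omega) _).2 h2)
  obtain ⟨v', hv'⟩ := LinearMap.lTensor_surjective (P.X (a - 2)) hg v''
  have h3 : LinearMap.lTensor (P.X (a - 1)) g
      (w' - LinearMap.rTensor N' (P.d (a - 2) (a - 1)).hom v') = 0 := by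
    rw [map_sub, ← LinearMap.comp_apply (f := LinearMap.lTensor (P.X (a - 1)) g),
      LinearMap.lTensor_comp_rTensor, ← LinearMap.rTensor_comp_lTensor, LinearMap.comp_apply, hv',
      sub_eq_zero]
    exact hv''.symm
  obtain ⟨w, hw⟩ := (lTensor_exact (P.X (a - 1)) hfg hg _).1 h3
  have hdd : LinearMap.rTensor N' d (LinearMap.rTensor N' (P.d (a - 2) (a - 1)).hom v') = 0 := by
    rw [← LinearMap.comp_apply, ← LinearMap.rTensor_comp, ← ModuleCat.hom_comp, P.d_comp_d,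
      ModuleCat.hom_zero, LinearMap.rTensor_zero, LinearMap.zero_apply]
  have h4 : LinearMap.rTensor N d w = x₀ := by
    have := hP a
    apply Module.Flat.lTensor_preserves_injective_linearMap f hf
    rw [← LinearMap.comp_apply, LinearMap.lTensor_comp_rTensor, ← LinearMap.rTensor_comp_lTensor,
      LinearMap.comp_apply, hw, map_sub, hw', hdd, sub_zero]
  rw [← h4, ← LinearMap.comp_apply, ← LinearMap.rTensor_comp, hdq.linearMap_comp_eq_zero,
    LinearMap.rTensor_zero, LinearMap.zero_apply]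

/-- The truncation of a flat complex is flat. -/
lemma flat_tauGE {P : DRing.Cx A} (hP : ∀ i, Module.Flat A (P.X i)) (a : ℤ)
    (h : ∀ M : ModuleCat.{u} A, (DRing.tensorCx P M).ExactAt (a - 1)) :
    DRing.TermwiseFlat (Trunc.tauGE P a) := by
  intro i
  rcases lt_trichotomy i a with hi | rfl | hi
  · have := ModuleCat.subsingleton_of_isZero (Trunc.tauGE_X_isZero P a hi)
    infer_instance
  · have := flat_coker hP i h
    exact Module.Flat.of_linearEquiv (R := A)
      (Submodule.quotEquivOfEq _ _ (Trunc.killSub_eq_range P i))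
  · exact Module.Flat.of_linearEquiv (R := A) (Trunc.tauGE_XIso P a hi).toLinearEquiv

/-- A flat representative in `[a, b]` from the vanishing. -/
theorem exists_tauGE_rep {P : DRing.Cx A} {K : Dual.D A} {a b : ℤ}
    (hb : DRing.VanishesAbove P b) (hP : ∀ i, Module.Flat A (P.X i))
    (h : ∀ (M : ModuleCat.{u} A) i, i < a → (DRing.tensorCx P M).ExactAt i)
    (e : DRing.toD P ≅ K) :
    DRing.VanishesOutside (Trunc.tauGE P a) a b ∧ DRing.TermwiseFlat (Trunc.tauGE P a) ∧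
      Nonempty (DRing.toD (Trunc.tauGE P a) ≅ K) := by
  have : QuasiIso (Trunc.tauGEπ P a) :=
    Trunc.quasiIso_tauGEπ P a fun i hi => (exactAt_tensor_self P i).1 (h _ i hi)
  exact ⟨Trunc.vanishesOutside_tauGE P a hb, flat_tauGE hP a fun M => h M (a - 1) (by omega),
    ⟨(asIso (Q.map (Trunc.tauGEπ P a))).symm ≪≫ e⟩⟩

/-- Tor amplitude in terms of a K-flat representative. -/
theorem hasTorAmp_iff {P : DRing.Cx A} (hP : IsKFlat P) {K : Dual.D A} (e : DRing.toD P ≅ K)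
    (a b : ℤ) : DRing.HasTorAmplitudeIn A a b K ↔ TorVan P a b := by
  constructor
  · rintro ⟨E, h1, h2, ⟨e'⟩⟩ M i hi
    exact (exactAt_tensor_congr (isKFlat_of_flat h1 h2) hP (e' ≪≫ e.symm) M i).1
      (torVan_of_flat h1 M i hi)
  · intro h
    obtain ⟨P', hb, hproj, ⟨e'⟩⟩ := Trunc.exists_projRep K b fun i hi => by
      rw [← subsingleton_HD_congr e, subsingleton_HD_toD_iff,
        ← HomologicalComplex.exactAt_iff_isZero_homology, ← exactAt_tensor_self]
      exact h _ i (Or.inr hi)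
    exact ⟨_, exists_tauGE_rep hb (fun i => have := hproj i; inferInstance)
      (fun M i hi => (exactAt_tensor_congr hP (isKFlat_of_projective hb hproj)
        (e ≪≫ e'.symm) M i).1 (h M i (Or.inl hi))) e'⟩

/-- Tor amplitude in terms of the derived tensor product. -/
theorem hasTorAmp_iff_LTensor [∀ M : ModuleCat.{u} A, DRing.HasLTensor A M] (K : Dual.D A)
    (a b : ℤ) : DRing.HasTorAmplitudeIn A a b K ↔ ∀ (M : ModuleCat.{u} A) (i : ℤ),
      i < a ∨ b < i → Subsingleton (Dual.HD A ((DRing.LTensor A M).obj K) i) := by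
  obtain ⟨P, hP, -, ⟨e⟩⟩ := exists_kproj_iso K
  rw [hasTorAmp_iff (isKFlat_of_isKProjective P) e]
  refine forall_congr' fun M => forall_congr' fun i => forall_congr' fun _ => ?_
  rw [← subsingleton_HD_congr ((DRing.LTensor A M).mapIso e) i,
    subsingleton_HD_congr (LTensor.LTensorIso M (isKFlat_of_isKProjective P)) i,
    subsingleton_HD_toD_iff, HomologicalComplex.exactAt_iff_isZero_homology]

lemma torAmp_of_iso {a b : ℤ} {K L : Dual.D A} (e : K ≅ L)
    (h : DRing.HasTorAmplitudeIn A a b K) : DRing.HasTorAmplitudeIn A a b L := by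
  obtain ⟨E, h1, h2, ⟨e'⟩⟩ := h
  exact ⟨E, h1, h2, ⟨e' ≪≫ e⟩⟩

lemma torAmp_mono {a b a' b' : ℤ} {K : Dual.D A} (h : DRing.HasTorAmplitudeIn A a b K)
    (ha : a' ≤ a) (hb : b ≤ b') : DRing.HasTorAmplitudeIn A a' b' K := by
  obtain ⟨E, h1, h2, h3⟩ := h
  exact ⟨E, fun i hi => h1 i (by omega), h2, h3⟩

lemma torAmp_shift {a b : ℤ} {K : Dual.D A} (h : DRing.HasTorAmplitudeIn A a b K) (n : ℤ)
    {a' b' : ℤ} (ha : a' + n = a) (hb : b' + n = b) :
    DRing.HasTorAmplitudeIn A a' b' ((shiftFunctor (Dual.D A) n).obj K) := by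
  obtain ⟨E, h1, h2, ⟨e⟩⟩ := h
  exact ⟨E⟦n⟧, fun i hi => h1 (i + n) (by omega), fun i => h2 (i + n),
    ⟨((Q (C := ModuleCat.{u} A)).commShiftIso n).app E ≪≫ (shiftFunctor (Dual.D A) n).mapIso e⟩⟩

lemma torAmp_boundedHD {a b : ℤ} {K : Dual.D A} (h : DRing.HasTorAmplitudeIn A a b K) :
    ∀ i, i < a ∨ b < i → Subsingleton (Dual.HD A K i) := by
  obtain ⟨E, h1, -, ⟨e⟩⟩ := h
  intro i hi
  rw [← subsingleton_HD_congr e, subsingleton_HD_toD_iff]
  exact ShortComplex.isZero_homology_of_isZero_X₂ _ (h1 i hi)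

/-- Retracts. -/
lemma torAmp_of_retract {a b : ℤ} {K L : Dual.D A} (i : K ⟶ L) (p : L ⟶ K) (h : i ≫ p = 𝟙 K)
    (hL : DRing.HasTorAmplitudeIn A a b L) : DRing.HasTorAmplitudeIn A a b K := by
  have : ∀ M : ModuleCat.{u} A, DRing.HasLTensor A M := fun M => LTensor.hasLTensor M
  rw [hasTorAmp_iff_LTensor] at hL ⊢
  intro M n hn
  have hz := (subsingleton_HD_iff_isZero _ _).1 (hL M n hn)
  rw [subsingleton_HD_iff_isZero, IsZero.iff_id_eq_zero, ← (HF n).map_id,
    ← (DRing.LTensor A M).map_id, ← h, Functor.map_comp, Functor.map_comp,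
    hz.eq_of_tgt ((HF n).map ((DRing.LTensor A M).map i)) 0, zero_comp]

section Triangle

variable {T : Triangle (Dual.D A)}

lemma vanish₃ (hT : T ∈ distinguishedTriangles) {i j : ℤ} (hij : i + 1 = j)
    (h2 : Subsingleton (Dual.HD A T.obj₂ i)) (h1 : Subsingleton (Dual.HD A T.obj₁ j)) :
    Subsingleton (Dual.HD A T.obj₃ i) := by
  rw [subsingleton_HD_iff_isZero] at h1 h2 ⊢
  exact (HomologySequence.exact₃ T hT i j hij).isZero_of_both_zeros
    (h2.eq_of_src _ _) (h1.eq_of_tgt _ _)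

lemma vanish₂ (hT : T ∈ distinguishedTriangles) {i : ℤ}
    (h1 : Subsingleton (Dual.HD A T.obj₁ i)) (h3 : Subsingleton (Dual.HD A T.obj₃ i)) :
    Subsingleton (Dual.HD A T.obj₂ i) := by
  rw [subsingleton_HD_iff_isZero] at h1 h3 ⊢
  exact (HomologySequence.exact₂ T hT i).isZero_of_both_zeros
    (h1.eq_of_src _ _) (h3.eq_of_tgt _ _)

lemma vanish₁ (hT : T ∈ distinguishedTriangles) {i j : ℤ} (hij : i + 1 = j)
    (h3 : Subsingleton (Dual.HD A T.obj₃ i)) (h2 : Subsingleton (Dual.HD A T.obj₂ j)) :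
    Subsingleton (Dual.HD A T.obj₁ j) := by
  rw [subsingleton_HD_iff_isZero] at h2 h3 ⊢
  exact (HomologySequence.exact₁ T hT i j hij).isZero_of_both_zeros
    (h3.eq_of_src _ _) (h2.eq_of_tgt _ _)

/-- A triangle is the cone triangle of a map of K-projective complexes; tensor it with `M`. -/
lemma exists_tensored (hT : T ∈ distinguishedTriangles) :
    ∃ (P₁ P₂ P₃ : DRing.Cx A), IsKFlat P₁ ∧ IsKFlat P₂ ∧ IsKFlat P₃ ∧
      Nonempty (DRing.toD P₁ ≅ T.obj₁) ∧ Nonempty (DRing.toD P₂ ≅ T.obj₂) ∧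
      Nonempty (DRing.toD P₃ ≅ T.obj₃) ∧
      ∀ M : ModuleCat.{u} A, ∃ T' : Triangle (Dual.D A), T' ∈ distinguishedTriangles ∧
        Nonempty (T'.obj₁ ≅ DRing.toD (DRing.tensorCx P₁ M)) ∧
        Nonempty (T'.obj₂ ≅ DRing.toD (DRing.tensorCx P₂ M)) ∧
        Nonempty (T'.obj₃ ≅ DRing.toD (DRing.tensorCx P₃ M)) := by
  obtain ⟨P, _, -, ⟨e₁⟩⟩ := exists_kproj_iso T.obj₁
  obtain ⟨P', _, -, ⟨e₂⟩⟩ := exists_kproj_iso T.obj₂
  obtain ⟨f, hf⟩ := exists_Q_map_eq (L := P') (e₁.hom ≫ T.mor₁ ≫ e₂.inv)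
  have hc := mappingCone_triangle_distinguished f
  let e := isoTriangleOfIso₁₂ _ _ hc hT e₁ e₂ (by
    change Q.map f ≫ e₂.hom = e₁.hom ≫ T.mor₁
    rw [hf, Category.assoc, Category.assoc, Iso.inv_hom_id, Category.comp_id])
  have := KProj.isKProjective_mappingCone f
  refine ⟨P, P', CochainComplex.mappingCone f, isKFlat_of_isKProjective P,
    isKFlat_of_isKProjective P', isKFlat_of_isKProjective _, ⟨e₁⟩, ⟨e₂⟩,
    ⟨Triangle.π₃.mapIso e⟩, fun M => ?_⟩
  exact ⟨_, mappingCone_triangle_distinguished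
      (((tensorRight M).mapHomologicalComplex (ComplexShape.up ℤ)).map f),
    ⟨Iso.refl _⟩, ⟨Iso.refl _⟩,
    ⟨Q.mapIso (CochainComplex.mappingCone.mapHomologicalComplexIso f (tensorRight M)).symm⟩⟩

lemma torAmp_of_triangle (hT : T ∈ distinguishedTriangles) (a b : ℤ) :
    (DRing.HasTorAmplitudeIn A (a + 1) (b + 1) T.obj₁ → DRing.HasTorAmplitudeIn A a b T.obj₂ →
        DRing.HasTorAmplitudeIn A a b T.obj₃) ∧
      (DRing.HasTorAmplitudeIn A a b T.obj₁ → DRing.HasTorAmplitudeIn A a b T.obj₃ →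
        DRing.HasTorAmplitudeIn A a b T.obj₂) ∧
      (DRing.HasTorAmplitudeIn A (a + 1) (b + 1) T.obj₂ → DRing.HasTorAmplitudeIn A a b T.obj₃ →
        DRing.HasTorAmplitudeIn A (a + 1) (b + 1) T.obj₁) := by
  obtain ⟨P₁, P₂, P₃, h₁, h₂, h₃, ⟨e₁⟩, ⟨e₂⟩, ⟨e₃⟩, hM⟩ := exists_tensored hT
  simp only [hasTorAmp_iff h₁ e₁, hasTorAmp_iff h₂ e₂, hasTorAmp_iff h₃ e₃]
  have tr : ∀ {X : Dual.D A} {C : DRing.Cx A} (_ : X ≅ DRing.toD C) (i : ℤ),
      C.ExactAt i ↔ Subsingleton (Dual.HD A X i) := fun e i => by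
    rw [subsingleton_HD_congr e, subsingleton_HD_toD_iff,
      HomologicalComplex.exactAt_iff_isZero_homology]
  refine ⟨fun H1 H2 M i hi => ?_, fun H1 H3 M i hi => ?_, fun H2 H3 M i hi => ?_⟩
  · obtain ⟨T', hT', ⟨f₁⟩, ⟨f₂⟩, ⟨f₃⟩⟩ := hM M
    exact (tr f₃ i).2 (vanish₃ hT' rfl ((tr f₂ i).1 (H2 M i hi))
      ((tr f₁ (i + 1)).1 (H1 M (i + 1) (by omega))))
  · obtain ⟨T', hT', ⟨f₁⟩, ⟨f₂⟩, ⟨f₃⟩⟩ := hM M
    exact (tr f₂ i).2 (vanish₂ hT' ((tr f₁ i).1 (H1 M i hi)) ((tr f₃ i).1 (H3 M i hi)))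
  · obtain ⟨T', hT', ⟨f₁⟩, ⟨f₂⟩, ⟨f₃⟩⟩ := hM M
    exact (tr f₁ i).2 (vanish₁ hT' (show i - 1 + 1 = i by omega)
      ((tr f₃ (i - 1)).1 (H3 M (i - 1) (by omega))) ((tr f₂ i).1 (H2 M i hi)))

end Triangle

end Groth.Agent.DRing.TorAmp
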