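import Groth.Agent.DRing.RHomRep
import Groth.Agent.DRing.SingleTensor
import Groth.Agent.DRing.TorAmp
import Groth.Agent.DRing.PCTools
import Mathlib.RingTheory.Localization.BaseChange
import Mathlib.RingTheory.Flat.Localization

/-!
# Iterated `RHom` out of flat modules
-/

universe u

open CategoryTheory CategoryTheory.Limits MonoidalCategory

attribute [local instance] HasDerivedCategory.standard

namespace Groth.Agent.DRing.RHomAway

open DBasic PC

variable {A : Type u} [CommRing A]

/-- The complex of a module in degree zero. -/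
noncomputable abbrev S (M : ModuleCat.{u} A) : DRing.Cx A := sgl 0 M

lemma isKFlat_S (M : ModuleCat.{u} A) [Module.Flat A M] : KFlat.IsKFlat (S M) := by
  refine TorAmp.isKFlat_of_flat (vanishesOutside_sgl 0 M) fun i => ?_
  by_cases hi : i = 0
  · subst hi
    exact Module.Flat.of_linearEquiv (HomologicalComplex.singleObjXSelf (ComplexShape.up ℤ) 0 M).toLinearEquiv
  · have := ModuleCat.subsingleton_of_isZero
      (HomologicalComplex.isZero_single_obj_X (ComplexShape.up ℤ) 0 M i hi)
    infer_instance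

/-- `RHom(M, RHom(N, -)) ≅ RHom(M ⊗ N, -)` for flat modules. -/
theorem nonempty_iso (M N T : ModuleCat.{u} A) [Module.Flat A M] [Module.Flat A N]
    [DRing.HasRHomCx (S M)] [DRing.HasRHomCx (S N)] [DRing.HasRHomCx (S T)]
    (e : (N ⊗ M : ModuleCat.{u} A) ≅ T) (K : Dual.D A) :
    Nonempty ((DRing.RHomCx (S M)).obj ((DRing.RHomCx (S N)).obj K) ≅ (DRing.RHomCx (S T)).obj K) := by
  obtain ⟨P, π, hP, -, hπ, -⟩ := KProjRes.exists_resolution (S M)
  obtain ⟨P', π', hP', -, hπ', -⟩ := KProjRes.exists_resolution (S N)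
  obtain ⟨L, ⟨eL⟩⟩ : ∃ L : DRing.Cx A, Nonempty (DRing.toD L ≅ K) :=
    ⟨DerivedCategory.Q.objPreimage K, ⟨DerivedCategory.Q.objObjPreimageIso K⟩⟩
  obtain ⟨i⟩ := RHomRep.nonempty_iso_of_rep (P := P') (asIso (DerivedCategory.Q.map π')) eL
  obtain ⟨j⟩ := RHomRep.nonempty_iso_of_rep (P := P) (asIso (DerivedCategory.Q.map π)) i.symm
  obtain ⟨k⟩ := HomCx.nonempty_homCx_homCx_iso P P' L
  have : CochainComplex.IsKProjective (P ⊗ P' : DRing.Cx A) := DTenLib.isKProjective_tensor
  have q1 := KFlat.quasiIso_whiskerLeft (KFlat.isKFlat_of_isKProjective P) π'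
  have q2 := KFlat.quasiIso_whiskerRight (isKFlat_S N) π
  have h1 : IsIso (DerivedCategory.Q.map (P ◁ π')) := inferInstance
  have h2 : IsIso (DerivedCategory.Q.map (π ▷ S N)) := inferInstance
  let eT : (S M ⊗ S N : DRing.Cx A) ≅ S T :=
    (SingleTensor.iso M (S N)).symm ≪≫
      (HomologicalComplex.singleMapHomologicalComplex (tensorRight M) (ComplexShape.up ℤ) 0).app N ≪≫
      (HomologicalComplex.single (ModuleCat.{u} A) (ComplexShape.up ℤ) 0).mapIso e
  obtain ⟨l⟩ := RHomRep.nonempty_iso_of_rep (P := P ⊗ P')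
    (asIso (DerivedCategory.Q.map (P ◁ π')) ≪≫ asIso (DerivedCategory.Q.map (π ▷ S N)) ≪≫
      DerivedCategory.Q.mapIso eT) eL
  exact ⟨j ≪≫ DerivedCategory.Q.mapIso k ≪≫ l.symm⟩

theorem nonempty_away_iso (f g : A) [DRing.HasRHomCx (S (ModuleCat.of A (Localization.Away f)))]
    [DRing.HasRHomCx (S (ModuleCat.of A (Localization.Away g)))]
    [DRing.HasRHomCx (S (ModuleCat.of A (Localization.Away (f * g))))] (K : Dual.D A) :
    Nonempty ((DRing.RHomCx (S (ModuleCat.of A (Localization.Away f)))).obj
        ((DRing.RHomCx (S (ModuleCat.of A (Localization.Away g)))).obj K) ≅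
      (DRing.RHomCx (S (ModuleCat.of A (Localization.Away (f * g))))).obj K) := by
  let Af := Localization.Away f
  let Ag := Localization.Away g
  let T := TensorProduct A Af Ag
  have h : IsLocalization.Away (algebraMap A Af g) T := by
    have : IsLocalization (Algebra.algebraMapSubmonoid Af (Submonoid.powers g)) T := inferInstance
    rwa [Algebra.algebraMapSubmonoid, Submonoid.map_powers] at this
  have : IsLocalization.Away (f * g) T := IsLocalization.Away.mul' Af T f g
  let e : T ≃ₐ[A] Localization.Away (f * g) := IsLocalization.algEquiv (Submonoid.powers (f * g)) _ _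
  have : Module.Flat A Af := IsLocalization.flat Af (Submonoid.powers f)
  have : Module.Flat A Ag := IsLocalization.flat Ag (Submonoid.powers g)
  exact nonempty_iso (ModuleCat.of A Af) (ModuleCat.of A Ag) (ModuleCat.of A (Localization.Away (f * g)))
    (((_root_.TensorProduct.comm A Ag Af).trans e.toLinearEquiv).toModuleIso) K

end Groth.Agent.DRing.RHomAway
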