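import Groth.Agent.DRing.RHomRep
import Groth.Agent.DRing.CompletionAmp
import Groth.Agent.DRing.RHomAway

/-!
# `RHom` out of a complex commutes with derived completion
-/

universe u

open CategoryTheory CategoryTheory.Limits CategoryTheory.Pretriangulated MonoidalCategory

attribute [local instance] HasDerivedCategory.standard

namespace Groth.Agent.DRing.RHomCompletion

open Groth.Agent.DTenLib DBasic Completion PC

variable {A : Type u} [CommRing A]

lemma cxBij_homCx {f : A} (K : DRing.Cx A) {Y : DRing.Cx A} (hY : CxBij f Y) :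
    CxBij f (DRing.homCx K Y) := fun n => by
  change Function.Bijective fun z : (DRing.homCx K Y).X n => f • z
  let e : ∀ q, Y.X q ≃ₗ[A] Y.X q := fun q =>
    LinearEquiv.ofBijective (f • (LinearMap.id : Y.X q →ₗ[A] Y.X q)) (hY q)
  refine ⟨fun z z' h => cv_ext fun p q hpq => ModuleCat.hom_ext (LinearMap.ext fun x => (hY q).1 ?_),
    fun w => ⟨show CochainComplex.HomComplex.Cochain K Y n from CochainComplex.HomComplex.Cochain.mk
      fun p q hpq => cv w p q hpq ≫ ModuleCat.ofHom (e q).symm.toLinearMap,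
      cv_ext fun p q hpq => ModuleCat.hom_ext (LinearMap.ext fun x => ?_)⟩⟩
  · have := congrArg (fun t => (cv t p q hpq).hom x) h
    simp only [cv_smul] at this
    exact this
  · rw [cv_smul, ModuleCat.hom_smul, LinearMap.smul_apply]
    change f • ((CochainComplex.HomComplex.Cochain.mk _ : CochainComplex.HomComplex.Cochain K Y n).v p q hpq).hom x = _
    rw [CochainComplex.HomComplex.Cochain.mk_v]
    exact (e q).apply_symm_apply _

lemma cxBij_sgl_tensor {f : A} {M : ModuleCat.{u} A} (h : IsBij f M) (n : ℤ) (K : DRing.Cx A) :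
    CxBij f (sgl n M ⊗ K) := fun m => by
  let F : DRing.Cx A := sgl n M
  let g : F ⟶ F :=
    { f := fun i => ModuleCat.ofHom (f • (LinearMap.id : F.X i →ₗ[A] F.X i))
      comm' := fun i j _ => ModuleCat.hom_ext (LinearMap.ext fun x => map_smul (F.d i j).hom f x) }
  have : ∀ i, IsIso (g.f i) := fun i => by
    refine (ConcreteCategory.isIso_iff_bijective _).2 ?_
    have h' := cxBij_sgl f h n i
    exact h'
  have := HomologicalComplex.Hom.isIso_of_components g
  have hg : (g ▷ K).f m = ModuleCat.ofHom (f • (LinearMap.id : (F ⊗ K).X m →ₗ[A] (F ⊗ K).X m)) :=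
    hom_ext_tm fun p q hpq x y => by
      rw [whiskerRight_tm]
      exact tm_smul_left _ f x y
  have hb : Function.Bijective ((g ▷ K).f m).hom := ConcreteCategory.bijective_of_isIso ((g ▷ K).f m)
  rw [hg] at hb
  exact hb

/-- `RHom` into an `f`-complete K-injective complex is `f`-complete. -/
lemma complete_homCx (f : A) (K C : DRing.Cx A) [C.IsKInjective] (hC : Contr ((HC f).obj C)) (n : ℤ) :
    Subsingleton (Dual.inD A (Localization.Away f) ⟶
      (shiftFunctor (Dual.D A) n).obj (DRing.toD (DRing.homCx K C))) := by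
  refine (InjAmp.subsingleton_ext_iff _ (Localization.Away f) n).2 (subsingleton_of_forall_eq 0 fun φ => ?_)
  let M := ModuleCat.of A (Localization.Away f)
  obtain ⟨p, hp⟩ := TelComplex.exists_qis f n
  let T := TelComplex.T f n
  have hTp := isKProjective_of_projective T n (TelComplex.vanishesAbove_T f n) (TelComplex.projective_T f n)
  have : Module.Flat A M := IsLocalization.flat (Localization.Away f) (Submonoid.powers f)
  have hflat : KFlat.IsKFlat (sgl n M) := by
    refine TorAmp.isKFlat_of_flat (vanishesOutside_sgl n M) fun i => ?_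
    by_cases hi : i = n
    · subst hi
      exact Module.Flat.of_linearEquiv (HomologicalComplex.singleObjXSelf (ComplexShape.up ℤ) i M).toLinearEquiv
    · have := ModuleCat.subsingleton_of_isZero
        (HomologicalComplex.isZero_single_obj_X (ComplexShape.up ℤ) n M i hi)
      infer_instance
  have := KFlat.quasiIso_whiskerLeft_of_kflat p (KFlat.isKFlat_of_isKProjective T) hflat K
  have : QuasiIso (p ▷ K) := by rw [Tensor.whiskerRight_eq]; infer_instance
  have h1 : IsIso (DerivedCategory.Q.map (p ▷ K)) := inferInstance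
  have h2 : IsIso (DerivedCategory.Q.map p) := inferInstance
  rw [← cancel_epi (DerivedCategory.Q.map p)]
  obtain ⟨a, ha⟩ := exists_Q_map_eq (P := T) (DerivedCategory.Q.map p ≫ φ)
  refine ha.symm.trans (Eq.trans ?_ Limits.comp_zero.symm)
  have hz : DerivedCategory.Q.map (uncurry a) = 0 := by
    have hsub := subsingleton_Q_hom f hC (cxBij_sgl_tensor (M := M) (isBij_away f) n K)
    rw [← IsIso.hom_inv_id_assoc (DerivedCategory.Q.map (p ▷ K)) (DerivedCategory.Q.map (uncurry a)),
      hsub.elim (inv (DerivedCategory.Q.map (p ▷ K)) ≫ DerivedCategory.Q.map (uncurry a)) 0, Limits.comp_zero]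
  rw [← Functor.map_zero (DerivedCategory.Q (C := ModuleCat.{u} A)), InjAmp.Q_map_eq_iff_inj] at hz
  obtain ⟨s⟩ := hz
  refine (DerivedCategory.Q_map_eq_of_homotopy (ModuleCat.{u} A) ?_).trans (DerivedCategory.Q.map_zero _ _)
  exact (Homotopy.ofEq (curry_uncurry a).symm).trans (curryHomotopyZero s)

/-- `Hom•(K, -)` of a degreewise split sequence is short exact. -/
lemma shortExact_homCxMap (K : DRing.Cx A) {X Y Z : DRing.Cx A} (i : X ⟶ Y) (π : Y ⟶ Z)
    (r : ∀ q, Y.X q ⟶ X.X q) (s : ∀ q, Z.X q ⟶ Y.X q) (h0 : ∀ q, i.f q ≫ π.f q = 0)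
    (h1 : ∀ q, i.f q ≫ r q = 𝟙 _) (h2 : ∀ q, s q ≫ π.f q = 𝟙 _)
    (h3 : ∀ q, π.f q ≫ s q + r q ≫ i.f q = 𝟙 _) :
    ∃ hw : DRing.homCxMap K i ≫ DRing.homCxMap K π = 0,
      (ShortComplex.mk (DRing.homCxMap K i) (DRing.homCxMap K π) hw).ShortExact := by
  have hw : DRing.homCxMap K i ≫ DRing.homCxMap K π = 0 :=
    HomologicalComplex.hom_ext _ _ fun n => ModuleCat.hom_ext (LinearMap.ext fun z => cv_ext fun p q hpq => by
      change cv (((DRing.homCxMap K π).f n).hom (((DRing.homCxMap K i).f n).hom z)) p q hpq =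
        cv (0 : (DRing.homCx K Z).X n) p q hpq
      rw [cv_post, cv_post, Category.assoc, h0, Limits.comp_zero]
      rfl)
  refine ⟨hw, HomologicalComplex.shortExact_of_degreewise_shortExact _ fun n => ?_⟩
  refine { exact := ?_, mono_f := ?_, epi_g := ?_ }
  · rw [ShortComplex.moduleCat_exact_iff]
    intro (z : (DRing.homCx K Y).X n) (hz : ((DRing.homCxMap K π).f n).hom z = 0)
    let w : (DRing.homCx K X).X n := show CochainComplex.HomComplex.Cochain K X n from
      CochainComplex.HomComplex.Cochain.mk fun p q hpq => cv z p q hpq ≫ r q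
    have hwv : ∀ p q hpq, cv w p q hpq = cv z p q hpq ≫ r q := fun p q hpq =>
      CochainComplex.HomComplex.Cochain.mk_v _ p q hpq
    have key : ((DRing.homCxMap K i).f n).hom w = z := cv_ext fun p q hpq => by
      have hπ : cv z p q hpq ≫ π.f q = 0 := by
        have := congrArg (fun t : (DRing.homCx K Z).X n => cv t p q hpq) hz
        rwa [cv_post] at this
      rw [cv_post, hwv, Category.assoc]
      conv_rhs => rw [← Category.comp_id (cv z p q hpq), ← h3 q, Preadditive.comp_add,
        ← Category.assoc _ (π.f q), hπ, zero_comp, zero_add]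
    exact ⟨w, key⟩
  · refine (ModuleCat.mono_iff_injective _).2
      fun (z : (DRing.homCx K X).X n) (z' : (DRing.homCx K X).X n)
        (hzz : ((DRing.homCxMap K i).f n).hom z = ((DRing.homCxMap K i).f n).hom z') => cv_ext fun p q hpq => ?_
    have := congrArg (fun t : (DRing.homCx K Y).X n => cv t p q hpq ≫ r q) hzz
    rwa [cv_post, cv_post, Category.assoc, Category.assoc, h1, Category.comp_id, Category.comp_id] at this
  · refine (ModuleCat.epi_iff_surjective _).2 fun (w : (DRing.homCx K Z).X n) => ?_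
    let z : (DRing.homCx K Y).X n := show CochainComplex.HomComplex.Cochain K Y n from
      CochainComplex.HomComplex.Cochain.mk fun p q hpq => cv w p q hpq ≫ s q
    have hzv : ∀ p q hpq, cv z p q hpq = cv w p q hpq ≫ s q := fun p q hpq =>
      CochainComplex.HomComplex.Cochain.mk_v _ p q hpq
    have key : ((DRing.homCxMap K π).f n).hom z = w := cv_ext fun p q hpq => by
      rw [cv_post, hzv, Category.assoc, h2, Category.comp_id]
    exact ⟨z, key⟩

lemma mor₃_f {E E' : DRing.Cx A} (v : E ⟶ E') (p : ℤ) :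
    (CochainComplex.mappingCone.triangle v).mor₃.f p =
      -((CochainComplex.mappingCone.fst v).1.v p (p + 1) rfl) := by
  refine CochainComplex.mappingCone.ext_from v (p + 1) p rfl ?_ ?_
  · exact (CochainComplex.mappingCone.inl_v_triangle_mor₃_f v (p + 1) p (by omega)).trans
      ((Preadditive.comp_neg _ _).trans (congrArg Neg.neg (CochainComplex.mappingCone.inl_v_fst_v v (p + 1) p rfl))).symm
  · exact (CochainComplex.mappingCone.inr_f_triangle_mor₃_f v p).trans
      ((Preadditive.comp_neg _ _).trans ((congrArg Neg.neg (CochainComplex.mappingCone.inr_f_fst_v v p (p + 1) rfl)).trans neg_zero)).symm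

/-- One step of the completion after `Hom•(K, -)`. -/
lemma bijective_step (f : A) (K E : DRing.Cx A) (L : Dual.D A)
    (hL : ∀ n : ℤ, Subsingleton (Dual.inD A (Localization.Away f) ⟶ (shiftFunctor (Dual.D A) n).obj L)) :
    Function.Bijective fun w : DRing.toD (DRing.homCx K (cpl f E)) ⟶ L =>
      DerivedCategory.Q.map (DRing.homCxMap K (CochainComplex.mappingCone.inr (evC f E))) ≫ w := by
  let v := evC f E
  let i := CochainComplex.mappingCone.inr v
  let π : cpl f E ⟶ ((HC f).obj E)⟦(1 : ℤ)⟧ := (CochainComplex.mappingCone.triangle v).mor₃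
  let σ : ∀ q, (((HC f).obj E)⟦(1 : ℤ)⟧).X q ⟶ (cpl f E).X q := fun q =>
    -((CochainComplex.mappingCone.inl v).v (q + 1) q (by omega))
  have hπ : ∀ q, π.f q = -((CochainComplex.mappingCone.fst v).1.v q (q + 1) rfl) := mor₃_f v
  obtain ⟨hw, hS⟩ := shortExact_homCxMap K i π
    (fun q => (CochainComplex.mappingCone.snd v).v q q (add_zero q)) σ
    (fun q => CochainComplex.mappingCone.inr_f_triangle_mor₃_f v q)
    (fun q => CochainComplex.mappingCone.inr_f_snd_v v q)
    (fun q => by
      rw [hπ]
      exact ((Preadditive.neg_comp _ _).trans (congrArg Neg.neg (Preadditive.comp_neg _ _))).trans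
        ((neg_neg _).trans (CochainComplex.mappingCone.inl_v_fst_v v (q + 1) q rfl)))
    (fun q => by
      rw [hπ]
      refine Eq.trans ?_ (CochainComplex.mappingCone.id_X v q (q + 1) rfl)
      refine congrArg (fun t => t + _) ?_
      exact (Preadditive.neg_comp _ _).trans ((congrArg Neg.neg (Preadditive.comp_neg _ _)).trans (neg_neg _)))
  have hT := DerivedCategory.triangleOfSES_distinguished hS
  let X₃ := DRing.homCx K (((HC f).obj E)⟦(1 : ℤ)⟧)
  have hb : CxBij f X₃ := cxBij_homCx K fun j => isBij_Hm f (E.X (j + 1))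
  have h3 : Subsingleton (DRing.toD X₃ ⟶ L) := subsingleton_hom_of_cxBij hb L hL
  have hb' : CxBij f (X₃⟦(-1 : ℤ)⟧) := fun j => hb (j + -1)
  have h3' : Subsingleton ((DRing.toD X₃)⟦(-1 : ℤ)⟧ ⟶ L) :=
    (Iso.homCongr ((DerivedCategory.Q (C := ModuleCat.{u} A)).commShiftIso (-1 : ℤ) |>.app X₃) (Iso.refl L)).subsingleton_congr.1
      (subsingleton_hom_of_cxBij hb' L hL)
  constructor
  · intro w w' h
    rw [← sub_eq_zero]
    obtain ⟨k, hk⟩ := Triangle.yoneda_exact₂ _ hT (w - w') (by
      change DerivedCategory.Q.map (DRing.homCxMap K i) ≫ (w - w') = 0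
      rw [Preadditive.comp_sub, sub_eq_zero]; exact h)
    rw [hk, show k = 0 from h3.elim _ _]
    exact Limits.comp_zero
  · intro w
    obtain ⟨k, hk⟩ := Triangle.yoneda_exact₂ _ (inv_rot_of_distTriang _ hT) w (h3'.elim _ _)
    exact ⟨k, hk.symm⟩

/-- The completion of a K-injective complex, compatibly with `Hom•(K, -)`. -/
theorem exists_completion_hom (K : DRing.Cx A) (s : Finset A) (E : DRing.Cx A) [E.IsKInjective] :
    ∃ C : DRing.Cx A, C.IsKInjective ∧ (∀ f ∈ s, Contr ((HC f).obj C)) ∧
      (∀ g : A, Contr ((HC g).obj E) → Contr ((HC g).obj C)) ∧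
      ∃ ι : E ⟶ C, (∀ L : DRing.Cx A, L.IsKInjective → (∀ f ∈ s, Contr ((HC f).obj L)) →
        Function.Bijective fun v : DerivedCategory.Q.obj C ⟶ DerivedCategory.Q.obj L => DerivedCategory.Q.map ι ≫ v) ∧
      ∀ L : Dual.D A, (∀ f ∈ s, ∀ n : ℤ, Subsingleton (Dual.inD A (Localization.Away f) ⟶ (shiftFunctor (Dual.D A) n).obj L)) →
        Function.Bijective fun w : DRing.toD (DRing.homCx K C) ⟶ L =>
          DerivedCategory.Q.map (DRing.homCxMap K ι) ≫ w := by
  classical
  induction s using Finset.induction with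
  | empty =>
    refine ⟨E, inferInstance, fun f hf => absurd hf (Finset.notMem_empty f), fun _ h => h, 𝟙 E,
      fun L _ _ => ⟨fun v w h => by simpa using h, fun w => ⟨w, by simp⟩⟩, fun L _ => ?_⟩
    have : DerivedCategory.Q.map (DRing.homCxMap K (𝟙 E)) = 𝟙 _ :=
      (congrArg DerivedCategory.Q.map ((DRing.homCxFunctor K).map_id E)).trans (DerivedCategory.Q.map_id _)
    exact ⟨fun v w h => by simpa [this] using h, fun w => ⟨w, by simp [this]⟩⟩
  | insert f s hf ih =>
    obtain ⟨C, hC, h1, h2, ι, h3, h4⟩ := ih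
    refine ⟨cpl f C, isKInjective_mappingCone _, fun g hg => ?_,
      fun g hg => contr_cpl_of_contr f g C (h2 g hg),
      ι ≫ CochainComplex.mappingCone.inr (evC f C), fun L hL hLs => ?_, fun L hLs => ?_⟩
    · rcases Finset.mem_insert.1 hg with rfl | hg
      · exact contr_cpl g C
      · exact contr_cpl_of_contr f g C (h1 g hg)
    · have := (h3 L hL fun g hg => hLs g (Finset.mem_insert_of_mem hg)).comp
        (bijective_cpl f C L (hLs f (Finset.mem_insert_self f s)))
      convert this using 1
      funext v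
      simp
    · have := (h4 L fun g hg => hLs g (Finset.mem_insert_of_mem hg)).comp
        (bijective_step f K C L (hLs f (Finset.mem_insert_self f s)))
      convert this using 1
      funext v
      change DerivedCategory.Q.map ((DRing.homCxFunctor K).map (ι ≫ _)) ≫ v = _
      rw [Functor.map_comp, Functor.map_comp, Category.assoc]
      rfl

variable (I : Ideal A)

/-- `RHom` out of `K` commutes with completion. -/
theorem isUniversal_RHom (hI : I.FG) [DRing.HasDerivedCompletion I] (K : DRing.Cx A) [DRing.HasRHomCx K]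
    (L : Dual.D A) : IsUniversal I ((DRing.RHomCx K).map (DRing.toDerivedCompletion I L)) := by
  obtain ⟨s, rfl⟩ := hI
  let J := Ideal.span (s : Set A)
  obtain ⟨E, hE, ⟨e⟩⟩ := exists_kinj L
  obtain ⟨C, hC, h1, -, ι, h3, h4⟩ := exists_completion_hom K s E
  have hgen : ∀ X : Dual.D A, (∀ g ∈ s, ∀ n : ℤ, Subsingleton (Dual.inD A (Localization.Away g) ⟶
      (shiftFunctor (Dual.D A) n).obj X)) → DRing.IsDerivedComplete J X := by
    intro X h
    rw [TelComplex.isDerivedComplete_iff]
    intro f hf j
    exact (Ideal.span_le (I := Tel.telIdeal A (Dual.HD A X j))).2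
      (fun g hg => (DerComplete.subsingleton_hom_away_iff X g).1 (h g hg) j) hf
  have hu : IsUniversal J (e.inv ≫ DerivedCategory.Q.map ι) := by
    refine ⟨hgen _ fun g hg => (complete_iff_contr g C).2 (h1 g hg), fun X hX => ?_⟩
    obtain ⟨E', hE', ⟨e'⟩⟩ := exists_kinj X
    have hb := h3 E' hE' fun g hg => (complete_iff_contr g E').1 fun n =>
      (complete_congr g e' n).2 (hX g (Ideal.subset_span hg) n)
    have h5 : (fun v : DRing.toD C ⟶ X => (e.inv ≫ DerivedCategory.Q.map ι) ≫ v) =
        (Iso.homCongr e e') ∘ (fun v : DerivedCategory.Q.obj C ⟶ DerivedCategory.Q.obj E' => DerivedCategory.Q.map ι ≫ v) ∘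
          (Iso.homCongr (Iso.refl _) e').symm := funext fun v => by simp
    exact h5 ▸ (Iso.homCongr e e').bijective.comp (hb.comp (Iso.homCongr (Iso.refl _) e').symm.bijective)
  obtain ⟨c, hc⟩ := IsUniversal.exists_iso J (isUniversal_unit J L) hu
  let F := DRing.RHomCx K
  let α := (DRing.homCxQ K).totalRightDerivedUnit DerivedCategory.Q
    (HomologicalComplex.quasiIso (ModuleCat.{u} A) (ComplexShape.up ℤ))
  have hαE : IsIso (α.app E) :=
    RHomRep.hasEnough.isIso_app (W := HomologicalComplex.quasiIso (ModuleCat.{u} A) (ComplexShape.up ℤ)) F α (RHomRep.isGood E)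
  have hαC : IsIso (α.app C) :=
    RHomRep.hasEnough.isIso_app (W := HomologicalComplex.quasiIso (ModuleCat.{u} A) (ComplexShape.up ℤ)) F α (RHomRep.isGood C)
  let a : DRing.toD (DRing.homCx K E) ≅ F.obj L := (@asIso _ _ _ _ (α.app E) hαE) ≪≫ F.mapIso e
  let b : DRing.toD (DRing.homCx K C) ≅ F.obj ((DRing.derivedCompletion J).obj L).obj :=
    (@asIso _ _ _ _ (α.app C) hαC) ≪≫ F.mapIso c.symm
  have hnat : F.map (DRing.toDerivedCompletion J L) = a.inv ≫ DerivedCategory.Q.map (DRing.homCxMap K ι) ≫ b.hom := by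
    rw [Iso.eq_inv_comp]
    have h := α.naturality ι
    change DerivedCategory.Q.map (DRing.homCxMap K ι) ≫ α.app C = α.app E ≫ F.map (DerivedCategory.Q.map ι) at h
    have hd : DRing.toDerivedCompletion J L = e.inv ≫ DerivedCategory.Q.map ι ≫ c.inv := by
      rw [← Category.assoc, ← hc, Category.assoc, c.hom_inv_id, Category.comp_id]
    change (α.app E ≫ F.map e.hom) ≫ F.map _ = DerivedCategory.Q.map (DRing.homCxMap K ι) ≫ α.app C ≫ F.map c.inv
    rw [hd]
    refine ((Category.assoc _ _ _).trans (congrArg (α.app E ≫ ·) ?_)).trans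
      ((Category.assoc _ _ _).symm.trans ((congrArg (· ≫ F.map c.inv) h.symm).trans (Category.assoc _ _ _)))
    rw [← F.map_comp, ← F.map_comp, e.hom_inv_id_assoc]
  refine ⟨fun f hf n => ?_, fun X hX => ?_⟩
  · exact (complete_congr f b n).1 ((hgen _ fun g hg n => complete_homCx g K C (h1 g hg) n) f hf n)
  · have hb := h4 X fun g hg n => hX g (Ideal.subset_span hg) n
    rw [hnat]
    have h5 : (fun v : F.obj ((DRing.derivedCompletion J).obj L).obj ⟶ X =>
        (a.inv ≫ DerivedCategory.Q.map (DRing.homCxMap K ι) ≫ b.hom) ≫ v) =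
        (Iso.homCongr a (Iso.refl X)) ∘ (fun v => DerivedCategory.Q.map (DRing.homCxMap K ι) ≫ v) ∘
          (Iso.homCongr b (Iso.refl X)).symm := funext fun v => by simp
    exact h5 ▸ (Iso.homCongr a (Iso.refl X)).bijective.comp (hb.comp (Iso.homCongr b (Iso.refl X)).symm.bijective)

end Groth.Agent.DRing.RHomCompletion
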