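import Groth.Agent.DRing.ExtCech
import Groth.Agent.DRing.RHomCompletion
import Groth.Agent.DRing.SingleTensor

/-!
# Derived completion is `RHom` out of the extended Cech complex
-/

universe u

open CategoryTheory CategoryTheory.Limits CategoryTheory.Pretriangulated MonoidalCategory

attribute [local instance] HasDerivedCategory.standard

namespace Groth.Agent.DRing.ExtCech

open Groth.Agent.DTenLib DBasic Completion PC RHomCompletion

variable {A : Type u} [CommRing A]

lemma cxBij_homCx_left {f : A} {P : DRing.Cx A} (hP : CxBij f P) (E : DRing.Cx A) :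
    CxBij f (DRing.homCx P E) := fun n => by
  change Function.Bijective fun z : (DRing.homCx P E).X n => f • z
  let e : ∀ p, P.X p ≃ₗ[A] P.X p := fun p =>
    LinearEquiv.ofBijective (f • (LinearMap.id : P.X p →ₗ[A] P.X p)) (hP p)
  refine ⟨fun z z' h => cv_ext fun p q hpq => ModuleCat.hom_ext (LinearMap.ext fun x => ?_),
    fun w => ⟨show CochainComplex.HomComplex.Cochain P E n from CochainComplex.HomComplex.Cochain.mk
      fun p q hpq => ModuleCat.ofHom (e p).symm.toLinearMap ≫ cv w p q hpq,
      cv_ext fun p q hpq => ModuleCat.hom_ext (LinearMap.ext fun x => ?_)⟩⟩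
  · obtain ⟨y, rfl⟩ := (hP p).2 x
    have := congrArg (fun t => (cv t p q hpq).hom y) h
    simp only [cv_smul] at this
    exact (map_smul _ f y).trans (this.trans (map_smul _ f y).symm)
  · beta_reduce
    refine (LinearMap.congr_fun (congrArg ModuleCat.Hom.hom (cv_smul f _ p q hpq)) x).trans ?_
    change f • ((CochainComplex.HomComplex.Cochain.mk _ : CochainComplex.HomComplex.Cochain P E n).v p q hpq).hom x = _
    rw [CochainComplex.HomComplex.Cochain.mk_v]
    refine (map_smul (cv w p q hpq).hom f _).symm.trans (congrArg (cv w p q hpq).hom ?_)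
    exact (e p).apply_symm_apply x

/-- `Hom•(-, E)` of a degreewise split sequence is short exact. -/
lemma shortExact_pre {X Y Z : DRing.Cx A} (E : DRing.Cx A) (i : X ⟶ Y) (π : Y ⟶ Z)
    (r : ∀ q, Y.X q ⟶ X.X q) (s : ∀ q, Z.X q ⟶ Y.X q) (h0 : ∀ q, i.f q ≫ π.f q = 0)
    (h1 : ∀ q, i.f q ≫ r q = 𝟙 _) (h2 : ∀ q, s q ≫ π.f q = 𝟙 _)
    (h3 : ∀ q, π.f q ≫ s q + r q ≫ i.f q = 𝟙 _) :
    ∃ hw : pre π E ≫ pre i E = 0, (ShortComplex.mk (pre π E) (pre i E) hw).ShortExact := by
  have hw : pre π E ≫ pre i E = 0 :=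
    HomologicalComplex.hom_ext _ _ fun n => ModuleCat.hom_ext (LinearMap.ext fun z => cv_ext fun p q hpq => by
      change cv (((pre i E).f n).hom (((pre π E).f n).hom z)) p q hpq =
        cv (0 : (DRing.homCx X E).X n) p q hpq
      rw [cv_pre, cv_pre, ← Category.assoc, h0, Limits.zero_comp]
      rfl)
  refine ⟨hw, HomologicalComplex.shortExact_of_degreewise_shortExact _ fun n => ?_⟩
  refine { exact := ?_, mono_f := ?_, epi_g := ?_ }
  · rw [ShortComplex.moduleCat_exact_iff]
    intro (z : (DRing.homCx Y E).X n) (hz : ((pre i E).f n).hom z = 0)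
    let w : (DRing.homCx Z E).X n := show CochainComplex.HomComplex.Cochain Z E n from
      CochainComplex.HomComplex.Cochain.mk fun p q hpq => s p ≫ cv z p q hpq
    have key : ((pre π E).f n).hom w = z := cv_ext fun p q hpq => by
      have hi : i.f p ≫ cv z p q hpq = 0 := by
        have := congrArg (fun t : (DRing.homCx X E).X n => cv t p q hpq) hz
        rwa [cv_pre] at this
      rw [cv_pre, show cv w p q hpq = s p ≫ cv z p q hpq from
        CochainComplex.HomComplex.Cochain.mk_v _ p q hpq]
      conv_rhs => rw [← Category.id_comp (cv z p q hpq), ← h3 p, Preadditive.add_comp,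
        Category.assoc (r p), hi, comp_zero, add_zero, Category.assoc]
    exact ⟨w, key⟩
  · refine (ModuleCat.mono_iff_injective _).2
      fun (z : (DRing.homCx Z E).X n) (z' : (DRing.homCx Z E).X n)
        (hzz : ((pre π E).f n).hom z = ((pre π E).f n).hom z') => cv_ext fun p q hpq => ?_
    have := congrArg (fun t : (DRing.homCx Y E).X n => s p ≫ cv t p q hpq) hzz
    rwa [cv_pre, cv_pre, ← Category.assoc, ← Category.assoc, h2, Category.id_comp, Category.id_comp] at this
  · refine (ModuleCat.epi_iff_surjective _).2 fun (w : (DRing.homCx X E).X n) => ?_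
    let z : (DRing.homCx Y E).X n := show CochainComplex.HomComplex.Cochain Y E n from
      CochainComplex.HomComplex.Cochain.mk fun p q hpq => r p ≫ cv w p q hpq
    have key : ((pre i E).f n).hom z = w := cv_ext fun p q hpq => by
      rw [cv_pre, show cv z p q hpq = r p ≫ cv w p q hpq from
        CochainComplex.HomComplex.Cochain.mk_v _ p q hpq, ← Category.assoc, h1, Category.id_comp]
    exact ⟨z, key⟩

/-- The Cech complex is killed by tensoring with a localisation. -/
lemma exactAt_sgl_tensor (fs : List A) {g : A} (hg : g ∈ fs) (n i : ℤ) :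
    (sgl n (ModuleCat.of A (Localization.Away g)) ⊗ DerCA.extCech (ModuleCat.of A A) fs).ExactAt i := by
  let M := ModuleCat.of A (Localization.Away g)
  let K := DerCA.extCech (ModuleCat.of A A) fs
  have hc : Contr (SingleTensor.S0 M ⊗ K) :=
    contr_of_iso (SingleTensor.iso M K) (contr_extCech _ fs hg _ (inverts_tensorRight g))
  let e : (SingleTensor.S0 M)⟦-n⟧ ≅ sgl n M :=
    ((CochainComplex.singleFunctors (ModuleCat.{u} A)).shiftIso (-n) n 0 (by omega)).app M
  exact exactAt_of_contr (contr_of_iso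
    ((shiftFunctor (DRing.Cx A) (-n)).mapIso (Tensor.braid (SingleTensor.S0 M) K) ≪≫
      (Tensor.shiftIso K (SingleTensor.S0 M) (-n)).symm ≪≫ whiskerLeftIso K e ≪≫
      Tensor.braid K (sgl n M))
    (contr_shift hc (-n))) i

/-- `RHom(Č, E)` is complete. -/
lemma complete_homCx_extCech (fs : List A) {g : A} (hg : g ∈ fs) (E : DRing.Cx A) [E.IsKInjective] (n : ℤ) :
    Subsingleton (Dual.inD A (Localization.Away g) ⟶
      (shiftFunctor (Dual.D A) n).obj (DRing.toD (DRing.homCx (DerCA.extCech (ModuleCat.of A A) fs) E))) := by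
  let K := DerCA.extCech (ModuleCat.of A A) fs
  refine (InjAmp.subsingleton_ext_iff _ (Localization.Away g) n).2 (subsingleton_of_forall_eq 0 fun φ => ?_)
  let M := ModuleCat.of A (Localization.Away g)
  obtain ⟨p, hp⟩ := TelComplex.exists_qis g n
  let T := TelComplex.T g n
  have hTp := isKProjective_of_projective T n (TelComplex.vanishesAbove_T g n) (TelComplex.projective_T g n)
  have : Module.Flat A M := IsLocalization.flat (Localization.Away g) (Submonoid.powers g)
  have hflat : KFlat.IsKFlat (sgl n M) := by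
    refine TorAmp.isKFlat_of_flat (vanishesOutside_sgl n M) fun i => ?_
    by_cases hi : i = n
    · subst hi
      exact Module.Flat.of_linearEquiv (HomologicalComplex.singleObjXSelf (ComplexShape.up ℤ) i M).toLinearEquiv
    · have := ModuleCat.subsingleton_of_isZero
        (HomologicalComplex.isZero_single_obj_X (ComplexShape.up ℤ) n M i hi)
      infer_instance
  have := KFlat.quasiIso_whiskerLeft_of_kflat p (KFlat.isKFlat_of_isKProjective T) hflat K
  have : QuasiIso (p ▷ K) := by rw [Tensor.whiskerRight_eq]; infer_instance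
  rw [← cancel_epi (DerivedCategory.Q.map p)]
  obtain ⟨a, ha⟩ := exists_Q_map_eq (P := T) (DerivedCategory.Q.map p ≫ φ)
  refine ha.symm.trans (Eq.trans ?_ Limits.comp_zero.symm)
  have hTK : ∀ i, (T ⊗ K).ExactAt i := fun i => by
    rw [HomologicalComplex.exactAt_iff_isZero_homology]
    exact IsZero.of_iso ((HomologicalComplex.exactAt_iff_isZero_homology _ _).1
      (exactAt_sgl_tensor fs hg n i)) (isoOfQuasiIsoAt (p ▷ K) i)
  let s := CochainComplex.IsKInjective.homotopyZero (uncurry a) hTK
  refine (DerivedCategory.Q_map_eq_of_homotopy (ModuleCat.{u} A) ?_).trans (DerivedCategory.Q.map_zero _ _)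
  exact (Homotopy.ofEq (curry_uncurry a).symm).trans (curryHomotopyZero s)

/-- The coaugmentation `E ⟶ Hom•(𝟙, E)`. -/
noncomputable def coaug (E : DRing.Cx A) : E ⟶ DRing.homCx (𝟙_ (DRing.Cx A)) E := curry (ρ_ E).hom

lemma isIso_coaug (E : DRing.Cx A) : IsIso (coaug E) := by
  let v : DRing.homCx (𝟙_ (DRing.Cx A)) E ⟶ E := (ρ_ _).inv ≫ uncurry (𝟙 _)
  refine ⟨v, ?_, ?_⟩
  · have h : coaug E ▷ 𝟙_ (DRing.Cx A) ≫ uncurry (𝟙 _) = (ρ_ E).hom := by
      rw [← HomCx.uncurry_comp, Category.comp_id]
      exact uncurry_curry _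
    rw [← cancel_epi (ρ_ E).hom]
    dsimp only [v]
    rw [← MonoidalCategory.rightUnitor_naturality_assoc, Iso.hom_inv_id_assoc, h, Category.comp_id]
  · refine (homEquivCx _ _ _).symm.injective ?_
    change uncurry (v ≫ coaug E) = uncurry (𝟙 _)
    rw [HomCx.uncurry_comp, coaug, uncurry_curry, MonoidalCategory.rightUnitor_naturality]
    simp [v]

/-- One step. -/
lemma bijective_pre_fst (f : A) (K : DRing.Cx A) (E : DRing.Cx A) (L : Dual.D A)
    (hL : ∀ n : ℤ, Subsingleton (Dual.inD A (Localization.Away f) ⟶ (shiftFunctor (Dual.D A) n).obj L)) :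
    Function.Bijective fun w : DRing.toD (DRing.homCx
        (CochainComplex.mappingCocone (DerCA.locCxUnit (Submonoid.powers f) K)) E) ⟶ L =>
      DerivedCategory.Q.map (pre (CochainComplex.mappingCocone.fst (DerCA.locCxUnit (Submonoid.powers f) K)) E) ≫ w := by
  let u := DerCA.locCxUnit (Submonoid.powers f) K
  let N := (DerCA.locCx (Submonoid.powers f)).obj K
  let i : N⟦(-1 : ℤ)⟧ ⟶ CochainComplex.mappingCocone u :=
    (shiftFunctor (DRing.Cx A) (-1 : ℤ)).map (CochainComplex.mappingCone.inr u)
  let π := CochainComplex.mappingCocone.fst u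
  have hπ : ∀ q, π.f q = (CochainComplex.mappingCone.fst u).1.v (q + -1) q (by omega) := fun q => by
    simp [π, CochainComplex.mappingCocone.fst,
      CochainComplex.HomComplex.Cochain.leftShift_v (n := 1) _ _ _ _ _ q _ (q + -1) (by omega)]
    generalize hv : (CochainComplex.mappingCone.fst u).1.v (q + -1) q _ = v
    erw [Category.id_comp]
    abel_nf
  obtain ⟨hw, hS⟩ := shortExact_pre E i π
    (fun q => (CochainComplex.mappingCone.snd u).v (q + -1) (q + -1) (add_zero _))
    (fun q => (CochainComplex.mappingCone.inl u).v q (q + -1) rfl)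
    (fun q => by
      rw [hπ]
      exact CochainComplex.mappingCone.inr_f_fst_v u (q + -1) q (by omega))
    (fun q => CochainComplex.mappingCone.inr_f_snd_v u (q + -1))
    (fun q => by
      rw [hπ]
      exact CochainComplex.mappingCone.inl_v_fst_v u q (q + -1) (by omega))
    (fun q => by
      rw [hπ]
      exact CochainComplex.mappingCone.id_X u (q + -1) q (by omega))
  have hT := DerivedCategory.triangleOfSES_distinguished hS
  let X₃ := DRing.homCx (N⟦(-1 : ℤ)⟧) E
  have hNb : CxBij f (N⟦(-1 : ℤ)⟧) := fun j =>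
    ((Module.End.isUnit_iff _).1 (IsLocalizedModule.map_units
      (LocalizedModule.mkLinearMap (Submonoid.powers f) (K.X (j + -1))) ⟨f, Submonoid.mem_powers f⟩) : _)
  have hb : CxBij f X₃ := cxBij_homCx_left hNb E
  have h3 : Subsingleton (DRing.toD X₃ ⟶ L) := subsingleton_hom_of_cxBij hb L hL
  have hb' : CxBij f (X₃⟦(-1 : ℤ)⟧) := fun j => hb (j + -1)
  have h3' : Subsingleton ((DRing.toD X₃)⟦(-1 : ℤ)⟧ ⟶ L) :=
    (Iso.homCongr ((DerivedCategory.Q (C := ModuleCat.{u} A)).commShiftIso (-1 : ℤ) |>.app X₃) (Iso.refl L)).subsingleton_congr.1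
      (subsingleton_hom_of_cxBij hb' L hL)
  constructor
  · intro w w' h
    rw [← sub_eq_zero]
    obtain ⟨k, hk⟩ := Triangle.yoneda_exact₂ _ hT (w - w') (by
      change DerivedCategory.Q.map (pre π E) ≫ (w - w') = 0
      rw [Preadditive.comp_sub, sub_eq_zero]; exact h)
    rw [hk, show k = 0 from h3.elim _ _]
    exact Limits.comp_zero
  · intro w
    obtain ⟨k, hk⟩ := Triangle.yoneda_exact₂ _ (inv_rot_of_distTriang _ hT) w (h3'.elim _ _)
    exact ⟨k, hk.symm⟩

theorem exists_universal (E : DRing.Cx A) : ∀ fs : List A,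
    ∃ η : DRing.toD E ⟶ DRing.toD (DRing.homCx (DerCA.extCech (ModuleCat.of A A) fs) E),
      ∀ L : Dual.D A, (∀ f ∈ fs, ∀ n : ℤ,
          Subsingleton (Dual.inD A (Localization.Away f) ⟶ (shiftFunctor (Dual.D A) n).obj L)) →
        Function.Bijective fun w : DRing.toD (DRing.homCx (DerCA.extCech (ModuleCat.of A A) fs) E) ⟶ L => η ≫ w
  | [] => by
    let e : DRing.toD E ≅ DRing.toD (DRing.homCx (DerCA.extCech (ModuleCat.of A A) []) E) :=
      DerivedCategory.Q.mapIso (@asIso _ _ _ _ (coaug E) (isIso_coaug E))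
    exact ⟨e.hom, fun L _ => ⟨fun w w' h => (cancel_epi e.hom).1 h, fun w => ⟨e.inv ≫ w, e.hom_inv_id_assoc w⟩⟩⟩
  | f :: fs => by
    obtain ⟨η, hη⟩ := exists_universal E fs
    let K := DerCA.extCech (ModuleCat.of A A) fs
    refine ⟨η ≫ DerivedCategory.Q.map
      (pre (CochainComplex.mappingCocone.fst (DerCA.locCxUnit (Submonoid.powers f) K)) E), fun L hL => ?_⟩
    have := (hη L fun g hg => hL g (List.mem_cons_of_mem f hg)).comp
      (bijective_pre_fst f K E L (hL f List.mem_cons_self))
    have he : (fun w => (η ≫ DerivedCategory.Q.map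
        (pre (CochainComplex.mappingCocone.fst (DerCA.locCxUnit (Submonoid.powers f) K)) E)) ≫ w) =
        ((fun w => η ≫ w) ∘ fun w : _ ⟶ L => DerivedCategory.Q.map
          (pre (CochainComplex.mappingCocone.fst (DerCA.locCxUnit (Submonoid.powers f) K)) E) ≫ w) :=
      funext fun w => Category.assoc _ _ _
    exact he ▸ this

theorem nonempty_completion_iso (fs : List A) (I : Ideal A) (hI : Ideal.span {x : A | x ∈ fs} = I)
    [DRing.HasDerivedCompletion I] [DRing.HasRHomCx (DerCA.extCech (ModuleCat.of A A) fs)] (K : Dual.D A) :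
    Nonempty (((DRing.derivedCompletion I).obj K).obj ≅
      (DRing.RHomCx (DerCA.extCech (ModuleCat.of A A) fs)).obj K) := by
  subst hI
  let J := Ideal.span {x : A | x ∈ fs}
  let C := DerCA.extCech (ModuleCat.of A A) fs
  obtain ⟨E, hE, ⟨e⟩⟩ := exists_kinj K
  obtain ⟨η, hη⟩ := exists_universal E fs
  have hu : IsUniversal J (e.inv ≫ η) := by
    refine ⟨?_, fun X hX => ?_⟩
    · rw [TelComplex.isDerivedComplete_iff]
      intro f hf j
      exact (Ideal.span_le (I := Tel.telIdeal A (Dual.HD A _ j))).2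
        (fun g hg => (DerComplete.subsingleton_hom_away_iff _ g).1 (complete_homCx_extCech fs hg E) j) hf
    · have hb := hη X fun g hg n => hX g (Ideal.subset_span hg) n
      have h5 : (fun v : DRing.toD (DRing.homCx C E) ⟶ X => (e.inv ≫ η) ≫ v) =
          (Iso.homCongr e (Iso.refl X)) ∘ (fun v => η ≫ v) := funext fun v => by simp
      exact h5 ▸ (Iso.homCongr e (Iso.refl X)).bijective.comp hb
  obtain ⟨c, -⟩ := IsUniversal.exists_iso J (isUniversal_unit J K) hu
  let F := DRing.RHomCx C
  let α := (DRing.homCxQ C).totalRightDerivedUnit DerivedCategory.Q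
    (HomologicalComplex.quasiIso (ModuleCat.{u} A) (ComplexShape.up ℤ))
  have hαE : IsIso (α.app E) :=
    RHomRep.hasEnough.isIso_app (W := HomologicalComplex.quasiIso (ModuleCat.{u} A) (ComplexShape.up ℤ)) F α (RHomRep.isGood E)
  exact ⟨c ≪≫ (@asIso _ _ _ _ (α.app E) hαE) ≪≫ F.mapIso e⟩

end Groth.Agent.DRing.ExtCech
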