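import Groth.Agent.DRing.PCTools

/-!
# Dévissage of pseudo-coherence

From cohomology modules, from terms, and over coherent and Noetherian rings.
-/

universe u

open CategoryTheory CategoryTheory.Limits CategoryTheory.Pretriangulated DerivedCategory

attribute [local instance] HasDerivedCategory.standard

namespace Groth.Agent.DRing.PC

open DBasic Homology

variable {A : Type u} [CommRing A]

lemma pcModule_congr {m : ℤ} {M N : Type u} [AddCommGroup M] [Module A M] [AddCommGroup N]
    [Module A N] (e : M ≃ₗ[A] N) (h : DRing.IsPseudoCoherentModule A m M) :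
    DRing.IsPseudoCoherentModule A m N :=
  pc_of_iso ((DerivedCategory.singleFunctor (ModuleCat.{u} A) 0).mapIso e.toModuleIso) h

lemma pcModule'_iff {M : Type u} [AddCommGroup M] [Module A M] :
    DRing.IsPseudoCoherentModule' A M ↔ ∀ m, DRing.IsPseudoCoherentModule A m M :=
  pc'_iff _

/-- `M[-n]` is the complex with `M` in degree `n`. -/
noncomputable def inDShiftIso (M : ModuleCat.{u} A) (n : ℤ) :
    (shiftFunctor (Dual.D A) (-n)).obj ((singleFunctor (ModuleCat.{u} A) 0).obj M) ≅
      DRing.toD (sgl n M) :=
  ((DerivedCategory.singleFunctors (ModuleCat.{u} A)).shiftIso (-n) n 0 (by omega)).app M ≪≫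
    (singleFunctorIsoCompQ (ModuleCat.{u} A) n).app M

lemma pc_sgl_iff {M : ModuleCat.{u} A} {m n : ℤ} :
    DRing.IsPseudoCoherent A m (DRing.toD (sgl n M)) ↔
      DRing.IsPseudoCoherentModule A (m - n) M := by
  rw [DRing.IsPseudoCoherentModule]
  exact ⟨fun h => (pc_shift_iff (-n) m (by omega)).1 (pc_of_iso (inDShiftIso M n).symm h),
    fun h => pc_of_iso (inDShiftIso M n) ((pc_shift_iff (-n) m (by omega)).2 h)⟩

lemma subsingleton_HD_sgl (M : ModuleCat.{u} A) {n i : ℤ} (hi : i ≠ n) :
    Subsingleton (Dual.HD A (DRing.toD (sgl n M)) i) := by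
  rw [subsingleton_HD_toD_iff]
  exact (HomologicalComplex.exactAt_single_obj _ _ _ _ hi).isZero_homology

/-- A map to the complex concentrated in degree `i`, injective on `H^i`. -/
lemma exists_toSgl {P : DRing.Cx A} {i : ℤ} {M : ModuleCat.{u} A} (θ : P.X i →ₗ[A] M)
    (h0 : ∀ w : P.X (i - 1), θ ((P.d (i - 1) i).hom w) = 0)
    (hker : ∀ z, IsCyc P i z → θ z = 0 → ∃ w : P.X (i - 1), (P.d (i - 1) i).hom w = z) :
    ∃ φ : DRing.toD P ⟶ DRing.toD (sgl i M), Mono ((HF i).map φ) ∧
      ((∀ y, ∃ z, IsCyc P i z ∧ θ z = y) → IsIso ((HF i).map φ)) := by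
  let ψ : P ⟶ sgl i M := HomologicalComplex.mkHomToSingle (ModuleCat.ofHom θ) (fun k (hk : k + 1 = i) => by
    obtain rfl : k = i - 1 := by omega
    exact ModuleCat.hom_ext (LinearMap.ext h0))
  have hψ : ∀ z, (ψ.f i).hom z =
      (HomologicalComplex.singleObjXSelf (ComplexShape.up ℤ) i M).inv.hom (θ z) := fun z => by
    rw [show ψ.f i = _ from HomologicalComplex.mkHomToSingle_f _ _]
    rfl
  let e := (HomologicalComplex.singleObjXSelf (ComplexShape.up ℤ) i M).symm.toLinearEquiv
  have hd : (sgl i M).d (i - 1) i = 0 := HomologicalComplex.single_obj_d _ _ _ _ _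
  have hinj : Function.Injective (HomologicalComplex.homologyMap ψ i).hom := by
    rw [homologyMap_injective_iff ψ i (i - 1) (by omega)]
    intro z w hz hzw
    refine hker z hz (e.injective ?_)
    rw [map_zero]
    refine (hψ z).symm.trans ?_
    rw [hzw, hd]; rfl
  refine ⟨Q.map ψ, ?_, fun hsurj => ?_⟩
  · rw [HF_map_Q_eq]
    have : Mono (HomologicalComplex.homologyMap ψ i) := (ModuleCat.mono_iff_injective _).2 hinj
    infer_instance
  · have hs : Function.Surjective (HomologicalComplex.homologyMap ψ i).hom := by
      rw [homologyMap_surjective_iff ψ i (i - 1) (by omega)]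
      intro y _
      obtain ⟨z, hz, hzy⟩ := hsurj (e.symm y)
      refine ⟨z, 0, hz, ?_⟩
      rw [map_zero, add_zero, hψ, hzy]
      exact e.apply_symm_apply y
    rw [HF_map_Q_eq]
    have := (isIso_homologyMap_iff ψ i).2 ⟨hinj, hs⟩
    infer_instance

/-- The map to the top cohomology. -/
lemma exists_toTop (K : Dual.D A) (n : ℤ) (hv : ∀ i, n < i → Subsingleton (Dual.HD A K i)) :
    ∃ φ : K ⟶ DRing.toD (sgl n (ModuleCat.of A (Dual.HD A K n))), IsIso ((HF n).map φ) := by
  have := (isLE_iff_subsingleton K n).2 hv
  obtain ⟨P, hP, ⟨e⟩⟩ := exists_iso_Q_obj_of_isLE K n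
  have hcyc : ∀ z, IsCyc P n z := fun z => by
    unfold IsCyc
    rw [(P.isZero_of_isStrictlyLE n (n + 1) (by omega)).eq_of_tgt (P.d n (n + 1)) 0]
    rfl
  let l : Dual.HD A K n ≃ₗ[A] P.homology n := ((HF n).mapIso e ≪≫ hIso P n).toLinearEquiv
  let θ : P.X n →ₗ[A] Dual.HD A K n :=
    l.symm.toLinearMap.comp ((clsLin P n).comp (LinearMap.id.codRestrict _ hcyc))
  obtain ⟨φ, -, hφ⟩ := exists_toSgl (M := ModuleCat.of A (Dual.HD A K n)) θ
    (fun w => by
      change l.symm (cls _ _) = 0
      exact (congrArg l.symm ((cls_eq_zero_iff (n - 1) (by omega) (hcyc _)).2 ⟨w, rfl⟩)).trans (map_zero _))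
    (fun z hz h => by
      have : cls z (hcyc z) = 0 := l.symm.injective (by rw [map_zero]; exact h)
      exact (cls_eq_zero_iff (n - 1) (by omega) _).1 this)
  have := hφ fun y => by
    obtain ⟨z, hz, hzy⟩ := cls_surjective (l y)
    exact ⟨z, hz, by change l.symm (cls z _) = y; rw [hzy, l.symm_apply_apply]⟩
  exact ⟨e.hom ≫ φ, by rw [Functor.map_comp]; infer_instance⟩

/-- Cohomology modules `(m-i)`-pseudo-coherent imply `m`-pseudo-coherent. -/
theorem pc_of_cohomology {m : ℤ} {K : Dual.D A}
    (hb : ∃ b : ℤ, ∀ i, b < i → Subsingleton (Dual.HD A K i))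
    (h : ∀ i, m ≤ i → DRing.IsPseudoCoherentModule A (m - i) (Dual.HD A K i)) :
    DRing.IsPseudoCoherent A m K := by
  obtain ⟨b, hb⟩ := hb
  suffices ∀ (k : ℕ) (K : Dual.D A), (∀ i, m + k < i → Subsingleton (Dual.HD A K i)) →
      (∀ i, m ≤ i → DRing.IsPseudoCoherentModule A (m - i) (Dual.HD A K i)) →
      DRing.IsPseudoCoherent A m K from this (b - m).toNat K (fun i hi => hb i (by omega)) h
  clear hb h K
  intro k
  induction k with
  | zero =>
    intro K hv h
    refine pc_of_finite_top (fun i hi => hv i (by omega)) (pcModule_zero_iff.1 ?_)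
    simpa using h m le_rfl
  | succ k ih =>
    intro K hv h
    obtain ⟨n, hn⟩ : ∃ n : ℤ, n = m + k + 1 := ⟨_, rfl⟩
    obtain ⟨φ, hφ⟩ := exists_toTop K n (fun i hi => hv i (by push_cast at *; omega))
    obtain ⟨C, f, δ, hT⟩ := distinguished_cocone_triangle₁ φ
    have hzero : ∀ i, i ≠ n →
        IsZero ((HF i).obj (DRing.toD (sgl n (ModuleCat.of A (Dual.HD A K n))))) := fun i hi =>
      (subsingleton_HD_iff_isZero _ _).1 (subsingleton_HD_sgl _ hi)
    have hepi : ∀ i, i ≠ n → Epi ((HF i).map f) := fun i hi =>
      (HomologySequence.epi_homologyMap_mor₁_iff _ hT i).2 ((hzero i hi).eq_of_tgt _ _)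
    have hmono : ∀ i, i ≠ n + 1 → Mono ((HF i).map f) := fun i hi =>
      (HomologySequence.mono_homologyMap_mor₁_iff _ hT (i - 1) i (by omega)).2
        ((hzero (i - 1) (by omega)).eq_of_src _ _)
    have hvC : ∀ i, n ≤ i → Subsingleton (Dual.HD A C i) := by
      intro i hi
      rw [subsingleton_HD_iff_isZero]
      have hf0 : (HF i).map f = 0 := by
        by_cases hin : i = n
        · subst hin
          have : (HF i).map f ≫ (HF i).map φ = 0 := by
            rw [← Functor.map_comp, show f ≫ φ = 0 from comp_distTriang_mor_zero₁₂ _ hT,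
              Functor.map_zero]
          rwa [← cancel_mono ((HF i).map φ), zero_comp]
        · exact ((subsingleton_HD_iff_isZero K i).1 (hv i (by push_cast at *; omega))).eq_of_tgt _ _
      have hm : Mono ((HF i).map f) := by
        by_cases hin : i = n + 1
        · subst hin
          refine (HomologySequence.mono_homologyMap_mor₁_iff _ hT n (n + 1) rfl).2 ?_
          have : Epi ((HF n).map (Triangle.mk f φ δ).mor₂) := inferInstanceAs (Epi ((HF n).map φ))
          exact zero_of_epi_comp _ (HomologySequence.comp_δ _ hT n (n + 1) rfl)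
        · exact hmono i hin
      rw [IsZero.iff_id_eq_zero, ← cancel_mono ((HF i).map f), Category.id_comp, zero_comp, hf0]
    refine pc_middle hT (ih C ?_ ?_) (pc_sgl_iff.2 (h n (by omega)))
    · exact fun i hi => hvC i (by omega)
    · intro i hi
      by_cases hin : n ≤ i
      · have hv' := hvC i hin
        exact pc_of_vanishGE fun j _ => by
          by_cases hj : j = 0
          · subst hj
            exact (inDEquiv A (Dual.HD A C i)).toEquiv.subsingleton
          · exact subsingleton_HD_inD A _ j hj
      · have := hepi i (by omega)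
        have := hmono i (by omega)
        have := isIso_of_mono_of_epi ((HF i).map f)
        exact pcModule_congr (asIso ((HF i).map f)).symm.toLinearEquiv (h i hi)

/-- The stupid truncation sequence. -/
lemma pc_of_terms {m : ℤ} (P : DRing.Cx A) {b : ℤ} (hb : DRing.VanishesAbove P b)
    (h : ∀ i, m ≤ i → DRing.IsPseudoCoherentModule A (m - i) (P.X i)) :
    DRing.IsPseudoCoherent A m (DRing.toD P) := by
  have key : ∀ (k : ℕ) (a : ℤ), m ≤ a → b + 1 ≤ a + (k : ℤ) →
      DRing.IsPseudoCoherent A m (DRing.toD (KFlat.sigmaGE P a)) := by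
    intro k
    induction k with
    | zero =>
      intro a _ ha
      refine pc_of_vanishGE fun i _ => (subsingleton_HD_toD_iff _ i).2 ?_
      refine ShortComplex.isZero_homology_of_isZero_X₂ _ ?_
      by_cases hi : i < a
      · exact KFlat.sigmaGE_X_isZero P hi
      · exact (vanishesOutside_sigmaGE hb a) i (Or.inr (by omega))
    | succ k ih =>
      intro a hma ha
      let f := KFlat.sigmaGEMap P (show a ≤ a + 1 by omega)
      let g : KFlat.sigmaGE P a ⟶ sgl a (P.X a) :=
        HomologicalComplex.mkHomToSingle (ModuleCat.ofHom (KFlat.truncSub P a a).subtype)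
          (fun j (hj : j + 1 = a) => (KFlat.sigmaGE_X_isZero P (by omega)).eq_of_src _ _)
      have hg : ∀ x, (g.f a).hom x =
          (HomologicalComplex.singleObjXSelf (ComplexShape.up ℤ) a (P.X a)).inv.hom x.1 := fun x => by
        rw [show g.f a = _ from HomologicalComplex.mkHomToSingle_f _ _]; rfl
      have hfg : f ≫ g = 0 := HomologicalComplex.to_single_hom_ext
        ((KFlat.sigmaGE_X_isZero P (show a < a + 1 by omega)).eq_of_src _ _)
      have hS : (ShortComplex.mk f g hfg).ShortExact := by
        refine HomologicalComplex.shortExact_of_degreewise_shortExact _ fun i => ?_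
        refine { exact := ?_, mono_f := ?_, epi_g := ?_ }
        · rw [ShortComplex.moduleCat_exact_iff]
          intro x hx
          by_cases hi : a + 1 ≤ i
          · exact ⟨⟨x.1, mem_truncSub hi x.1⟩, Subtype.ext rfl⟩
          · refine ⟨0, Subtype.ext ?_⟩
            change (0 : P.X i) = x.1
            by_cases hia : i = a
            · subst hia
              refine ((HomologicalComplex.singleObjXSelf (ComplexShape.up ℤ) i (P.X i)).symm.toLinearEquiv).injective ?_
              exact (map_zero _).trans (((hg x).symm.trans hx).symm)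
            · have hle : KFlat.truncSub P a i ≤ ⊥ := le_of_eq (if_neg (by omega))
              exact ((Submodule.mem_bot A).1 (hle x.2)).symm
        · exact (ModuleCat.mono_iff_injective _).2
            (Submodule.inclusion_injective (KFlat.truncSub_mono P (by omega) i))
        · refine (ModuleCat.epi_iff_surjective _).2 ?_
          by_cases hia : i = a
          · subst hia
            intro y
            obtain ⟨y, rfl⟩ :=
              (HomologicalComplex.singleObjXSelf (ComplexShape.up ℤ) i (P.X i)).symm.toLinearEquiv.surjective y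
            exact ⟨⟨y, mem_truncSub le_rfl y⟩, hg _⟩
          · have := ModuleCat.subsingleton_of_isZero
              (HomologicalComplex.isZero_single_obj_X (ComplexShape.up ℤ) a (P.X a) i hia)
            exact fun y => ⟨0, Subsingleton.elim (α := (sgl a (P.X a)).X i) _ _⟩
      exact pc_middle (triangleOfSES_distinguished hS) (ih (a + 1) (by omega) (by omega))
        (pc_sgl_iff.2 (h a hma))
  obtain ⟨E, c, α, hE, hf, hα⟩ := exists_approx (key (b + 1 - m).toNat m le_rfl (by omega))
  exact isPseudoCoherent_of_approx (α ≫ Q.map (KFlat.sigmaGEι P m)) hE hf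
    (hα.comp (isApprox_sigmaGEι P m))

section Coherent

variable (hA : ∀ I : Ideal A, I.FG → Module.FinitePresentation A I)

include hA in
/-- Over a coherent ring, finitely generated submodules of finite free modules are finitely presented. -/
lemma fp_of_injective {n : ℕ} : ∀ {M : Type u} [AddCommGroup M] [Module A M] [Module.Finite A M]
    (j : M →ₗ[A] (Fin n → A)), Function.Injective j → Module.FinitePresentation A M := by
  induction n with
  | zero =>
    intro M _ _ _ j hj
    have : Subsingleton M := hj.subsingleton
    infer_instance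
  | succ n ih =>
    intro M _ _ _ j hj
    let g : M →ₗ[A] A := (LinearMap.proj (Fin.last n)).comp j
    have hI : Module.FinitePresentation A (LinearMap.range g) :=
      hA _ (Module.Finite.iff_fg.1 (inferInstanceAs (Module.Finite A (LinearMap.range g))))
    have hker : (LinearMap.ker g).FG := by
      have := Module.FinitePresentation.fg_ker g.rangeRestrict g.surjective_rangeRestrict
      rwa [LinearMap.ker_rangeRestrict] at this
    have := Module.Finite.iff_fg.2 hker
    let j' : LinearMap.ker g →ₗ[A] (Fin n → A) :=
      (LinearMap.funLeft A A Fin.castSucc).comp (j.comp (LinearMap.ker g).subtype)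
    have hj' : Function.Injective j' := by
      rw [injective_iff_map_eq_zero]
      intro x hx
      refine Subtype.ext (hj ?_)
      rw [ZeroMemClass.coe_zero, map_zero]
      funext k
      refine Fin.lastCases ?_ (fun i => ?_) k
      · exact x.2
      · exact congrFun hx i
    have h1 := ih j' hj'
    have h1' : Module.FinitePresentation A (LinearMap.ker g.rangeRestrict) := by
      rw [LinearMap.ker_rangeRestrict]; exact h1
    exact Module.finitePresentation_of_ker g.rangeRestrict g.surjective_rangeRestrict

include hA in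
lemma fp_of_injective_free {M F : Type u} [AddCommGroup M] [Module A M] [Module.Finite A M]
    [AddCommGroup F] [Module A F] [Module.Finite A F] [Module.Free A F] (j : M →ₗ[A] F)
    (hj : Function.Injective j) : Module.FinitePresentation A M := by
  classical
  have e := (Module.Free.chooseBasis A F).equivFun.trans
    (LinearEquiv.funCongrLeft A A (Fintype.equivFin (Module.Free.ChooseBasisIndex A F)).symm)
  exact fp_of_injective hA (e.toLinearMap.comp j) (e.injective.comp hj)

include hA in
lemma pcModule_of_fp (k : ℕ) : ∀ (M : Type u) [AddCommGroup M] [Module A M]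
    [Module.FinitePresentation A M], DRing.IsPseudoCoherentModule A (-(k : ℤ)) M := by
  induction k with
  | zero => intro M _ _ _; simpa using pcModule_zero_iff.2 (inferInstanceAs (Module.Finite A M))
  | succ k ih =>
    intro M _ _ _
    obtain ⟨n, f, hf⟩ := Module.Finite.exists_fin' A M
    have : Module.Finite A (LinearMap.ker f) :=
      Module.Finite.iff_fg.2 (Module.FinitePresentation.fg_ker f hf)
    have := fp_of_injective hA (LinearMap.ker f).subtype (Submodule.subtype_injective _)
    have h := (pcModule_step_iff f hf (-(k : ℤ))).2 (ih (LinearMap.ker f))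
    rwa [show -((k + 1 : ℕ) : ℤ) = -(k : ℤ) - 1 by push_cast; ring]

include hA in
lemma pcModule'_of_fp (M : Type u) [AddCommGroup M] [Module A M]
    [Module.FinitePresentation A M] : DRing.IsPseudoCoherentModule' A M :=
  pcModule'_iff.2 fun m => pc_mono (pcModule_of_fp hA (-m).toNat M) (by omega)

include hA in
/-- Over a coherent ring, cocycles of complexes of finite free modules are finitely presented. -/
lemma fp_cycles {E : DRing.Cx A} (hE : DRing.TermwiseFiniteFree E) (i : ℤ) :
    Module.FinitePresentation A (LinearMap.ker (E.d i (i + 1)).hom) := by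
  obtain ⟨_, _⟩ := hE i
  obtain ⟨_, _⟩ := hE (i + 1)
  have : Module.FinitePresentation A (E.X i) := Module.finitePresentation_of_projective _ _
  let g := (E.d i (i + 1)).hom
  have := fp_of_injective_free hA (LinearMap.range g).subtype (Submodule.subtype_injective _)
  have hfg := Module.FinitePresentation.fg_ker g.rangeRestrict g.surjective_rangeRestrict
  rw [LinearMap.ker_rangeRestrict] at hfg
  have := Module.Finite.iff_fg.2 hfg
  exact fp_of_injective_free hA (LinearMap.ker g).subtype (Submodule.subtype_injective _)

include hA in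
lemma fp_homology {E : DRing.Cx A} (hE : DRing.TermwiseFiniteFree E) (i : ℤ) :
    Module.FinitePresentation A (E.homology i) := by
  have := fp_cycles hA hE i
  refine Module.finitePresentation_of_surjective (clsLin E i) clsLin_surjective ?_
  obtain ⟨_, _⟩ := hE (i - 1)
  have : LinearMap.ker (clsLin E i) = LinearMap.range
      ((E.d (i - 1) i).hom.codRestrict (LinearMap.ker (E.d i (i + 1)).hom)
        (fun w => d_d (K := E) _ _ _ w)) := by
    ext z
    refine (cls_eq_zero_iff (i - 1) (by omega) z.2).trans ?_
    exact ⟨fun ⟨w, hw⟩ => ⟨w, Subtype.ext hw⟩, fun ⟨w, hw⟩ => ⟨w, congrArg Subtype.val hw⟩⟩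
  rw [this]
  exact Module.Finite.iff_fg.1 inferInstance

include hA in
/-- Pseudo-coherence over a coherent ring. -/
theorem pc_iff_of_coherent {m : ℤ} {K : Dual.D A}
    (hb : ∃ b : ℤ, ∀ i, b < i → Subsingleton (Dual.HD A K i)) :
    DRing.IsPseudoCoherent A m K ↔ Module.Finite A (Dual.HD A K m) ∧
      ∀ i, m < i → Module.FinitePresentation A (Dual.HD A K i) := by
  constructor
  · intro h
    obtain ⟨E, b, α, hE, hf, hα⟩ := exists_approx h
    have hfp : ∀ i, Module.FinitePresentation A (Dual.HD A (DRing.toD E) i) := fun i =>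
      have := fp_homology hA hf i
      Module.FinitePresentation.of_equiv (hIso E i).toLinearEquiv.symm
    refine ⟨?_, fun i hi => ?_⟩
    · have := hfp m
      have := hα.2
      exact Module.Finite.of_surjective ((HF m).map α).hom
        ((ModuleCat.epi_iff_surjective _).1 inferInstance)
    · have := hfp i
      have := hα.1 i hi
      exact Module.FinitePresentation.of_equiv (asIso ((HF i).map α)).toLinearEquiv
  · rintro ⟨h1, h2⟩
    refine pc_of_cohomology hb fun i hi => ?_
    rcases eq_or_lt_of_le hi with rfl | hlt
    · simpa using pcModule_zero_iff.2 h1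
    · have := h2 i hlt
      exact pcModule'_iff.1 (pcModule'_of_fp hA _) _

end Coherent

end Groth.Agent.DRing.PC
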