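import Groth.Agent.DRing.Trunc
import Groth.Agent.DRing.PCTrunc
import Mathlib.CategoryTheory.Triangulated.Pretriangulated
import Mathlib.LinearAlgebra.FreeModule.Basic

/-!
# Bounded above free representatives and two-term representatives
-/

universe u

open CategoryTheory CategoryTheory.Limits CategoryTheory.Pretriangulated DerivedCategory

attribute [local instance] HasDerivedCategory.standard

namespace Groth.Agent.DRing.ProjAmp

open Homology DBasic PC

variable {A : Type u} [CommRing A]

lemma free_of_iso {M N : ModuleCat.{u} A} (e : M ≅ N) (h : Module.Free A M) : Module.Free A N :=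
  Module.Free.of_equiv e.toLinearEquiv

lemma free_biprod {M N : ModuleCat.{u} A} (hM : Module.Free A M) (hN : Module.Free A N) :
    Module.Free A (M ⊞ N : ModuleCat.{u} A) :=
  free_of_iso (ModuleCat.biprodIsoProd M N).symm (inferInstanceAs (Module.Free A (M × N)))

/-- A free representative vanishing above `b`. -/
lemma exists_freeRep (K : Dual.D A) (b : ℤ) (hb : ∀ i, b < i → Subsingleton (Dual.HD A K i)) :
    ∃ P : DRing.Cx A, DRing.VanishesAbove P b ∧ (∀ i, Module.Free A (P.X i)) ∧
      Nonempty (DRing.toD P ≅ K) := by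
  obtain ⟨K', _, -, ⟨e⟩⟩ := exists_kproj_iso K
  have hK : ∀ i, b < i → K'.ExactAt i := fun i hi => by
    rw [HomologicalComplex.exactAt_iff_isZero_homology, ← subsingleton_HD_toD_iff,
      subsingleton_HD_congr e]
    exact hb i hi
  obtain ⟨P, π, h1, h2, hq⟩ := BARes.exists_resolution (K := K') (C := fun M => Module.Free A M) hK
    (fun e h => free_of_iso e h)
    (fun M hM => have := ModuleCat.subsingleton_of_isZero hM; Module.Free.of_subsingleton A M)
    (fun M N hM hN => free_biprod hM hN) (fun m E α _ _ _ _ => by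
      let Z := LinearMap.ker ((CochainComplex.mappingCone α).d (m - 1) m).hom
      let l : (Z →₀ A) →ₗ[A] (CochainComplex.mappingCone α).X (m - 1) :=
        Z.subtype.comp (Finsupp.linearCombination A id)
      refine ⟨ModuleCat.of A (Z →₀ A), ModuleCat.ofHom l,
        inferInstanceAs (Module.Free A (Z →₀ A)),
        ModuleCat.hom_ext (LinearMap.ext fun x => (Finsupp.linearCombination A id x).2),
        fun z hz => ?_⟩
      have hz' : z ∈ Z := (isCyc_iff (show m - 1 + 1 = m by omega) z).1 hz
      refine ⟨Finsupp.single ⟨z, hz'⟩ 1, 0, ?_⟩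
      rw [map_zero, add_zero]
      change ((Finsupp.linearCombination A id) (Finsupp.single (⟨z, hz'⟩ : Z) (1 : A)) : Z).1 = z
      rw [Finsupp.linearCombination_single, one_smul]
      rfl)
  exact ⟨P, h1, h2, ⟨asIso (Q.map π) ≪≫ e⟩⟩

/-- Truncate a representative with exactness below `a`. -/
lemma tauGE_rep {P : DRing.Cx A} {K : Dual.D A} (e : DRing.toD P ≅ K) (a : ℤ)
    (hv : ∀ i, i < a → Subsingleton (Dual.HD A K i)) :
    Nonempty (DRing.toD (Trunc.tauGE P a) ≅ K) := by
  have : QuasiIso (Trunc.tauGEπ P a) := Trunc.quasiIso_tauGEπ P a fun i hi => by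
    rw [HomologicalComplex.exactAt_iff_isZero_homology, ← subsingleton_HD_toD_iff,
      subsingleton_HD_congr e]
    exact hv i hi
  exact ⟨(asIso (Q.map (Trunc.tauGEπ P a))).symm ≪≫ e⟩

/-- No maps from a complex of projectives in degrees `[a, b]` to objects with `H^{≥a} = 0`. -/
lemma hom_eq_zero_of_rep {L K : Dual.D A} {P : DRing.Cx A} {a b : ℤ}
    (hP : DRing.VanishesOutside P a b) (hproj : ∀ i, Module.Projective A (P.X i))
    (e : DRing.toD P ≅ L) (hK : ∀ i, a ≤ i → Subsingleton (Dual.HD A K i)) (φ : L ⟶ K) : φ = 0 := by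
  have := isKProjective_of_projective P b (fun i hi => hP i (Or.inr hi)) hproj
  have h := hom_eq_zero P a (fun i hi => hP i (Or.inl hi)) K hK (e.hom ≫ φ)
  rwa [← cancel_epi e.hom, comp_zero]

end Groth.Agent.DRing.ProjAmp
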