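import Groth.Agent.DRing.RHomCompletion
import Groth.Agent.DRing.SingleTensor
import Groth.Agent.DRing.TensorAmp
import Groth.Agent.DRing.ExtCechRHom
import Groth.Agent.DRing.PCTrunc
import Groth.Agent.DRing.ProjAmp
import Groth.Agent.DTenLib.EvalCx

/-!
# Derived completion and tensor products with bounded above finite free complexes
-/

universe u

open CategoryTheory CategoryTheory.Limits CategoryTheory.Pretriangulated MonoidalCategory DerivedCategory

attribute [local instance] HasDerivedCategory.standard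

namespace Groth.Agent.DRing.CompletionTensor

open Groth.Agent.DTenLib DBasic Completion PC Homology

variable {A : Type u} [CommRing A]

lemma whiskerLeft_f_bijective (L : DRing.Cx A) {P Q : DRing.Cx A} (g : P ⟶ Q) (n : ℤ)
    (hg : ∀ p q, p + q = n → Function.Bijective (L.X p ◁ g.f q).hom) :
    Function.Bijective ((L ◁ g).f n).hom := by
  refine ⟨Tensor.whiskerLeft_f_injective g n fun p q h => (hg p q h).1, fun y => ?_⟩
  have hs : Function.Surjective (DirectSum.lmap fun k : { k : ℤ × ℤ // k.1 + k.2 = n } =>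
      ((L.X k.1.1 ◁ g.f k.1.2).hom : Tensor.Fam L P n k →ₗ[A] Tensor.Fam L Q n k)) :=
    (DirectSum.lmap_surjective _).2 fun k => (hg _ _ k.2).2
  obtain ⟨z, hz⟩ := hs ((Tensor.toSum L Q n).hom y)
  obtain ⟨x, hx⟩ := (ModuleCat.epi_iff_surjective (Tensor.sumIso L P n).hom).1 inferInstance z
  refine ⟨x, (ModuleCat.mono_iff_injective (Tensor.sumIso L Q n).hom).1 inferInstance ?_⟩
  have h := congrArg (fun f => f.hom x) (Tensor.toSum_natural (L := L) g n)
  simp only [ModuleCat.hom_comp, LinearMap.comp_apply] at h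
  refine h.trans ?_
  erw [hx]
  exact hz

lemma isDerivedComplete_congr (I : Ideal A) {K L : Dual.D A} (e : K ≅ L)
    (h : DRing.IsDerivedComplete I K) : DRing.IsDerivedComplete I L :=
  fun f hf n => (complete_congr f e n).1 (h f hf n)

lemma isUniversal_of_arrow (I : Ideal A) {K K' L L' : Dual.D A} {η : K ⟶ L} (η' : K' ⟶ L')
    (e : K ≅ K') (e' : L ≅ L') (w : η ≫ e'.hom = e.hom ≫ η') (h : IsUniversal I η) :
    IsUniversal I η' := by
  refine ⟨isDerivedComplete_congr I e' h.1, fun X hX => ?_⟩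
  have h5 : (fun v : L' ⟶ X => η' ≫ v) =
      (Iso.homCongr e (Iso.refl X)) ∘ (fun v => η ≫ v) ∘ (Iso.homCongr e' (Iso.refl X)).symm :=
    funext fun v => by
      have hη : η' = e.inv ≫ η ≫ e'.hom := by rw [w, e.inv_hom_id_assoc]
      simp [hη]
  exact h5 ▸ (Iso.homCongr e (Iso.refl X)).bijective.comp
    ((h.2 X hX).comp (Iso.homCongr e' (Iso.refl X)).symm.bijective)

variable (I : Ideal A) (F : DRing.Cx A)

/-- Universality of the tensored map, for any `F`. -/
lemma bijective_whiskerRight {P P' : DRing.Cx A} [P.IsKProjective] [P'.IsKProjective] (g : P ⟶ P')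
    (hg : IsUniversal I (Q.map g)) (X : Dual.D A) (hX : DRing.IsDerivedComplete I X) :
    Function.Bijective fun v : DRing.toD (P' ⊗ F) ⟶ X => Q.map (g ▷ F) ≫ v := by
  obtain ⟨E, hE, ⟨e⟩⟩ := exists_kinj X
  have hc : DRing.IsDerivedComplete I (DRing.toD (DRing.homCx F E)) := fun f hf n =>
    RHomCompletion.complete_homCx f F E
      ((complete_iff_contr f E).1 fun n => (complete_congr f e n).2 (hX f hf n)) n
  have hb := hg.2 _ hc
  suffices h : Function.Bijective fun v : DRing.toD (P' ⊗ F) ⟶ DRing.toD E => Q.map (g ▷ F) ≫ v by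
    have h5 : (fun v : DRing.toD (P' ⊗ F) ⟶ X => Q.map (g ▷ F) ≫ v) =
        (Iso.homCongr (Iso.refl _) e) ∘ (fun v => Q.map (g ▷ F) ≫ v) ∘
          (Iso.homCongr (Iso.refl _) e).symm := funext fun v => by simp
    exact h5 ▸ (Iso.homCongr (Iso.refl _) e).bijective.comp
      (h.comp (Iso.homCongr (Iso.refl _) e).symm.bijective)
  constructor
  · intro v v' h
    obtain ⟨a, rfl⟩ := InjAmp.exists_Q_map_eq_inj v
    obtain ⟨a', rfl⟩ := InjAmp.exists_Q_map_eq_inj v'
    dsimp only at h
    rw [← Functor.map_comp, ← Functor.map_comp] at h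
    obtain ⟨s⟩ := (InjAmp.Q_map_eq_iff_inj _ _).1 h
    have hu : ∀ b : P' ⊗ F ⟶ E, curry (g ▷ F ≫ b) = g ≫ curry b := fun b => by
      conv_lhs => rw [← uncurry_curry b, ← HomCx.uncurry_comp, curry_uncurry]
    have h1 := Q_map_eq_of_homotopy (ModuleCat.{u} A) (curryHomotopy s)
    rw [hu, hu, Functor.map_comp, Functor.map_comp] at h1
    obtain ⟨t⟩ := (DBasic.Q_map_eq_iff _ _).1 (hb.1 h1)
    have h2 := HomCx.uncurryHomotopy t
    rw [uncurry_curry, uncurry_curry] at h2
    exact Q_map_eq_of_homotopy (ModuleCat.{u} A) h2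
  · intro w
    obtain ⟨b, rfl⟩ := InjAmp.exists_Q_map_eq_inj w
    obtain ⟨c, hc⟩ := hb.2 (Q.map (curry b))
    obtain ⟨c', rfl⟩ := exists_Q_map_eq c
    dsimp only at hc
    rw [← Functor.map_comp] at hc
    obtain ⟨t⟩ := (DBasic.Q_map_eq_iff _ _).1 hc
    refine ⟨Q.map (uncurry c'), ?_⟩
    dsimp only
    rw [← Functor.map_comp, ← HomCx.uncurry_comp]
    have h2 := HomCx.uncurryHomotopy t
    rw [uncurry_curry] at h2
    exact Q_map_eq_of_homotopy (ModuleCat.{u} A) h2

/-- A complete K-injective complex tensored with a bounded complex of finite projectives. -/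
lemma complete_tensor_bounded (E : DRing.Cx A) [E.IsKInjective] (hE : DRing.IsDerivedComplete I (DRing.toD E))
    {a b : ℤ} (hF : DRing.VanishesOutside F a b) (hFp : DRing.TermwiseFiniteProjective F) :
    DRing.IsDerivedComplete I (DRing.toD (E ⊗ F)) := by
  obtain ⟨D⟩ := nonempty_dualData hF hFp
  have := isIso_etaHom (L := 𝟙_ (DRing.Cx A)) (Y := E) D
  have := ExtCech.isIso_coaug E
  let e : E ⊗ F ≅ DRing.homCx (DRing.homCx F (𝟙_ (DRing.Cx A))) E :=
    asIso (ExtCech.coaug E ▷ F ≫ etaHom F (𝟙_ (DRing.Cx A)) E)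
  refine isDerivedComplete_congr I (Q.mapIso e).symm fun f hf n => ?_
  exact RHomCompletion.complete_homCx f _ E ((complete_iff_contr f E).1 fun n => hE f hf n) n

/-- Completeness of the tensor product with a bounded above finite free complex. -/
lemma complete_tensor {P : DRing.Cx A} {d : ℤ} (hP : DRing.VanishesAbove P d)
    (hPp : ∀ i, Module.Projective A (P.X i)) (hc : DRing.IsDerivedComplete I (DRing.toD P))
    {c : ℤ} (hFc : DRing.VanishesAbove F c) (hFf : DRing.TermwiseFiniteFree F) :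
    DRing.IsDerivedComplete I (DRing.toD (P ⊗ F)) := by
  rw [DerComplete.isDerivedComplete_iff_homology]
  intro i
  have := isKProjective_of_projective P d hP hPp
  let m := i - 1 - d
  let F' := KFlat.sigmaGE F m
  let ι := KFlat.sigmaGEι F m
  have hF' : DRing.VanishesOutside F' m c := vanishesOutside_sigmaGE hFc m
  have hF'p : DRing.TermwiseFiniteProjective F' := fun j =>
    ⟨(finiteFree_sigmaGE hFf m j).1, have := (finiteFree_sigmaGE hFf m j).2; Module.Projective.of_free⟩
  have hF'flat : KFlat.IsKFlat F' :=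
    TorAmp.isKFlat_of_projective (fun j hj => hF' j (Or.inr hj)) fun j => (hF'p j).2
  obtain ⟨E, hE, ⟨e⟩⟩ := exists_kinj (DRing.toD P)
  obtain ⟨φ, hφ⟩ := InjAmp.exists_Q_map_eq_inj e.inv
  have : QuasiIso φ := (isIso_Q_map_iff_quasiIso (C := ModuleCat.{u} A) φ).1 (by rw [hφ]; infer_instance)
  have := KFlat.quasiIso_whiskerRight hF'flat φ
  have hc' : DRing.IsDerivedComplete I (DRing.toD (P ⊗ F')) :=
    isDerivedComplete_congr I (asIso (Q.map (φ ▷ F'))).symm
      (complete_tensor_bounded I F' E (isDerivedComplete_congr I e.symm hc) hF' hF'p)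
  have hterm : ∀ n, i - 1 ≤ n → Function.Bijective ((P ◁ ι).f n).hom := fun n hn => by
    refine whiskerLeft_f_bijective P ι n fun p q hpq => ?_
    by_cases hp : d < p
    · have h0 := ModuleCat.subsingleton_of_isZero ((tensorRight (F'.X q)).map_isZero (hP p hp))
      have h0' := ModuleCat.subsingleton_of_isZero ((tensorRight (F.X q)).map_isZero (hP p hp))
      exact ⟨fun x y _ => @Subsingleton.elim _ h0 x y, fun y => ⟨0, @Subsingleton.elim _ h0' _ y⟩⟩
    · have : IsIso (ι.f q) := (ConcreteCategory.isIso_iff_bijective _).2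
        ⟨Subtype.val_injective, fun x => ⟨⟨x, mem_truncSub (by omega) x⟩, rfl⟩⟩
      exact ConcreteCategory.bijective_of_isIso (P.X p ◁ ι.f q)
  have hiso : IsIso (HomologicalComplex.homologyMap (P ◁ ι) i) := by
    rw [isIso_homologyMap_iff]
    refine ⟨(homologyMap_injective_iff _ i (i - 1) (by omega)).2 fun z w hz hw => ?_,
      (homologyMap_surjective_iff _ i (i - 1) (by omega)).2 fun z hz => ?_⟩
    · obtain ⟨w', rfl⟩ := (hterm (i - 1) le_rfl).2 w
      exact ⟨w', (hterm i (by omega)).1 ((hom_d (P ◁ ι) (i - 1) i w').symm.trans hw.symm)⟩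
    · obtain ⟨z', rfl⟩ := (hterm i (by omega)).2 z
      refine ⟨z', 0, (isCyc_iff rfl z').2 ((hterm (i + 1) (by omega)).1 ?_), by rw [map_zero, add_zero]⟩
      rw [map_zero, ← hom_d]
      exact hz
  let e' : (HF i).obj (DRing.toD (P ⊗ F')) ≅ (HF i).obj (DRing.toD (P ⊗ F)) :=
    hIso (P ⊗ F') i ≪≫ asIso (HomologicalComplex.homologyMap (P ◁ ι) i) ≪≫ (hIso (P ⊗ F) i).symm
  exact isDerivedComplete_congr I ((DerivedCategory.singleFunctor (ModuleCat.{u} A) 0).mapIso e')
    ((DerComplete.isDerivedComplete_iff_homology I _).1 hc' i)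

variable [DRing.HasDerivedCompletion I]

/-- The main statement on representatives. -/
theorem exists_rep (hI : I.FG) {c : ℤ} (hFc : DRing.VanishesAbove F c) (hFf : DRing.TermwiseFiniteFree F)
    (K : Dual.D A) (b : ℤ) (hK : ∀ i : ℤ, b < i → Subsingleton (Dual.HD A K i)) :
    ∃ (P P' : DRing.Cx A) (g : P ⟶ P') (e : DRing.toD P ≅ K)
      (e' : DRing.toD P' ≅ ((DRing.derivedCompletion I).obj K).obj),
      P.IsKProjective ∧ P'.IsKProjective ∧
      Q.map g ≫ e'.hom = e.hom ≫ DRing.toDerivedCompletion I K ∧ IsUniversal I (Q.map (g ▷ F)) := by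
  obtain ⟨s, hs⟩ := hI
  have hK' : ∀ i, b < i → Subsingleton (Dual.HD A ((DRing.derivedCompletion I).obj K).obj i) := fun i hi =>
    (subsingleton_HD_iff_isZero _ i).2 (isZero_HF_completion I s hs K i fun j hj _ =>
      (subsingleton_HD_iff_isZero K j).1 (hK j (by omega)))
  obtain ⟨P, hP1, hP2, ⟨e⟩⟩ := ProjAmp.exists_freeRep K b hK
  obtain ⟨P', hP1', hP2', ⟨e'⟩⟩ := ProjAmp.exists_freeRep _ b hK'
  have hp : ∀ i, Module.Projective A (P.X i) := fun i => have := hP2 i; Module.Projective.of_free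
  have hp' : ∀ i, Module.Projective A (P'.X i) := fun i => have := hP2' i; Module.Projective.of_free
  have := isKProjective_of_projective P b hP1 hp
  have := isKProjective_of_projective P' b hP1' hp'
  obtain ⟨g, hg⟩ := exists_Q_map_eq (L := P') (e.hom ≫ DRing.toDerivedCompletion I K ≫ e'.inv)
  have hw : Q.map g ≫ e'.hom = e.hom ≫ DRing.toDerivedCompletion I K := by
    rw [hg, Category.assoc, Category.assoc, e'.inv_hom_id, Category.comp_id]
  have hu : IsUniversal I (Q.map g) :=
    isUniversal_of_arrow I (Q.map g) e.symm e'.symm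
      (by rw [Iso.symm_hom, Iso.symm_hom, hg, e.inv_hom_id_assoc]) (isUniversal_unit I K)
  exact ⟨P, P', g, e, e', inferInstance, inferInstance, hw,
    complete_tensor I F hP1' hp' hu.1 hFc hFf, fun X hX => bijective_whiskerRight I F g hu X hX⟩

/-- `K^∧ ⊗^L F` is the completion of `K ⊗^L F`. -/
theorem isUniversal_LTensorCx (hI : I.FG) [DRing.HasLTensorCx A F] {c : ℤ} (hFc : DRing.VanishesAbove F c)
    (hFf : DRing.TermwiseFiniteFree F) (K : Dual.D A) (b : ℤ)
    (hK : ∀ i : ℤ, b < i → Subsingleton (Dual.HD A K i)) :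
    IsUniversal I ((DRing.LTensorCx A F).map (DRing.toDerivedCompletion I K)) := by
  obtain ⟨P, P', g, e, e', hP, hP', hw, hu⟩ := exists_rep I F hI hFc hFf K b hK
  have hi := LTensor.isIso_toTensor F (KFlat.isKFlat_of_isKProjective P)
  have hi' := LTensor.isIso_toTensor F (KFlat.isKFlat_of_isKProjective P')
  have hnat : (DRing.LTensorCx A F).map (Q.map g) ≫ LTensor.toTensor F P' =
      LTensor.toTensor F P ≫ Q.map (g ▷ F) :=
    ((DRing.tensorCxQ A F).totalLeftDerivedCounit DerivedCategory.Q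
      (HomologicalComplex.quasiIso (ModuleCat.{u} A) (ComplexShape.up ℤ))).naturality g
  refine isUniversal_of_arrow I _ ((@asIso _ _ _ _ _ hi).symm ≪≫ (DRing.LTensorCx A F).mapIso e)
    ((@asIso _ _ _ _ _ hi').symm ≪≫ (DRing.LTensorCx A F).mapIso e') ?_ hu
  simp only [Iso.trans_hom, Iso.symm_hom, asIso_inv, Functor.mapIso_hom, Category.assoc]
  rw [← Functor.map_comp, ← hw, Functor.map_comp, IsIso.eq_inv_comp, ← Category.assoc, ← hnat,
    Category.assoc, IsIso.hom_inv_id_assoc]

/-- `K^∧ ⊗^L M` is the completion of `K ⊗^L M`. -/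
theorem isUniversal_LTensor [IsNoetherianRing A] (M : Type u) [AddCommGroup M] [Module A M]
    [Module.Finite A M] [DRing.HasLTensor A (ModuleCat.of A M)] (K : Dual.D A) (b : ℤ)
    (hK : ∀ i : ℤ, b < i → Subsingleton (Dual.HD A K i)) :
    IsUniversal I ((DRing.LTensor A (ModuleCat.of A M)).map (DRing.toDerivedCompletion I K)) := by
  have := Module.finitePresentation_of_finite A M
  obtain ⟨F, c, hFc, hFf, ⟨eF⟩⟩ := pcModule'_of_fp (hA := fun J hJ => Module.finitePresentation_of_finite A _) M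
  obtain ⟨P, P', g, e, e', hP, hP', hw, hu⟩ :=
    exists_rep I F (IsNoetherian.noetherian I) hFc hFf K b hK
  have := isKProjective_of_projective F c hFc fun i => have := (hFf i).2; Module.Projective.of_free
  let M0 := ModuleCat.of A M
  let e2 : DRing.toD F ≅ DRing.toD (SingleTensor.S0 M0) :=
    eF ≪≫ (singleFunctorIsoCompQ (ModuleCat.{u} A) 0).app M0
  obtain ⟨π, hπ⟩ := exists_Q_map_eq (L := SingleTensor.S0 M0) e2.hom
  have : QuasiIso π := (isIso_Q_map_iff_quasiIso (C := ModuleCat.{u} A) π).1 (by rw [hπ]; infer_instance)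
  let G := tensorRight M0
  have hi := LTensor.isIso_toTerm_LTensor M0 (KFlat.isKFlat_of_isKProjective P)
  have hi' := LTensor.isIso_toTerm_LTensor M0 (KFlat.isKFlat_of_isKProjective P')
  let cmp : ∀ R : DRing.Cx A, R ⊗ F ⟶ ((G.mapHomologicalComplex (ComplexShape.up ℤ)).obj R) := fun R =>
    R ◁ π ≫ (Tensor.braid R (SingleTensor.S0 M0)).hom ≫ (SingleTensor.iso M0 R).inv
  have hcq : ∀ (R : DRing.Cx A) [R.IsKProjective], IsIso (Q.map (cmp R)) := fun R _ => by
    have := KFlat.quasiIso_whiskerLeft (KFlat.isKFlat_of_isKProjective R) π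
    infer_instance
  have hcnat : g ▷ F ≫ cmp P' = cmp P ≫ (G.mapHomologicalComplex (ComplexShape.up ℤ)).map g := by
    have h1 : g ▷ SingleTensor.S0 M0 ≫ (Tensor.braid P' (SingleTensor.S0 M0)).hom =
        (Tensor.braid P (SingleTensor.S0 M0)).hom ≫ SingleTensor.S0 M0 ◁ g := by
      rw [Tensor.whiskerRight_eq, Category.assoc, Category.assoc, Iso.inv_hom_id, Category.comp_id]
    have h2 : (SingleTensor.iso M0 P).inv ≫ (G.mapHomologicalComplex (ComplexShape.up ℤ)).map g =
        SingleTensor.S0 M0 ◁ g ≫ (SingleTensor.iso M0 P').inv := by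
      rw [Iso.inv_comp_eq, ← Category.assoc, Iso.eq_comp_inv]
      exact SingleTensor.iso_natural M0 g
    simp only [cmp, Category.assoc, h2]
    rw [← Category.assoc, ← whisker_exchange, Category.assoc, reassoc_of% h1]
  let c1 := @asIso _ _ _ _ (Q.map (cmp P)) (hcq P)
  let c2 := @asIso _ _ _ _ (Q.map (cmp P')) (hcq P')
  refine isUniversal_of_arrow I _
    (c1 ≪≫ (@asIso _ _ _ _ _ hi).symm ≪≫ (DRing.LTensor A M0).mapIso e)
    (c2 ≪≫ (@asIso _ _ _ _ _ hi').symm ≪≫ (DRing.LTensor A M0).mapIso e') ?_ hu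
  have hnat := LTensor.toTerm_natural G g
  simp only [c1, c2, Iso.trans_hom, Iso.symm_hom, asIso_hom, asIso_inv, Functor.mapIso_hom, Category.assoc]
  rw [← Functor.map_comp_assoc, hcnat, Functor.map_comp_assoc, ← Functor.map_comp, ← hw, Functor.map_comp]
  congr 1
  rw [IsIso.eq_inv_comp, ← Category.assoc, ← hnat, Category.assoc, IsIso.hom_inv_id_assoc]
  exact ((DRing.LTensor A M0).map_comp _ _).symm

end Groth.Agent.DRing.CompletionTensor
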