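import Groth.Agent.DRing.TelComplex
import Groth.Agent.DTrunc.CohIn
import Groth.Prelude.Def_DDual2
import Mathlib.RingTheory.AdicCompletion.Basic
import Mathlib.RingTheory.Henselian
import Mathlib.Algebra.Polynomial.Identities
import Mathlib.RingTheory.Finiteness.Ideal
import Mathlib.RingTheory.Jacobson.Ideal

/-!
# Derived complete objects and modules
-/

universe u v

open CategoryTheory CategoryTheory.Limits DerivedCategory

attribute [local instance] HasDerivedCategory.standard

namespace Groth.Agent.DRing.DerComplete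

open Tel DBasic PC Homology TelComplex

variable {A : Type u} [CommRing A]

lemma isDerivedComplete_inD_iff_le (I : Ideal A) (M : Type u) [AddCommGroup M] [Module A M] :
    DRing.IsDerivedComplete I (Dual.inD A M) ↔ I ≤ telIdeal A M :=
  isDerivedComplete_inD_iff I M

/-- Completeness of an object is completeness of its cohomology. -/
theorem isDerivedComplete_iff_homology (I : Ideal A) (K : Dual.D A) :
    DRing.IsDerivedComplete I K ↔ ∀ i : ℤ, DRing.IsDerivedComplete I (Dual.inD A (Dual.HD A K i)) := by
  rw [isDerivedComplete_iff]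
  simp only [isDerivedComplete_inD_iff]
  exact ⟨fun h i f hf => h f hf i, fun h f hf i => h i f hf⟩

theorem subsingleton_hom_away_iff (K : Dual.D A) (f : A) :
    (∀ n : ℤ, Subsingleton (Dual.inD A (Localization.Away f) ⟶ (shiftFunctor (Dual.D A) n).obj K)) ↔
      ∀ i : ℤ, Tel.Tel (Dual.HD A K i) f := by
  simp only [subsingleton_hom_iff]
  constructor
  · intro h i
    refine ⟨(h i).1, ?_⟩
    have := (h (i + 1)).2
    rwa [add_sub_cancel_right] at this
  · exact fun h n => ⟨(h n).1, (h (n - 1)).2⟩

theorem exists_radical_ideal (K : Dual.D A) :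
    ∃ J : Ideal A, J.IsRadical ∧
      (J : Set A) =
        {f : A | ∀ n : ℤ, Subsingleton (Dual.inD A (Localization.Away f) ⟶
          (shiftFunctor (Dual.D A) n).obj K)} := by
  refine ⟨⨅ i : ℤ, telIdeal A (Dual.HD A K i), fun x ⟨n, hn⟩ => ?_, Set.ext fun f => ?_⟩
  · simp only [Submodule.mem_iInf] at hn ⊢
    exact fun i => telIdeal_isRadical ⟨n, hn i⟩
  · simp only [SetLike.mem_coe, Submodule.mem_iInf, Set.mem_ofPred_eq, subsingleton_hom_away_iff]
    rfl

section Restrict

variable {B : Type u} [CommRing B] (φ : A →+* B)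

lemma tel_restrict_iff (M : ModuleCat.{u} B) (f : A) :
    Tel.Tel ((ModuleCat.restrictScalars φ).obj M) f ↔ Tel.Tel M (φ f) := Iff.rfl

theorem isDerivedComplete_map_iff (I : Ideal A) (L : Dual.D B) :
    DRing.IsDerivedComplete (I.map φ) L ↔ DRing.IsDerivedComplete I ((DRing.restrictD φ).obj L) := by
  rw [isDerivedComplete_iff, isDerivedComplete_iff]
  have e : ∀ (i : ℤ) (f : A), Tel.Tel (Dual.HD A ((DRing.restrictD φ).obj L) i) f ↔
      Tel.Tel (Dual.HD B L i) (φ f) := fun i f =>
    (tel_congr_iff (DTrunc.homologyMapDerivedIso (ModuleCat.restrictScalars.{u} φ) L i).toLinearEquiv).trans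
      (tel_restrict_iff φ _ f)
  refine ⟨fun h f hf i => (e i f).2 (h _ (Ideal.mem_map_of_mem φ hf) i), fun h g hg i => ?_⟩
  have : I.map φ ≤ telIdeal B (Dual.HD B L i) := Ideal.map_le_iff_le_comap.2 fun f hf => (e i f).1 (h f hf i)
  exact this hg

end Restrict

variable {M : Type v} [AddCommGroup M] [Module A M]

lemma tel_finFun {f : A} (h : Tel.Tel A f) (n : ℕ) : Tel.Tel (Fin n → A) f :=
  tel_pi (fun _ : Fin n => A) fun _ => h

lemma tel_of_finiteFree {f : A} (h : Tel.Tel A f) (M : Type u) [AddCommGroup M] [Module A M]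
    [Module.Finite A M] [Module.Free A M] : Tel.Tel M f := by
  classical
  have e := (Module.Free.chooseBasis A M).equivFun
  exact tel_congr e.symm (tel_pi (fun _ : Module.Free.ChooseBasisIndex A M => A) fun _ => h)

/-- Pseudo-coherent objects over a derived complete ring. -/
theorem isDerivedComplete_of_pc (I : Ideal A) (hA : DRing.IsDerivedComplete I (Dual.inD A A))
    (K : Dual.D A) (hK : DRing.IsPseudoCoherent' A K) : DRing.IsDerivedComplete I K := by
  obtain ⟨E, b, -, hf, ⟨e⟩⟩ := hK
  rw [isDerivedComplete_inD_iff] at hA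
  rw [isDerivedComplete_iff]
  intro f hfI i
  have ht : ∀ j, Tel.Tel (E.X j) f := fun j =>
    have := (hf j).1; have := (hf j).2
    tel_of_finiteFree (hA f hfI) _
  let D := (E.d (i - 1) i).hom.codRestrict (LinearMap.ker (E.d i (i + 1)).hom)
    (fun w => d_d (K := E) _ _ _ w)
  have hker : LinearMap.range D = LinearMap.ker (clsLin E i) := by
    ext z
    refine (Iff.symm ((cls_eq_zero_iff (i - 1) (by omega) z.2).trans ?_))
    exact ⟨fun ⟨w, hw⟩ => ⟨w, Subtype.ext hw⟩, fun ⟨w, hw⟩ => ⟨w, congrArg Subtype.val hw⟩⟩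
  exact tel_congr (((Submodule.quotEquivOfEq _ _ hker).trans
    ((clsLin E i).quotKerEquivOfSurjective clsLin_surjective)).trans
      ((hIso E i).symm ≪≫ (HF i).mapIso e).toLinearEquiv)
    (tel_coker (ht _) (tel_ker (ht i) (ht (i + 1)) _) D)

/-- Derived Nakayama for modules. -/
theorem subsingleton_of_smul_top_eq_top (s : Finset A) :
    ∀ (M : Type v) [AddCommGroup M] [Module A M], (∀ f ∈ s, Tel.Tel M f) →
      Ideal.span (s : Set A) • (⊤ : Submodule A M) = ⊤ → Subsingleton M := by
  classical
  induction s using Finset.induction with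
  | empty =>
    intro M _ _ _ h
    refine subsingleton_of_forall_eq 0 fun m => ?_
    have : m ∈ Ideal.span ((∅ : Finset A) : Set A) • (⊤ : Submodule A M) := by rw [h]; trivial
    simpa using this
  | insert f s hf ih =>
    intro M _ _ ht h
    have hM := ht f (Finset.mem_insert_self f s)
    let q := (LinearMap.range (f • (LinearMap.id : M →ₗ[A] M))).mkQ
    have h2 : Subsingleton (M ⧸ LinearMap.range (f • (LinearMap.id : M →ₗ[A] M))) := by
      refine ih _ (fun g hg => tel_coker (ht g (Finset.mem_insert_of_mem hg))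
        (ht g (Finset.mem_insert_of_mem hg)) _) (eq_top_iff.2 fun x _ => ?_)
      obtain ⟨m, rfl⟩ := Submodule.mkQ_surjective _ x
      have hm : m ∈ Ideal.span ((insert f s : Finset A) : Set A) • (⊤ : Submodule A M) := by rw [h]; trivial
      refine Submodule.smul_induction_on hm (fun a ha n _ => ?_) (fun x y hx hy => by
        rw [map_add]; exact add_mem hx hy)
      rw [Finset.coe_insert, Ideal.mem_span_insert] at ha
      obtain ⟨c, b, hb, rfl⟩ := ha
      rw [add_smul, map_add]
      refine add_mem ?_ ?_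
      · have : q ((c * f) • n) = 0 := (Submodule.Quotient.mk_eq_zero _).2
          ⟨c • n, by simp [smul_smul, mul_comm]⟩
        exact this.symm ▸ Submodule.zero_mem _
      · rw [map_smul]
        exact Submodule.smul_mem_smul hb trivial
    refine subsingleton_of_surjective hM fun m => ?_
    obtain ⟨n, hn⟩ := (Submodule.Quotient.mk_eq_zero _).1 (Subsingleton.elim (q m) 0)
    exact ⟨n, hn⟩

theorem subsingleton_of_smul_top (I : Ideal A) (hI : I.FG) (hM : I ≤ telIdeal A M)
    (h : I • (⊤ : Submodule A M) = ⊤) : Subsingleton M := by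
  obtain ⟨s, rfl⟩ := hI
  exact subsingleton_of_smul_top_eq_top s M (fun f hf => hM (Ideal.subset_span hf)) h

lemma sum_triangle {G : Type*} [AddCommMonoid G] (F : ℕ → ℕ → G) (N : ℕ) :
    ∑ n ∈ Finset.range N, ∑ a ∈ Finset.range (n + 1), F a (n - a) =
      ∑ a ∈ Finset.range N, ∑ b ∈ Finset.range (N - a), F a b := by
  induction N with
  | zero => simp
  | succ N ih =>
    rw [Finset.sum_range_succ, ih, Finset.sum_range_succ _ N, ← add_assoc, ← Finset.sum_add_distrib,
      Finset.sum_range_succ _ N, show N + 1 - N = 1 by omega, Finset.sum_range_one, Nat.sub_self]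
    congr 1
    refine Finset.sum_congr rfl fun a ha => ?_
    rw [show N + 1 - a = (N - a) + 1 by have := Finset.mem_range.1 ha; omega, Finset.sum_range_succ]

section Adic

variable (I : Ideal A)

/-- An adically complete module is derived complete. -/
theorem tel_of_isAdicComplete [IsAdicComplete I M] {f : A} (hf : f ∈ I) : Tel.Tel M f := by
  refine tel_iff.2 ⟨fun x hx => funext fun k => ?_, fun m => ?_⟩
  · refine IsHausdorff.haus' (I := I) _ fun n => SModEq.zero.2 ?_
    have : ∀ n k, x k = f ^ n • x (k + n) := by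
      intro n
      induction n with
      | zero => simp
      | succ n ih => intro k; rw [ih k, hx (k + n), smul_smul, ← pow_succ, add_assoc]
    rw [this n k]
    exact Submodule.smul_mem_smul (Ideal.pow_mem_pow hf n) trivial
  · let S : ℕ → ℕ → M := fun k N => ∑ j ∈ Finset.range N, f ^ j • m (k + j)
    have hS : ∀ k {a b : ℕ}, a ≤ b → S k a ≡ S k b [SMOD (I ^ a • ⊤ : Submodule A M)] := by
      intro k a b hab
      rw [SModEq.sub_mem, ← neg_sub, Submodule.neg_mem_iff, ← Finset.sum_Ico_eq_sub _ hab]
      exact Submodule.sum_mem _ fun j hj => Submodule.smul_mem_smul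
        (Ideal.pow_le_pow_right (Finset.mem_Ico.1 hj).1 (Ideal.pow_mem_pow hf j)) trivial
    choose L hL using fun k => IsPrecomplete.prec' (I := I) (S k) (hS k)
    refine ⟨L, fun k => ?_⟩
    rw [← sub_eq_zero]
    refine IsHausdorff.haus' (I := I) _ fun n => SModEq.zero.2 ?_
    have h1 := SModEq.sub_mem.1 (hL k (n + 1))
    have h2 := SModEq.sub_mem.1 (hL (k + 1) n)
    have h3 : S k (n + 1) = m k + f • S (k + 1) n := by
      simp only [S, Finset.sum_range_succ', Finset.smul_sum, smul_smul, ← pow_succ', pow_zero,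
        one_smul, add_zero]
      rw [add_comm]
      congr 1
      exact Finset.sum_congr rfl fun j _ => by rw [add_assoc, add_comm j 1]
    have h4 : L k - f • L (k + 1) - m k = f • (S (k + 1) n - L (k + 1)) - (S k (n + 1) - L k) := by
      rw [h3, smul_sub]; abel
    rw [h4]
    exact sub_mem (Submodule.smul_mem _ f h2)
      (Submodule.smul_mono_left (Ideal.pow_le_pow_right (Nat.le_succ n)) h1)

/-- Series with terms deeper and deeper in `I` have sums. -/
lemma exists_sum (s : Finset A) : (∀ f ∈ s, Tel.Tel M f) →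
    ∀ d : ℕ → M, (∀ n, d n ∈ Ideal.span (s : Set A) ^ n • (⊤ : Submodule A M)) →
      ∃ y, ∀ N, y - ∑ n ∈ Finset.range N, d n ∈
        Ideal.span (s : Set A) ^ N • (⊤ : Submodule A M) := by
  classical
  induction s using Finset.induction with
  | empty =>
    intro _ d hd
    refine ⟨d 0, fun N => ?_⟩
    cases N with
    | zero => simp
    | succ N =>
      have h0 : ∀ n, n ≠ 0 → d n = 0 := fun n hn => by
        have := hd n
        rw [Finset.coe_empty, Ideal.span_empty, ← Ideal.zero_eq_bot, zero_pow hn] at this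
        simpa using this
      rw [Finset.sum_eq_single 0 (fun n _ hn => h0 n hn) (by simp), sub_self]
      exact zero_mem _
  | insert f s hf ih =>
    intro ht d hd
    let I' : Ideal A := Ideal.span (s : Set A)
    have hI : Ideal.span ((insert f s : Finset A) : Set A) = Ideal.span {f} ⊔ I' := by
      rw [Finset.coe_insert, Ideal.span_insert]
    rw [hI] at hd ⊢
    -- decomposition of each term by powers of `f`
    have key : ∀ n, ∀ x ∈ (Ideal.span {f} ⊔ I') ^ n • (⊤ : Submodule A M),
        ∃ e : ℕ → M, (∀ a, e a ∈ I' ^ (n - a) • (⊤ : Submodule A M)) ∧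
          ∑ a ∈ Finset.range (n + 1), f ^ a • e a = x := by
      intro n
      induction n with
      | zero => intro x _; exact ⟨fun _ => x, fun a => by simp, by simp⟩
      | succ n ihn =>
        intro x hx
        rw [pow_succ', mul_smul] at hx
        refine Submodule.smul_induction_on hx (fun c hc y hy => ?_) (fun x y ⟨e, he, hex⟩ ⟨e', he', hey⟩ =>
          ⟨e + e', fun a => add_mem (he a) (he' a), by simp [smul_add, Finset.sum_add_distrib, hex, hey]⟩)
        obtain ⟨e, he, rfl⟩ := ihn y hy
        obtain ⟨c1, hc1, c2, hc2, rfl⟩ := Submodule.mem_sup.1 hc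
        obtain ⟨t, rfl⟩ := Ideal.mem_span_singleton'.1 hc1
        refine ⟨fun a => (if a = 0 then 0 else t • e (a - 1)) + (if a ≤ n then c2 • e a else 0),
          fun a => add_mem ?_ ?_, ?_⟩
        · by_cases ha : a = 0
          · rw [if_pos ha]; exact zero_mem _
          · rw [if_neg ha, show n + 1 - a = n - (a - 1) by omega]
            exact Submodule.smul_mem _ t (he _)
        · by_cases ha : a ≤ n
          · rw [if_pos ha, show n + 1 - a = (n - a) + 1 by omega, pow_succ', mul_smul]
            exact Submodule.smul_mem_smul hc2 (he a)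
          · rw [if_neg ha]; exact zero_mem _
        · simp only [smul_add, Finset.sum_add_distrib, add_smul, Finset.smul_sum]
          congr 1
          · rw [Finset.sum_range_succ', if_pos rfl, smul_zero, add_zero]
            refine Finset.sum_congr rfl fun a _ => ?_
            rw [if_neg (by omega), Nat.add_sub_cancel, smul_smul, smul_smul, pow_succ]
            ring_nf
          · rw [Finset.sum_range_succ _ (n + 1), if_neg (by omega), smul_zero, add_zero]
            refine Finset.sum_congr rfl fun a ha => ?_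
            rw [if_pos (by simpa using ha), smul_comm]
    choose e he hesum using fun n => key n (d n) (hd n)
    choose z hz using fun a => ih (fun g hg => ht g (Finset.mem_insert_of_mem hg))
      (fun b => e (a + b) a) (fun b => by simpa using he (a + b) a)
    let hM := ht f (Finset.mem_insert_self f s)
    obtain ⟨x, hx⟩ := (tel_iff.1 hM).2 z
    refine ⟨x 0, fun N => ?_⟩
    have hexp : ∀ N, x 0 = (∑ a ∈ Finset.range N, f ^ a • z a) + f ^ N • x N := by
      intro N
      induction N with
      | zero => simp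
      | succ N ihN =>
        rw [ihN, Finset.sum_range_succ, add_assoc, ← hx N, smul_sub, smul_smul, ← pow_succ,
          sub_add_cancel]
    have hsum : ∑ n ∈ Finset.range N, d n =
        ∑ a ∈ Finset.range N, f ^ a • ∑ b ∈ Finset.range (N - a), e (a + b) a := by
      simp only [← hesum, Finset.smul_sum]
      rw [← sum_triangle (fun a b => f ^ a • e (a + b) a) N]
      refine Finset.sum_congr rfl fun n _ => Finset.sum_congr rfl fun a ha => ?_
      rw [Nat.add_sub_cancel' (Nat.lt_succ_iff.1 (Finset.mem_range.1 ha))]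
    rw [hexp N, hsum, add_sub_right_comm, ← Finset.sum_sub_distrib]
    refine add_mem (Submodule.sum_mem _ fun a ha => ?_) ?_
    · have ha' : a + (N - a) = N := Nat.add_sub_cancel' (Finset.mem_range.1 ha).le
      rw [← smul_sub, ← ha', pow_add, mul_smul, ha']
      exact Submodule.smul_mem_smul
        (Ideal.pow_mem_pow (le_sup_left (b := I') (Ideal.mem_span_singleton_self f)) a)
        (Submodule.smul_mono_left (Ideal.pow_right_mono le_sup_right _) (hz a (N - a)))
    · exact Submodule.smul_mem_smul
        (Ideal.pow_mem_pow (le_sup_left (b := I') (Ideal.mem_span_singleton_self f)) N) trivial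

variable (M) in
/-- The map to the completion is surjective. -/
theorem of_surjective (hI : I.FG) (hM : I ≤ telIdeal A M) :
    Function.Surjective (AdicCompletion.of I M) := by
  obtain ⟨s, rfl⟩ := hI
  intro ξ
  choose a ha using fun n ↦ Submodule.Quotient.mk_surjective _ (ξ.val n)
  let d : ℕ → M := fun n => Nat.rec (a 0) (fun k _ => a (k + 1) - a k) n
  have hsum : ∀ N, ∑ n ∈ Finset.range (N + 1), d n = a N := by
    intro N
    induction N with
    | zero => simp [d]
    | succ N ih => rw [Finset.sum_range_succ, ih]; simp [d]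
  obtain ⟨y, hy⟩ := exists_sum s (fun f hf => hM (Ideal.subset_span hf))
    (fun n => d (n + 1)) (fun n => by
      refine (Submodule.Quotient.mk_eq_zero _).1 ?_
      change (Submodule.Quotient.mk (a (n + 1) - a n) : M ⧸ _) = 0
      rw [Submodule.Quotient.mk_sub, sub_eq_zero, ha]
      have := ξ.2 (show n ≤ n + 1 by omega)
      rw [← ha (n + 1)] at this
      exact this)
  refine ⟨a 0 + y, AdicCompletion.ext fun N => ?_⟩
  rw [AdicCompletion.of_apply, ← ha N, Submodule.mkQ_apply, Submodule.Quotient.eq, ← hsum N,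
    Finset.sum_range_succ']
  have h := hy N
  convert h using 1
  simp only [d, Nat.rec_zero]
  abel

end Adic

/-- The kernel of completion squares to zero, one element at a time. -/
theorem iInf_span_pow_smul_eq_bot (f : A) (hM : Tel.Tel M f) :
    (⨅ n : ℕ, Ideal.span {f ^ n}) • (⨅ n : ℕ, (Ideal.span {f ^ n}) • (⊤ : Submodule A M)) =
      (⊥ : Submodule A M) := by
  rw [eq_bot_iff, Submodule.smul_le]
  intro a ha x hx
  choose c hc using fun n => Ideal.mem_span_singleton'.1 (Submodule.mem_iInf _ |>.1 ha n)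
  have hxy : ∀ n, ∃ y : M, f ^ n • y = x := fun n => by
    have := Submodule.mem_iInf _ |>.1 hx n
    rw [Submodule.ideal_span_singleton_smul, Submodule.mem_smul_pointwise_iff_exists] at this
    obtain ⟨y, -, hy⟩ := this
    exact ⟨y, hy⟩
  choose y hy using hxy
  have h0 := (tel_iff.1 hM).1 (fun k => c k • x) fun k => by
    rw [← sub_eq_zero, smul_smul, ← sub_smul, ← hy k, smul_smul]
    rw [show (c k - f * c (k + 1)) * f ^ k = 0 by
      rw [sub_mul, hc, show f * c (k + 1) * f ^ k = c (k + 1) * f ^ (k + 1) by ring, hc, sub_self],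
      zero_smul]
  rw [Submodule.mem_bot, ← hc 0, mul_smul, pow_zero, one_smul]
  exact congrFun h0 0

/-- Bounded power torsion along one element. -/
lemma exists_pow_smul_eq_zero {f : A} (hM : Tel.Tel M f) (ht : ∀ m : M, ∃ n : ℕ, f ^ n • m = 0) :
    ∃ n : ℕ, ∀ m : M, f ^ n • m = 0 := by
  by_contra hne
  push Not at hne
  have hdec : ∀ n, ∃ m : M, ∀ m' : M, f ^ n • m ≠ f ^ (n + 1) • m' := by
    intro n
    by_contra h
    push Not at h
    let R := LinearMap.range (f ^ n • (LinearMap.id : M →ₗ[A] M))
    have hR : Tel.Tel R f := by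
      refine tel_congr ((f ^ n • (LinearMap.id : M →ₗ[A] M)).quotKerEquivRange) ?_
      exact tel_congr (Submodule.quotEquivOfEq _ _ (Submodule.range_subtype _))
        (tel_coker (tel_ker hM hM (f ^ n • (LinearMap.id : M →ₗ[A] M))) hM
          (LinearMap.ker (f ^ n • (LinearMap.id : M →ₗ[A] M))).subtype)
    have hs : Subsingleton R := subsingleton_of_surjective hR fun ⟨_, m, rfl⟩ => by
      obtain ⟨m', hm'⟩ := h m
      exact ⟨⟨_, m', rfl⟩, Subtype.ext (by simp [smul_smul, ← pow_succ', hm'])⟩
    obtain ⟨m, hm⟩ := hne n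
    exact hm (congrArg Subtype.val (Subsingleton.elim (⟨_, m, rfl⟩ : R) 0))
  -- sums never annihilated by a power of `f`
  let Bad : ℕ → ℕ → M → Prop := fun k N P => ∀ w : M, f ^ k • P ≠ f ^ (k + N) • w
  have hstep : ∀ (k N : ℕ) (P : M), ∃ (N' : ℕ) (m : M), N ≤ N' ∧ Bad k (N' + 1) (P + f ^ N • m) := by
    intro k N P
    by_cases h : ∃ N', N ≤ N' ∧ Bad k (N' + 1) P
    · obtain ⟨N', h1, h2⟩ := h
      exact ⟨N', 0, h1, by simpa using h2⟩
    · push Not at h
      obtain ⟨m, hm⟩ := hdec (k + N)
      obtain ⟨w, hw⟩ := not_forall_not.1 (h N le_rfl)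
      refine ⟨N, m, le_rfl, fun w' hw' => hm (w' - w) ?_⟩
      rw [smul_add, hw, smul_smul, ← pow_add] at hw'
      rw [smul_sub, eq_sub_iff_add_eq, add_comm, show k + N + 1 = k + (N + 1) by omega, hw']
  choose N' m' hN' hbad using hstep
  let st : ℕ → ℕ × M := fun k => Nat.rec (0, 0)
    (fun k p => (N' k p.1 p.2 + 1, p.2 + f ^ p.1 • m' k p.1 p.2)) k
  have hmono : StrictMono fun k => (st k).1 := strictMono_nat_of_lt_succ fun k => by
    change (st k).1 < N' k (st k).1 (st k).2 + 1
    exact Nat.lt_succ_of_le (hN' _ _ _)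
  let μ : ℕ → M := fun j => Function.extend (fun k => (st k).1) (fun k => m' k (st k).1 (st k).2) 0 j
  have hpart : ∀ k, ∑ j ∈ Finset.range (st k).1, f ^ j • μ j = (st k).2 := by
    intro k
    induction k with
    | zero => simp [st]
    | succ k ih =>
      have hlt : (st k).1 < (st (k + 1)).1 := hmono (Nat.lt_succ_self k)
      rw [← Finset.sum_range_add_sum_Ico _ hlt.le, ih, Finset.sum_eq_single_of_mem (st k).1
        (Finset.left_mem_Ico.2 hlt) fun j hj hne => ?_]
      · change (st k).2 + f ^ (st k).1 • μ (st k).1 = (st k).2 + f ^ (st k).1 • m' k (st k).1 (st k).2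
        simp only [μ]
        rw [hmono.injective.extend_apply]
      · simp only [μ]
        rw [Function.extend_apply', Pi.zero_apply, smul_zero]
        rintro ⟨i, rfl⟩
        obtain ⟨h1, h2⟩ := Finset.mem_Ico.1 hj
        have h3 : k < i := hmono.lt_iff_lt.1 (lt_of_le_of_ne h1 (Ne.symm hne))
        have h4 : i < k + 1 := hmono.lt_iff_lt.1 h2
        omega
  obtain ⟨x, hx⟩ := (tel_iff.1 hM).2 μ
  have hexp : ∀ N, x 0 = (∑ a ∈ Finset.range N, f ^ a • μ a) + f ^ N • x N := by
    intro N
    induction N with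
    | zero => simp
    | succ N ihN =>
      rw [ihN, Finset.sum_range_succ, add_assoc, ← hx N, smul_sub, smul_smul, ← pow_succ, sub_add_cancel]
  obtain ⟨k, hk⟩ := ht (x 0)
  have h2 := congrArg (f ^ k • ·) (hexp (st (k + 1)).1)
  simp only [hpart, smul_add, hk, smul_smul, ← pow_add] at h2
  refine hbad k (st k).1 (st k).2 (-x (st (k + 1)).1) ?_
  rw [smul_neg, eq_neg_iff_add_eq_zero]
  exact h2.symm

theorem exists_pow_smul_top_eq_bot (I : Ideal A) (hI : I.FG) (hM : I ≤ telIdeal A M)
    (ht : ∀ m : M, ∃ n : ℕ, ∀ a ∈ I ^ n, a • m = 0) :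
    ∃ n : ℕ, I ^ n • (⊤ : Submodule A M) = ⊥ := by
  have hrad : I ≤ (Module.annihilator A M).radical := fun f hf => by
    obtain ⟨n, hn⟩ := exists_pow_smul_eq_zero (hM hf) fun m => by
      obtain ⟨n, hn⟩ := ht m
      exact ⟨n, hn _ (Ideal.pow_mem_pow hf n)⟩
    exact ⟨n, Module.mem_annihilator.2 hn⟩
  obtain ⟨n, hn⟩ := Ideal.exists_pow_le_of_le_radical_of_fg hrad hI
  exact ⟨n, eq_bot_iff.2 (Submodule.smul_le.2 fun a ha m _ =>
    (Submodule.mem_bot A).2 (Module.mem_annihilator.1 (hn ha) m))⟩

section Ring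

lemma tel_quotient {B : Type u} [CommRing B] {g : B} (hg : Tel.Tel B g) (h : B) :
    Tel.Tel (B ⧸ Ideal.span {h}) (Ideal.Quotient.mk (Ideal.span {h}) g) := by
  have := tel_congr (Submodule.quotEquivOfEq _ (Ideal.span {h}) (by
    ext x
    simp [Ideal.mem_span_singleton', mul_comm, eq_comm]))
    (tel_coker hg hg (h • (LinearMap.id : B →ₗ[B] B)))
  exact this

/-- `J ^ (2 ^ r) = 0` for derived complete rings. -/
theorem iInf_pow_eq_bot (r : ℕ) : ∀ (B : Type u) [CommRing B] (s : Finset B),
    s.card ≤ r → (∀ f ∈ s, Tel.Tel B f) → (⨅ n : ℕ, Ideal.span (s : Set B) ^ n) ^ (2 ^ r) = ⊥ := by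
  classical
  induction r with
  | zero =>
    intro B _ s hs _
    rw [Finset.card_eq_zero.1 (Nat.le_zero.1 hs), pow_zero, pow_one, eq_bot_iff]
    refine (iInf_le _ 1).trans ?_
    simp
  | succ r ih =>
    intro B _ s hs ht
    by_cases hs' : s.card ≤ r
    · refine eq_bot_iff.2 ((Ideal.pow_le_pow_right ?_).trans (le_of_eq (ih B s hs' ht)))
      exact Nat.pow_le_pow_right (by omega) (Nat.le_succ r)
    obtain ⟨f, t, hft, rfl, htc⟩ := Finset.card_eq_succ.1 (show s.card = r + 1 by omega)
    let J : Ideal B := ⨅ n : ℕ, Ideal.span ((insert f t : Finset B) : Set B) ^ n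
    have hle : ∀ m : ℕ, J ^ (2 ^ r) ≤ Ideal.span {f ^ m} := by
      intro m
      let q := Ideal.Quotient.mk (Ideal.span {f ^ m})
      have h0 := ih _ (t.image q) (Finset.card_image_le.trans (le_of_eq htc)) fun g hg => by
        obtain ⟨g', hg', rfl⟩ := Finset.mem_image.1 hg
        exact tel_quotient (ht g' (Finset.mem_insert_of_mem hg')) _
      have hJ : J.map q ≤ ⨅ n : ℕ, Ideal.span ((t.image q : Finset _) : Set _) ^ n := by
        refine le_iInf fun n => (Ideal.map_mono (iInf_le _ (m + n))).trans ?_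
        rw [Finset.coe_insert, Ideal.span_insert]
        refine (Ideal.map_mono Ideal.sup_pow_add_le_pow_sup_pow).trans ?_
        rw [Ideal.map_sup, Ideal.span_singleton_pow, Ideal.map_quotient_self, bot_sup_eq,
          Ideal.map_pow, Ideal.map_span, Finset.coe_image]
      have h1 : (J ^ (2 ^ r)).map q ≤ ⊥ := by
        rw [Ideal.map_pow]
        exact (Ideal.pow_right_mono hJ _).trans (le_of_eq h0)
      rw [le_bot_iff, Ideal.map_eq_bot_iff_le_ker, Ideal.mk_ker] at h1
      exact h1
    have h2 := iInf_span_pow_smul_eq_bot f (ht f (Finset.mem_insert_self f t))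
    rw [pow_succ 2 r, mul_two, pow_add, eq_bot_iff, ← h2, ← smul_eq_mul]
    exact Submodule.smul_mono (le_iInf hle) (le_iInf fun m =>
      (hle m).trans (le_of_eq (by rw [smul_eq_mul, Ideal.mul_top])))

variable {I : Ideal A}

lemma le_jacobson (hA : I ≤ telIdeal A A) : I ≤ Ideal.jacobson ⊥ := fun a ha =>
  Ideal.mem_jacobson_bot.2 fun y => by
    have h : Tel.Tel A (a * y) := hA (I.mul_mem_right y ha)
    have h' : Tel.Tel A (-(a * y)) := hA (I.neg_mem (I.mul_mem_right y ha))
    have := sol_eq h' (fun _ => (1 : A))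
    refine isUnit_iff_exists_inv.2 ⟨sol h' fun _ => (1 : A), ?_⟩
    rw [smul_eq_mul] at this
    change sol h' (fun _ => (1 : A)) = 1 + -(a * y) * sol h' (fun _ => (1 : A)) at this
    linear_combination this

theorem henselianRing (hA : I ≤ telIdeal A A) : HenselianRing A I where
  jac := le_jacobson hA
  is_henselian := fun p hp a₀ h0 hu => by
    classical
    let J : Ideal A := Ideal.span {p.eval a₀}
    have hJI : J ≤ I := (Ideal.span_singleton_le_iff_mem _).2 h0
    have hunit : ∀ x : A, x - a₀ ∈ J → IsUnit (p.derivative.eval x) := fun x hx => by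
      obtain ⟨v, hv⟩ := hu.exists_right_inv
      obtain ⟨v, rfl⟩ := Ideal.Quotient.mk_surjective v
      have h1 : p.derivative.eval x * v - 1 ∈ I := by
        rw [← Ideal.Quotient.eq, map_mul, map_one, ← hv]
        congr 1
        rw [← Polynomial.eval₂_at_apply, ← Polynomial.eval₂_at_apply,
          Ideal.Quotient.eq.2 (hJI hx)]
      have h2 := Ideal.mem_jacobson_bot.1 (le_jacobson hA h1) 1
      rw [mul_one, sub_add_cancel] at h2
      exact isUnit_of_mul_isUnit_left h2
    let st : ℕ → {x : A // x - a₀ ∈ J} := fun n => Nat.rec ⟨a₀, by simp⟩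
      (fun _ x => if h : x.1 - Ring.inverse (p.derivative.eval x.1) * p.eval x.1 - a₀ ∈ J
        then ⟨_, h⟩ else x) n
    have hst : ∀ n, p.eval (st n).1 ∈ J ^ (n + 1) ∧ (st (n + 1)).1 - (st n).1 ∈ J ^ (n + 1) ∧
        (st (n + 1)).1 = (st n).1 - Ring.inverse (p.derivative.eval (st n).1) * p.eval (st n).1 := by
      have hs : ∀ n, p.eval (st n).1 ∈ J ^ (n + 1) →
          (st (n + 1)).1 = (st n).1 - Ring.inverse (p.derivative.eval (st n).1) * p.eval (st n).1 := by
        intro n hn
        have : (st n).1 - Ring.inverse (p.derivative.eval (st n).1) * p.eval (st n).1 - a₀ ∈ J := by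
          rw [sub_right_comm]
          exact sub_mem (st n).2 (Ideal.mul_mem_left _ _ (Ideal.pow_le_self (by omega) hn))
        exact congrArg Subtype.val (dif_pos this)
      have h : ∀ n, p.eval (st n).1 ∈ J ^ (n + 1) := by
        intro n
        induction n with
        | zero => rw [zero_add, pow_one]; exact Ideal.mem_span_singleton_self _
        | succ n ih =>
          rw [hs n ih, sub_eq_add_neg]
          obtain ⟨k, hk⟩ := Polynomial.binomExpansion p (st n).1
            (-(Ring.inverse (p.derivative.eval (st n).1) * p.eval (st n).1))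
          rw [hk, mul_neg, ← mul_assoc, Ring.mul_inverse_cancel _ (hunit _ (st n).2), one_mul,
            add_neg_cancel, zero_add, neg_sq, mul_pow]
          refine Ideal.mul_mem_left _ _ (Ideal.mul_mem_left _ _ ?_)
          refine Ideal.pow_le_pow_right (show n + 1 + 1 ≤ (n + 1) * 2 by omega) ?_
          rw [pow_mul]
          exact Ideal.pow_mem_pow ih 2
      refine fun n => ⟨h n, ?_, hs n (h n)⟩
      rw [hs n (h n), sub_sub_cancel_left]
      exact (J ^ (n + 1)).neg_mem (Ideal.mul_mem_left _ _ (h n))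
    have hfg : J.FG := ⟨{p.eval a₀}, by simp [J]⟩
    obtain ⟨x, hx⟩ := of_surjective A J hfg (hJI.trans hA) (AdicCompletion.mk J A
      (AdicCompletion.AdicCauchySequence.mk J A (fun n => (st n).1) fun n => by
        rw [SModEq.sub_mem, ← neg_sub, Submodule.neg_mem_iff, smul_eq_mul, Ideal.mul_top]
        exact Ideal.pow_le_pow_right (Nat.le_succ n) (hst n).2.1))
    have hxn : ∀ n, x - (st n).1 ∈ J ^ n := fun n => by
      have h1 := congrArg (fun z : AdicCompletion J A => z.val n) hx
      have h2 : x - (st n).1 ∈ J ^ n • (⊤ : Submodule A A) := (Submodule.Quotient.eq _).1 h1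
      rwa [smul_eq_mul, Ideal.mul_top] at h2
    have hx0 : x - a₀ ∈ J := by
      have := add_mem (Ideal.pow_le_self one_ne_zero (hxn 1)) (st 1).2
      rwa [sub_add_sub_cancel] at this
    have hpx : ∀ n, p.eval x ∈ Ideal.span {p.eval a₀ ^ n} := fun n => by
      rw [← Ideal.span_singleton_pow]
      obtain ⟨z, hz⟩ := Polynomial.sub_dvd_eval_sub x (st n).1 p
      rw [← sub_add_cancel (p.eval x) (p.eval (st n).1), hz]
      exact add_mem (Ideal.mul_mem_right _ _ (hxn n))
        (Ideal.pow_le_pow_right (Nat.le_succ n) (hst n).1)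
    have hsq : p.eval x ^ 2 = 0 := by
      have h := iInf_span_pow_smul_eq_bot (p.eval a₀) (hA h0)
      rw [← Submodule.mem_bot A, ← h, sq, ← smul_eq_mul]
      refine Submodule.smul_mem_smul (Submodule.mem_iInf _ |>.2 hpx) (Submodule.mem_iInf _ |>.2 fun n => ?_)
      rw [smul_eq_mul, Ideal.mul_top]
      exact hpx n
    refine ⟨x + -(Ring.inverse (p.derivative.eval x) * p.eval x), ?_, ?_⟩
    · obtain ⟨k, hk⟩ := Polynomial.binomExpansion p x (-(Ring.inverse (p.derivative.eval x) * p.eval x))
      rw [Polynomial.IsRoot, hk, mul_neg, ← mul_assoc, Ring.mul_inverse_cancel _ (hunit x hx0), one_mul,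
        add_neg_cancel, zero_add, neg_sq, mul_pow, hsq, mul_zero, mul_zero]
    · rw [← sub_eq_add_neg, sub_right_comm]
      refine hJI (sub_mem hx0 (Ideal.mul_mem_left _ _ ?_))
      simpa using hpx 1

theorem isAdicComplete_of_isReduced [IsReduced A] (hI : I.FG) (hA : I ≤ telIdeal A A) :
    IsAdicComplete I A := by
  have hH : IsHausdorff I A := ⟨fun x hx => by
    obtain ⟨s, rfl⟩ := hI
    have h := iInf_pow_eq_bot s.card A s le_rfl fun f hf => hA (Ideal.subset_span hf)
    have hxm : x ∈ ⨅ n : ℕ, Ideal.span (s : Set A) ^ n := Submodule.mem_iInf _ |>.2 fun n => by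
      have := SModEq.zero.1 (hx n)
      rwa [smul_eq_mul, Ideal.mul_top] at this
    have := Ideal.pow_mem_pow hxm (2 ^ s.card)
    rw [h, Submodule.mem_bot] at this
    exact IsReduced.eq_zero x ⟨_, this⟩⟩
  have hP : IsPrecomplete I A := ⟨fun a ha => by
    obtain ⟨x, hx⟩ := of_surjective A I hI hA (AdicCompletion.mk I A
      (AdicCompletion.AdicCauchySequence.mk I A a fun n => ha (Nat.le_succ n)))
    exact ⟨x, fun n => ((Submodule.Quotient.eq _).1
      (congrArg (fun z : AdicCompletion I A => z.val n) hx)) |> fun h => (SModEq.sub_mem.2 h).symm⟩⟩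
  exact { toIsHausdorff := hH, toIsPrecomplete := hP }

end Ring

end Groth.Agent.DRing.DerComplete
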