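import Groth.Agent.DRing.DerivedNakayama
import Groth.Agent.DHA.KInjectiveResolution
import Mathlib.Algebra.Homology.DerivedCategory.KInjective
import Mathlib.CategoryTheory.Triangulated.Orthogonal

/-!
# Existence of derived completion
-/

universe u

open CategoryTheory CategoryTheory.Limits CategoryTheory.Pretriangulated DerivedCategory
  MonoidalCategory

attribute [local instance] HasDerivedCategory.standard

namespace Groth.Agent.DRing.Completion

open DBasic Homology PC TelComplex
open scoped TensorProduct

variable {A : Type u} [CommRing A] (f g : A)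

/-- `M ↦ Hom(A_f, M)`. -/
noncomputable def Hm : ModuleCat.{u} A ⥤ ModuleCat.{u} A where
  obj M := ModuleCat.of A (Localization.Away f →ₗ[A] M)
  map {M N} v := ModuleCat.ofHom (LinearMap.llcomp A (Localization.Away f) M N v.hom)

instance : (Hm f).Additive where
  map_add {M N v w} := ModuleCat.hom_ext (LinearMap.ext fun x => LinearMap.ext fun y => rfl)

/-- Evaluation at `1`. -/
noncomputable def ev : Hm f ⟶ 𝟭 (ModuleCat.{u} A) where
  app M := ModuleCat.ofHom (LinearMap.applyₗ (1 : Localization.Away f))
  naturality _ _ _ := rfl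

/-- Multiplication by `f` is bijective. -/
def IsBij (M : ModuleCat.{u} A) : Prop := Function.Bijective fun x : M => f • x

lemma isBij_away : IsBij f (ModuleCat.of A (Localization.Away f)) := by
  refine Function.bijective_iff_has_inverse.2
    ⟨fun x => IsLocalization.Away.invSelf f * x, fun x => ?_, fun x => ?_⟩
  · change IsLocalization.Away.invSelf f * (f • (x : Localization.Away f)) = x
    rw [Algebra.smul_def, ← mul_assoc, mul_comm (IsLocalization.Away.invSelf f),
      IsLocalization.Away.mul_invSelf, one_mul]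
  · change f • (IsLocalization.Away.invSelf f * (x : Localization.Away f)) = x
    rw [Algebra.smul_def, ← mul_assoc, IsLocalization.Away.mul_invSelf, one_mul]

lemma isBij_Hm (M : ModuleCat.{u} A) : IsBij f ((Hm f).obj M) := by
  change Function.Bijective fun x : Localization.Away f →ₗ[A] M => f • x
  refine Function.bijective_iff_has_inverse.2
    ⟨fun x => x ∘ₗ LinearMap.mulLeft A (IsLocalization.Away.invSelf f : Localization.Away f),
      fun x => LinearMap.ext fun b => ?_, fun x => LinearMap.ext fun b => ?_⟩
  · change f • x (IsLocalization.Away.invSelf f * b) = x b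
    rw [← map_smul, Algebra.smul_def, ← mul_assoc, IsLocalization.Away.mul_invSelf, one_mul]
  · change f • x (IsLocalization.Away.invSelf f * b) = x b
    rw [← map_smul, Algebra.smul_def, ← mul_assoc, IsLocalization.Away.mul_invSelf, one_mul]

lemma bijective_ev {M : ModuleCat.{u} A} (h : IsBij f M) :
    Function.Bijective ((ev f).app M).hom := by
  have hu : ∀ s : Submonoid.powers f, IsUnit ((algebraMap A (Module.End A M)) s) := by
    rintro ⟨_, k, rfl⟩
    simp only [map_pow]
    exact ((Module.End.isUnit_iff (algebraMap A (Module.End A M) f)).2 (by exact h)).pow k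
  constructor
  · intro (x : Localization.Away f →ₗ[A] M) (y : Localization.Away f →ₗ[A] M) hxy
    exact IsLocalizedModule.ext (Submonoid.powers f) (Algebra.linearMap A (Localization.Away f)) hu
      (LinearMap.ext_ring ((congrArg x (map_one (algebraMap A (Localization.Away f)))).trans (Eq.trans hxy (congrArg y (map_one (algebraMap A (Localization.Away f)))).symm)))
  · intro m
    refine ⟨IsLocalizedModule.lift (Submonoid.powers f) (Algebra.linearMap A (Localization.Away f))
      (LinearMap.toSpanSingleton A M m) hu, ?_⟩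
    have := IsLocalizedModule.lift_apply (Submonoid.powers f)
      (Algebra.linearMap A (Localization.Away f)) (LinearMap.toSpanSingleton A M m) hu 1
    rw [Algebra.linearMap_apply, map_one, LinearMap.toSpanSingleton_apply, one_smul] at this
    exact this

lemma isIso_ev {M : ModuleCat.{u} A} (h : IsBij f M) : IsIso ((ev f).app M) :=
  (ConcreteCategory.isIso_iff_bijective _).2 (bijective_ev f h)

lemma map_ev (M : ModuleCat.{u} A) : (Hm f).map ((ev f).app M) = (ev f).app ((Hm f).obj M) := by
  refine ModuleCat.hom_ext (LinearMap.ext fun (G : Localization.Away f →ₗ[A]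
    (Localization.Away f →ₗ[A] M)) => LinearMap.ext fun (x : Localization.Away f) => ?_)
  change G x 1 = G 1 x
  obtain ⟨a, p, rfl⟩ := IsLocalization.exists_mk'_eq (Submonoid.powers f) x
  let y : Localization.Away f := IsLocalization.mk' _ a p
  let r : Localization.Away f := IsLocalization.mk' _ (1 : A) p
  have h1 : (p : A) • r = (1 : Localization.Away f) := by
    rw [Algebra.smul_def]; exact (IsLocalization.mk'_spec' _ (1 : A) _).trans (map_one _)
  have h2 : (p : A) • y = a • (1 : Localization.Away f) := by
    rw [Algebra.smul_def, Algebra.smul_def, mul_one]; exact IsLocalization.mk'_spec' _ a _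
  have h3 : a • r = y := by
    rw [Algebra.smul_def]; exact (IsLocalization.mk'_eq_mul_mk'_one a p).symm
  calc G y 1 = G y ((p : A) • r) := by rw [h1]
    _ = ((p : A) • G y) r := by rw [map_smul]; rfl
    _ = G ((p : A) • y) r := by rw [map_smul]
    _ = a • G 1 r := by rw [h2, map_smul]; rfl
    _ = G 1 y := by rw [← map_smul, h3]

/-- `Hom(A_g, Hom(A_f, M)) ≅ Hom(A_f, Hom(A_g, M))`. -/
noncomputable def swapIso : Hm f ⋙ Hm g ≅ Hm g ⋙ Hm f :=
  NatIso.ofComponents (fun M =>
    (show (Localization.Away g →ₗ[A] Localization.Away f →ₗ[A] M) ≃ₗ[A]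
        (Localization.Away f →ₗ[A] Localization.Away g →ₗ[A] M) from
      { toFun := LinearMap.flip
        invFun := LinearMap.flip
        left_inv := fun _ => rfl
        right_inv := fun _ => rfl
        map_add' := fun _ _ => rfl
        map_smul' := fun _ _ => rfl }).toModuleIso) fun _ => rfl

/-- `- ⊗ A_f ⊣ Hom(A_f, -)`. -/
noncomputable def adjH : tensorRight (ModuleCat.of A (Localization.Away f)) ⊣ Hm f :=
  Adjunction.mkOfHomEquiv
    { homEquiv := fun Y M =>
        { toFun := fun v => ModuleCat.ofHom (Y := (Hm f).obj M)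
            (_root_.TensorProduct.curry (v.hom : Y ⊗[A] Localization.Away f →ₗ[A] M))
          invFun := fun w => ModuleCat.ofHom (X := (Y ⊗[A] Localization.Away f)) (Y := M)
            (_root_.TensorProduct.lift (w.hom : Y →ₗ[A] Localization.Away f →ₗ[A] M))
          left_inv := fun v => ModuleCat.hom_ext (_root_.TensorProduct.ext' fun _ _ => rfl)
          right_inv := fun w => ModuleCat.hom_ext (LinearMap.ext fun _ => LinearMap.ext fun _ => rfl) }
      homEquiv_naturality_left_symm := fun _ _ =>
        ModuleCat.hom_ext (_root_.TensorProduct.ext' fun _ _ => rfl)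
      homEquiv_naturality_right := fun _ _ =>
        ModuleCat.hom_ext (LinearMap.ext fun _ => LinearMap.ext fun _ => rfl) }

section Contr

/-- A complex which is zero in the homotopy category. -/
def Contr (P : DRing.Cx A) : Prop :=
  IsZero ((HomotopyCategory.quotient (ModuleCat.{u} A) (ComplexShape.up ℤ)).obj P)

/-- The projection to the homotopy category. -/
noncomputable abbrev qA (A : Type u) [CommRing A] :=
  HomotopyCategory.quotient (ModuleCat.{u} A) (ComplexShape.up ℤ)

lemma contr_of_homotopy {P : DRing.Cx A} (H : Homotopy (𝟙 P) 0) : Contr P := by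
  rw [Contr, IsZero.iff_id_eq_zero, ← CategoryTheory.Functor.map_id,
    HomotopyCategory.eq_of_homotopy _ _ H, Functor.map_zero]

lemma contr_of_iso {P P' : DRing.Cx A} (e : P ≅ P') (h : Contr P) : Contr P' :=
  IsZero.of_iso h ((qA A).mapIso e.symm)

lemma contr_map (F : ModuleCat.{u} A ⥤ ModuleCat.{u} A) [F.Additive] {P : DRing.Cx A}
    (h : Contr P) : Contr ((F.mapHomologicalComplex (ComplexShape.up ℤ)).obj P) := by
  have h' : (qA A).map (𝟙 P) = (qA A).map 0 := h.eq_of_src _ _
  have H := F.mapHomotopy (HomotopyCategory.homotopyOfEq _ _ h')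
  rw [CategoryTheory.Functor.map_id, Functor.map_zero] at H
  exact contr_of_homotopy H

lemma contr_cone {P P' : DRing.Cx A} (v : P ⟶ P') (h : Contr P) (h' : Contr P') :
    Contr (CochainComplex.mappingCone v) :=
  Triangle.isZero₃_of_isIso₁ (CochainComplex.mappingCone.triangleh v)
    (HomotopyCategory.mappingCone_triangleh_distinguished v)
    (isIso_of_source_target_iso_zero _ h.isoZero h'.isoZero)

lemma contr_cone_of_isIso {P P' : DRing.Cx A} (v : P ⟶ P') [IsIso v] :
    Contr (CochainComplex.mappingCone v) :=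
  Triangle.isZero₃_of_isIso₁ (CochainComplex.mappingCone.triangleh v)
    (HomotopyCategory.mappingCone_triangleh_distinguished v)
    (inferInstanceAs (IsIso ((qA A).map v)))

lemma isKInjective_mappingCone {P P' : DRing.Cx A} (v : P ⟶ P') [P.IsKInjective] [P'.IsKInjective] :
    (CochainComplex.mappingCone v).IsKInjective := by
  rw [CochainComplex.isKInjective_iff_rightOrthogonal]
  exact ObjectProperty.ext_of_isTriangulatedClosed₃ _ (CochainComplex.mappingCone.triangleh v)
    (HomotopyCategory.mappingCone_triangleh_distinguished v)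
    (CochainComplex.IsKInjective.rightOrthogonal P) (CochainComplex.IsKInjective.rightOrthogonal P')

/-- `Hom(A_f, -)` on complexes. -/
noncomputable abbrev HC : DRing.Cx A ⥤ DRing.Cx A :=
  (Hm f).mapHomologicalComplex (ComplexShape.up ℤ)

/-- Evaluation at `1` on complexes. -/
noncomputable abbrev evC (E : DRing.Cx A) : (HC f).obj E ⟶ E :=
  (NatTrans.mapHomologicalComplex (ev f) (ComplexShape.up ℤ)).app E

instance isKInjective_HC (E : DRing.Cx A) [E.IsKInjective] : ((HC f).obj E).IsKInjective where
  nonempty_homotopy_zero {Y} v hY := by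
    let adj := DerivedAdj.mapHomotopyCategoryAdj (adjH f)
    have hL : ((((tensorRight (ModuleCat.of A (Localization.Away f))).mapHomologicalComplex
        (ComplexShape.up ℤ))).obj Y).Acyclic := fun i => by
      have := hY i
      rw [HomologicalComplex.exactAt_iff, ShortComplex.ShortExact.moduleCat_exact_iff_function_exact] at this ⊢
      exact Module.Flat.rTensor_exact (Localization.Away f) this
    let v' := (adj.homEquiv ((qA A).obj Y) ((qA A).obj E)).symm ((qA A).map v)
    obtain ⟨w, hw⟩ := (qA A).map_surjective (show (qA A).obj (((tensorRight (ModuleCat.of A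
      (Localization.Away f))).mapHomologicalComplex (ComplexShape.up ℤ)).obj Y) ⟶ (qA A).obj E from v')
    have h0 : v' = 0 := by
      refine hw.symm.trans ?_
      rw [HomotopyCategory.eq_of_homotopy w 0
        (CochainComplex.IsKInjective.homotopyZero w hL), Functor.map_zero]
      rfl
    have h1 : (qA A).map v = adj.homEquiv ((qA A).obj Y) ((qA A).obj E) v' := (Equiv.apply_symm_apply _ _).symm
    rw [h0] at h1
    refine ⟨HomotopyCategory.homotopyOfEq _ _ (h1.trans ?_)⟩
    erw [Adjunction.homEquiv_unit, Functor.map_zero, comp_zero, Functor.map_zero]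
    rfl

/-- A complex on whose terms `f` acts bijectively. -/
def CxBij (X : DRing.Cx A) : Prop := ∀ i, IsBij f (X.X i)

lemma cxBij_HC (E : DRing.Cx A) : CxBij f ((HC f).obj E) := fun i => isBij_Hm f (E.X i)

lemma cxBij_sgl {M : ModuleCat.{u} A} (h : IsBij f M) (n : ℤ) : CxBij f (sgl n M) := by
  intro i
  by_cases hi : i = n
  · subst hi
    let σ := (HomologicalComplex.singleObjXSelf (ComplexShape.up ℤ) i M).toLinearEquiv
    have : (fun x : (sgl i M).X i => f • x) = σ.symm ∘ (fun x : M => f • x) ∘ σ :=
      funext fun x => by simp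
    rw [IsBij, this]
    exact σ.symm.bijective.comp (h.comp σ.bijective)
  · have := ModuleCat.subsingleton_of_isZero
      (HomologicalComplex.isZero_single_obj_X (ComplexShape.up ℤ) n M i hi)
    exact ⟨fun _ _ _ => Subsingleton.elim _ _, fun y => ⟨y, Subsingleton.elim _ _⟩⟩

lemma q_map_eq_zero {E X : DRing.Cx A} (hE : Contr ((HC f).obj E)) (hX : CxBij f X) (v : X ⟶ E) :
    (qA A).map v = 0 := by
  have : ∀ i, IsIso ((evC f X).f i) := fun i => isIso_ev f (hX i)
  have : IsIso (evC f X) := HomologicalComplex.Hom.isIso_of_components (evC f X)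
  have h : v = inv (evC f X) ≫ (HC f).map v ≫ evC f E := by
    rw [IsIso.eq_inv_comp]
    exact ((NatTrans.mapHomologicalComplex (ev f) (ComplexShape.up ℤ)).naturality v).symm
  rw [h, Functor.map_comp, Functor.map_comp, hE.eq_of_tgt ((qA A).map ((HC f).map v)) 0, zero_comp,
    comp_zero]

lemma subsingleton_Q_hom {E X : DRing.Cx A} [E.IsKInjective] (hE : Contr ((HC f).obj E))
    (hX : CxBij f X) : Subsingleton (Q.obj X ⟶ Q.obj E) :=
  subsingleton_of_forall_eq 0 fun φ => by
    obtain ⟨v, rfl⟩ := InjAmp.exists_Q_map_eq_inj φ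
    rw [← Functor.map_zero (Q (C := ModuleCat.{u} A)), InjAmp.Q_map_eq_iff_inj]
    exact ⟨HomotopyCategory.homotopyOfEq _ _ ((q_map_eq_zero f hE hX v).trans (Functor.map_zero _ _ _).symm)⟩

theorem complete_iff_contr (E : DRing.Cx A) [E.IsKInjective] :
    (∀ n : ℤ, Subsingleton (Dual.inD A (Localization.Away f) ⟶
      (shiftFunctor (Dual.D A) n).obj (DRing.toD E))) ↔ Contr ((HC f).obj E) := by
  constructor
  · intro h
    refine contr_of_homotopy (CochainComplex.IsKInjective.homotopyZero (𝟙 ((HC f).obj E)) fun i => ?_)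
    refine (exactAt_iff_forall i (i - 1) (by omega)).2 fun z hz => ?_
    let z' : Localization.Away f →ₗ[A] E.X i := z
    let S := sgl i (ModuleCat.of A (Localization.Away f))
    let v : S ⟶ E := HomologicalComplex.mkHomFromSingle (ModuleCat.ofHom z')
      (fun k (hk : i + 1 = k) => ModuleCat.hom_ext (LinearMap.congr_fun ((isCyc_iff hk z).1 hz) |>
        fun h => LinearMap.ext h))
    have hs := (InjAmp.subsingleton_ext_iff (DRing.toD E) (Localization.Away f) i).1 (h i)
    obtain ⟨H⟩ := (InjAmp.Q_map_eq_iff_inj v 0).1 (hs.elim _ _)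
    let σ := HomologicalComplex.singleObjXSelf (ComplexShape.up ℤ) i (ModuleCat.of A (Localization.Away f))
    refine ⟨(σ.inv ≫ H.hom i (i - 1)).hom, LinearMap.ext fun b => ?_⟩
    have hc := H.comm i
    rw [dNext_eq H.hom (show (ComplexShape.up ℤ).Rel i (i + 1) from rfl),
      prevD_eq H.hom (show (ComplexShape.up ℤ).Rel (i - 1) i by simp),
      HomologicalComplex.single_obj_d, zero_comp, zero_add, HomologicalComplex.zero_f, add_zero] at hc
    rw [show v.f i = σ.hom ≫ ModuleCat.ofHom z' from HomologicalComplex.mkHomFromSingle_f _ _,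
      ← σ.eq_inv_comp] at hc
    exact (LinearMap.congr_fun (congrArg ModuleCat.Hom.hom hc) b).symm
  · intro hE n
    exact (InjAmp.subsingleton_ext_iff (DRing.toD E) (Localization.Away f) n).2
      (subsingleton_Q_hom f hE (cxBij_sgl f (isBij_away f) n))

lemma complete_congr {K L : Dual.D A} (e : K ≅ L) (n : ℤ) :
    Subsingleton (Dual.inD A (Localization.Away f) ⟶ (shiftFunctor (Dual.D A) n).obj K) ↔
      Subsingleton (Dual.inD A (Localization.Away f) ⟶ (shiftFunctor (Dual.D A) n).obj L) :=
  (Iso.homCongr (Iso.refl _) ((shiftFunctor (Dual.D A) n).mapIso e)).subsingleton_congr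

/-- The completion at `f`. -/
noncomputable abbrev cpl (E : DRing.Cx A) : DRing.Cx A := CochainComplex.mappingCone (evC f E)

lemma contr_cpl (E : DRing.Cx A) : Contr ((HC f).obj (cpl f E)) := by
  refine contr_of_iso (CochainComplex.mappingCone.mapHomologicalComplexIso (evC f E) (Hm f)).symm ?_
  have : ∀ i, IsIso (((HC f).map (evC f E)).f i) := fun i => by
    change IsIso ((Hm f).map ((ev f).app (E.X i)))
    rw [map_ev]
    exact isIso_ev f (isBij_Hm f _)
  have := HomologicalComplex.Hom.isIso_of_components ((HC f).map (evC f E))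
  exact contr_cone_of_isIso _

lemma contr_cpl_of_contr (E : DRing.Cx A) (h : Contr ((HC g).obj E)) :
    Contr ((HC g).obj (cpl f E)) := by
  refine contr_of_iso (CochainComplex.mappingCone.mapHomologicalComplexIso (evC f E) (Hm g)).symm ?_
  refine contr_cone _ ?_ h
  exact contr_of_iso (((NatIso.mapHomologicalComplex (swapIso g f) (ComplexShape.up ℤ)).app E))
    (contr_map (Hm f) h)

lemma bijective_cpl (E L : DRing.Cx A) [L.IsKInjective] (h : Contr ((HC f).obj L)) :
    Function.Bijective fun v : Q.obj (cpl f E) ⟶ Q.obj L =>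
      Q.map (CochainComplex.mappingCone.inr (evC f E)) ≫ v := by
  let T := DerivedCategory.Q.mapTriangle.obj (CochainComplex.mappingCone.triangle (evC f E))
  have hT : T ∈ distinguishedTriangles := mappingCone_triangle_distinguished (evC f E)
  have h0 : ∀ w : T.obj₁ ⟶ Q.obj L, w = 0 :=
    fun w => (subsingleton_Q_hom f h (cxBij_HC f E)).elim _ _
  have h1 : ∀ w : (shiftFunctor (Dual.D A) (1 : ℤ)).obj T.obj₁ ⟶ Q.obj L, w = 0 := fun w => by
    let c := ((Q (C := ModuleCat.{u} A)).commShiftIso (1 : ℤ)).app ((HC f).obj E)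
    have hb : CxBij f (((HC f).obj E)⟦(1 : ℤ)⟧) := fun i => isBij_Hm f (E.X (i + 1))
    refine (cancel_epi c.hom).1 ?_
    exact (subsingleton_Q_hom f h hb).elim _ _
  constructor
  · intro v w hvw
    rw [← sub_eq_zero]
    obtain ⟨k, hk⟩ := Triangle.yoneda_exact₃ T hT (v - w) (by
      change Q.map (CochainComplex.mappingCone.inr (evC f E)) ≫ (v - w) = 0
      rw [Preadditive.comp_sub, sub_eq_zero]
      exact hvw)
    rw [hk, h1 k, comp_zero]; rfl
  · intro w
    obtain ⟨k, hk⟩ := Triangle.yoneda_exact₂ T hT w (h0 _)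
    exact ⟨k, hk.symm⟩

theorem exists_completion (s : Finset A) (E : DRing.Cx A) [E.IsKInjective] :
    ∃ C : DRing.Cx A, C.IsKInjective ∧ (∀ f ∈ s, Contr ((HC f).obj C)) ∧
      (∀ g : A, Contr ((HC g).obj E) → Contr ((HC g).obj C)) ∧
      ∃ ι : E ⟶ C, ∀ L : DRing.Cx A, L.IsKInjective → (∀ f ∈ s, Contr ((HC f).obj L)) →
        Function.Bijective fun v : Q.obj C ⟶ Q.obj L => Q.map ι ≫ v := by
  classical
  induction s using Finset.induction with
  | empty =>
    exact ⟨E, inferInstance, fun f hf => absurd hf (Finset.notMem_empty f), fun _ h => h, 𝟙 E,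
      fun L _ _ => ⟨fun v w h => by simpa using h, fun w => ⟨w, by simp⟩⟩⟩
  | insert f s hf ih =>
    obtain ⟨C, hC, h1, h2, ι, h3⟩ := ih
    refine ⟨cpl f C, isKInjective_mappingCone _, fun g hg => ?_,
      fun g hg => contr_cpl_of_contr f g C (h2 g hg),
      ι ≫ CochainComplex.mappingCone.inr (evC f C), fun L hL hLs => ?_⟩
    · rcases Finset.mem_insert.1 hg with rfl | hg
      · exact contr_cpl g C
      · exact contr_cpl_of_contr f g C (h1 g hg)
    · have := (h3 L hL fun g hg => hLs g (Finset.mem_insert_of_mem hg)).comp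
        (bijective_cpl f C L (hLs f (Finset.mem_insert_self f s)))
      convert this using 1
      funext v
      simp

end Contr

theorem hasDerivedCompletion {I : Ideal A} (hI : I.FG) : DRing.HasDerivedCompletion I := by
  obtain ⟨s, rfl⟩ := hI
  let J : Ideal A := Ideal.span (s : Set A)
  have hgen : ∀ K : Dual.D A, (∀ f ∈ s, ∀ n : ℤ, Subsingleton (Dual.inD A (Localization.Away f) ⟶
      (shiftFunctor (Dual.D A) n).obj K)) → DRing.IsDerivedComplete J K := by
    intro K h
    rw [TelComplex.isDerivedComplete_iff]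
    intro f hf i
    exact (Ideal.span_le (I := Tel.telIdeal A (Dual.HD A K i))).2 (fun g hg => (DerComplete.subsingleton_hom_away_iff K g).1 (h g hg) i) hf
  have hrep : ∀ K : Dual.D A, ∃ E : DRing.Cx A, E.IsKInjective ∧ Nonempty (DRing.toD E ≅ K) := fun K => by
    obtain ⟨E, p, hE, hp, -, -⟩ := DHA.KInj.exists_resolution (ModuleCat.{u} A) (Q.objPreimage K)
    exact ⟨E, hE, ⟨(asIso (Q.map p)).symm ≪≫ Q.objObjPreimageIso K⟩⟩
  have hw : ∀ K : Dual.D A, ∃ (K' : DRing.DComp J) (η : K ⟶ K'.obj), ∀ L : DRing.DComp J,
      Function.Bijective fun v : K'.obj ⟶ L.obj => η ≫ v := by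
    intro K
    obtain ⟨E, hE, ⟨e⟩⟩ := hrep K
    obtain ⟨C, hC, h1, -, ι, h3⟩ := exists_completion s E
    refine ⟨⟨DRing.toD C, hgen _ fun f hf => (complete_iff_contr f C).2 (h1 f hf)⟩,
      e.inv ≫ Q.map ι, fun L => ?_⟩
    obtain ⟨E', hE', ⟨e'⟩⟩ := hrep L.obj
    have hb := h3 E' hE' fun f hf => (complete_iff_contr f E').1 fun n =>
      (complete_congr f e' n).2 (L.property f (Ideal.subset_span hf) n)
    have h4 : (fun v : DRing.toD C ⟶ L.obj => (e.inv ≫ Q.map ι) ≫ v) =
        (Iso.homCongr e e') ∘ (fun v : Q.obj C ⟶ Q.obj E' => Q.map ι ≫ v) ∘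
          (Iso.homCongr (Iso.refl _) e').symm := funext fun v => by simp
    exact h4 ▸ (Iso.homCongr e e').bijective.comp (hb.comp (Iso.homCongr (Iso.refl _) e').symm.bijective)
  choose K' η hη using hw
  let ev' : ∀ (K : Dual.D A) (L : DRing.DComp J),
      (K' K ⟶ L) ≃ (K ⟶ (ObjectProperty.ι (DRing.IsDerivedComplete J)).obj L) := fun K L =>
    (InducedCategory.homEquiv).trans (Equiv.ofBijective _ (hη K L))
  exact (Adjunction.adjunctionOfEquivLeft ev' (fun _ _ _ w v => (Category.assoc _ v.hom w.hom).symm)).isRightAdjoint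

end Groth.Agent.DRing.Completion

namespace Groth.Agent.DRing.Completion

open DBasic Homology PC


variable {A : Type u} [CommRing A]

lemma exists_kinj (K : Dual.D A) :
    ∃ E : DRing.Cx A, E.IsKInjective ∧ Nonempty (DRing.toD E ≅ K) := by
  obtain ⟨E, p, hE, hp, -, -⟩ := DHA.KInj.exists_resolution (ModuleCat.{u} A) (Q.objPreimage K)
  exact ⟨E, hE, ⟨(asIso (Q.map p)).symm ≪≫ Q.objObjPreimageIso K⟩⟩

/-- Maps from `f`-bijective complexes to `f`-complete objects vanish. -/
theorem subsingleton_hom_of_cxBij {f : A} {X : DRing.Cx A} (hX : CxBij f X) (K : Dual.D A)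
    (hK : ∀ n : ℤ, Subsingleton (Dual.inD A (Localization.Away f) ⟶ (shiftFunctor (Dual.D A) n).obj K)) :
    Subsingleton (DRing.toD X ⟶ K) := by
  obtain ⟨E, hE, ⟨e⟩⟩ := exists_kinj K
  have hc : Contr ((HC f).obj E) := (complete_iff_contr f E).1 fun n => (complete_congr f e n).2 (hK n)
  exact (Iso.homCongr (Iso.refl _) e).subsingleton_congr.1 (subsingleton_Q_hom f hc hX)

theorem hom_away_iff (f : A) (K : Dual.D A) :
    (∀ n : ℤ, Subsingleton (Dual.inD A (Localization.Away f) ⟶ (shiftFunctor (Dual.D A) n).obj K)) ↔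
      ∀ E : Dual.D (Localization.Away f),
        Subsingleton ((DRing.restrictD (algebraMap A (Localization.Away f))).obj E ⟶ K) := by
  let φ := algebraMap A (Localization.Away f)
  constructor
  · intro h E
    let X := Q.objPreimage E
    have e : (DRing.restrictD φ).obj E ≅ DRing.toD ((DRing.restrictCx φ).obj X) :=
      (DRing.restrictD φ).mapIso (Q.objObjPreimageIso E).symm ≪≫
        (ModuleCat.restrictScalars.{u} φ).mapDerivedCategoryFactors.app X
    refine (Iso.homCongr e (Iso.refl K)).subsingleton_congr.2 (subsingleton_hom_of_cxBij (fun i => ?_) K h)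
    change Function.Bijective fun x : X.X i => φ f • x
    exact (IsLocalization.Away.algebraMap_isUnit (S := Localization.Away f) f).smul_bijective
  · intro h n
    let M : ModuleCat.{u} (Localization.Away f) := ModuleCat.of _ (Localization.Away f)
    let eM : (ModuleCat.restrictScalars φ).obj M ≅ ModuleCat.of A (Localization.Away f) :=
      (show ((ModuleCat.restrictScalars φ).obj M : ModuleCat.{u} A) ≃ₗ[A] Localization.Away f from
        { toFun := fun x => x
          invFun := fun x => x
          left_inv := fun _ => rfl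
          right_inv := fun _ => rfl
          map_add' := fun _ _ => rfl
          map_smul' := fun a x => (Algebra.smul_def a (show Localization.Away f from x)).symm }).toModuleIso
    have e : (DRing.restrictD φ).obj (DRing.toD (sgl n M)) ≅
        DRing.toD (sgl n (ModuleCat.of A (Localization.Away f))) :=
      (ModuleCat.restrictScalars.{u} φ).mapDerivedCategoryFactors.app _ ≪≫
        Q.mapIso ((HomologicalComplex.singleMapHomologicalComplex (ModuleCat.restrictScalars.{u} φ)
          (ComplexShape.up ℤ) n).app M ≪≫ (HomologicalComplex.single (ModuleCat.{u} A) _ n).mapIso eM)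
    exact (InjAmp.subsingleton_ext_iff K (Localization.Away f) n).2
      ((Iso.homCongr e (Iso.refl K)).subsingleton_congr.1 (h _))

theorem isZero_completion (I : Ideal A) [DRing.HasDerivedCompletion I] (K : DRing.Cx A) (f : A)
    (hf : f ∈ I) (hK : CxBij f K) : IsZero ((DRing.derivedCompletion I).obj (DRing.toD K)).obj := by
  let L := (DRing.derivedCompletion I).obj (DRing.toD K)
  have hs := subsingleton_hom_of_cxBij hK L.obj fun n => L.property f hf n
  have h : 𝟙 L = 0 := ((DRing.derivedCompletionAdj I).homEquiv (DRing.toD K) L).injective (hs.elim _ _)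
  exact (ObjectProperty.ι (DRing.IsDerivedComplete I)).map_isZero ((IsZero.iff_id_eq_zero _).2 h)

end Groth.Agent.DRing.Completion
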