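import Groth.Agent.DTenLib.El
import Groth.Prelude.Def_DRing2
import Groth.Prelude.Def_DRing4
import Mathlib.CategoryTheory.Monoidal.Rigid.Basic
import Mathlib.RingTheory.OrzechProperty

/-!
# Dualizable complexes of modules are bounded complexes of finite projectives
-/

universe u
open CategoryTheory CategoryTheory.Limits MonoidalCategory TensorProduct

namespace Groth.Agent.DRing.ExactPairingCx

open Groth.Agent.DTenLib

variable {R : Type u} [CommRing R]

/-- The unit complex. -/
noncomputable abbrev I1 (R : Type u) [CommRing R] : DRing.Cx R := 𝟙_ (DRing.Cx R)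

lemma isZero_I1 {p : ℤ} (hp : p ≠ 0) : IsZero ((I1 R).X p) :=
  HomologicalComplex.isZero_single_obj_X (ComplexShape.up ℤ) 0 (ModuleCat.of R R) p hp

/-- The coordinate on the unit complex. -/
noncomputable def e₁ : (I1 R).X 0 ≅ ModuleCat.of R R :=
  HomologicalComplex.singleObjXSelf (ComplexShape.up ℤ) 0 (ModuleCat.of R R)

/-- The generator of the unit complex. -/
noncomputable def one₁ : (I1 R).X 0 := e₁.inv.hom (1 : R)

lemma eq_smul_one₁ (x : (I1 R).X 0) : x = (show R from e₁.hom.hom x) • one₁ := by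
  have h : e₁.inv.hom (e₁.hom.hom x) = x := congrArg (fun f => f.hom x) e₁.hom_inv_id
  refine h.symm.trans ?_
  rw [one₁, ← map_smul]
  exact congrArg _ (mul_one (show R from e₁.hom.hom x)).symm

variable {M N : DRing.Cx R}

lemma span_tm (n : ℤ) : Submodule.span R {z : (M ⊗ N).X n | ∃ (p q : ℤ) (h : p + q = n) (x : M.X p) (y : N.X q), tm M N h x y = z} = ⊤ := by
  let S := Submodule.span R {z : (M ⊗ N).X n | ∃ (p q : ℤ) (h : p + q = n) (x : M.X p) (y : N.X q), tm M N h x y = z}
  have h0 : ModuleCat.ofHom S.mkQ = (0 : (M ⊗ N).X n ⟶ ModuleCat.of R ((M ⊗ N).X n ⧸ S)) :=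
    hom_ext_tm fun p q h x y => (Submodule.Quotient.mk_eq_zero S).2 (Submodule.subset_span ⟨p, q, h, x, y, rfl⟩)
  exact eq_top_iff.2 fun z _ => (Submodule.Quotient.mk_eq_zero S).1 (congrArg (fun f => f.hom z) h0)

lemma exists_sum_tm {n : ℤ} (z : (M ⊗ N).X n) : ∃ (k : ℕ) (p q : Fin k → ℤ) (h : ∀ i, p i + q i = n)
    (x : ∀ i, M.X (p i)) (y : ∀ i, N.X (q i)), ∑ i, tm M N (h i) (x i) (y i) = z := by
  have hz : z ∈ Submodule.span R {z : (M ⊗ N).X n | ∃ (p q : ℤ) (h : p + q = n) (x : M.X p) (y : N.X q), tm M N h x y = z} := by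
    rw [span_tm]; trivial
  obtain ⟨k, f, g, hfg⟩ := Submodule.mem_span_set'.1 hz
  choose p q h x y hxy using fun i => (g i).2
  refine ⟨k, p, q, h, fun i => f i • x i, y, hfg ▸ Finset.sum_congr rfl fun i _ => ?_⟩
  rw [tm_smul_left, hxy]

lemma surjective_tm_one_left (M : DRing.Cx R) (q : ℤ) :
    Function.Surjective fun m : M.X q => tm (I1 R) M (zero_add q) one₁ m := by
  intro z
  obtain ⟨k, p, q', h, x, y, rfl⟩ := exists_sum_tm z
  have : ∀ i, ∃ m : M.X q, tm (I1 R) M (zero_add q) one₁ m = tm (I1 R) M (h i) (x i) (y i) := by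
    intro i
    by_cases hp : p i = 0
    · have key : ∀ (p q' : ℤ) (h : p + q' = q) (x : (I1 R).X p) (y : M.X q'), p = 0 →
          ∃ m : M.X q, tm (I1 R) M (zero_add q) one₁ m = tm (I1 R) M h x y := by
        intro p q' h x y hp
        subst hp
        obtain rfl : q' = q := by omega
        exact ⟨(show R from e₁.hom.hom x) • y, by
          conv_rhs => rw [eq_smul_one₁ x]
          rw [tm_smul_right, tm_smul_left]⟩
      exact key _ _ _ _ _ hp
    · have := ModuleCat.subsingleton_of_isZero (isZero_I1 (R := R) hp)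
      exact ⟨0, by rw [Subsingleton.elim (α := (I1 R).X (p i)) (x i) 0, tm_zero_left, tm_zero_right]⟩
  choose m hm using this
  refine ⟨∑ i, m i, ?_⟩
  change ModuleCat.Hom.hom (ModuleCat.ofHom
    ({ toFun := fun m => tm (I1 R) M (zero_add q) one₁ m
       map_add' := fun a b => tm_add_right _ _ a b
       map_smul' := fun r a => tm_smul_right _ r _ a } : M.X q →ₗ[R] (I1 R ⊗ M).X q)) _ = _
  rw [map_sum]
  exact Finset.sum_congr rfl fun i _ => hm i

lemma surjective_tm_one_right (M : DRing.Cx R) (q : ℤ) :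
    Function.Surjective fun m : M.X q => tm M (I1 R) (add_zero q) m one₁ := by
  intro z
  obtain ⟨k, p, q', h, x, y, rfl⟩ := exists_sum_tm z
  have : ∀ i, ∃ m : M.X q, tm M (I1 R) (add_zero q) m one₁ = tm M (I1 R) (h i) (x i) (y i) := by
    intro i
    by_cases hp : q' i = 0
    · have key : ∀ (p q' : ℤ) (h : p + q' = q) (x : M.X p) (y : (I1 R).X q'), q' = 0 →
          ∃ m : M.X q, tm M (I1 R) (add_zero q) m one₁ = tm M (I1 R) h x y := by
        intro p q' h x y hp
        subst hp
        obtain rfl : p = q := by omega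
        exact ⟨(show R from e₁.hom.hom y) • x, by
          conv_rhs => rw [eq_smul_one₁ y]
          rw [tm_smul_right, tm_smul_left]⟩
      exact key _ _ _ _ _ hp
    · have := ModuleCat.subsingleton_of_isZero (isZero_I1 (R := R) hp)
      exact ⟨0, by rw [Subsingleton.elim (α := (I1 R).X (q' i)) (y i) 0, tm_zero_left, tm_zero_right]⟩
  choose m hm using this
  refine ⟨∑ i, m i, ?_⟩
  change ModuleCat.Hom.hom (ModuleCat.ofHom
    ({ toFun := fun m => tm M (I1 R) (add_zero q) m one₁
       map_add' := fun a b => tm_add_left _ a b _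
       map_smul' := fun r a => tm_smul_left _ r a _ } : M.X q →ₗ[R] (M ⊗ I1 R).X q)) _ = _
  rw [map_sum]
  exact Finset.sum_congr rfl fun i _ => hm i

/-- A finite family with which a surjective endomorphism factors gives finite projectivity. -/
lemma finiteProjective_of_sum {X : Type u} [AddCommGroup X] [Module R X] {k : ℕ} (φ : Fin k → (X →ₗ[R] R))
    (g : Fin k → X) (θ : X →ₗ[R] X) (hs : Function.Surjective θ) (h : ∀ x, θ x = ∑ i, φ i x • g i) :
    Module.Finite R X ∧ Module.Projective R X := by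
  let G : (Fin k → R) →ₗ[R] X :=
    { toFun := fun c => ∑ i, c i • g i
      map_add' := fun a b => by simp [add_smul, Finset.sum_add_distrib]
      map_smul' := fun r a => by simp [Finset.smul_sum, smul_smul] }
  have hfac : θ = G ∘ₗ LinearMap.pi φ := LinearMap.ext h
  have : Module.Finite R X := Module.Finite.of_surjective G fun x => by
    obtain ⟨y, rfl⟩ := hs x
    exact ⟨LinearMap.pi φ y, (h y).symm⟩
  let e := LinearEquiv.ofBijective θ ⟨OrzechProperty.injective_of_surjective_endomorphism θ hs, hs⟩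
  refine ⟨this, Module.Projective.of_split (LinearMap.pi φ) (e.symm.toLinearMap ∘ₗ G) (LinearMap.ext fun x => ?_)⟩
  exact e.symm_apply_eq.2 (LinearMap.congr_fun hfac x).symm

theorem first (M N : DRing.Cx R) [ExactPairing M N] : (∃ a b : ℤ, DRing.VanishesOutside M a b) ∧ DRing.TermwiseFiniteProjective M := by
  classical
  obtain ⟨k, p, p', hp, a, b, hη⟩ := exists_sum_tm (((η_ M N).f 0).hom one₁)
  have key : ∀ q : ℤ, ∃ (φ : Fin k → (M.X q →ₗ[R] R)) (g : Fin k → M.X q) (θ : M.X q →ₗ[R] M.X q),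
      Function.Surjective θ ∧ (∀ x, θ x = ∑ i, φ i x • g i) ∧ ∀ i, p i ≠ q → g i = 0 := by
    intro q
    let τ : M.X q →ₗ[R] (I1 R ⊗ M).X q :=
      { toFun := fun m => tm (I1 R) M (zero_add q) one₁ m
        map_add' := fun a b => tm_add_right _ _ a b
        map_smul' := fun r a => tm_smul_right _ r _ a }
    let Ψ : (I1 R ⊗ M) ⟶ M := η_ M N ▷ M ≫ (α_ M N M).hom ≫ M ◁ ε_ M N ≫ (ρ_ M).hom
    have hΨ : Ψ = (λ_ M).hom := by
      change η_ M N ▷ M ≫ (α_ M N M).hom ≫ M ◁ ε_ M N ≫ (ρ_ M).hom = _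
      rw [ExactPairing.evaluation_coevaluation_assoc, Iso.inv_hom_id, Category.comp_id]
    have hsurj : Function.Surjective ((Ψ.f q).hom ∘ₗ τ) := by
      have : IsIso Ψ := by rw [hΨ]; infer_instance
      exact ((ConcreteCategory.bijective_of_isIso (Ψ.f q)).2).comp (surjective_tm_one_left M q)
    let φ : Fin k → (M.X q →ₗ[R] R) := fun i => if h : p' i + q = 0 then
      e₁.hom.hom ∘ₗ ((ε_ M N).f 0).hom ∘ₗ
        ({ toFun := fun m => tm N M h (b i) m
           map_add' := fun u v => tm_add_right _ _ u v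
           map_smul' := fun r u => tm_smul_right _ r _ u } : M.X q →ₗ[R] (N ⊗ M).X 0) else 0
    let g : Fin k → M.X q := fun i => if h : p i = q then
      ((ρ_ M).hom.f q).hom (tm M (I1 R) (show p i + 0 = q by omega) (a i) one₁) else 0
    refine ⟨φ, g, _, hsurj, fun x => ?_, fun i hi => dif_neg hi⟩
    change (Ψ.f q).hom (tm (I1 R) M (zero_add q) one₁ x) = _
    simp only [Ψ, HomologicalComplex.comp_f, ModuleCat.hom_comp, LinearMap.comp_apply]
    rw [whiskerRight_tm, ← hη]
    have hlin : tm (M ⊗ N) M (zero_add q) (∑ i, tm M N (hp i) (a i) (b i)) x =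
        ∑ i, tm (M ⊗ N) M (zero_add q) (tm M N (hp i) (a i) (b i)) x :=
      map_sum ({ toFun := fun u => tm (M ⊗ N) M (zero_add q) u x
                 map_add' := fun u v => tm_add_left _ u v _
                 map_smul' := fun r u => tm_smul_left _ r u _ } : (M ⊗ N).X 0 →ₗ[R] ((M ⊗ N) ⊗ M).X q) _ _
    rw [hlin]
    simp only [map_sum]
    refine Finset.sum_congr rfl fun i _ => ?_
    rw [assoc_tm (hp i) (zero_add q) (s := p' i + q) rfl, whiskerLeft_tm]
    by_cases h : p i = q
    · have h' : p' i + q = 0 := by have := hp i; omega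
      simp only [φ, g, dif_pos h, dif_pos h', LinearMap.comp_apply, LinearMap.coe_mk, AddHom.coe_mk]
      have key2 : ∀ (r : ℤ) (hr : p i + r = q) (u : (I1 R).X r) (u0 : (I1 R).X 0), r = 0 → HEq u u0 →
          ((ρ_ M).hom.f q).hom (tm M (I1 R) hr (a i) u) =
            (show R from e₁.hom.hom u0) • ((ρ_ M).hom.f q).hom (tm M (I1 R) (show p i + 0 = q by omega) (a i) one₁) := by
        intro r hr u u0 hr0 hu
        subst hr0
        obtain rfl := eq_of_heq hu
        rw [← map_smul, ← tm_smul_right, ← eq_smul_one₁]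
      refine key2 (p' i + q) _ _ _ h' ?_
      have : ∀ (r r' : ℤ) (h1 : p' i + q = r) (h2 : p' i + q = r'), r = r' →
          HEq (((ε_ M N).f r).hom (tm N M h1 (b i) x)) (((ε_ M N).f r').hom (tm N M h2 (b i) x)) := by
        intro r r' h1 h2 e; subst e; rfl
      exact this _ _ rfl h' (h'.symm ▸ rfl)
    · have h' : p' i + q ≠ 0 := by have := hp i; omega
      have := ModuleCat.subsingleton_of_isZero (isZero_I1 (R := R) h')
      simp only [g, dif_neg h, smul_zero]
      rw [Subsingleton.elim (α := (I1 R).X (p' i + q)) (((ε_ M N).f _).hom _) 0, tm_zero_right, map_zero]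
  refine ⟨?_, fun q => ?_⟩
  · obtain ⟨a0, ha0⟩ := (Finset.univ.image p).bddBelow
    obtain ⟨b0, hb0⟩ := (Finset.univ.image p).bddAbove
    refine ⟨a0, b0, fun q hq => ?_⟩
    obtain ⟨φ, g, θ, hθ, hsum, hg⟩ := key q
    have : Subsingleton (M.X q) := subsingleton_of_forall_eq 0 fun x => by
      obtain ⟨y, rfl⟩ := hθ x
      rw [hsum]
      refine Finset.sum_eq_zero fun i _ => ?_
      rw [hg i, smul_zero]
      intro hpq
      have h1 : a0 ≤ p i := ha0 (Finset.mem_coe.2 (Finset.mem_image_of_mem p (Finset.mem_univ i)))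
      have h2 : p i ≤ b0 := hb0 (Finset.mem_coe.2 (Finset.mem_image_of_mem p (Finset.mem_univ i)))
      omega
    exact ModuleCat.isZero_of_subsingleton _
  · obtain ⟨φ, g, θ, hθ, hsum, -⟩ := key q
    exact finiteProjective_of_sum φ g θ hθ hsum

theorem second (M N : DRing.Cx R) [ExactPairing M N] : (∃ a b : ℤ, DRing.VanishesOutside N a b) ∧ DRing.TermwiseFiniteProjective N := by
  classical
  obtain ⟨k, p, p', hp, a, b, hη⟩ := exists_sum_tm (((η_ M N).f 0).hom one₁)
  have key : ∀ q : ℤ, ∃ (φ : Fin k → (N.X q →ₗ[R] R)) (g : Fin k → N.X q) (θ : N.X q →ₗ[R] N.X q),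
      Function.Surjective θ ∧ (∀ x, θ x = ∑ i, φ i x • g i) ∧ ∀ i, p' i ≠ q → g i = 0 := by
    intro q
    let τ : N.X q →ₗ[R] (N ⊗ I1 R).X q :=
      { toFun := fun m => tm N (I1 R) (add_zero q) m one₁
        map_add' := fun a b => tm_add_left _ a b _
        map_smul' := fun r a => tm_smul_left _ r a _ }
    let Ψ : (N ⊗ I1 R) ⟶ N := N ◁ η_ M N ≫ (α_ N M N).inv ≫ ε_ M N ▷ N ≫ (λ_ N).hom
    have hΨ : Ψ = (ρ_ N).hom := by
      change N ◁ η_ M N ≫ (α_ N M N).inv ≫ ε_ M N ▷ N ≫ (λ_ N).hom = _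
      rw [ExactPairing.coevaluation_evaluation_assoc, Iso.inv_hom_id, Category.comp_id]
    have hsurj : Function.Surjective ((Ψ.f q).hom ∘ₗ τ) := by
      have : IsIso Ψ := by rw [hΨ]; infer_instance
      exact ((ConcreteCategory.bijective_of_isIso (Ψ.f q)).2).comp (surjective_tm_one_right N q)
    let φ : Fin k → (N.X q →ₗ[R] R) := fun i => if h : q + p i = 0 then
      e₁.hom.hom ∘ₗ ((ε_ M N).f 0).hom ∘ₗ
        ({ toFun := fun m => tm N M h m (a i)
           map_add' := fun u v => tm_add_left _ u v _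
           map_smul' := fun r u => tm_smul_left _ r u _ } : N.X q →ₗ[R] (N ⊗ M).X 0) else 0
    let g : Fin k → N.X q := fun i => if h : p' i = q then
      ((λ_ N).hom.f q).hom (tm (I1 R) N (show 0 + p' i = q by omega) one₁ (b i)) else 0
    refine ⟨φ, g, _, hsurj, fun x => ?_, fun i hi => dif_neg hi⟩
    change (Ψ.f q).hom (tm N (I1 R) (add_zero q) x one₁) = _
    simp only [Ψ, HomologicalComplex.comp_f, ModuleCat.hom_comp, LinearMap.comp_apply]
    rw [whiskerLeft_tm, ← hη]
    have hlin : tm N (M ⊗ N) (add_zero q) x (∑ i, tm M N (hp i) (a i) (b i)) =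
        ∑ i, tm N (M ⊗ N) (add_zero q) x (tm M N (hp i) (a i) (b i)) :=
      map_sum ({ toFun := fun u => tm N (M ⊗ N) (add_zero q) x u
                 map_add' := fun u v => tm_add_right _ _ u v
                 map_smul' := fun r u => tm_smul_right _ r _ u } : (M ⊗ N).X 0 →ₗ[R] (N ⊗ (M ⊗ N)).X q) _ _
    rw [hlin]
    simp only [map_sum]
    refine Finset.sum_congr rfl fun i _ => ?_
    have hinv : ((α_ N M N).inv.f q).hom (tm N (M ⊗ N) (add_zero q) x (tm M N (hp i) (a i) (b i))) =
        tm (N ⊗ M) N (show (q + p i) + p' i = q by have := hp i; omega) (tm N M rfl x (a i)) (b i) := by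
      have h1 := assoc_tm (K := N) (L := M) (M := N) (p := q) (q := p i) (r := p' i) (n := q) rfl
        (show (q + p i) + p' i = q by have := hp i; omega) (hp i) x (a i) (b i)
      exact (congrArg ((α_ N M N).inv.f q).hom h1.symm).trans
        (congrArg (fun f : ((N ⊗ M) ⊗ N) ⟶ ((N ⊗ M) ⊗ N) => (f.f q).hom (tm (N ⊗ M) N
          (show (q + p i) + p' i = q by have := hp i; omega) (tm N M rfl x (a i)) (b i))) (α_ N M N).hom_inv_id)
    rw [hinv, whiskerRight_tm]
    by_cases h : p' i = q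
    · have h' : q + p i = 0 := by have := hp i; omega
      simp only [φ, g, dif_pos h, dif_pos h', LinearMap.comp_apply, LinearMap.coe_mk, AddHom.coe_mk]
      have key2 : ∀ (r : ℤ) (hr : r + p' i = q) (u : (I1 R).X r) (u0 : (I1 R).X 0), r = 0 → HEq u u0 →
          ((λ_ N).hom.f q).hom (tm (I1 R) N hr u (b i)) =
            (show R from e₁.hom.hom u0) • ((λ_ N).hom.f q).hom (tm (I1 R) N (show 0 + p' i = q by omega) one₁ (b i)) := by
        intro r hr u u0 hr0 hu
        subst hr0
        obtain rfl := eq_of_heq hu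
        rw [← map_smul, ← tm_smul_left, ← eq_smul_one₁]
      refine key2 (q + p i) _ _ _ h' ?_
      have : ∀ (r r' : ℤ) (h1 : q + p i = r) (h2 : q + p i = r'), r = r' →
          HEq (((ε_ M N).f r).hom (tm N M h1 x (a i))) (((ε_ M N).f r').hom (tm N M h2 x (a i))) := by
        intro r r' h1 h2 e; subst e; rfl
      exact this _ _ rfl h' (h'.symm ▸ rfl)
    · have h' : q + p i ≠ 0 := by have := hp i; omega
      have := ModuleCat.subsingleton_of_isZero (isZero_I1 (R := R) h')
      simp only [g, dif_neg h, smul_zero]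
      rw [Subsingleton.elim (α := (I1 R).X (q + p i)) (((ε_ M N).f _).hom _) 0, tm_zero_left, map_zero]
  refine ⟨?_, fun q => ?_⟩
  · obtain ⟨a0, ha0⟩ := (Finset.univ.image p').bddBelow
    obtain ⟨b0, hb0⟩ := (Finset.univ.image p').bddAbove
    refine ⟨a0, b0, fun q hq => ?_⟩
    obtain ⟨φ, g, θ, hθ, hsum, hg⟩ := key q
    have : Subsingleton (N.X q) := subsingleton_of_forall_eq 0 fun x => by
      obtain ⟨y, rfl⟩ := hθ x
      rw [hsum]
      refine Finset.sum_eq_zero fun i _ => ?_
      rw [hg i, smul_zero]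
      intro hpq
      have h1 : a0 ≤ p' i := ha0 (Finset.mem_coe.2 (Finset.mem_image_of_mem p' (Finset.mem_univ i)))
      have h2 : p' i ≤ b0 := hb0 (Finset.mem_coe.2 (Finset.mem_image_of_mem p' (Finset.mem_univ i)))
      omega
    exact ModuleCat.isZero_of_subsingleton _
  · obtain ⟨φ, g, θ, hθ, hsum, -⟩ := key q
    exact finiteProjective_of_sum φ g θ hθ hsum

end Groth.Agent.DRing.ExactPairingCx
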