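import Groth.Agent.DRing.RHomRep
import Groth.Agent.DRing.ExactPairingCx
import Groth.Agent.DTenLib.EvalCx
import Groth.Agent.DRing.PCTools

/-!
# Duals of perfect objects
-/

universe u

open CategoryTheory CategoryTheory.Limits MonoidalCategory

attribute [local instance] HasDerivedCategory.standard

namespace Groth.Agent.DRing.DualPerfect

open Groth.Agent.DTenLib DBasic ExactPairingCx

variable {A : Type u} [CommRing A]

/-- The dual complex. -/
noncomputable abbrev dual (P : DRing.Cx A) : DRing.Cx A := DRing.homCx P (I1 A)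

variable (P : DRing.Cx A)

/-- The terms of the dual complex. -/
noncomputable def dualEquiv (n p : ℤ) (h : p + n = 0) :
    (dual P).X n ≃ₗ[A] Module.Dual A (P.X p) :=
  LinearEquiv.ofBijective
    ({ toFun := fun z => e₁.hom.hom ∘ₗ (cv z p 0 h).hom
       map_add' := fun z z' => by rw [cv_add, ModuleCat.hom_add, LinearMap.comp_add]
       map_smul' := fun r z => by rw [cv_smul, ModuleCat.hom_smul, LinearMap.comp_smul]; rfl } :
      (dual P).X n →ₗ[A] (P.X p →ₗ[A] A))
    ⟨fun z z' hzz => cv_ext fun p' q hpq => ModuleCat.hom_ext (LinearMap.ext fun x => by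
      by_cases hq : q = 0
      · subst hq
        obtain rfl : p' = p := by omega
        exact (e₁ (R := A)).toLinearEquiv.injective (LinearMap.congr_fun hzz x)
      · have := ModuleCat.subsingleton_of_isZero (isZero_I1 (R := A) hq)
        exact Subsingleton.elim (α := (I1 A).X q) _ _),
    fun ψ => ⟨elemC ψ n 0 h one₁, LinearMap.ext fun x => by
      change e₁.hom.hom ((cv (elemC ψ n 0 h one₁) p 0 h).hom x) = ψ x
      rw [cv_elemC, map_smul, show (e₁ (R := A)).hom.hom one₁ = (1 : A) from
        (e₁ (R := A)).toLinearEquiv.apply_symm_apply (1 : A), smul_eq_mul, mul_one]⟩⟩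

variable {P}

lemma vanishesOutside_dual {a b : ℤ} (hb : DRing.VanishesOutside P a b) :
    DRing.VanishesOutside (dual P) (-b) (-a) := fun i hi => by
  have hz := hb (-i) (by omega)
  have := ModuleCat.subsingleton_of_isZero hz
  have : Subsingleton (Module.Dual A (P.X (-i))) := ⟨fun f g => LinearMap.ext fun x => by
    rw [Subsingleton.elim x 0, map_zero, map_zero]⟩
  have : Subsingleton ((dual P).X i) := (dualEquiv P i (-i) (by omega)).toEquiv.subsingleton
  exact ModuleCat.isZero_of_subsingleton _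

lemma finiteProjective_dual (hf : DRing.TermwiseFiniteProjective P) :
    DRing.TermwiseFiniteProjective (dual P) := fun i => by
  obtain ⟨h1, h2⟩ := hf (-i)
  exact ⟨Module.Finite.equiv (dualEquiv P i (-i) (by omega)).symm,
    Module.Projective.of_equiv (dualEquiv P i (-i) (by omega)).symm⟩

variable (A) in
/-- `Hom•(A, A) ≅ A`. -/
noncomputable def dualUnitIso : dual (I1 A) ≅ I1 A :=
  Yoneda.ext _ _ (fun {W} f => (ρ_ W).inv ≫ uncurry f) (fun {W} f => curry ((ρ_ W).hom ≫ f))
    (fun f => by rw [Iso.hom_inv_id_assoc, curry_uncurry])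
    (fun f => by rw [uncurry_curry, Iso.inv_hom_id_assoc])
    (fun {W W'} f g => by
      rw [HomCx.uncurry_comp (P := I1 A), rightUnitor_inv_naturality_assoc])

/-- Double dual. -/
theorem nonempty_bidual_iso {a b : ℤ} (hb : DRing.VanishesOutside P a b) (hf : DRing.TermwiseFiniteProjective P) :
    Nonempty (dual (dual P) ≅ P) := by
  obtain ⟨D⟩ := nonempty_dualData hb hf
  have := isIso_etaHom (L := I1 A) (Y := I1 A) D
  exact ⟨(asIso (etaHom P (I1 A) (I1 A))).symm ≪≫ whiskerRightIso (dualUnitIso A) P ≪≫ λ_ P⟩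

theorem perfect_dual (K : Dual.D A) (hK : DRing.IsPerfect A K) (E : DRing.Cx A) (eK : DRing.toD E ≅ K)
    [DRing.HasRHomCx E] :
    DRing.IsPerfect A ((DRing.RHomCx E).obj (Dual.inD A A)) ∧
      ∀ (E' : DRing.Cx A) (_ : DRing.toD E' ≅ (DRing.RHomCx E).obj (Dual.inD A A)) [DRing.HasRHomCx E'],
        Nonempty ((DRing.RHomCx E').obj (Dual.inD A A) ≅ K) := by
  obtain ⟨P, a, b, hb, hf, ⟨eP⟩⟩ := hK
  have := isKProjective_of_projective P b (fun i hi => hb i (Or.inr hi)) fun i => (hf i).2
  let eA : DRing.toD (I1 A) ≅ Dual.inD A A :=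
    ((DerivedCategory.singleFunctorIsoCompQ (ModuleCat.{u} A) 0).app (ModuleCat.of A A)).symm
  obtain ⟨i⟩ := RHomRep.nonempty_iso_of_rep (eP ≪≫ eK.symm) eA
  refine ⟨⟨dual P, -b, -a, vanishesOutside_dual hb, finiteProjective_dual hf, ⟨i.symm⟩⟩, fun E' e' _ => ?_⟩
  have := isKProjective_of_projective (dual P) (-a) (fun j hj => vanishesOutside_dual hb j (Or.inr hj))
    fun j => (finiteProjective_dual hf j).2
  obtain ⟨i'⟩ := RHomRep.nonempty_iso_of_rep (P := dual P) (i.symm ≪≫ e'.symm) eA
  obtain ⟨j⟩ := nonempty_bidual_iso hb hf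
  exact ⟨i' ≪≫ DerivedCategory.Q.mapIso j ≪≫ eP⟩

end Groth.Agent.DRing.DualPerfect
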