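import Groth.Prelude.Def_DRing2
import Mathlib.Algebra.Homology.HomotopyCategory.KInjective
import Mathlib.Algebra.Category.Ring.Epi
import Mathlib.RingTheory.TensorProduct.Basic

/-!
# Restriction along ring epimorphisms
-/

universe u

open CategoryTheory TensorProduct

namespace Groth.Agent.DRing.EpiRing

variable {R S : Type u} [CommRing R] [CommRing S] (φ : R →+* S)

/-- Maps linear over `R` are linear over an epimorphic extension `S`. -/
theorem map_smul_of_epi (hφ : Epi (CommRingCat.ofHom φ)) {M N : Type u} [AddCommGroup M]
    [Module S M] [AddCommGroup N] [Module S N] (h : M →+ N)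
    (hh : ∀ (r : R) (x : M), h (φ r • x) = φ r • h x) (s : S) (x : M) : h (s • x) = s • h x := by
  algebraize [φ]
  have : Algebra.IsEpi R S := CommRingCat.epi_iff_epi.1 hφ
  let β : S →ₗ[R] S →ₗ[R] RestrictScalars R S N :=
    LinearMap.mk₂ R (fun a b => (RestrictScalars.addEquiv R S N).symm (a • h (b • x)))
      (fun a a' b => by rw [add_smul, map_add])
      (fun r a b => by
        rw [Algebra.smul_def, mul_smul, RestrictScalars.addEquiv_symm_map_algebraMap_smul])
      (fun a b b' => by rw [add_smul, map_add, smul_add, map_add])
      (fun r a b => by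
        rw [Algebra.smul_def, mul_smul, RingHom.algebraMap_toAlgebra, hh, smul_comm,
          ← RingHom.algebraMap_toAlgebra φ, RestrictScalars.addEquiv_symm_map_algebraMap_smul])
  have h1 := congrArg (TensorProduct.lift β) (Algebra.tmul_comm R s (1 : S))
  simp only [TensorProduct.lift.tmul, β, LinearMap.mk₂_apply, one_smul,
    EmbeddingLike.apply_eq_iff_eq] at h1
  exact h1.symm

/-- A complex K-injective after restriction along an epimorphism is K-injective. -/
theorem isKInjective_of_restrict (hφ : Epi (CommRingCat.ofHom φ)) (I : DRing.Cx S)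
    [CochainComplex.IsKInjective ((DRing.restrictCx φ).obj I)] : CochainComplex.IsKInjective I where
  nonempty_homotopy_zero {K} f hK := by
    have hK' : ((DRing.restrictCx φ).obj K).Acyclic := fun i => by
      have := hK i
      rw [HomologicalComplex.exactAt_iff] at this ⊢
      exact this.map (ModuleCat.restrictScalars φ)
    obtain ⟨H⟩ := CochainComplex.IsKInjective.nonempty_homotopy_zero
      ((DRing.restrictCx φ).map f) hK'
    let h : ∀ i j, K.X i ⟶ I.X j := fun i j => ModuleCat.ofHom
      { toFun := fun x => (H.hom i j).hom x
        map_add' := fun x y => (H.hom i j).hom.map_add x y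
        map_smul' := fun s x => map_smul_of_epi φ hφ (M := K.X i) (N := I.X j)
          (H.hom i j).hom.toAddMonoidHom (fun r y => (H.hom i j).hom.map_smul r y) s x }
    refine ⟨{ hom := h, zero := fun i j hij => ?_, comm := fun i => ?_ }⟩
    · refine ModuleCat.hom_ext (LinearMap.ext fun x => ?_)
      exact LinearMap.congr_fun (congrArg ModuleCat.Hom.hom (H.zero i j hij)) x
    · refine ModuleCat.hom_ext (LinearMap.ext fun x => ?_)
      exact LinearMap.congr_fun (congrArg ModuleCat.Hom.hom (H.comm i)) x

end Groth.Agent.DRing.EpiRing
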