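import Groth.Agent.DRing.DerivedCompletion
import Groth.Agent.DRing.Homology
import Groth.Prelude.Def_DerCA
import Mathlib.Algebra.Module.LocalizedModule.IsLocalization
import Mathlib.RingTheory.Localization.BaseChange

/-!
# The extended Cech complex: contractibility after inverting one of the elements
-/

universe u

open CategoryTheory CategoryTheory.Limits MonoidalCategory

attribute [local instance] HasDerivedCategory.standard

namespace Groth.Agent.DRing.ExtCech

open Completion Homology

variable {R : Type u} [CommRing R]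

/-- Bijective up to `g`-power torsion. -/
def TorsBij (g : R) {N N' : Type u} [AddCommGroup N] [Module R N] [AddCommGroup N'] [Module R N']
    (h : N →ₗ[R] N') : Prop :=
  (∀ x : N, h x = 0 → ∃ k : ℕ, g ^ k • x = 0) ∧ ∀ y : N', ∃ (k : ℕ) (x : N), h x = g ^ k • y

/-- `G` inverts the maps which are bijective up to `g`-power torsion. -/
def Inverts (g : R) (G : ModuleCat.{u} R ⥤ ModuleCat.{u} R) : Prop :=
  ∀ ⦃N N' : ModuleCat.{u} R⦄ (h : N ⟶ N'), TorsBij g h.hom → IsIso (G.map h)

lemma torsBij_locUnit (g : R) (N : ModuleCat.{u} R) :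
    TorsBij g ((DerCA.locUnit (Submonoid.powers g)).app N).hom := by
  refine ⟨fun x (hx : LocalizedModule.mkLinearMap (Submonoid.powers g) N x = 0) => ?_, fun y => ?_⟩
  · obtain ⟨⟨_, k, rfl⟩, hk⟩ := (IsLocalizedModule.eq_zero_iff (Submonoid.powers g) _).1 hx
    exact ⟨k, hk⟩
  · obtain ⟨⟨x, ⟨_, k, rfl⟩⟩, hk⟩ := IsLocalizedModule.surj (Submonoid.powers g)
      (LocalizedModule.mkLinearMap (Submonoid.powers g) N) y
    exact ⟨k, x, hk.symm⟩

/-- The map induced on localisations. -/
noncomputable def lmap (S : Submonoid R) {N N' : ModuleCat.{u} R} (h : N ⟶ N') :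
    LocalizedModule S N →ₗ[R] LocalizedModule S N' :=
  IsLocalizedModule.map S (LocalizedModule.mkLinearMap S N) (LocalizedModule.mkLinearMap S N') h.hom

lemma hom_locMap (S : Submonoid R) {N N' : ModuleCat.{u} R} (h : N ⟶ N') :
    (DerCA.locFunctor S).map h = ModuleCat.ofHom (lmap S h) := rfl

lemma locMap_apply (S : Submonoid R) {N N' : ModuleCat.{u} R} (h : N ⟶ N') (x : N) :
    lmap S h (LocalizedModule.mkLinearMap S N x) =
      LocalizedModule.mkLinearMap S N' (h.hom x) :=
  IsLocalizedModule.map_apply S _ _ _ x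

lemma smul_cancel {S : Submonoid R} {N : Type u} [AddCommGroup N] [Module R N] (s : R) (hs : s ∈ S)
    {x y : LocalizedModule S N} (h : s • x = s • y) : x = y :=
  IsLocalizedModule.smul_injective (LocalizedModule.mkLinearMap S N) ⟨s, hs⟩ h

lemma torsBij_locMap (g : R) (S : Submonoid R) {N N' : ModuleCat.{u} R} {h : N ⟶ N'}
    (hh : TorsBij g h.hom) : TorsBij g (lmap S h) := by
  refine ⟨fun (x : LocalizedModule S N) hx => ?_, fun (y : LocalizedModule S N') => ?_⟩
  · obtain ⟨⟨x0, s⟩, hs⟩ := IsLocalizedModule.surj S (LocalizedModule.mkLinearMap S N) x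
    have h0 : LocalizedModule.mkLinearMap S N' (h.hom x0) = 0 := by
      rw [← locMap_apply, ← hs]
      exact (map_smul (lmap S h) (s : R) x).trans
        ((congrArg ((s : R) • ·) hx).trans (smul_zero _))
    obtain ⟨⟨c, hc⟩, hc0⟩ := (IsLocalizedModule.eq_zero_iff S _).1 h0
    have hc0' : h.hom (c • x0) = 0 := (map_smul h.hom c x0).trans hc0
    obtain ⟨k, hk⟩ := hh.1 _ hc0'
    refine ⟨k, smul_cancel _ (mul_mem hc s.2) ?_⟩
    have h1 : (c * (s : R)) • g ^ k • x = g ^ k • c • LocalizedModule.mkLinearMap S N x0 := by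
      rw [← hs, smul_comm, mul_smul]
      rfl
    refine h1.trans ?_
    rw [← map_smul, ← map_smul, hk, map_zero]
    exact (smul_zero _).symm
  · obtain ⟨⟨y0, s⟩, hs⟩ := IsLocalizedModule.surj S (LocalizedModule.mkLinearMap S N') y
    obtain ⟨k, x0, hx0⟩ := hh.2 y0
    refine ⟨k, IsLocalizedModule.mk' (LocalizedModule.mkLinearMap S N) x0 s, smul_cancel _ s.2 ?_⟩
    refine ((map_smul (lmap S h) (s : R) _).symm.trans ?_)
    refine (congrArg (lmap S h)
      (IsLocalizedModule.mk'_cancel' (LocalizedModule.mkLinearMap S N) x0 s)).trans ?_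
    rw [locMap_apply, hx0, map_smul, ← hs, smul_comm]
    rfl

lemma inverts_comp (g : R) (S : Submonoid R) {G : ModuleCat.{u} R ⥤ ModuleCat.{u} R}
    (hG : Inverts g G) : Inverts g (DerCA.locFunctor S ⋙ G) :=
  fun _ _ _ hh => hG _ (torsBij_locMap g S hh)

lemma inverts_id {g : R} (hg : IsUnit g) : Inverts g (𝟭 (ModuleCat.{u} R)) := fun N N' h hh => by
  have hu : ∀ (k : ℕ) {M : ModuleCat.{u} R}, Function.Bijective fun x : M => g ^ k • x :=
    fun k M => (hg.pow k).smul_bijective
  refine (ConcreteCategory.isIso_iff_bijective _).2 ⟨?_, fun y => ?_⟩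
  · change Function.Injective h.hom
    rw [injective_iff_map_eq_zero]
    intro x hx
    obtain ⟨k, hk⟩ := hh.1 x hx
    exact (hu k).1 (hk.trans (smul_zero _).symm)
  · obtain ⟨k, x, hx⟩ := hh.2 y
    obtain ⟨x', rfl⟩ := (hu k).2 x
    exact ⟨x', (hu k).1 ((map_smul h.hom _ _).symm.trans hx)⟩

lemma inverts_loc (g : R) : Inverts g (DerCA.locFunctor (Submonoid.powers g)) := fun N N' h hh => by
  have hh' := torsBij_locMap g (Submonoid.powers g) hh
  refine (ConcreteCategory.isIso_iff_bijective _).2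
    (show Function.Bijective (lmap (Submonoid.powers g) h) from ⟨?_, fun y => ?_⟩)
  · rw [injective_iff_map_eq_zero]
    intro x hx
    obtain ⟨k, hk⟩ := hh'.1 x hx
    exact smul_cancel (S := Submonoid.powers g) _ ⟨k, rfl⟩ (hk.trans (smul_zero _).symm)
  · obtain ⟨k, x, hx⟩ := hh'.2 y
    let w : LocalizedModule (Submonoid.powers g) N := x
    obtain ⟨⟨x0, s⟩, hs⟩ := IsLocalizedModule.surj (Submonoid.powers g)
      (LocalizedModule.mkLinearMap (Submonoid.powers g) N) w
    refine ⟨IsLocalizedModule.mk' (LocalizedModule.mkLinearMap (Submonoid.powers g) N) x0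
      (⟨g ^ k, k, rfl⟩ * s), smul_cancel (S := Submonoid.powers g) _ ⟨k, rfl⟩ (Eq.trans ?_ hx)⟩
    refine (map_smul (lmap (Submonoid.powers g) h) _ _).symm.trans (congrArg _ ?_)
    refine smul_cancel _ s.2 ((smul_smul _ _ _).trans (Eq.trans ?_ hs.symm))
    rw [mul_comm]
    exact IsLocalizedModule.mk'_cancel' (LocalizedModule.mkLinearMap (Submonoid.powers g) N) x0
      (⟨g ^ k, k, rfl⟩ * s)

lemma inverts_tensorRight (g : R) :
    Inverts g (tensorRight (ModuleCat.of R (Localization.Away g))) := fun N N' h hh => by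
  let S := Submonoid.powers g
  let L := Localization.Away g
  let j : ∀ M : ModuleCat.{u} R, M →ₗ[R] TensorProduct R L M := fun M => TensorProduct.mk R L M 1
  have hloc : ∀ M : ModuleCat.{u} R, IsLocalizedModule S (j M) := fun M =>
    inferInstanceAs (IsLocalizedModule S (TensorProduct.mk R L M 1))
  have hb : Function.Bijective (h.hom.lTensor L) := by
    have := hloc N
    have := hloc N'
    constructor
    · rw [injective_iff_map_eq_zero]
      intro x hx
      obtain ⟨⟨x0, s⟩, hs⟩ := IsLocalizedModule.surj S (j N) x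
      have h0 : j N' (h.hom x0) = 0 :=
        ((congrArg (h.hom.lTensor L) hs).symm.trans ((map_smul (h.hom.lTensor L) (s : R) x).trans
          ((congrArg ((s : R) • ·) hx).trans (smul_zero _))) : _)
      obtain ⟨⟨c, hc⟩, hc0⟩ := (IsLocalizedModule.eq_zero_iff S _).1 h0
      have hc0' : h.hom (c • x0) = 0 := (map_smul h.hom c x0).trans hc0
      obtain ⟨k, hk⟩ := hh.1 _ hc0'
      have hjx : j N x0 = 0 := (IsLocalizedModule.eq_zero_iff S _).2
        ⟨⟨g ^ k * c, mul_mem ⟨k, rfl⟩ hc⟩, (mul_smul _ _ _).trans hk⟩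
      exact IsLocalizedModule.smul_injective (j N) s (hs.trans (hjx.trans (smul_zero _).symm))
    · intro y
      obtain ⟨⟨y0, s⟩, hs⟩ := IsLocalizedModule.surj S (j N') y
      obtain ⟨k, x0, hx0⟩ := hh.2 y0
      refine ⟨IsLocalizedModule.mk' (j N) x0 (⟨g ^ k, k, rfl⟩ * s),
        IsLocalizedModule.smul_injective (j N') (⟨g ^ k, k, rfl⟩ * s) ?_⟩
      refine (LinearMap.map_smul_of_tower (h.hom.lTensor L) _ _).symm.trans ?_
      refine (congrArg _ (IsLocalizedModule.mk'_cancel' (j N) x0 _)).trans ?_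
      change j N' (h.hom x0) = _
      rw [hx0, map_smul, ← hs]
      exact (mul_smul (g ^ k) (s : R) y).symm
  refine (ConcreteCategory.isIso_iff_bijective _).2 ?_
  change Function.Bijective (h.hom.rTensor L)
  rw [← LinearMap.comm_comp_lTensor_comp_comm_eq]
  exact (TensorProduct.comm R _ _).bijective.comp (hb.comp (TensorProduct.comm R _ _).bijective)

lemma contr_shift {P : DRing.Cx R} (h : Contr P) (n : ℤ) :
    Contr ((shiftFunctor (DRing.Cx R) n).obj P) :=
  IsZero.of_iso ((shiftFunctor (HomotopyCategory (ModuleCat.{u} R) (ComplexShape.up ℤ)) n).map_isZero h)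
    (((qA R).commShiftIso n).app P)

/-- The key contractibility. -/
theorem contr_extCech (M : ModuleCat.{u} R) {g : R} : ∀ (fs : List R), g ∈ fs →
    ∀ (G : ModuleCat.{u} R ⥤ ModuleCat.{u} R) [G.Additive], Inverts g G →
      Contr ((G.mapHomologicalComplex (ComplexShape.up ℤ)).obj (DerCA.extCech M fs))
  | [], h => absurd h (List.not_mem_nil)
  | f :: fs, hg => fun G _ hG => by
    let K := DerCA.extCech M fs
    let u := DerCA.locCxUnit (Submonoid.powers f) K
    let GC := G.mapHomologicalComplex (ComplexShape.up ℤ)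
    suffices hc : Contr (GC.obj (CochainComplex.mappingCone u)) from
      contr_of_iso ((GC.commShiftIso (-1 : ℤ)).app (CochainComplex.mappingCone u)).symm (contr_shift hc (-1))
    refine contr_of_iso (CochainComplex.mappingCone.mapHomologicalComplexIso u G).symm ?_
    by_cases hgf : g = f
    · subst hgf
      have : ∀ i, IsIso ((GC.map u).f i) := fun i => hG _ (torsBij_locUnit g (K.X i))
      have : IsIso (GC.map u) := HomologicalComplex.Hom.isIso_of_components _
      exact contr_cone_of_isIso _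
    · have hg' : g ∈ fs := (List.mem_cons.1 hg).resolve_left hgf
      refine contr_cone _ (contr_extCech M fs hg' G hG) ?_
      exact contr_of_iso (HomologicalComplex.Hom.isoOfComponents (fun i => Iso.refl _) (fun i j _ => by
        change 𝟙 _ ≫ _ = _ ≫ 𝟙 _
        rw [Category.id_comp, Category.comp_id])) (contr_extCech M fs hg' (DerCA.locFunctor (Submonoid.powers f) ⋙ G) (inverts_comp g _ hG))

lemma exactAt_of_contr {P : DRing.Cx R} (h : Contr P) (i : ℤ) : P.ExactAt i := by
  rw [HomologicalComplex.exactAt_iff_isZero_homology]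
  exact IsZero.of_iso ((HomotopyCategory.homologyFunctor _ _ i).map_isZero h)
    ((HomotopyCategory.homologyFunctorFactors (ModuleCat.{u} R) (ComplexShape.up ℤ) i).app P).symm

/-- The terms of the extended Cech complex live in degrees `[0, length]`. -/
theorem vanishesOutside (M : ModuleCat.{u} R) : ∀ fs : List R,
    DRing.VanishesOutside (DerCA.extCech M fs) 0 fs.length
  | [] => fun i hi => HomologicalComplex.isZero_single_obj_X _ _ _ _ (by simp at hi; omega)
  | f :: fs => fun i hi => by
    refine IsZero.of_iso ?_ (DerCA.mappingCoconeXIso _ i)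
    simp only [List.length_cons, Nat.cast_add, Nat.cast_one] at hi
    refine (biprod_isZero_iff _ _).2 ⟨vanishesOutside M fs i (by omega), ?_⟩
    exact (DerCA.locFunctor (Submonoid.powers f)).map_isZero (vanishesOutside M fs (i - 1) (by omega))

lemma exists_pow_of_mem (M : ModuleCat.{u} R) {g : R} (fs : List R) (hg : g ∈ fs) (q : ℤ)
    (x : (DerCA.extCech M fs).homology q) : ∃ n : ℕ, g ^ n • x = 0 := by
  let K := DerCA.extCech M fs
  let S := Submonoid.powers g
  obtain ⟨z, hz, rfl⟩ := cls_surjective x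
  have hex := exactAt_of_contr (contr_extCech M fs hg _ (inverts_loc g)) q
  let mkS : ∀ i, K.X i →ₗ[R] LocalizedModule S (K.X i) := fun i => LocalizedModule.mkLinearMap S (K.X i)
  have hd : ∀ i j (y : K.X i), (((DerCA.locCx S).obj K).d i j).hom (mkS i y) = mkS j ((K.d i j).hom y) :=
    fun i j y => locMap_apply S (K.d i j) y
  obtain ⟨w, hw⟩ := (exactAt_iff_forall q (q - 1) (by omega)).1 hex (mkS q z)
    ((isCyc_iff rfl _).2 ((hd q (q + 1) z).trans (by rw [(isCyc_iff rfl z).1 hz, map_zero]; rfl)))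
  obtain ⟨⟨w0, s⟩, hs⟩ := IsLocalizedModule.surj S (mkS (q - 1)) w
  have h1 : mkS q ((K.d (q - 1) q).hom w0) = mkS q ((s : R) • z) := by
    rw [← hd, ← hs, map_smul]
    refine ((map_smul (((DerCA.locCx S).obj K).d (q - 1) q).hom (s : R) w).trans ?_)
    rw [hw]
    rfl
  obtain ⟨⟨_, k, rfl⟩, hk⟩ := IsLocalizedModule.exists_of_eq (S := S) h1
  obtain ⟨m, hm⟩ := s.2
  refine ⟨k + m, ?_⟩
  rw [← cls_smul hz]
  refine (cls_eq_zero_iff (q - 1) (by omega) _).2 ⟨g ^ k • w0, ?_⟩
  rw [map_smul]
  refine (show g ^ k • (K.d (q - 1) q).hom w0 = g ^ k • (s : R) • z from hk).trans ?_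
  rw [← hm, smul_smul, pow_add]

lemma pow_smul_eq_zero_of_le {N : Type u} [AddCommGroup N] [Module R N] {g : R} {m n : ℕ}
    (h : m ≤ n) {x : N} (hx : g ^ m • x = 0) : g ^ n • x = 0 := by
  rw [← Nat.sub_add_cancel h, pow_add, mul_smul, hx, smul_zero]

/-- A common power kills a class. -/
theorem exists_common_pow (M : ModuleCat.{u} R) (fs : List R) (q : ℤ)
    (x : (DerCA.extCech M fs).homology q) : ∃ n : ℕ, 1 ≤ n ∧ ∀ f ∈ fs, f ^ n • x = 0 := by
  classical
  choose! N hN using fun f (hf : f ∈ fs.toFinset) => exists_pow_of_mem M fs (List.mem_toFinset.1 hf) q x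
  exact ⟨fs.toFinset.sup N + 1, by omega, fun f hf =>
    pow_smul_eq_zero_of_le ((Finset.le_sup (List.mem_toFinset.2 hf)).trans (by omega))
      (hN f (List.mem_toFinset.2 hf))⟩

lemma isBij_loc {f : R} (S : Submonoid R) {N : ModuleCat.{u} R} (h : IsBij f N) :
    Function.Bijective fun x : LocalizedModule S N => f • x := by
  refine ⟨fun (x : LocalizedModule S N) (y : LocalizedModule S N) hxy => ?_,
    fun (y : LocalizedModule S N) => ?_⟩
  · obtain ⟨⟨x0, s⟩, hs⟩ := IsLocalizedModule.surj S (LocalizedModule.mkLinearMap S N) (x - y)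
    have h0 : LocalizedModule.mkLinearMap S N (f • x0) = 0 := by
      rw [map_smul, ← hs, smul_comm, smul_sub f x y, show f • x = f • y from hxy, sub_self, smul_zero]
    obtain ⟨⟨c, hc⟩, hc0⟩ := (IsLocalizedModule.eq_zero_iff S _).1 h0
    have h1 : f • c • x0 = f • 0 := by rw [smul_zero, smul_comm]; exact hc0
    have h2 : LocalizedModule.mkLinearMap S N x0 = 0 :=
      (IsLocalizedModule.eq_zero_iff S _).2 ⟨⟨c, hc⟩, h.1 h1⟩
    exact sub_eq_zero.1 (IsLocalizedModule.smul_injective (LocalizedModule.mkLinearMap S N) s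
      ((hs.trans h2).trans (smul_zero _).symm))
  · obtain ⟨⟨y0, s⟩, hs⟩ := IsLocalizedModule.surj S (LocalizedModule.mkLinearMap S N) y
    obtain ⟨x0, hx0⟩ := h.2 y0
    refine ⟨IsLocalizedModule.mk' (LocalizedModule.mkLinearMap S N) x0 s, smul_cancel _ s.2 ?_⟩
    refine (smul_comm (s : R) f (_ : LocalizedModule S N)).trans ?_
    refine (congrArg (f • ·) (IsLocalizedModule.mk'_cancel' (LocalizedModule.mkLinearMap S N) x0 s)).trans ?_
    exact ((map_smul (LocalizedModule.mkLinearMap S N) f x0).symm.trans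
      (congrArg _ hx0)).trans hs.symm

lemma cxBij_extCech {f : R} (M : ModuleCat.{u} R) (h : IsBij f M) : ∀ fs : List R,
    CxBij f (DerCA.extCech M fs)
  | [] => cxBij_sgl f h 0
  | g :: fs => fun i => by
    let e := (DerCA.mappingCoconeXIso (DerCA.locCxUnit (Submonoid.powers g) (DerCA.extCech M fs)) i ≪≫
      ModuleCat.biprodIsoProd _ _).toLinearEquiv
    have hb := (Function.Bijective.prodMap (cxBij_extCech M h fs i)
      (isBij_loc (Submonoid.powers g) (cxBij_extCech M h fs (i - 1))))
    let K' := (CochainComplex.mappingCocone (DerCA.locCxUnit (Submonoid.powers g) (DerCA.extCech M fs))).X i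
    have hfun : (fun x : K' => f • x) = (fun z => e.symm z) ∘ Prod.map _ _ ∘ fun x : K' => e x :=
      funext fun x => (e.symm_apply_apply (f • x)).symm.trans (congrArg e.symm (map_smul e f x))
    have hres : Function.Bijective fun x : K' => f • x := by
      rw [hfun]
      exact e.symm.bijective.comp (hb.comp e.bijective)
    exact hres

/-- Vanishing when an element of the ideal acts bijectively. -/
theorem isZero_of_bijective (M : ModuleCat.{u} R) (fs : List R) {f : R}
    (hf : f ∈ Ideal.span {a : R | a ∈ fs}) (h : IsBij f M) (q : ℤ) :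
    IsZero ((DerCA.extCech M fs).homology q) := by
  have hb := cxBij_extCech M h fs
  have hpow : ∀ (i : ℤ) (n : ℕ), Function.Bijective fun x : (DerCA.extCech M fs).X i => f ^ n • x := by
    intro i n
    induction n with
    | zero =>
      simp only [pow_zero, one_smul]
      exact Function.bijective_id
    | succ n ih =>
      simp only [pow_succ, mul_smul]
      exact ih.comp (hb i)
  refine ModuleCat.isZero_of_iff_subsingleton.mpr (subsingleton_of_forall_eq 0 fun x => ?_)
  have hr : f ∈ (Ideal.torsionOf R _ x).radical :=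
    (Ideal.span_le.2 fun g (hg : g ∈ fs) => by
      obtain ⟨n, hn⟩ := exists_pow_of_mem M fs hg q x
      exact ⟨n, hn⟩) hf
  obtain ⟨n, hn⟩ := hr
  obtain ⟨z, hz, rfl⟩ := cls_surjective x
  have hn' : cls (f ^ n • z) (hz.smul _) = 0 := (cls_smul hz _).trans hn
  obtain ⟨w, hw⟩ := (cls_eq_zero_iff (q - 1) (by omega) _).1 hn'
  obtain ⟨w', rfl⟩ := (hpow (q - 1) n).2 w
  exact (cls_eq_zero_iff (q - 1) (by omega) _).2
    ⟨w', (hpow q n).1 ((map_smul _ (f ^ n) w').symm.trans hw)⟩

end Groth.Agent.DRing.ExtCech
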