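import Groth.Agent.DRing.SplitTrunc
import Mathlib.Algebra.Category.ModuleCat.FilteredColimits
import Mathlib.CategoryTheory.Limits.ConcreteCategory.Basic

/-!
# `Ext` out of pseudo-coherent objects commutes with filtered colimits of modules
-/

universe u

open CategoryTheory CategoryTheory.Limits DerivedCategory CategoryTheory.Pretriangulated

attribute [local instance] HasDerivedCategory.standard

namespace Groth.Agent.DRing.ExtFiltered

open DBasic Homology PC SplitTrunc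

variable {R : Type u} [CommRing R] {J : Type u} [SmallCategory J] [IsFiltered J]
  {F : J ⥤ ModuleCat.{u} R} {c : Cocone F} (hc : IsColimit c)

include hc

lemma exists_lift {P : Type u} [AddCommGroup P] [Module R P] [Module.Finite R P] [Module.Free R P]
    (θ : P →ₗ[R] c.pt) : ∃ (j : J) (t : P →ₗ[R] F.obj j), (c.ι.app j).hom ∘ₗ t = θ := by
  classical
  let b := Module.Free.chooseBasis R P
  choose j x hx using fun k => Concrete.isColimit_exists_rep F hc (θ (b k))
  obtain ⟨k, hk⟩ := IsFiltered.sup_objs_exists (Finset.univ.image j)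
  refine ⟨k, b.constr R fun i => F.map (hk (Finset.mem_image_of_mem j (Finset.mem_univ i))).some (x i),
    b.ext fun i => ?_⟩
  rw [LinearMap.comp_apply, Module.Basis.constr_basis]
  refine Eq.trans ?_ (hx i)
  rw [← c.w (hk (Finset.mem_image_of_mem j (Finset.mem_univ i))).some]
  rfl

lemma exists_zero {P : Type u} [AddCommGroup P] [Module R P] [Module.Finite R P] {j : J}
    (t : P →ₗ[R] F.obj j) (h : (c.ι.app j).hom ∘ₗ t = 0) :
    ∃ (k : J) (f : j ⟶ k), (F.map f).hom ∘ₗ t = 0 := by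
  classical
  obtain ⟨S, hS⟩ := (inferInstance : Module.Finite R P).fg_top
  suffices ∀ T : Finset P, ∃ (k : J) (f : j ⟶ k), ∀ x ∈ T, (F.map f).hom (t x) = 0 by
    obtain ⟨k, f, hf⟩ := this S
    exact ⟨k, f, LinearMap.ext_on hS fun x hx => hf x hx⟩
  intro T
  induction T using Finset.induction with
  | empty => exact ⟨j, 𝟙 j, fun x hx => absurd hx (Finset.notMem_empty x)⟩
  | insert a T _ ih =>
    obtain ⟨k, f, hf⟩ := ih
    have ha : (c.ι.app k).hom ((F.map f).hom (t a)) = (c.ι.app k).hom 0 := by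
      rw [map_zero]
      exact ((LinearMap.congr_fun (congrArg ModuleCat.Hom.hom (c.w f)) (t a)).trans
        (LinearMap.congr_fun h a))
    obtain ⟨l, g, g', hg⟩ := (Concrete.isColimit_rep_eq_iff_exists F hc _ _).1 ha
    refine ⟨l, f ≫ g, fun x hx => ?_⟩
    rw [F.map_comp, ModuleCat.hom_comp, LinearMap.comp_apply]
    rcases Finset.mem_insert.1 hx with rfl | hx
    · exact hg.trans (map_zero _)
    · rw [hf x hx, map_zero]

variable {E : DRing.Cx R}

omit hc in
lemma exists_eq_toSgl [E.IsKProjective] (a : ℤ) {M : ModuleCat.{u} R}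
    (φ : DRing.toD E ⟶ DRing.toD (sgl a M)) :
    ∃ (θ : E.X a →ₗ[R] M) (h0 : θ ∘ₗ (E.d (a - 1) a).hom = 0), Q.map (toSgl E a θ h0) = φ := by
  obtain ⟨g, rfl⟩ := exists_Q_map_eq φ
  let θ := g.f a ≫ (HomologicalComplex.singleObjXSelf (ComplexShape.up ℤ) a M).hom
  have h0 : θ.hom ∘ₗ (E.d (a - 1) a).hom = 0 := by
    have h := g.comm (a - 1) a
    rw [show (sgl a M).d (a - 1) a = 0 from HomologicalComplex.single_obj_d _ _ _ _ _, comp_zero] at h
    rw [← ModuleCat.hom_comp, ← Category.assoc, ← h, zero_comp, ModuleCat.hom_zero]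
  refine ⟨θ.hom, h0, congrArg Q.map (HomologicalComplex.to_single_hom_ext ?_)⟩
  rw [toSgl_f, Iso.comp_inv_eq]
  rfl

omit [IsFiltered J] hc in
lemma Q_toSgl_comp (a : ℤ) {j : J} (t : E.X a →ₗ[R] F.obj j) (h0 : t ∘ₗ (E.d (a - 1) a).hom = 0)
    {M : ModuleCat.{u} R} (g : F.obj j ⟶ M) :
    Q.map (toSgl E a t h0) ≫
      Q.map ((HomologicalComplex.single (ModuleCat.{u} R) (ComplexShape.up ℤ) a).map g) =
      Q.map (toSgl E a (g.hom ∘ₗ t) (by rw [LinearMap.comp_assoc, h0, LinearMap.comp_zero])) :=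
  (Q.map_comp _ _).symm.trans (congrArg Q.map (toSgl_comp E a t h0 g _))

lemma perfect_case [E.IsKProjective] (hfin : DRing.TermwiseFiniteFree E) (a : ℤ) :
    (∀ x : DRing.toD E ⟶ DRing.toD (sgl a c.pt), ∃ (j : J) (y : DRing.toD E ⟶ DRing.toD (sgl a (F.obj j))),
      y ≫ Q.map ((HomologicalComplex.single (ModuleCat.{u} R) (ComplexShape.up ℤ) a).map (c.ι.app j)) = x) ∧
    ∀ (j : J) (y : DRing.toD E ⟶ DRing.toD (sgl a (F.obj j))),
      y ≫ Q.map ((HomologicalComplex.single (ModuleCat.{u} R) (ComplexShape.up ℤ) a).map (c.ι.app j)) = 0 →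
      ∃ (k : J) (f : j ⟶ k),
        y ≫ Q.map ((HomologicalComplex.single (ModuleCat.{u} R) (ComplexShape.up ℤ) a).map (F.map f)) = 0 := by
  have := fun i => (hfin i).1
  have := fun i => (hfin i).2
  constructor
  · intro x
    obtain ⟨θ, h0, rfl⟩ := exists_eq_toSgl a x
    obtain ⟨j, t, rfl⟩ := exists_lift hc θ
    obtain ⟨k, f, hk⟩ := exists_zero hc (t ∘ₗ (E.d (a - 1) a).hom)
      (by rw [← LinearMap.comp_assoc, h0])
    refine ⟨k, Q.map (toSgl E a ((F.map f).hom ∘ₗ t) (by rw [LinearMap.comp_assoc, hk])), ?_⟩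
    rw [Q_toSgl_comp]
    congr 2
    rw [← LinearMap.comp_assoc, ← ModuleCat.hom_comp, c.w]
  · intro j y hy
    obtain ⟨t, h0, rfl⟩ := exists_eq_toSgl a y
    rw [Q_toSgl_comp, Q_toSgl_eq_zero_iff] at hy
    obtain ⟨s, hs⟩ := hy
    obtain ⟨k, sk, rfl⟩ := exists_lift hc s
    let l := IsFiltered.max j k
    let f := IsFiltered.leftToMax j k
    let g := IsFiltered.rightToMax j k
    obtain ⟨m, e, he⟩ := exists_zero hc
      ((F.map f).hom ∘ₗ t - ((F.map g).hom ∘ₗ sk) ∘ₗ (E.d a (a + 1)).hom) (by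
        rw [LinearMap.comp_sub, ← LinearMap.comp_assoc, ← ModuleCat.hom_comp, c.w,
          ← LinearMap.comp_assoc, ← LinearMap.comp_assoc, ← ModuleCat.hom_comp, c.w, hs, sub_self])
    refine ⟨m, f ≫ e, ?_⟩
    rw [Q_toSgl_comp, Q_toSgl_eq_zero_iff]
    refine ⟨(F.map e).hom ∘ₗ (F.map g).hom ∘ₗ sk, ?_⟩
    rw [LinearMap.comp_sub, sub_eq_zero] at he
    rw [F.map_comp, ModuleCat.hom_comp, LinearMap.comp_assoc, he]
    rfl

omit [IsFiltered J] hc in
lemma inDShiftIso_natural {M N : ModuleCat.{u} R} (g : M ⟶ N) (a : ℤ) :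
    (shiftFunctor (Dual.D R) (-a)).map ((singleFunctor (ModuleCat.{u} R) 0).map g) ≫
        (PC.inDShiftIso N a).hom =
      (PC.inDShiftIso M a).hom ≫
        Q.map ((HomologicalComplex.single (ModuleCat.{u} R) (ComplexShape.up ℤ) a).map g) :=
  ((DerivedCategory.singleFunctors (ModuleCat.{u} R)).shiftIso (-a) a 0 (by omega) ≪≫
    singleFunctorIsoCompQ (ModuleCat.{u} R) a).hom.naturality g

theorem main (m : ℤ) (K : Dual.D R) (hK : DRing.IsPseudoCoherent R m K) :
    (∀ n : ℤ, n < -m → ∀ x : K ⟶ (shiftFunctor (Dual.D R) n).obj (Dual.inD R c.pt),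
      ∃ (j : J) (y : K ⟶ (shiftFunctor (Dual.D R) n).obj (Dual.inD R (F.obj j))),
        y ≫ (shiftFunctor (Dual.D R) n).map
          ((DerivedCategory.singleFunctor (ModuleCat.{u} R) 0).map (c.ι.app j)) = x) ∧
    (∀ n : ℤ, n ≤ -m → ∀ (j : J) (y : K ⟶ (shiftFunctor (Dual.D R) n).obj (Dual.inD R (F.obj j))),
      y ≫ (shiftFunctor (Dual.D R) n).map
          ((DerivedCategory.singleFunctor (ModuleCat.{u} R) 0).map (c.ι.app j)) = 0 →
      ∃ (j' : J) (f : j ⟶ j'), y ≫ (shiftFunctor (Dual.D R) n).map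
          ((DerivedCategory.singleFunctor (ModuleCat.{u} R) 0).map (F.map f)) = 0) := by
  obtain ⟨E, b, α, hE, hf, hα⟩ := exists_approx hK
  have := isKProjective_of_finiteFree hE hf
  obtain ⟨C, u, w, hT⟩ := distinguished_cocone_triangle α
  have hC : VanishGE C m := (isApprox_iff_vanishGE _ hT m).1 hα
  have hCz : ∀ (Y : Dual.D R) (d : ℤ), (∀ i, i < d → Subsingleton (Dual.HD R Y i)) → m ≤ d →
      ∀ φ : C ⟶ Y, φ = 0 := fun Y d hY hd φ => by
    have : C.IsLE (m - 1) := (isLE_iff_subsingleton _ _).2 fun i hi => hC i (by omega)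
    have : Y.IsGE d := (DerivedCategory.isGE_iff _ _).2 fun i hi =>
      (subsingleton_HD_iff_isZero Y i).1 (hY i hi)
    exact (DerivedCategory.TStructure.t (C := ModuleCat.{u} R)).zero φ (m - 1) d (by omega)
  have hinj : ∀ a : ℤ, m ≤ a → ∀ (M : ModuleCat.{u} R) (g : K ⟶ DRing.toD (sgl a M)),
      α ≫ g = 0 → g = 0 := fun a ha M g hg => by
    obtain ⟨ψ, rfl⟩ := Triangle.yoneda_exact₂ _ hT g hg
    exact (congrArg (u ≫ ·) (hCz _ a (fun i hi => PC.subsingleton_HD_sgl M (by omega)) ha ψ)).trans comp_zero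
  have hsurj : ∀ a : ℤ, m < a → ∀ (M : ModuleCat.{u} R) (g : DRing.toD E ⟶ DRing.toD (sgl a M)),
      ∃ g' : K ⟶ DRing.toD (sgl a M), α ≫ g' = g := fun a ha M g => by
    obtain ⟨h, hh⟩ := Triangle.yoneda_exact₂ _ (rot_of_distTriang _ (rot_of_distTriang _ hT))
      ((shiftFunctor (Dual.D R) (1 : ℤ)).map g) (hCz _ (a - 1) (fun i hi =>
        (subsingleton_HD_shift _ 1 i (i + 1) (by omega)).2 (PC.subsingleton_HD_sgl M (by omega)))
        (by omega) _)
    obtain ⟨(h' : K ⟶ DRing.toD (sgl a M)), rfl⟩ := (shiftFunctor (Dual.D R) (1 : ℤ)).map_surjective h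
    refine ⟨-h', (shiftFunctor (Dual.D R) (1 : ℤ)).map_injective ?_⟩
    rw [Functor.map_comp, Functor.map_neg, Preadditive.comp_neg, ← Preadditive.neg_comp]
    exact hh.symm
  constructor
  · intro n hn x
    obtain ⟨a, rfl⟩ : ∃ a, n = -a := ⟨-n, (neg_neg n).symm⟩
    obtain ⟨j, y, hy⟩ := (perfect_case hc hf a).1 (α ≫ x ≫ (PC.inDShiftIso c.pt a).hom)
    obtain ⟨y', rfl⟩ := hsurj a (by omega) _ y
    refine ⟨j, y' ≫ (PC.inDShiftIso (F.obj j) a).inv, ?_⟩
    rw [← cancel_mono (PC.inDShiftIso c.pt a).hom]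
    refine Eq.trans ?_ (sub_eq_zero.1 (hinj a (by omega) _
      ((y' ≫ Q.map ((HomologicalComplex.single (ModuleCat.{u} R) (ComplexShape.up ℤ) a).map (c.ι.app j)) : K ⟶ DRing.toD (sgl a c.pt))
        - x ≫ (PC.inDShiftIso c.pt a).hom) ?_))
    · rw [Category.assoc, Category.assoc]
      congr 1
      rw [Iso.inv_comp_eq]
      exact inDShiftIso_natural (c.ι.app j) a
    · rw [Preadditive.comp_sub, sub_eq_zero, ← Category.assoc]
      exact hy
  · intro n hn j y hy
    obtain ⟨a, rfl⟩ : ∃ a, n = -a := ⟨-n, (neg_neg n).symm⟩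
    let q := y ≫ (PC.inDShiftIso (F.obj j) a).hom
    have hq : ∀ {M : ModuleCat.{u} R} (g : F.obj j ⟶ M),
        q ≫ Q.map ((HomologicalComplex.single (ModuleCat.{u} R) (ComplexShape.up ℤ) a).map g) =
          (y ≫ (shiftFunctor (Dual.D R) (-a)).map ((singleFunctor (ModuleCat.{u} R) 0).map g)) ≫
            (PC.inDShiftIso M a).hom := fun g => by
      rw [Category.assoc, Category.assoc, inDShiftIso_natural]
    obtain ⟨k, f, hk⟩ := (perfect_case hc hf a).2 j (α ≫ q) (by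
      rw [Category.assoc, hq]
      refine (congrArg (fun z => α ≫ z ≫ (PC.inDShiftIso c.pt a).hom) hy).trans ?_
      rw [zero_comp, comp_zero])
    refine ⟨k, f, ?_⟩
    rw [Category.assoc] at hk
    have h := hinj a (by omega) _ _ hk
    rw [hq] at h
    exact Eq.trans ((cancel_mono (PC.inDShiftIso (F.obj k) a).hom).1 (h.trans zero_comp.symm)) rfl

end Groth.Agent.DRing.ExtFiltered
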