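import Groth.Agent.DRing.Perfect
import Groth.Agent.DRing.SingleTensor
import Groth.Agent.DRing.BaseChangeAmp
import Groth.Agent.DRing.TensorAmp
import Mathlib.LinearAlgebra.Matrix.Charpoly.LinearMap
import Mathlib.LinearAlgebra.TensorProduct.Quotient
import Mathlib.RingTheory.Ideal.Quotient.Basic
import Mathlib.LinearAlgebra.Basis.VectorSpace

/-!
# Perfection from the fibres at maximal ideals
-/

universe u

open CategoryTheory CategoryTheory.Limits DerivedCategory MonoidalCategory

attribute [local instance] HasDerivedCategory.standard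

namespace Groth.Agent.DRing.FibreAmp

open DBasic Homology DRing.KFlat TorAmp
open scoped TensorProduct

variable {R : Type u} [CommRing R]

section Contraction

variable {E₁ E₂ E₃ : Type u} [AddCommGroup E₁] [AddCommGroup E₂] [AddCommGroup E₃] [Module R E₁]
  [Module R E₂] [Module R E₃]

lemma aeval_comp_of_comm (a : E₁ →ₗ[R] E₂) (u : Module.End R E₂) (w : Module.End R E₁)
    (h : u ∘ₗ a = a ∘ₗ w) (p : Polynomial R) :
    (Polynomial.aeval u p) ∘ₗ a = a ∘ₗ (Polynomial.aeval w p) := by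
  have hpow : ∀ n : ℕ, (u ^ n) ∘ₗ a = a ∘ₗ (w ^ n) := by
    intro n
    induction n with
    | zero => rfl
    | succ n ih =>
      rw [pow_succ, pow_succ, Module.End.mul_eq_comp, Module.End.mul_eq_comp, LinearMap.comp_assoc, h,
        ← LinearMap.comp_assoc, ih, LinearMap.comp_assoc]
  induction p using Polynomial.induction_on' with
  | add p q hp hq => rw [map_add, map_add, LinearMap.add_comp, LinearMap.comp_add, hp, hq]
  | monomial n r =>
    rw [Polynomial.aeval_monomial, Polynomial.aeval_monomial]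
    refine LinearMap.ext fun x => ?_
    have := LinearMap.congr_fun (hpow n) x
    simp only [LinearMap.comp_apply] at this
    simp [Module.algebraMap_end_apply, this]

variable [Module.Finite R E₂] [Module.Projective R E₂] [Module.Projective R E₃]

/-- A complex exact modulo a maximal ideal is split exact after inverting an element outside it. -/
theorem exists_contraction (a : E₁ →ₗ[R] E₂) (b : E₂ →ₗ[R] E₃) (hba : b ∘ₗ a = 0) (m : Ideal R) [m.IsMaximal]
    (h : ∀ x, b x ∈ (m • ⊤ : Submodule R E₃) → ∃ y, x - a y ∈ (m • ⊤ : Submodule R E₂)) :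
    ∃ s ∉ m, ∃ (r : E₂ →ₗ[R] E₁) (t : E₃ →ₗ[R] E₂), a ∘ₗ r + t ∘ₗ b = s • LinearMap.id := by
  let : Field (R ⧸ m) := Ideal.Quotient.field m
  have hk : Function.Surjective (algebraMap R (R ⧸ m)) := Ideal.Quotient.mk_surjective
  let π₂ := (m • ⊤ : Submodule R E₂).mkQ
  let π₃ := (m • ⊤ : Submodule R E₃).mkQ
  let π₁ := (m • ⊤ : Submodule R E₁).mkQ
  have hmap : ∀ {M N : Type u} [AddCommGroup M] [AddCommGroup N] [Module R M] [Module R N] (v : M →ₗ[R] N),
      (m • ⊤ : Submodule R M) ≤ (m • ⊤ : Submodule R N).comap v := fun v => by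
    rw [← Submodule.map_le_iff_le_comap, Submodule.map_smul'']
    exact Submodule.smul_mono le_rfl le_top
  let a' := (Submodule.mapQ _ _ a (hmap a)).extendScalarsOfSurjective hk
  let b' := (Submodule.mapQ _ _ b (hmap b)).extendScalarsOfSurjective hk
  let bb := (LinearMap.range a').liftQ b' (by
    rintro _ ⟨y, rfl⟩
    obtain ⟨y, rfl⟩ := Submodule.Quotient.mk_surjective _ y
    exact congrArg (Submodule.Quotient.mk (p := (m • ⊤ : Submodule R E₃))) (LinearMap.congr_fun hba y))
  have hbb : LinearMap.ker bb = ⊥ := by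
    rw [LinearMap.ker_eq_bot']
    intro z hz
    obtain ⟨z, rfl⟩ := Submodule.Quotient.mk_surjective _ z
    obtain ⟨x, rfl⟩ := Submodule.Quotient.mk_surjective _ z
    obtain ⟨y, hy⟩ := h x ((Submodule.Quotient.mk_eq_zero _).1 hz)
    exact (Submodule.Quotient.mk_eq_zero _).2 ⟨π₁ y, ((Submodule.Quotient.eq _).2 hy).symm⟩
  obtain ⟨t₀, ht₀⟩ := bb.exists_leftInverse_of_injective hbb
  obtain ⟨σ, hσ⟩ := Module.projective_lifting_property (LinearMap.range a').mkQ LinearMap.id
    (Submodule.mkQ_surjective _)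
  obtain ⟨t, ht⟩ := Module.projective_lifting_property π₂ (((σ ∘ₗ t₀).restrictScalars R) ∘ₗ π₃)
    (Submodule.mkQ_surjective _)
  have hcong : ∀ x, π₂ x - π₂ (t (b x)) ∈ LinearMap.range a' := fun x => by
    refine (Submodule.Quotient.mk_eq_zero _).1 ?_
    change (LinearMap.range a').mkQ (π₂ x - π₂ (t (b x))) = 0
    rw [map_sub, sub_eq_zero, show π₂ (t (b x)) = σ (t₀ (π₃ (b x))) from LinearMap.congr_fun ht (b x)]
    have h1 := LinearMap.congr_fun hσ (t₀ (π₃ (b x)))
    have h2 := LinearMap.congr_fun ht₀ ((LinearMap.range a').mkQ (π₂ x))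
    exact h2.symm.trans h1.symm
  obtain ⟨r, hr⟩ := Module.projective_lifting_property
    ((π₂ ∘ₗ a).codRestrict ((LinearMap.range a').restrictScalars R) fun y => ⟨π₁ y, rfl⟩)
    ((π₂ - π₂ ∘ₗ t ∘ₗ b).codRestrict ((LinearMap.range a').restrictScalars R) hcong)
    (by
      rintro ⟨_, y, rfl⟩
      obtain ⟨y, rfl⟩ := Submodule.Quotient.mk_surjective _ y
      exact ⟨y, Subtype.ext rfl⟩)
  let U : Module.End R E₂ := a ∘ₗ r + t ∘ₗ b
  have hU : LinearMap.range (U - 1) ≤ m • ⊤ := by
    rintro _ ⟨x, rfl⟩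
    refine (Submodule.Quotient.mk_eq_zero _).1 ?_
    have h1 : π₂ (a (r x)) = π₂ x - π₂ (t (b x)) := congrArg Subtype.val (LinearMap.congr_fun hr x)
    change π₂ (a (r x) + t (b x) - x) = 0
    rw [map_sub, map_add, h1, sub_add_cancel, sub_self]
  obtain ⟨p, hp, -, hcoeff, hpU⟩ :=
    LinearMap.exists_monic_and_natDegree_eq_and_coeff_mem_pow_and_aeval_eq_zero R (U - 1) m hU
  let P := p.comp (Polynomial.X - 1)
  have hP : Polynomial.aeval U P = 0 := by
    rw [Polynomial.aeval_comp, map_sub, map_one, Polynomial.aeval_X, hpU]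
  have hc : P.coeff 0 ∉ m := by
    intro hmem
    rw [Polynomial.coeff_zero_eq_eval_zero, Polynomial.eval_comp, Polynomial.eval_eq_sum_range,
      Finset.sum_range_succ, hp.coeff_natDegree, one_mul] at hmem
    simp only [Polynomial.eval_sub, Polynomial.eval_X, Polynomial.eval_one, zero_sub] at hmem
    have : ∑ k ∈ Finset.range p.natDegree, p.coeff k * (-1) ^ k ∈ m := Ideal.sum_mem _ fun k hk =>
      Ideal.mul_mem_right _ _ (Ideal.pow_le_self (Nat.sub_ne_zero_of_lt (Finset.mem_range.1 hk)) (hcoeff k))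
    have h1 := (Ideal.add_mem_iff_right m this).1 hmem
    exact Ideal.IsPrime.ne_top (Ideal.IsMaximal.isPrime inferInstance)
      (Ideal.eq_top_of_isUnit_mem _ h1 ((isUnit_one.neg).pow _))
  refine ⟨-P.coeff 0, fun h' => hc (by simpa using m.neg_mem h'), Polynomial.aeval (r ∘ₗ a) P.divX ∘ₗ r,
    Polynomial.aeval U P.divX ∘ₗ t, ?_⟩
  have hcomm : U ∘ₗ a = a ∘ₗ (r ∘ₗ a) := by
    change (a ∘ₗ r + t ∘ₗ b) ∘ₗ a = _
    rw [LinearMap.add_comp, LinearMap.comp_assoc a b t, hba, LinearMap.comp_zero, add_zero,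
      LinearMap.comp_assoc]
  have key : Polynomial.aeval U P.divX * U = (-P.coeff 0) • LinearMap.id := by
    have h1 := congrArg (Polynomial.aeval U) P.divX_mul_X_add
    rw [map_add, map_mul, Polynomial.aeval_X, Polynomial.aeval_C, hP] at h1
    rw [eq_neg_of_add_eq_zero_left h1, neg_smul]
    rfl
  rw [← key]
  change _ = (Polynomial.aeval U P.divX) ∘ₗ (a ∘ₗ r + t ∘ₗ b)
  rw [LinearMap.comp_add, ← LinearMap.comp_assoc r a (Polynomial.aeval U P.divX),
    aeval_comp_of_comm a U (r ∘ₗ a) hcomm, LinearMap.comp_assoc, LinearMap.comp_assoc]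

end Contraction

/-- Fibrewise exactness implies universal exactness. -/
theorem exactAt_tensor_of_fibres (P : DRing.Cx R) (hfin : ∀ i, Module.Finite R (P.X i))
    (hproj : ∀ i, Module.Projective R (P.X i)) (i : ℤ)
    (h : ∀ m : Ideal R, m.IsMaximal → (DRing.tensorCx P (ModuleCat.of R (R ⧸ m))).ExactAt i)
    (M : ModuleCat.{u} R) : (DRing.tensorCx P M).ExactAt i := by
  let a := (P.d (i - 1) i).hom
  let b := (P.d i (i + 1)).hom
  have hba : b ∘ₗ a = 0 := by
    rw [← ModuleCat.hom_comp, P.d_comp_d]; rfl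
  let J : Ideal R :=
    { carrier := {s | ∃ (r : P.X i →ₗ[R] P.X (i - 1)) (t : P.X (i + 1) →ₗ[R] P.X i),
        a ∘ₗ r + t ∘ₗ b = s • LinearMap.id}
      add_mem' := by
        rintro x y ⟨r, t, hx⟩ ⟨r', t', hy⟩
        exact ⟨r + r', t + t', by rw [LinearMap.comp_add, LinearMap.add_comp, add_smul, ← hx, ← hy]; abel⟩
      zero_mem' := ⟨0, 0, by rw [LinearMap.comp_zero, LinearMap.zero_comp, add_zero, zero_smul]⟩
      smul_mem' := by
        rintro c x ⟨r, t, hx⟩
        exact ⟨c • r, c • t, by rw [LinearMap.comp_smul, LinearMap.smul_comp, ← smul_add, hx, smul_smul]; rfl⟩ }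
  have hJ : J = ⊤ := by
    by_contra hne
    obtain ⟨m, hm, hle⟩ := Ideal.exists_le_maximal J hne
    have := hfin i
    have := hproj i
    have := hproj (i + 1)
    obtain ⟨s, hs, r, t, hrt⟩ := exists_contraction a b hba m fun x hx => by
      have hex := (exactAt_iff_forall i (i - 1) (by omega)).1 (h m hm)
      let τ := fun j => TensorProduct.tensorQuotEquivQuotSMul (P.X j) m
      obtain ⟨w, hw⟩ := hex (x ⊗ₜ[R] (1 : R ⧸ m)) ((isCyc_iff rfl _).2 ((τ (i + 1)).injective (by
        change τ (i + 1) ((b x) ⊗ₜ[R] (1 : R ⧸ m)) = τ (i + 1) 0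
        rw [map_zero, ← map_one (Ideal.Quotient.mk m), TensorProduct.tensorQuotEquivQuotSMul_tmul_mk, one_smul]
        exact (Submodule.Quotient.mk_eq_zero _).2 hx)))
      obtain ⟨w, rfl⟩ := (τ (i - 1)).symm.surjective w
      obtain ⟨y, rfl⟩ := Submodule.Quotient.mk_surjective _ w
      rw [TensorProduct.tensorQuotEquivQuotSMul_symm_mk] at hw
      refine ⟨y, (Submodule.Quotient.eq _).1 ?_⟩
      have h1 := congrArg (τ i) hw
      change τ i ((a y) ⊗ₜ[R] (1 : R ⧸ m)) = τ i (x ⊗ₜ[R] (1 : R ⧸ m)) at h1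
      rw [← map_one (Ideal.Quotient.mk m), TensorProduct.tensorQuotEquivQuotSMul_tmul_mk,
        TensorProduct.tensorQuotEquivQuotSMul_tmul_mk, one_smul, one_smul] at h1
      exact h1.symm
    exact hs (hle ⟨r, t, hrt⟩)
  obtain ⟨r, t, hrt⟩ := hJ ▸ (Submodule.mem_top : (1 : R) ∈ (⊤ : Ideal R))
  rw [exactAt_iff_forall i (i - 1) (by omega)]
  intro z hz
  have h0 : (b.rTensor M) z = 0 := (isCyc_iff rfl z).1 hz
  clear hz
  change TensorProduct R (P.X i) M at z
  refine ⟨(r.rTensor M) z, ?_⟩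
  have h1 := LinearMap.congr_fun (congrArg (LinearMap.rTensor M) hrt) z
  rw [one_smul, LinearMap.rTensor_id, LinearMap.rTensor_add, LinearMap.rTensor_comp, LinearMap.rTensor_comp,
    LinearMap.add_apply, LinearMap.comp_apply, LinearMap.comp_apply, h0, map_zero, add_zero] at h1
  exact h1

theorem perfect_of_fibres (K : Dual.D R) (hK : DRing.IsPseudoCoherent' R K) (a b : ℤ)
    [∀ m : Ideal R, DRing.HasLBaseChange (Ideal.Quotient.mk m)]
    (h : ∀ (m : Ideal R), m.IsMaximal → ∀ i : ℤ, (i < a ∨ b < i) →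
      Subsingleton (Dual.HD (R ⧸ m) ((DRing.LBaseChange (Ideal.Quotient.mk m)).obj K) i)) :
    DRing.IsPerfect R K ∧ DRing.HasTorAmplitudeIn R a b K := by
  have hK' := hK
  obtain ⟨E, c, hc, hf, ⟨e⟩⟩ := hK'
  have hp : ∀ i, Module.Projective R (E.X i) := fun i => have := (hf i).2; inferInstance
  have hflat : IsKFlat E := TorAmp.isKFlat_of_projective hc hp
  have ht : DRing.HasTorAmplitudeIn R a b K := by
    rw [hasTorAmp_iff hflat e]
    intro M i hi
    refine exactAt_tensor_of_fibres E (fun j => (hf j).1) hp i (fun m hm => ?_) M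
    let φ := Ideal.Quotient.mk m
    have h1 := (subsingleton_HD_congr (Perfect.baseChangeIsoOfRep φ hflat e) i).2 (h m hm i hi)
    rw [subsingleton_HD_toD_iff, ← HomologicalComplex.exactAt_iff_isZero_homology] at h1
    exact (exactAt_iff_of_quasiIso ((NatIso.mapHomologicalComplex (SingleTensor.restrictExtendIso φ)
      (ComplexShape.up ℤ)).app E).hom i).1 ((TensorAmp.exactAt_restrictCx_iff φ _ i).2 h1)
  exact ⟨(Perfect.perfect_iff K).2 ⟨hK, a, b, ht⟩, ht⟩

theorem perfect_of_fibre_local [IsLocalRing R] [DRing.HasLBaseChange (IsLocalRing.residue R)]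
    (K : Dual.D R) (hK : DRing.IsPseudoCoherent' R K) (a : ℤ)
    (h : ∀ i : ℤ, i < a → Subsingleton (Dual.HD (IsLocalRing.ResidueField R)
      ((DRing.LBaseChange (IsLocalRing.residue R)).obj K) i)) :
    DRing.IsPerfect R K := by
  have hK' := hK
  obtain ⟨E, c, hc, hf, ⟨e⟩⟩ := hK'
  have hp : ∀ i, Module.Projective R (E.X i) := fun i => have := (hf i).2; inferInstance
  have := fun m : Ideal R => LTensor.hasLBaseChange (Ideal.Quotient.mk m)
  refine (perfect_of_fibres K hK a c fun m hm i hi => ?_).1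
  obtain rfl := IsLocalRing.eq_maximalIdeal hm
  rcases hi with hi | hi
  · exact h i hi
  · refine (subsingleton_HD_congr (Perfect.baseChangeIsoOfRep _ (TorAmp.isKFlat_of_projective hc hp) e) i).1 ?_
    rw [subsingleton_HD_toD_iff]
    exact ShortComplex.isZero_homology_of_isZero_X₂ _ (Perfect.isZero_extCx _ (hc i hi))

end Groth.Agent.DRing.FibreAmp
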