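import Groth.Agent.DRing.Nilpotent
import Mathlib.Algebra.Module.LocalizedModule.Basic
import Mathlib.RingTheory.Localization.Away.Basic
import Mathlib.RingTheory.FiniteLength
import Mathlib.RingTheory.LocalRing.ResidueField.Basic

/-!
# Vanishing of `P ⊗ N` from `R_f` and `R/f`, and for finite length modules
-/

universe u

open CategoryTheory CategoryTheory.Limits DerivedCategory MonoidalCategory

attribute [local instance] HasDerivedCategory.standard

namespace Groth.Agent.DRing.AwayQuot

open DBasic Homology DRing.KFlat TorAmp PC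
open scoped TensorProduct

variable {R : Type u} [CommRing R]

/-- Extensions. -/
lemma exactAt_tensor_ext (P : DRing.Cx R) (hP : ∀ j, Module.Flat R (P.X j)) (i : ℤ)
    (N : ModuleCat.{u} R) (S : Submodule R N)
    (h1 : (DRing.tensorCx P (ModuleCat.of R S)).ExactAt i)
    (h3 : (DRing.tensorCx P (ModuleCat.of R (N ⧸ S))).ExactAt i) :
    (DRing.tensorCx P N).ExactAt i := by
  let T := ShortComplex.moduleCatMk S.subtype S.mkQ
    (LinearMap.ext fun x => (Submodule.Quotient.mk_eq_zero _).2 x.2)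
  have hT : T.ShortExact :=
    { exact := (ShortComplex.ShortExact.moduleCat_exact_iff_function_exact T).2 (LinearMap.exact_subtype_mkQ _)
      mono_f := (ModuleCat.mono_iff_injective _).2 (Submodule.injective_subtype _)
      epi_g := (ModuleCat.epi_iff_surjective _).2 (Submodule.mkQ_surjective _) }
  obtain ⟨h0, hse⟩ := DerComplete.shortExact_tmap P hP T hT
  rw [HomologicalComplex.exactAt_iff_isZero_homology] at h1 h3 ⊢
  exact (hse.homology_exact₂ i).isZero_of_both_zeros (h1.eq_of_src _ _) (h3.eq_of_tgt _ _)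

/-- Modules killed by a power of `f`. -/
lemma exactAt_tensor_pow (P : DRing.Cx R) (hP : ∀ j, Module.Flat R (P.X j)) (i : ℤ) (f : R)
    (hf : ∀ N : ModuleCat.{u} R, (∀ x : N, f • x = 0) → (DRing.tensorCx P N).ExactAt i) :
    ∀ (n : ℕ) (N : ModuleCat.{u} R), (∀ x : N, f ^ n • x = 0) → (DRing.tensorCx P N).ExactAt i := by
  intro n
  induction n with
  | zero => exact fun N hN => hf N fun x => by rw [show x = 0 by simpa using hN x, smul_zero]
  | succ n ih =>
    intro N hN
    refine exactAt_tensor_ext P hP i N (LinearMap.range (LinearMap.lsmul R N f)) (ih _ ?_) (hf _ ?_)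
    · rintro ⟨_, y, rfl⟩
      refine Subtype.ext ?_
      change f ^ n • (f • y) = 0
      rw [smul_smul, ← pow_succ]
      exact hN y
    · intro x
      obtain ⟨x, rfl⟩ := Submodule.mkQ_surjective _ x
      exact ((LinearMap.range (LinearMap.lsmul R N f)).mkQ.map_smul f x).symm.trans
        ((Submodule.Quotient.mk_eq_zero _).2 ⟨x, rfl⟩)

/-- Exactness elementwise. -/
lemma exists_of_exactAt {P : DRing.Cx R} {N : ModuleCat.{u} R} {k : ℤ}
    (h : (DRing.tensorCx P N).ExactAt (k + 1)) (z : P.X (k + 1) ⊗[R] N)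
    (hz : (P.d (k + 1) (k + 1 + 1)).hom.rTensor N z = 0) :
    ∃ w : P.X k ⊗[R] N, (P.d k (k + 1)).hom.rTensor N w = z :=
  (exactAt_iff_forall (k + 1) k rfl).1 h z hz

lemma exactAt_of_exists {P : DRing.Cx R} {N : ModuleCat.{u} R} {k : ℤ}
    (h : ∀ z : P.X (k + 1) ⊗[R] N, (P.d (k + 1) (k + 1 + 1)).hom.rTensor N z = 0 →
      ∃ w : P.X k ⊗[R] N, (P.d k (k + 1)).hom.rTensor N w = z) :
    (DRing.tensorCx P N).ExactAt (k + 1) :=
  (exactAt_iff_forall (k + 1) k rfl).2 fun z hz => h z hz

lemma lTensor_rTensor {M M' N N' : Type u} [AddCommGroup M] [AddCommGroup M'] [AddCommGroup N]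
    [AddCommGroup N'] [Module R M] [Module R M'] [Module R N] [Module R N']
    (g : M →ₗ[R] M') (ι : N →ₗ[R] N') (w : M ⊗[R] N) :
    g.rTensor N' (ι.lTensor M w) = ι.lTensor M' (g.rTensor N w) := by
  rw [← LinearMap.comp_apply, LinearMap.rTensor_comp_lTensor, ← LinearMap.lTensor_comp_rTensor,
    LinearMap.comp_apply]

/-- Torsion modules, as unions. -/
lemma exactAt_tensor_torsion (P : DRing.Cx R) (hP : ∀ j, Module.Flat R (P.X j)) (k : ℤ) (f : R)
    (hf : ∀ (n : ℕ) (N : ModuleCat.{u} R), (∀ x : N, f ^ n • x = 0) → (DRing.tensorCx P N).ExactAt (k + 1))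
    (T : ModuleCat.{u} R) (hT : ∀ x : T, ∃ n : ℕ, f ^ n • x = 0) :
    (DRing.tensorCx P T).ExactAt (k + 1) := by
  refine exactAt_of_exists fun z hz => ?_
  obtain ⟨J, hJ, hzJ⟩ := TensorProduct.exists_finite_submodule_right_of_setFinite {z} (Set.finite_singleton z)
  obtain ⟨z', hz'⟩ := hzJ rfl
  obtain ⟨n, hn⟩ : ∃ n : ℕ, ∀ x : J, f ^ n • x = 0 := by
    obtain ⟨s, hs⟩ := hJ.fg_top
    choose m hm using hT
    refine ⟨s.sup fun x => m x.1, fun x => ?_⟩
    have : (LinearMap.lsmul R J (f ^ s.sup fun x => m x.1)) = 0 :=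
      LinearMap.ext_on hs fun y hy => Subtype.ext (by
        change f ^ (s.sup fun x => m x.1) • y.1 = 0
        obtain ⟨d, hd⟩ := Nat.exists_eq_add_of_le (Finset.le_sup (f := fun x : J => m x.1) hy)
        rw [hd, pow_add, mul_comm, ← smul_smul, hm, smul_zero])
    exact LinearMap.congr_fun this x
  have := hP (k + 1 + 1)
  have hinj := Module.Flat.lTensor_preserves_injective_linearMap (M := P.X (k + 1 + 1)) J.subtype J.injective_subtype
  have hcyc : (P.d (k + 1) (k + 1 + 1)).hom.rTensor J z' = 0 := by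
    refine hinj ?_
    rw [map_zero, ← lTensor_rTensor]
    exact (congrArg _ hz').trans hz
  obtain ⟨w, hw⟩ := exists_of_exactAt (hf n (ModuleCat.of R J) hn) z' hcyc
  exact ⟨J.subtype.lTensor _ w, by rw [lTensor_rTensor, hw]; exact hz'⟩

/-- Vanishing over `R_f` and `R/f` gives vanishing. -/
theorem exactAt_tensor_of_away (P : DRing.Cx R) (hP : ∀ j, Module.Flat R (P.X j)) (f : R) (k : ℤ)
    (h0 : ∀ N : ModuleCat.{u} R, (∀ x : N, f • x = 0) → (DRing.tensorCx P N).ExactAt k)
    (h1 : ∀ N : ModuleCat.{u} R, (∀ x : N, f • x = 0) → (DRing.tensorCx P N).ExactAt (k + 1))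
    (hl : ∀ N : ModuleCat.{u} (Localization.Away f), (DRing.tensorCx P
      ((ModuleCat.restrictScalars (algebraMap R (Localization.Away f))).obj N)).ExactAt (k + 1))
    (N : ModuleCat.{u} R) : (DRing.tensorCx P N).ExactAt (k + 1) := by
  let T : Submodule R N :=
    { carrier := {x | ∃ n : ℕ, f ^ n • x = 0}
      zero_mem' := ⟨0, smul_zero _⟩
      add_mem' := by
        rintro x y ⟨n, hn⟩ ⟨m, hm⟩
        exact ⟨n + m, by rw [smul_add, pow_add, mul_smul, mul_smul, hm, smul_zero, add_zero, smul_comm, hn, smul_zero]⟩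
      smul_mem' := by
        rintro c x ⟨n, hn⟩
        exact ⟨n, by rw [smul_comm, hn, smul_zero]⟩ }
  refine exactAt_tensor_ext P hP _ N T (exactAt_tensor_torsion P hP k f
    (exactAt_tensor_pow P hP (k + 1) f h1) _ (fun ⟨x, n, hn⟩ => ⟨n, Subtype.ext hn⟩)) ?_
  have htf : ∀ x : N ⧸ T, f • x = 0 → x = 0 := fun x hx => by
    obtain ⟨x, rfl⟩ := Submodule.mkQ_surjective _ x
    rw [← map_smul] at hx
    obtain ⟨n, hn⟩ := (Submodule.Quotient.mk_eq_zero _).1 hx
    exact (Submodule.Quotient.mk_eq_zero _).2 ⟨n + 1, by rw [pow_succ, mul_smul, hn]⟩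
  let M := N ⧸ T
  let L : ModuleCat.{u} R := (ModuleCat.restrictScalars (algebraMap R (Localization.Away f))).obj
    (ModuleCat.of (Localization.Away f) (LocalizedModule (Submonoid.powers f) M))
  let η : LocalizedModule (Submonoid.powers f) M ≃ₗ[R] L :=
    { toFun := fun x => x
      invFun := fun x => x
      left_inv := fun _ => rfl
      right_inv := fun _ => rfl
      map_add' := fun _ _ => rfl
      map_smul' := fun r x => (algebraMap_smul (Localization.Away f) r x).symm }
  let ι : M →ₗ[R] L := η.toLinearMap ∘ₗ LocalizedModule.mkLinearMap _ M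
  have : IsLocalizedModule (Submonoid.powers f) ι :=
    IsLocalizedModule.of_linearEquiv (Submonoid.powers f) (LocalizedModule.mkLinearMap _ M) η
  have hι : Function.Injective ι := by
    rw [← LinearMap.ker_eq_bot, LinearMap.ker_eq_bot']
    intro x hx
    obtain ⟨⟨_, n, rfl⟩, hn⟩ := (IsLocalizedModule.eq_zero_iff (Submonoid.powers f) ι).1 hx
    change f ^ n • x = 0 at hn
    induction n generalizing x with
    | zero => simpa using hn
    | succ n ih =>
      refine ih x hx (htf _ ?_)
      rwa [smul_smul, ← pow_succ']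
  refine exactAt_of_exists fun z hz => ?_
  have := hP (k + 1)
  have hz1 : (P.d (k + 1) (k + 1 + 1)).hom.rTensor _ (ι.lTensor _ z) = 0 := by
    rw [lTensor_rTensor]
    exact (congrArg _ hz).trans (map_zero _)
  obtain ⟨w, hw⟩ := exists_of_exactAt (N := L) (hl _) (ι.lTensor _ z) hz1
  obtain ⟨n, w0, hw0⟩ : ∃ (n : ℕ) (w0 : P.X k ⊗[R] M), ι.lTensor _ w0 = f ^ n • w := by
    clear hw
    induction w using TensorProduct.induction_on with
    | zero => exact ⟨0, 0, by rw [map_zero, smul_zero]⟩
    | tmul p m =>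
      obtain ⟨⟨m0, _, n, rfl⟩, hm⟩ := IsLocalizedModule.surj (Submonoid.powers f) ι m
      exact ⟨n, p ⊗ₜ m0, by rw [LinearMap.lTensor_tmul, ← hm, ← TensorProduct.tmul_smul]; rfl⟩
    | add x y hx hy =>
      obtain ⟨n, x0, hx⟩ := hx
      obtain ⟨m, y0, hy⟩ := hy
      exact ⟨n + m, f ^ m • x0 + f ^ n • y0, by
        rw [map_add, map_smul, map_smul, hx, hy, smul_smul, smul_smul, smul_add, ← pow_add, ← pow_add, add_comm m]⟩
  have hb : (P.d k (k + 1)).hom.rTensor M w0 = f ^ n • z := by
    apply Module.Flat.lTensor_preserves_injective_linearMap (M := P.X (k + 1)) ι hι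
    rw [← lTensor_rTensor, hw0, map_smul, map_smul]
    exact congrArg (f ^ n • ·) hw
  clear hw0
  induction n generalizing w0 with
  | zero => exact ⟨w0, by simpa using hb⟩
  | succ n ih =>
    obtain ⟨j, rfl⟩ : ∃ j, k = j + 1 := ⟨k - 1, by omega⟩
    let g : M →ₗ[R] M := LinearMap.lsmul R M f
    let q := (LinearMap.range g).mkQ
    have hex : Function.Exact g q := LinearMap.exact_iff.2 (by simp [q])
    have hgl : ∀ (X : Type u) [AddCommGroup X] [Module R X] (x : X ⊗[R] M), g.lTensor X x = f • x := by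
      intro X _ _ x
      induction x using TensorProduct.induction_on with
      | zero => rw [map_zero, smul_zero]
      | tmul p m => rw [LinearMap.lTensor_tmul, ← TensorProduct.tmul_smul]; rfl
      | add x y hx hy => rw [map_add, hx, hy, smul_add]
    have hcyc : (P.d (j + 1) (j + 1 + 1)).hom.rTensor (M ⧸ LinearMap.range g) (q.lTensor _ w0) = 0 := by
      rw [lTensor_rTensor, hb, pow_succ', mul_smul, ← hgl, ← LinearMap.comp_apply,
        ← LinearMap.lTensor_comp, hex.linearMap_comp_eq_zero, LinearMap.lTensor_zero, LinearMap.zero_apply]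
    obtain ⟨v, hv⟩ := exists_of_exactAt (N := ModuleCat.of R (M ⧸ LinearMap.range g))
      (h0 (ModuleCat.of R (M ⧸ LinearMap.range g)) fun x => by
        obtain ⟨x, rfl⟩ := Submodule.mkQ_surjective _ x
        exact ((LinearMap.range g).mkQ.map_smul f x).symm.trans ((Submodule.Quotient.mk_eq_zero _).2 ⟨x, rfl⟩))
      (q.lTensor _ w0) hcyc
    obtain ⟨v0, rfl⟩ := LinearMap.lTensor_surjective (P.X j) (Submodule.mkQ_surjective (LinearMap.range g)) v
    have hq : q.lTensor _ (w0 - (P.d j (j + 1)).hom.rTensor M v0) = 0 := by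
      rw [map_sub, ← lTensor_rTensor, sub_eq_zero]
      exact hv.symm
    obtain ⟨w', hw'⟩ := (lTensor_exact (P.X (j + 1)) hex (Submodule.mkQ_surjective _) _).1 hq
    refine ih w' (Module.Flat.lTensor_preserves_injective_linearMap (M := P.X (j + 1 + 1)) g
      (fun a b hab => sub_eq_zero.1 (htf _ (by rw [smul_sub, sub_eq_zero]; exact hab))) ?_)
    rw [← lTensor_rTensor, hw', map_sub, hb, ← LinearMap.comp_apply, ← LinearMap.rTensor_comp,
      ← ModuleCat.hom_comp, P.d_comp_d, ModuleCat.hom_zero, LinearMap.rTensor_zero, LinearMap.zero_apply,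
      sub_zero, hgl, smul_smul, ← pow_succ']

/-- Over a field vanishing of `Q` gives vanishing of `Q ⊗ N`. -/
lemma exactAt_tensor_field {k : Type u} [Field k] (Q : DRing.Cx k) (i : ℤ) (h : Q.ExactAt i)
    (N : ModuleCat.{u} k) : (DRing.tensorCx Q N).ExactAt i := by
  obtain ⟨j, rfl⟩ : ∃ j, i = j + 1 := ⟨i - 1, by omega⟩
  refine exactAt_of_exists fun z hz => ?_
  have hex : Function.Exact (Q.d j (j + 1)).hom (Q.d (j + 1) (j + 1 + 1)).hom := fun x => by
    refine ⟨fun hx => (exactAt_iff_forall (j + 1) j rfl).1 h x hx, ?_⟩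
    rintro ⟨w, rfl⟩
    exact d_d (K := Q) _ _ _ w
  exact (Module.Flat.rTensor_exact N hex z).1 hz

theorem finiteLength_vanishing [IsLocalRing R] [DRing.HasLBaseChange (IsLocalRing.residue R)]
    [∀ M : ModuleCat.{u} R, DRing.HasLTensor R M] (K : Dual.D R) (i : ℤ)
    (h : Subsingleton (Dual.HD (IsLocalRing.ResidueField R) ((DRing.LBaseChange (IsLocalRing.residue R)).obj K) i))
    (N : Type u) [AddCommGroup N] [Module R N] (hN : IsFiniteLength R N) :
    Subsingleton (Dual.HD R ((DRing.LTensor R (ModuleCat.of R N)).obj K) i) := by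
  obtain ⟨P, _, hproj, ⟨e⟩⟩ := exists_kproj_iso K
  have hflat : ∀ j, Module.Flat R (P.X j) := fun j => have := hproj j; inferInstance
  have hk : IsKFlat P := isKFlat_of_isKProjective P
  rw [← subsingleton_HD_congr ((DRing.LTensor R _).mapIso e) i,
    subsingleton_HD_congr (LTensor.LTensorIso _ hk) i, subsingleton_HD_toD_iff,
    ← HomologicalComplex.exactAt_iff_isZero_homology]
  have hQ : ((LTensor.extCx (IsLocalRing.residue R)).obj P).ExactAt i := by
    rw [HomologicalComplex.exactAt_iff_isZero_homology, ← subsingleton_HD_toD_iff,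
      subsingleton_HD_congr (Perfect.baseChangeIsoOfRep (IsLocalRing.residue R) hk e) i]
    exact h
  induction hN with
  | @of_subsingleton M _ _ _ =>
    exact ((DRing.tensorCx P _).exactAt_iff i).2 (ShortComplex.exact_of_isZero_X₂ _
      ((tensorLeft (P.X i)).map_isZero (ModuleCat.isZero_of_subsingleton (ModuleCat.of R M))))
  | @of_simple_quotient M _ _ S _ _ ih =>
    refine exactAt_tensor_ext P hflat i (ModuleCat.of R M) S ih ?_
    refine Nilp.exactAt_tensor_killed (IsLocalRing.residue R) IsLocalRing.residue_surjective P _ i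
      (fun a ha x => ?_) fun N' => exactAt_tensor_field _ i hQ N'
    obtain ⟨I, hI, ⟨l⟩⟩ := isSimpleModule_iff_quot_maximal.1 (inferInstance : IsSimpleModule R (M ⧸ S))
    obtain rfl := IsLocalRing.eq_maximalIdeal hI
    apply l.injective
    rw [map_smul, map_zero]
    obtain ⟨y, hy⟩ := Ideal.Quotient.mk_surjective (l x)
    rw [← hy, ← Ideal.Quotient.mk_eq_mk, ← Submodule.Quotient.mk_smul, Submodule.Quotient.mk_eq_zero]
    rw [IsLocalRing.ker_residue] at ha
    exact Ideal.mul_mem_right _ _ ha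

theorem exists_flat_inD (f : R) (M : Dual.D R)
    [DRing.HasLBaseChange (algebraMap R (Localization.Away f))]
    [DRing.HasLBaseChange (Ideal.Quotient.mk (Ideal.span ({f} : Set R)))]
    (h1 : ∀ i : ℤ, 0 < i → Subsingleton (Dual.HD R M i))
    (h2 : DRing.HasTorAmplitudeIn (Localization.Away f) 0 0
      ((DRing.LBaseChange (algebraMap R (Localization.Away f))).obj M))
    (h3 : DRing.HasTorAmplitudeIn (R ⧸ Ideal.span ({f} : Set R)) 0 0
      ((DRing.LBaseChange (Ideal.Quotient.mk (Ideal.span ({f} : Set R)))).obj M)) :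
    ∃ (N : Type u) (_ : AddCommGroup N) (_ : Module R N), Module.Flat R N ∧ Nonempty (M ≅ Dual.inD R N) := by
  obtain ⟨P, hb, hproj, ⟨e⟩⟩ := Trunc.exists_projRep M 0 h1
  have := DBasic.isKProjective_of_projective P 0 hb hproj
  have hflat : ∀ j, Module.Flat R (P.X j) := fun j => have := hproj j; inferInstance
  have hk := isKFlat_of_isKProjective P
  let φ := algebraMap R (Localization.Away f)
  let ψ := Ideal.Quotient.mk (Ideal.span ({f} : Set R))
  have := DerComplete.isKProjective_extCx φ P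
  have := DerComplete.isKProjective_extCx ψ P
  have hvφ := (hasTorAmp_iff (isKFlat_of_isKProjective ((LTensor.extCx φ).obj P))
    (Perfect.baseChangeIsoOfRep φ hk e) 0 0).1 h2
  have hvψ := (hasTorAmp_iff (isKFlat_of_isKProjective ((LTensor.extCx ψ).obj P))
    (Perfect.baseChangeIsoOfRep ψ hk e) 0 0).1 h3
  have hl : ∀ (N : ModuleCat.{u} (Localization.Away f)) (i : ℤ), i < 0 →
      (DRing.tensorCx P ((ModuleCat.restrictScalars φ).obj N)).ExactAt i := fun N i hi => by
    have e2 := (NatIso.mapHomologicalComplex (DerComplete.cancelIso φ N) (ComplexShape.up ℤ)).app P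
    refine (exactAt_iff_of_quasiIso e2.hom i).2 ?_
    have h3 := hvφ N i (Or.inl hi)
    rw [HomologicalComplex.exactAt_iff] at h3 ⊢
    exact h3.map (ModuleCat.restrictScalars φ)
  have hq : ∀ (N : ModuleCat.{u} R) (i : ℤ), i < 0 → (∀ x : N, f • x = 0) →
      (DRing.tensorCx P N).ExactAt i := fun N i hi hN => by
    refine Nilp.exactAt_tensor_killed ψ Ideal.Quotient.mk_surjective P N i (fun a ha x => ?_)
      fun N' => hvψ N' i (Or.inl hi)
    rw [Ideal.mk_ker, Ideal.mem_span_singleton] at ha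
    obtain ⟨c, rfl⟩ := ha
    rw [mul_comm, mul_smul, hN, smul_zero]
  have hamp : DRing.HasTorAmplitudeIn R 0 0 M := by
    rw [hasTorAmp_iff hk e]
    rintro N i (hi | hi)
    · obtain ⟨k, rfl⟩ : ∃ k, i = k + 1 := ⟨i - 1, by omega⟩
      exact exactAt_tensor_of_away P hflat f k (fun N hN => hq N k (by omega) hN)
        (fun N hN => hq N (k + 1) hi hN) (fun N => hl N (k + 1) hi) N
    · exact ((DRing.tensorCx P N).exactAt_iff i).2
        (ShortComplex.exact_of_isZero_X₂ _ ((tensorRight N).map_isZero (hb i hi)))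
  obtain ⟨E, hE, hEf, ⟨eE⟩⟩ := hamp
  let ψ : E ⟶ sgl 0 (E.X 0) := HomologicalComplex.mkHomToSingle (𝟙 _)
    (fun k (hk : k + 1 = 0) => (hE k (Or.inl (by omega))).eq_of_src _ _)
  have : ∀ i, IsIso (ψ.f i) := fun i => by
    by_cases hi : i = 0
    · subst hi
      rw [show ψ.f 0 = _ from HomologicalComplex.mkHomToSingle_f _ _]
      infer_instance
    · exact isIso_of_source_target_iso_zero _ (hE i (by omega)).isoZero
        (HomologicalComplex.isZero_single_obj_X (ComplexShape.up ℤ) _ _ _ hi).isoZero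
  have := HomologicalComplex.Hom.isIso_of_components ψ
  exact ⟨E.X 0, inferInstance, inferInstance, hEf 0,
    ⟨eE.symm ≪≫ Q.mapIso (asIso ψ) ≪≫ ((singleFunctorIsoCompQ (ModuleCat.{u} R) 0).app (E.X 0)).symm⟩⟩

/-- A flat module in degree `0` has tor amplitude `[0, 0]`. -/
lemma torAmp_inD (N : Type u) [AddCommGroup N] [Module R N] [Module.Flat R N] :
    DRing.HasTorAmplitudeIn R 0 0 (Dual.inD R N) := by
  refine ⟨sgl 0 (ModuleCat.of R N), fun i hi => HomologicalComplex.isZero_single_obj_X _ _ _ _ (by omega),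
    fun i => ?_, ⟨((singleFunctorIsoCompQ (ModuleCat.{u} R) 0).app (ModuleCat.of R N)).symm⟩⟩
  by_cases hi : i = 0
  · subst hi
    exact Module.Flat.of_linearEquiv (M := N)
      (HomologicalComplex.singleObjXSelf (ComplexShape.up ℤ) 0 (ModuleCat.of R N)).toLinearEquiv
  · have := ModuleCat.subsingleton_of_isZero
      (HomologicalComplex.isZero_single_obj_X (ComplexShape.up ℤ) 0 (ModuleCat.of R N) i hi)
    infer_instance

end Groth.Agent.DRing.AwayQuot
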