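import Groth.Agent.DRing.Perfect

/-!
# Flat modules as objects of tor amplitude `[0, 0]`, and perfect amplitude
-/

universe u

open CategoryTheory CategoryTheory.Limits CategoryTheory.Pretriangulated MonoidalCategory
  DerivedCategory

attribute [local instance] HasDerivedCategory.standard

namespace Groth.Agent.DRing.Perfect

open Homology DBasic KFlat PC TorAmp ZeroObject

variable {A : Type u} [CommRing A]

/-- Top cohomology of a complex vanishing above is the cokernel of the last differential. -/
noncomputable def topEquiv (P : DRing.Cx A) (n : ℤ) (h : IsZero (P.X (n + 1))) :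
    (P.X n ⧸ LinearMap.range (P.d (n - 1) n).hom) ≃ₗ[A] P.homology n :=
  have hc : ∀ z, IsCyc P n z := fun z => by
    unfold IsCyc
    rw [h.eq_of_tgt (P.d n (n + 1)) 0]; rfl
  let c : P.X n →ₗ[A] P.homology n := (clsLin P n).comp (LinearMap.id.codRestrict _ hc)
  have hs : Function.Surjective c := fun x => by
    obtain ⟨z, hz, rfl⟩ := cls_surjective x
    exact ⟨z, rfl⟩
  (Submodule.quotEquivOfEq _ _ (by
    ext z
    exact ((cls_eq_zero_iff (n - 1) (by omega) (hc z)).trans LinearMap.mem_range.symm).symm)).trans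
      (c.quotKerEquivOfSurjective hs)

/-- `M[0]` of tor amplitude in `[0, b]` implies `M` flat. -/
lemma flat_of_torAmp {M : Type u} [AddCommGroup M] [Module A M] {b : ℤ}
    (h : DRing.HasTorAmplitudeIn A 0 b (Dual.inD A M)) : Module.Flat A M := by
  obtain ⟨P, hb, hproj, ⟨e⟩⟩ := Trunc.exists_projRep (Dual.inD A M) 0
    (fun i hi => subsingleton_HD_inD A M i (by omega))
  have hflat := flat_coker (fun i => have := hproj i; inferInstance) 0
    (fun N => (hasTorAmp_iff (isKFlat_of_projective hb hproj) e 0 b).1 h N (0 - 1) (Or.inl (by omega)))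
  exact Module.Flat.of_linearEquiv
    (((topEquiv P 0 (hb (0 + 1) (by omega))).trans
      ((hIso P 0).symm ≪≫ (HF 0).mapIso e).toLinearEquiv).trans (inDEquiv A M)).symm

lemma torAmp_of_flat {M : Type u} [AddCommGroup M] [Module A M] [Module.Flat A M] :
    DRing.HasTorAmplitudeIn A 0 0 (Dual.inD A M) := by
  refine ⟨sgl 0 (ModuleCat.of A M), vanishesOutside_sgl 0 _, fun i => ?_,
    ⟨((singleFunctorIsoCompQ (ModuleCat.{u} A) 0).app _).symm⟩⟩
  by_cases h : i = 0
  · subst h
    exact Module.Flat.of_linearEquiv
      (HomologicalComplex.singleObjXSelf (ComplexShape.up ℤ) 0 (ModuleCat.of A M)).toLinearEquiv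
  · have := ModuleCat.subsingleton_of_isZero
      (HomologicalComplex.isZero_single_obj_X (ComplexShape.up ℤ) 0 (ModuleCat.of A M) i h)
    infer_instance

lemma torAmp_sgl {M : ModuleCat.{u} A} {n a b : ℤ}
    (h : DRing.HasTorAmplitudeIn A a b (Dual.inD A M)) {a' b' : ℤ} (ha : a' = a + n) (hb : b' = b + n) :
    DRing.HasTorAmplitudeIn A a' b' (DRing.toD (sgl n M)) :=
  torAmp_of_iso (inDShiftIso M n) (torAmp_shift h (-n) (by omega) (by omega))

lemma torAmp_of_sgl {M : ModuleCat.{u} A} {n a b : ℤ}
    (h : DRing.HasTorAmplitudeIn A a b (DRing.toD (sgl n M))) {a' b' : ℤ} (ha : a' = a - n)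
    (hb : b' = b - n) : DRing.HasTorAmplitudeIn A a' b' (Dual.inD A M) :=
  torAmp_of_iso ((shiftFunctor (Dual.D A) n).mapIso (inDShiftIso M n).symm ≪≫
    (shiftFunctorCompIsoId (Dual.D A) (-n) n (by omega)).app _)
    (torAmp_shift h n (by omega) (by omega))

/-- `(m-1)`-pseudo-coherent of tor amplitude `[m, n]` implies pseudo-coherent. -/
theorem pc'_of_pc_of_torAmp {K : Dual.D A} {m n : ℤ}
    (hpc : DRing.IsPseudoCoherent A (m - 1) K) (h : DRing.HasTorAmplitudeIn A m n K) :
    DRing.IsPseudoCoherent' A K := by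
  obtain ⟨E, b, α, hE, hf, hα⟩ := exists_approx hpc
  have := isKProjective_of_finiteFree hE hf
  obtain ⟨P, hP, hPf, ⟨e⟩⟩ := id h
  obtain ⟨f, hfa⟩ := exists_Q_map_eq (L := P) (α ≫ e.inv)
  let g := Trunc.tauGEDesc E m f (fun i hi => hP i (Or.inl hi))
  have hg : QuasiIso g := by
    refine quasiIso_of_bijective _ fun i => ?_
    by_cases hi : i < m
    · have h1 : IsZero ((Trunc.tauGE E m).homology i) :=
        ShortComplex.isZero_homology_of_isZero_X₂ _ (Trunc.tauGE_X_isZero E m hi)
      have h2 : IsZero (P.homology i) :=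
        ShortComplex.isZero_homology_of_isZero_X₂ _ (hP i (Or.inl hi))
      have := ModuleCat.subsingleton_of_isZero h1
      have := ModuleCat.subsingleton_of_isZero h2
      exact ⟨fun x y _ => Subsingleton.elim x y, fun y => ⟨0, Subsingleton.elim _ _⟩⟩
    · have hp := Trunc.bijective_homologyMap_tauGEπ E m (i := i) (by omega)
      have hfi : IsIso ((HF i).map (Q.map f)) := by
        rw [hfa, Functor.map_comp]
        have := hα.1 i (by omega)
        infer_instance
      rw [HF_map_Q_eq] at hfi
      have : IsIso (HomologicalComplex.homologyMap f i) := by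
        have := IsIso.of_isIso_comp_left (hIso E i).hom
          (HomologicalComplex.homologyMap f i ≫ (hIso P i).inv)
        exact IsIso.of_isIso_comp_right (HomologicalComplex.homologyMap f i) (hIso P i).inv
      have hb := (isIso_homologyMap_iff f i).1 this
      rw [show f = Trunc.tauGEπ E m ≫ g from (Trunc.tauGEπ_desc E m f _).symm,
        HomologicalComplex.homologyMap_comp, ModuleCat.hom_comp, LinearMap.coe_comp] at hb
      exact (Function.Bijective.of_comp_iff _ hp).1 hb
  let T := Trunc.tauGE E m
  have hbv : DRing.VanishesOutside T m b :=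
    Trunc.vanishesOutside_tauGE E m fun i hi => hE i (Or.inr hi)
  have eK : DRing.toD T ≅ K := asIso (Q.map g) ≪≫ e
  have hproj : ∀ i, Module.Projective A (E.X i) := fun i => have := (hf i).2; inferInstance
  have hgt : ∀ i, m < i → Module.Finite A (T.X i) ∧ Module.Projective A (T.X i) := fun i hi =>
    ⟨have := (hf i).1; Module.Finite.of_surjective (Trunc.killSub E m i).mkQ
      (Submodule.mkQ_surjective _), Trunc.projective_of_iso (Trunc.tauGE_XIso E m hi).symm (hproj i)⟩
  obtain ⟨S, hS, s1, s2, s3⟩ := Devissage.exists_stupid_triangle T m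
  have hσ : IsIso (KFlat.sigmaGEι T m) := by
    have : ∀ i, IsIso ((KFlat.sigmaGEι T m).f i) := fun i => by
      rw [ConcreteCategory.isIso_iff_bijective]
      refine ⟨Subtype.val_injective, fun x => ?_⟩
      by_cases hi : m ≤ i
      · exact ⟨⟨x, mem_truncSub hi x⟩, rfl⟩
      · have := ModuleCat.subsingleton_of_isZero (hbv i (Or.inl (by omega)))
        exact ⟨0, Subsingleton.elim _ _⟩
    exact HomologicalComplex.Hom.isIso_of_components _
  have h2 : DRing.HasTorAmplitudeIn A m (max n b) S.obj₂ := by
    rw [s2]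
    exact torAmp_of_iso (eK.symm ≪≫ (Q.mapIso (asIso (KFlat.sigmaGEι T m))).symm)
      (torAmp_mono h le_rfl (le_max_left _ _))
  have h1 : DRing.HasTorAmplitudeIn A (m + 1) (max n b + 1) S.obj₁ := by
    rw [s1]
    refine ⟨KFlat.sigmaGE T (m + 1), fun i hi => ?_, fun i => ?_, ⟨Iso.refl _⟩⟩
    · rcases hi with hi | hi
      · exact KFlat.sigmaGE_X_isZero T hi
      · exact vanishesOutside_sigmaGE (b := b) (fun i hi => hbv i (Or.inr hi)) (m + 1) i
          (Or.inr (by omega))
    · by_cases hi : m + 1 ≤ i
      · have := (hgt i (by omega)).2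
        exact KFlat.sigmaGE_X_flat T (m + 1) i inferInstance
      · have := ModuleCat.subsingleton_of_isZero
          (KFlat.sigmaGE_X_isZero T (show i < m + 1 by omega))
        infer_instance
  have h3 := (torAmp_of_triangle hS m (max n b)).1 h1 h2
  rw [s3] at h3
  have hflat := flat_of_torAmp (torAmp_of_sgl h3 (show (0 : ℤ) = m - m by omega) rfl)
  have hmfin : Module.Finite A (T.X m) := have := (hf m).1
    Module.Finite.of_surjective (Trunc.killSub E m m).mkQ (Submodule.mkQ_surjective _)
  have hmproj : Module.Projective A (T.X m) := by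
    have := (hf m).1
    have := hproj m
    have := (hf (m - 1)).1
    have : Module.FinitePresentation A (E.X m) := Module.finitePresentation_of_projective _ _
    have : Module.FinitePresentation A (E.X m ⧸ Trunc.killSub E m m) :=
      Module.finitePresentation_of_surjective (Trunc.killSub E m m).mkQ (Submodule.mkQ_surjective _)
        (by rw [Submodule.ker_mkQ, Trunc.killSub_eq_range]; exact Module.Finite.iff_fg.1 inferInstance)
    have : Module.Flat A (E.X m ⧸ Trunc.killSub E m m) := hflat
    exact (Module.Flat.projective_of_finitePresentation (R := A)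
      (M := E.X m ⧸ Trunc.killSub E m m) :)
  refine pc'_of_iso eK (pc'_of_finiteProjective (b := b) (fun i hi => hbv i (Or.inr hi)) fun i => ?_)
  rcases lt_trichotomy i m with hi | rfl | hi
  · have := ModuleCat.subsingleton_of_isZero (hbv i (Or.inl hi))
    exact ⟨inferInstance, Trunc.projective_of_isZero (hbv i (Or.inl hi))⟩
  · exact ⟨hmfin, hmproj⟩
  · exact hgt i hi

end Groth.Agent.DRing.Perfect
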