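import Groth.Agent.DRing.ProjAmp
import Groth.Agent.DRing.Devissage
import Groth.Agent.DRing.PerfectAmp
import Mathlib.CategoryTheory.Abelian.Projective.Dimension
import Mathlib.Tactic.TFAE

/-!
# Projective amplitude through `Hom(K, N[i])`
-/

universe u

open CategoryTheory CategoryTheory.Limits CategoryTheory.Pretriangulated DerivedCategory

attribute [local instance] HasDerivedCategory.standard

namespace Groth.Agent.DRing.ProjAmp

open Homology DBasic PC

variable {A : Type u} [CommRing A]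

/-- `M[i]` is `M` placed in degree `-i`. -/
noncomputable def shiftSglIso (M : ModuleCat.{u} A) (i n : ℤ) (h : i + n = 0) :
    (shiftFunctor (Dual.D A) i).obj ((singleFunctor (ModuleCat.{u} A) 0).obj M) ≅
      DRing.toD (sgl n M) :=
  eqToIso (by rw [show i = -n by omega]) ≪≫ inDShiftIso M n

/-- `K` is represented by a complex of projectives in degrees `[a, b]`. -/
def HasProjAmp (a b : ℤ) (K : Dual.D A) : Prop :=
  ∃ P : DRing.Cx A, DRing.VanishesOutside P a b ∧ (∀ i : ℤ, Module.Projective A (P.X i)) ∧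
    Nonempty (DRing.toD P ≅ K)

lemma HasProjAmp.subsingleton_ext {K : Dual.D A} {a b : ℤ} (h : HasProjAmp a b K) (N : Type u)
    [AddCommGroup N] [Module A N] (i : ℤ) (hi : i < -b ∨ -a < i) :
    Subsingleton (DRing.ExtD A K (Dual.inD A N) i) := by
  obtain ⟨P, hP, hproj, ⟨e⟩⟩ := h
  have := isKProjective_of_projective P b (fun j hj => hP j (Or.inr hj)) hproj
  let f := shiftSglIso (ModuleCat.of A N) i (-i) (by omega)
  have key : ∀ φ : DRing.toD P ⟶ DRing.toD (sgl (-i) (ModuleCat.of A N)), φ = 0 := fun φ => by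
    obtain ⟨g, rfl⟩ := exists_Q_map_eq φ
    have : g = 0 := HomologicalComplex.to_single_hom_ext ((hP (-i) (by omega)).eq_of_src _ _)
    rw [this, Functor.map_zero]
  refine ⟨fun φ ψ => ?_⟩
  rw [← cancel_epi e.hom, ← cancel_mono f.hom]
  exact (key _).trans (key _).symm

/-- Vanishing of maps to modules in degree `n` splits the differential out of degree `n`. -/
lemma exists_retraction {P : DRing.Cx A} [P.IsKProjective] {n : ℤ}
    (h : ∀ (N : ModuleCat.{u} A) (φ : DRing.toD P ⟶ DRing.toD (sgl n N)), φ = 0) :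
    ∃ s : P.X (n + 1) →ₗ[A] P.X n ⧸ LinearMap.range (P.d (n - 1) n).hom,
      s.comp (P.d n (n + 1)).hom = Submodule.mkQ _ := by
  let N := P.X n ⧸ LinearMap.range (P.d (n - 1) n).hom
  let q : P.X n →ₗ[A] N := Submodule.mkQ _
  let ψ : P ⟶ sgl n (ModuleCat.of A N) := HomologicalComplex.mkHomToSingle (ModuleCat.ofHom q)
    (fun k (hk : k + 1 = n) => by
      obtain rfl : k = n - 1 := by omega
      exact ModuleCat.hom_ext (LinearMap.ext fun w =>
        (Submodule.Quotient.mk_eq_zero _).2 ⟨w, rfl⟩))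
  obtain ⟨H⟩ := (Q_map_eq_iff ψ 0).1 ((h _ (Q.map ψ)).trans (Q.map_zero _ _).symm)
  let E := HomologicalComplex.singleObjXSelf (ComplexShape.up ℤ) n (ModuleCat.of A N)
  refine ⟨E.hom.hom.comp (H.hom (n + 1) n).hom, LinearMap.ext fun z => ?_⟩
  have hc := H.comm n
  rw [dNext_eq H.hom (show (ComplexShape.up ℤ).Rel n (n + 1) from rfl),
    prevD_eq H.hom (show (ComplexShape.up ℤ).Rel (n - 1) n by simp),
    HomologicalComplex.single_obj_d, comp_zero, add_zero, HomologicalComplex.zero_f, add_zero,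
    show ψ.f n = ModuleCat.ofHom q ≫ E.inv from HomologicalComplex.mkHomToSingle_f _ _,
    Iso.comp_inv_eq] at hc
  exact (LinearMap.congr_fun (congrArg ModuleCat.Hom.hom hc) z).symm

lemma subsingleton_HD_of_retraction {P : DRing.Cx A} {n : ℤ}
    (h : ∃ s : P.X (n + 1) →ₗ[A] P.X n ⧸ LinearMap.range (P.d (n - 1) n).hom,
      s.comp (P.d n (n + 1)).hom = Submodule.mkQ _) :
    Subsingleton (Dual.HD A (DRing.toD P) n) := by
  obtain ⟨s, hs⟩ := h
  rw [subsingleton_HD_toD_iff, ← HomologicalComplex.exactAt_iff_isZero_homology,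
    exactAt_iff_forall n (n - 1) (by omega)]
  intro z hz
  have : Submodule.Quotient.mk z = (0 : P.X n ⧸ LinearMap.range (P.d (n - 1) n).hom) := by
    rw [← Submodule.mkQ_apply, ← hs, LinearMap.comp_apply,
      show (P.d n (n + 1)).hom z = 0 from (isCyc_iff rfl z).1 hz, map_zero]
  exact (Submodule.Quotient.mk_eq_zero _).1 this

/-- The degree `n` cohomology dies when there are no maps to modules in degree `n`. -/
lemma subsingleton_HD_of_hom {K : Dual.D A} {i n : ℤ} (hn : i + n = 0)
    (h : ∀ (N : Type u) [AddCommGroup N] [Module A N],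
      Subsingleton (DRing.ExtD A K (Dual.inD A N) i)) :
    Subsingleton (Dual.HD A K n) := by
  obtain ⟨P, _, -, ⟨e⟩⟩ := exists_kproj_iso K
  rw [← subsingleton_HD_congr e]
  refine subsingleton_HD_of_retraction (exists_retraction fun N φ => ?_)
  have := h N
  rw [← cancel_epi e.inv, ← cancel_mono (shiftSglIso N i n hn).inv]
  exact Subsingleton.elim (α := DRing.ExtD A K (Dual.inD A N) i) _ _

/-- Truncation gives the projective representative. -/
theorem hasProjAmp_of_vanishing {K : Dual.D A} {a b : ℤ}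
    (hv : ∀ n : ℤ, (n < a - 1 ∨ b < n) → Subsingleton (Dual.HD A K n))
    (hext : ∀ (N : Type u) [AddCommGroup N] [Module A N],
      Subsingleton (DRing.ExtD A K (Dual.inD A N) (-a + 1))) : HasProjAmp a b K := by
  obtain ⟨P, hb, hproj, ⟨e⟩⟩ := Trunc.exists_projRep K b fun i hi => hv i (Or.inr hi)
  have := isKProjective_of_projective P b hb hproj
  obtain ⟨s, hs⟩ := exists_retraction (P := P) (n := a - 1) fun N φ => by
    have := hext N
    rw [← cancel_epi e.inv, ← cancel_mono (shiftSglIso N (-a + 1) (a - 1) (by omega)).inv]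
    exact Subsingleton.elim (α := DRing.ExtD A K (Dual.inD A N) (-a + 1)) _ _
  have hlow : ∀ i, i < a → Subsingleton (Dual.HD A K i) := fun i hi => by
    rcases lt_or_eq_of_le (show i ≤ a - 1 by omega) with h | rfl
    · exact hv i (Or.inl h)
    · exact subsingleton_HD_of_hom (i := -a + 1) (by omega) hext
  obtain ⟨e'⟩ := tauGE_rep e a hlow
  refine ⟨_, Trunc.vanishesOutside_tauGE P a hb, fun i => ?_, ⟨e'⟩⟩
  rcases lt_trichotomy i a with hi | rfl | hi
  · exact Trunc.projective_of_isZero (Trunc.tauGE_X_isZero P a hi)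
  · have h1 : ∀ j, j = i → ∀ (s : P.X j →ₗ[A] P.X (i - 1) ⧸ LinearMap.range (P.d (i - 1 - 1) (i - 1)).hom),
        s.comp (P.d (i - 1) j).hom = Submodule.mkQ _ →
        Module.Projective A (P.X j ⧸ LinearMap.range (P.d (i - 1) j).hom) := by
      intro j hj s hs
      let dbar : (P.X (i - 1) ⧸ LinearMap.range (P.d (i - 1 - 1) (i - 1)).hom) →ₗ[A] P.X j :=
        Submodule.liftQ _ (P.d (i - 1) j).hom (by
          rintro _ ⟨w, rfl⟩
          exact d_d (K := P) _ _ _ w)
      let r : P.X j →ₗ[A] P.X j := LinearMap.id - dbar.comp s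
      have hr : LinearMap.range (P.d (i - 1) j).hom ≤ LinearMap.ker r := by
        rintro _ ⟨w, rfl⟩
        have : s ((P.d (i - 1) j).hom w) = Submodule.Quotient.mk w := LinearMap.congr_fun hs w
        simp [r, dbar, this]
      have := hproj j
      refine Module.Projective.of_split ((LinearMap.range (P.d (i - 1) j).hom).liftQ r hr)
        (Submodule.mkQ _) (Submodule.linearMap_qext _ (LinearMap.ext fun x => ?_))
      have hx : Submodule.Quotient.mk (dbar (s x)) =
          (0 : P.X j ⧸ LinearMap.range (P.d (i - 1) j).hom) := by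
        obtain ⟨w, hw⟩ := Submodule.mkQ_surjective _ (s x)
        rw [← hw]
        exact (Submodule.Quotient.mk_eq_zero _).2 ⟨w, rfl⟩
      simp [r, hx]
    have := h1 (i - 1 + 1) (by omega) s hs
    have h2 : Module.Projective A (P.X i ⧸ LinearMap.range (P.d (i - 1) i).hom) := by
      rwa [show i - 1 + 1 = i by omega] at this
    exact Module.Projective.of_equiv (R := A)
      (Submodule.quotEquivOfEq _ _ (Trunc.killSub_eq_range P i)).symm
  · exact Trunc.projective_of_iso (Trunc.tauGE_XIso P a hi).symm (hproj i)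

theorem projAmp_tfae (K : Dual.D A) (a b : ℤ) :
    [HasProjAmp a b K,
      ∀ (N : Type u) [AddCommGroup N] [Module A N] (i : ℤ), (i < -b ∨ -a < i) →
        Subsingleton (DRing.ExtD A K (Dual.inD A N) i),
      (∀ n : ℤ, b < n → Subsingleton (Dual.HD A K n)) ∧
        ∀ (N : Type u) [AddCommGroup N] [Module A N] (i : ℤ), -a < i →
          Subsingleton (DRing.ExtD A K (Dual.inD A N) i),
      (∀ n : ℤ, (n < a - 1 ∨ b < n) → Subsingleton (Dual.HD A K n)) ∧
        ∀ (N : Type u) [AddCommGroup N] [Module A N],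
          Subsingleton (DRing.ExtD A K (Dual.inD A N) (-a + 1))].TFAE := by
  tfae_have 1 → 2 := fun h N _ _ i hi => h.subsingleton_ext N i hi
  tfae_have 2 → 3 := fun h => ⟨fun n hn => subsingleton_HD_of_hom (i := -n) (by omega)
      fun N _ _ => h N (-n) (Or.inl (by omega)), fun N _ _ i hi => h N i (Or.inr hi)⟩
  tfae_have 3 → 4 := fun h => ⟨fun n hn => hn.elim (fun hn => subsingleton_HD_of_hom (i := -n)
      (by omega) fun N _ _ => h.2 N (-n) (by omega)) (h.1 n), fun N _ _ => h.2 N _ (by omega)⟩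
  tfae_have 4 → 1 := fun h => hasProjAmp_of_vanishing h.1 h.2
  tfae_finish

lemma HasProjAmp.torAmp {K : Dual.D A} {a b : ℤ} (h : HasProjAmp a b K) :
    DRing.HasTorAmplitudeIn A a b K := by
  obtain ⟨P, hP, hproj, he⟩ := h
  exact ⟨P, hP, fun i => have := hproj i; inferInstance, he⟩

/-- A module of projective dimension `≤ d` has projective amplitude in `[-d, 0]`. -/
theorem hasProjAmp_of_projDimLT (M : ModuleCat.{u} A) (d : ℕ)
    [HasProjectiveDimensionLT M (d + 1)] : HasProjAmp (-(d : ℤ)) 0 (Dual.inD A M) := by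
  refine hasProjAmp_of_vanishing (fun n hn => subsingleton_HD_inD A M n (by omega)) fun N _ _ => ?_
  let := HasExt.standard (ModuleCat.{u} A)
  have := HasProjectiveDimensionLT.subsingleton M (d + 1) (d + 1) le_rfl (ModuleCat.of A N)
  rw [show -(-(d : ℤ)) + 1 = ((d + 1 : ℕ) : ℤ) by omega]
  exact (Abelian.Ext.homEquiv (X := M) (Y := ModuleCat.of A N) (n := d + 1)).symm.subsingleton

/-- Global dimension `≤ d` bounds projective amplitude by cohomology. -/
theorem hasProjAmp_of_glDim {d : ℕ}
    (hgl : ∀ M : ModuleCat.{u} A, HasProjectiveDimensionLT M (d + 1)) (K : Dual.D A) {a b : ℤ}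
    (hv : ∀ i : ℤ, (i < a ∨ b < i) → Subsingleton (Dual.HD A K i)) :
    HasProjAmp (a - d) b K := by
  have hiff : HasProjAmp (a - d) b K ↔ ∀ (N : Type u) [AddCommGroup N] [Module A N] (i : ℤ),
      (i < -b ∨ -(a - d) < i) → Subsingleton (DRing.ExtD A K (Dual.inD A N) i) :=
    (projAmp_tfae K (a - d) b).out 0 1
  refine hiff.2 fun N _ _ i hi => ?_
  refine Devissage.of_cohomology (fun X => Subsingleton (DRing.ExtD A X (Dual.inD A N) i))
    (fun {X Y} e hX => ⟨fun φ ψ => by rw [← cancel_epi e.hom]; exact hX.elim _ _⟩)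
    (fun X hX => ⟨fun φ ψ => hX.eq_of_src _ _⟩)
    (fun T hT h1 h3 => ⟨fun φ ψ => ?_⟩) K hv fun n => ?_
  · obtain ⟨g, hg⟩ := Triangle.yoneda_exact₂ T hT (φ - ψ) (h1.elim _ _)
    rw [h3.elim g 0, comp_zero, sub_eq_zero] at hg
    exact hg
  · by_cases hn : n < a ∨ b < n
    · have := hv n hn
      exact ⟨fun φ ψ => IsZero.eq_of_src (Q.map_isZero ((HomologicalComplex.single _ _ n).map_isZero
        (ModuleCat.isZero_of_subsingleton (ModuleCat.of A (Dual.HD A K n))))) _ _⟩
    · have := hgl (ModuleCat.of A (Dual.HD A K n))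
      obtain ⟨P, hP, hproj, ⟨e⟩⟩ := hasProjAmp_of_projDimLT (ModuleCat.of A (Dual.HD A K n)) d
      exact HasProjAmp.subsingleton_ext (a := n - d) (b := n)
        ⟨P⟦-n⟧, fun j hj => hP (j + -n) (by omega), fun j => hproj (j + -n),
          ⟨((Q (C := ModuleCat.{u} A)).commShiftIso (-n)).app P ≪≫
            (shiftFunctor (Dual.D A) (-n)).mapIso e ≪≫
              inDShiftIso (ModuleCat.of A (Dual.HD A K n)) n⟩⟩ N i (by omega)

end Groth.Agent.DRing.ProjAmp
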