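import Groth.Agent.DRing.FibreAmp
import Groth.Agent.DRing.ProjAmpTFAE
import Groth.Agent.RegLoc.Homological
import Mathlib.RingTheory.TensorProduct.Quotient
import Mathlib.LinearAlgebra.TensorProduct.Tower
import Mathlib.RingTheory.Flat.Basic
import Mathlib.RingTheory.LocalRing.ResidueField.Ideal

/-!
# Perfection from the fibres of a flat ring map
-/

universe u

open CategoryTheory CategoryTheory.Limits DerivedCategory MonoidalCategory

attribute [local instance] HasDerivedCategory.standard

namespace Groth.Agent.DRing.FlatFibres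

open DBasic Homology DRing.KFlat TorAmp
open scoped TensorProduct

section Equiv

variable {A B : Type u} [CommRing A] [CommRing B] [Algebra A B] {k : Type u} [AddCommGroup k]
  [Module A k] {N : Type u} [AddCommGroup N] [Module B N] (v : B ⊗[A] k ≃ₗ[B] N)
variable {M M' : Type u} [AddCommGroup M] [Module B M] [Module A M] [IsScalarTower A B M]
  [AddCommGroup M'] [Module B M'] [Module A M'] [IsScalarTower A B M']

/-- `M ⊗_A k ≅ N ⊗_B M` when `N ≅ B ⊗_A k`. -/
noncomputable def tensorEquiv (M : Type u) [AddCommGroup M] [Module B M] [Module A M]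
    [IsScalarTower A B M] : M ⊗[A] k ≃+ N ⊗[B] M :=
  (TensorProduct.AlgebraTensorModule.cancelBaseChange A B B M k).symm.toAddEquiv.trans
    ((TensorProduct.congr (LinearEquiv.refl B M) v).trans (TensorProduct.comm B M N)).toAddEquiv

lemma tensorEquiv_tmul (m : M) (c : k) :
    tensorEquiv v M (m ⊗ₜ[A] c) = v (1 ⊗ₜ[A] c) ⊗ₜ[B] m := by
  simp [tensorEquiv]

lemma tensorEquiv_natural (f : M →ₗ[A] M') (f' : M →ₗ[B] M') (h : ∀ m, f m = f' m) (z : M ⊗[A] k) :
    tensorEquiv v M' (f.rTensor k z) = f'.lTensor N (tensorEquiv v M z) := by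
  induction z using TensorProduct.induction_on with
  | zero => simp
  | tmul m c => simp [tensorEquiv_tmul, h]
  | add x y hx hy => simp only [map_add, hx, hy]

end Equiv

lemma exact_iff_function_exact {R : Type u} [CommRing R] (S : ShortComplex (ModuleCat.{u} R)) :
    S.Exact ↔ Function.Exact S.f S.g := by
  rw [ShortComplex.moduleCat_exact_iff]
  refine ⟨fun h y => ⟨fun hy => h y hy, ?_⟩, fun h y hy => (h y).1 hy⟩
  rintro ⟨x, rfl⟩
  exact S.moduleCat_zero_apply x

variable {A B : Type u} [CommRing A] [CommRing B] [Algebra A B]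

/-- Tensoring the restriction over `A` is base change over `B`. -/
theorem exactAt_tensor_restrict_iff (k : Type u) [AddCommGroup k] [Module A k] {C : Type u}
    [CommRing C] (ψ : B →+* C)
    (v : B ⊗[A] k ≃ₗ[B] (ModuleCat.restrictScalars.{u} ψ).obj (ModuleCat.of C C))
    (E : DRing.Cx B) (i : ℤ) :
    (DRing.tensorCx ((DRing.restrictCx (algebraMap A B)).obj E) (ModuleCat.of A k)).ExactAt i ↔
      ((LTensor.extCx ψ).obj E).ExactAt i := by
  rw [HomologicalComplex.exactAt_iff' _ (i - 1) i (i + 1) (by simp) (by simp),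
    HomologicalComplex.exactAt_iff' _ (i - 1) i (i + 1) (by simp) (by simp),
    exact_iff_function_exact, exact_iff_function_exact]
  letI : ∀ j, Module A (E.X j) := fun j => Module.compHom (E.X j) (algebraMap A B)
  haveI : ∀ j, IsScalarTower A B (E.X j) := fun j => ⟨fun a b x => by
    change (a • b) • x = algebraMap A B a • b • x
    rw [Algebra.smul_def, mul_smul]⟩
  let f := (E.d (i - 1) i).hom
  let g := (E.d i (i + 1)).hom
  change Function.Exact (LinearMap.rTensor k (f.restrictScalars A)) (LinearMap.rTensor k (g.restrictScalars A)) ↔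
    Function.Exact (LinearMap.lTensor ((ModuleCat.restrictScalars.{u} ψ).obj (ModuleCat.of C C)) f)
      (LinearMap.lTensor ((ModuleCat.restrictScalars.{u} ψ).obj (ModuleCat.of C C)) g)
  refine (Function.Exact.iff_of_ladder_addEquiv (f₁₂ := (LinearMap.rTensor k (f.restrictScalars A)).toAddMonoidHom)
    (f₂₃ := (LinearMap.rTensor k (g.restrictScalars A)).toAddMonoidHom)
    (g₁₂ := (LinearMap.lTensor _ f).toAddMonoidHom) (g₂₃ := (LinearMap.lTensor _ g).toAddMonoidHom)
    (e₁ := tensorEquiv v (E.X (i - 1))) (e₂ := tensorEquiv v (E.X i)) (e₃ := tensorEquiv v (E.X (i + 1)))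
    ?_ ?_).symm
  · exact AddMonoidHom.ext fun z => (tensorEquiv_natural v (f.restrictScalars A) f (fun _ => rfl) z).symm
  · exact AddMonoidHom.ext fun z => (tensorEquiv_natural v (g.restrictScalars A) g (fun _ => rfl) z).symm

/-- Cohomology in `[a, b]` over a ring of global dimension `≤ d` gives `[a - d, b]` after any base
change. -/
theorem exactAt_baseChange_of_glDim {C F : Type u} [CommRing C] [CommRing F] (d : ℕ)
    (hgl : ∀ M : ModuleCat.{u} C, HasProjectiveDimensionLT M (d + 1)) (g : C →+* F)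
    {E : DRing.Cx C} (hE : IsKFlat E) (a b : ℤ) (h : ∀ i : ℤ, (i < a ∨ b < i) → E.ExactAt i)
    (i : ℤ) (hi : i < a - d ∨ b < i) : ((LTensor.extCx g).obj E).ExactAt i := by
  haveI := LTensor.hasLBaseChange g
  have hv : ∀ j : ℤ, (j < a ∨ b < j) → Subsingleton (Dual.HD C (DRing.toD E) j) := fun j hj => by
    rw [subsingleton_HD_toD_iff, ← HomologicalComplex.exactAt_iff_isZero_homology]
    exact h j hj
  have h1 := TorAmp.torAmp_boundedHD
    (Perfect.torAmp_baseChange g (ProjAmp.hasProjAmp_of_glDim hgl (DRing.toD E) hv).torAmp) i hi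
  rw [← subsingleton_HD_congr (Perfect.baseChangeIsoOfRep g hE (Iso.refl _)), subsingleton_HD_toD_iff,
    ← HomologicalComplex.exactAt_iff_isZero_homology] at h1
  exact h1

/-- Perfection from base changes `B → C(m) → B/m` through rings of finite global dimension. -/
theorem perfect_of_factor [∀ m : Ideal B, DRing.HasLBaseChange (Ideal.Quotient.mk m)]
    (K : Dual.D B) (hK : DRing.IsPseudoCoherent' B K) {E : DRing.Cx B} (hE : IsKFlat E)
    (e : DRing.toD E ≅ K) (d : ℕ) (a b : ℤ)
    (h : ∀ m : Ideal B, m.IsMaximal → ∃ (C : Type u) (_ : CommRing C) (ψ : B →+* C) (g : C →+* B ⧸ m),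
      g.comp ψ = Ideal.Quotient.mk m ∧
      (∀ M : ModuleCat.{u} C, HasProjectiveDimensionLT M (d + 1)) ∧
      IsKFlat ((LTensor.extCx ψ).obj E) ∧
      ∀ i : ℤ, (i < a ∨ b < i) → ((LTensor.extCx ψ).obj E).ExactAt i) :
    DRing.IsPerfect B K ∧ DRing.HasTorAmplitudeIn B (a - d) b K := by
  refine FibreAmp.perfect_of_fibres K hK (a - d) b fun m hm i hi => ?_
  obtain ⟨C, _, ψ, g, hg, hgl, hflat, hex⟩ := h m hm
  refine (subsingleton_HD_congr (Perfect.baseChangeIsoOfRep _ hE e) i).1 ?_
  rw [subsingleton_HD_toD_iff, ← HomologicalComplex.exactAt_iff_isZero_homology]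
  have j : (LTensor.extCx (Ideal.Quotient.mk m)).obj E ≅ (LTensor.extCx g).obj ((LTensor.extCx ψ).obj E) :=
    (NatIso.mapHomologicalComplex (eqToIso (by rw [hg]) ≪≫ ModuleCat.extendScalarsComp.{u} ψ g)
      (ComplexShape.up ℤ)).app E
  exact (exactAt_iff_of_quasiIso j.hom i).2 (exactAt_baseChange_of_glDim d hgl g hflat a b hex i hi)

lemma exists_rep (K : Dual.D B) (hK : DRing.IsPseudoCoherent' B K) :
    ∃ (E : DRing.Cx B) (c : ℤ), DRing.VanishesAbove E c ∧ (∀ i, Module.Flat B (E.X i)) ∧
      Nonempty (DRing.toD E ≅ K) := by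
  obtain ⟨E, c, hc, hf, he⟩ := hK
  refine ⟨E, c, hc, fun i => ?_, he⟩
  have := (hf i).2
  infer_instance

lemma isKFlat_restrictCx [Module.Flat A B] {E : DRing.Cx B} {c : ℤ} (hc : DRing.VanishesAbove E c)
    (hf : ∀ i, Module.Flat B (E.X i)) : IsKFlat ((DRing.restrictCx (algebraMap A B)).obj E) := by
  refine KFlat.isKFlat_of_boundedAbove_flat _ c
    (fun i hi => (ModuleCat.restrictScalars.{u} (algebraMap A B)).map_isZero (hc i hi)) fun i => ?_
  letI : Module A (E.X i) := Module.compHom (E.X i) (algebraMap A B)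
  haveI : IsScalarTower A B (E.X i) := ⟨fun a b x => by
    change (a • b) • x = algebraMap A B a • b • x
    rw [Algebra.smul_def, mul_smul]⟩
  have := hf i
  exact Module.Flat.trans A B (E.X i)

lemma isKFlat_extCx {C : Type u} [CommRing C] (ψ : B →+* C) {E : DRing.Cx B} {c : ℤ}
    (hc : DRing.VanishesAbove E c) (hf : ∀ i, Module.Flat B (E.X i)) :
    IsKFlat ((LTensor.extCx ψ).obj E) :=
  KFlat.isKFlat_of_boundedAbove_flat _ c (fun i hi => Perfect.isZero_extCx ψ (hc i hi))
    fun i => Perfect.flat_extendScalars ψ (hf i)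

/-- The local regular fibre case. -/
theorem perfect_of_regular_fibre [IsLocalRing A] [IsLocalRing B] [IsLocalHom (algebraMap A B)]
    [Module.Flat A B] (d : ℕ)
    [IsRegularLocalRing (B ⧸ (IsLocalRing.maximalIdeal A).map (algebraMap A B))]
    (hd : ringKrullDim (B ⧸ (IsLocalRing.maximalIdeal A).map (algebraMap A B)) = d)
    [DRing.HasLBaseChange (IsLocalRing.residue A)] (a b : ℤ) (K : Dual.D B)
    (hK : DRing.IsPseudoCoherent' B K)
    (h : ∀ i : ℤ, (i < a ∨ b < i) → Subsingleton (Dual.HD (IsLocalRing.ResidueField A)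
      ((DRing.LBaseChange (IsLocalRing.residue A)).obj ((DRing.restrictD (algebraMap A B)).obj K)) i)) :
    DRing.IsPerfect B K ∧ DRing.HasTorAmplitudeIn B (a - d) b K := by
  haveI := fun m : Ideal B => LTensor.hasLBaseChange (Ideal.Quotient.mk m)
  obtain ⟨E, c, hc, hf, ⟨e⟩⟩ := exists_rep K hK
  refine perfect_of_factor K hK (KFlat.isKFlat_of_boundedAbove_flat _ c hc hf) e d a b fun m hm => ?_
  obtain rfl := IsLocalRing.eq_maximalIdeal hm
  let I := (IsLocalRing.maximalIdeal A).map (algebraMap A B)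
  have hI : I ≤ IsLocalRing.maximalIdeal B := Ideal.map_le_iff_le_comap.2 fun x hx hu => hx (isUnit_of_map_unit (algebraMap A B) x hu)
  refine ⟨B ⧸ I, inferInstance, Ideal.Quotient.mk I, Ideal.Quotient.factor hI,
    Ideal.Quotient.factor_comp_mk hI, fun M => RegLoc.Homological.pd_le_dim hd M,
    isKFlat_extCx _ hc hf, fun i hi => ?_⟩
  let φ := IsLocalRing.residue A
  let R := (DRing.restrictCx (algebraMap A B)).obj E
  have hR : IsKFlat R := isKFlat_restrictCx hc hf
  have h1 := (subsingleton_HD_congr (Perfect.baseChangeIsoOfRep φ hR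
    (TensorAmp.restrictDIso (algebraMap A B) e)) i).2 (h i hi)
  rw [subsingleton_HD_toD_iff, ← HomologicalComplex.exactAt_iff_isZero_homology] at h1
  let k := (ModuleCat.restrictScalars.{u} φ).obj (ModuleCat.of _ (IsLocalRing.ResidueField A))
  have h2 : (DRing.tensorCx R k).ExactAt i :=
    (exactAt_iff_of_quasiIso ((NatIso.mapHomologicalComplex (SingleTensor.restrictExtendIso φ)
      (ComplexShape.up ℤ)).app R).hom i).1 ((TensorAmp.exactAt_restrictCx_iff φ _ i).2 h1)
  let v0 : B ⊗[A] (A ⧸ IsLocalRing.maximalIdeal A) ≃ₗ[B] B ⧸ I :=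
    (Algebra.TensorProduct.quotIdealMapEquivTensorQuot B (IsLocalRing.maximalIdeal A)).symm.toLinearEquiv
  let w : (B ⧸ I) ≃ₗ[B] (ModuleCat.restrictScalars.{u} (Ideal.Quotient.mk I)).obj (ModuleCat.of _ (B ⧸ I)) :=
    { toFun := id
      invFun := id
      left_inv := fun _ => rfl
      right_inv := fun _ => rfl
      map_add' := fun _ _ => rfl
      map_smul' := fun r x => Algebra.smul_def r x }
  let kk : k ≅ ModuleCat.of A (A ⧸ IsLocalRing.maximalIdeal A) :=
    (show k ≃ₗ[A] A ⧸ IsLocalRing.maximalIdeal A from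
      { toFun := fun x => x
        invFun := fun x => x
        left_inv := fun _ => rfl
        right_inv := fun _ => rfl
        map_add' := fun _ _ => rfl
        map_smul' := fun r x => (Algebra.smul_def r (show A ⧸ IsLocalRing.maximalIdeal A from x)).symm }).toModuleIso
  refine (exactAt_tensor_restrict_iff (A ⧸ IsLocalRing.maximalIdeal A) (Ideal.Quotient.mk I) (v0.trans w) E i).1 ?_
  exact (exactAt_iff_of_quasiIso ((NatIso.mapHomologicalComplex ((tensoringRight (ModuleCat.{u} A)).mapIso kk)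
    (ComplexShape.up ℤ)).app R).hom i).1 h2

/-- Finite global dimension of the fibres. -/
theorem perfect_of_fibres_glDim [Module.Flat A B] (d : ℕ)
    (hgl : ∀ (p : PrimeSpectrum A) (M : Type u) [AddCommGroup M]
      [Module (p.asIdeal.ResidueField ⊗[A] B) M],
      HasProjectiveDimensionLT (ModuleCat.of (p.asIdeal.ResidueField ⊗[A] B) M) (d + 1))
    [∀ m : Ideal B, DRing.HasLBaseChange (Ideal.Quotient.mk m)] (a b : ℤ) (K : Dual.D B)
    (hK : DRing.IsPseudoCoherent' B K)
    (hKa : DRing.HasTorAmplitudeIn A a b ((DRing.restrictD (algebraMap A B)).obj K)) :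
    DRing.IsPerfect B K ∧ DRing.HasTorAmplitudeIn B (a - d) b K := by
  obtain ⟨E, c, hc, hf, ⟨e⟩⟩ := exists_rep K hK
  have hR : IsKFlat ((DRing.restrictCx (algebraMap A B)).obj E) := isKFlat_restrictCx hc hf
  have hvan := (hasTorAmp_iff hR (TensorAmp.restrictDIso (algebraMap A B) e) a b).1 hKa
  refine perfect_of_factor K hK (KFlat.isKFlat_of_boundedAbove_flat _ c hc hf) e d a b fun m hm => ?_
  let p : PrimeSpectrum A := ⟨m.comap (algebraMap A B), inferInstance⟩
  let C := p.asIdeal.ResidueField ⊗[A] B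
  haveI := hm
  let g₀ : p.asIdeal.ResidueField →+* m.ResidueField :=
    Ideal.ResidueField.map p.asIdeal m (algebraMap A B) rfl
  let q : (B ⧸ m) ≃+* m.ResidueField :=
    RingEquiv.ofBijective _ m.bijective_algebraMap_quotient_residueField
  let g₁ : p.asIdeal.ResidueField →+* B ⧸ m := q.symm.toRingHom.comp g₀
  have hg₁ : g₁.comp (algebraMap A p.asIdeal.ResidueField) = algebraMap A (B ⧸ m) := by
    ext r
    apply q.injective
    change q (q.symm (g₀ (algebraMap A p.asIdeal.ResidueField r))) = q (algebraMap A (B ⧸ m) r)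
    rw [q.apply_symm_apply, show g₀ (algebraMap A p.asIdeal.ResidueField r) =
      algebraMap B m.ResidueField (algebraMap A B r) from Ideal.ResidueField.map_algebraMap ..]
    rfl
  let g : C →+* B ⧸ m := (Algebra.TensorProduct.lift
    (⟨g₁, fun r => RingHom.congr_fun hg₁ r⟩ : p.asIdeal.ResidueField →ₐ[A] B ⧸ m)
    (Ideal.Quotient.mkₐ A m) fun _ _ => Commute.all _ _).toRingHom
  let ψ : B →+* C := (Algebra.TensorProduct.includeRight : B →ₐ[A] C).toRingHom
  refine ⟨C, inferInstance, ψ, g, RingHom.ext fun x => ?_, fun M => hgl p M, isKFlat_extCx _ hc hf,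
    fun i hi => ?_⟩
  · change g ((1 : p.asIdeal.ResidueField) ⊗ₜ[A] x) = _
    change g₁ 1 * Ideal.Quotient.mk m x = _
    rw [map_one, one_mul]
  · let v : B ⊗[A] p.asIdeal.ResidueField ≃ₗ[B]
        (ModuleCat.restrictScalars.{u} ψ).obj (ModuleCat.of C C) :=
      { (TensorProduct.comm A B p.asIdeal.ResidueField).toAddEquiv with
        map_smul' := fun r x => by
          change TensorProduct.comm A B _ (r • x) = ψ r * TensorProduct.comm A B _ x
          induction x using TensorProduct.induction_on with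
          | zero => simp
          | tmul s t => exact (congrArg (fun y => y ⊗ₜ[A] (r * s)) (one_mul t).symm).trans (Algebra.TensorProduct.tmul_mul_tmul 1 t r s).symm
          | add x y hx hy => simp only [smul_add, map_add, mul_add, hx, hy] }
    exact (exactAt_tensor_restrict_iff p.asIdeal.ResidueField ψ v E i).1 (hvan _ i hi)

end Groth.Agent.DRing.FlatFibres
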