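import Groth.Agent.DTenLib.Hom
import Groth.Agent.DRing.DBasic
import Mathlib.CategoryTheory.Functor.Derived.PointwiseRightDerived
import Mathlib.CategoryTheory.Yoneda

/-!
# Hom complexes out of K-projective complexes, and the tensor-hom adjunction
-/

universe u

open CategoryTheory CategoryTheory.Limits MonoidalCategory

attribute [local instance] HasDerivedCategory.standard

namespace Groth.Agent.DRing.HomCx

open Groth.Agent.DTenLib DBasic

variable {A : Type u} [CommRing A] {P L L' Y Z Z' : DRing.Cx A}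

lemma uncurry_comp (f : Z ⟶ Z') (g : Z' ⟶ DRing.homCx P Y) :
    uncurry (f ≫ g) = f ▷ P ≫ uncurry g := by
  rw [uncurry, uncurry, MonoidalCategory.comp_whiskerRight, Category.assoc]

lemma uncurry_post (a : Z ⟶ DRing.homCx P L) (f : L ⟶ L') :
    uncurry (a ≫ DRing.homCxMap P f) = uncurry a ≫ f := by
  rw [uncurry_comp, uncurry, uncurry, Category.assoc, post_ev]

lemma curry_post (a : Z ⊗ P ⟶ L) (f : L ⟶ L') :
    curry (a ≫ f) = curry a ≫ DRing.homCxMap P f :=
  (homEquivCx Z P L').symm.injective (by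
    change uncurry (curry (a ≫ f)) = uncurry (curry a ≫ DRing.homCxMap P f)
    rw [uncurry_post, uncurry_curry, uncurry_curry])

/-- A homotopy between maps into a Hom complex gives one between the adjoint maps. -/
noncomputable def uncurryHomotopy {a a' : Z ⟶ DRing.homCx P Y} (h : Homotopy a a') :
    Homotopy (uncurry a) (uncurry a') :=
  Homotopy.compRight (HomologicalComplex.mapBifunctorMapHomotopy₁ h (𝟙 P)
    (curriedTensor (ModuleCat.{u} A)) (ComplexShape.up ℤ)) (ev P Y)

/-- `Hom•(P, -)` preserves quasi-isomorphisms for K-projective `P`. -/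
theorem quasiIso_homCxMap [P.IsKProjective] (f : L ⟶ L') [QuasiIso f] :
    QuasiIso (DRing.homCxMap P f) := by
  refine (DerivedCategory.isIso_Q_map_iff_quasiIso (C := ModuleCat.{u} A) _).1 ?_
  have : IsIso (DerivedCategory.Q.map f) := inferInstance
  have key : ∀ (W : DRing.Cx A) [W.IsKProjective], Function.Bijective
      (fun φ : DRing.toD W ⟶ DRing.toD (DRing.homCx P L) => φ ≫ DerivedCategory.Q.map (DRing.homCxMap P f)) := by
    intro W _
    have : CochainComplex.IsKProjective (W ⊗ P : DRing.Cx A) := isKProjective_tensor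
    refine ⟨fun φ φ' h => ?_, fun ψ => ?_⟩
    · obtain ⟨a, rfl⟩ := exists_Q_map_eq φ
      obtain ⟨a', rfl⟩ := exists_Q_map_eq φ'
      dsimp only at h
      rw [← Functor.map_comp, ← Functor.map_comp] at h
      obtain ⟨s⟩ := (Q_map_eq_iff _ _).1 h
      have h1 : DerivedCategory.Q.map (uncurry a) ≫ DerivedCategory.Q.map f =
          DerivedCategory.Q.map (uncurry a') ≫ DerivedCategory.Q.map f := by
        rw [← Functor.map_comp, ← Functor.map_comp, Q_map_eq_iff, ← uncurry_post, ← uncurry_post]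
        exact ⟨uncurryHomotopy s⟩
      obtain ⟨t⟩ := (Q_map_eq_iff _ _).1 ((cancel_mono _).1 h1)
      have h2 := curryHomotopy t
      rw [curry_uncurry, curry_uncurry] at h2
      exact (Q_map_eq_iff _ _).2 ⟨h2⟩
    · obtain ⟨b, rfl⟩ := exists_Q_map_eq ψ
      obtain ⟨a, ha⟩ := exists_Q_map_eq (P := W ⊗ P) (L := L)
        (DerivedCategory.Q.map (uncurry b) ≫ inv (DerivedCategory.Q.map f))
      obtain ⟨s⟩ := (Q_map_eq_iff (a ≫ f) (uncurry b)).1 (by
        rw [Functor.map_comp, ha, Category.assoc, IsIso.inv_hom_id]; exact Category.comp_id _)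
      refine ⟨DerivedCategory.Q.map (curry a), ?_⟩
      dsimp only
      rw [← Functor.map_comp, ← curry_post, Q_map_eq_iff]
      have h2 := curryHomotopy s
      rw [curry_uncurry] at h2
      exact ⟨h2⟩
  obtain ⟨W, _, -, ⟨e⟩⟩ := exists_kproj_iso (DRing.toD (DRing.homCx P L'))
  obtain ⟨W', _, -, ⟨e'⟩⟩ := exists_kproj_iso (DRing.toD (DRing.homCx P L))
  obtain ⟨s, hs⟩ := (key W).2 e.hom
  refine ⟨e.inv ≫ s, ?_, ?_⟩
  · rw [← cancel_epi e'.hom]
    refine (key W').1 ?_
    dsimp only at hs ⊢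
    simp only [Category.assoc]
    rw [hs, Iso.inv_hom_id, Category.comp_id]
    exact (congrArg (e'.hom ≫ ·) (Category.id_comp _)).symm
  · dsimp only at hs
    rw [Category.assoc, hs, Iso.inv_hom_id]

theorem nonempty_RHomCx_iso (P : DRing.Cx A) [P.IsKProjective] [DRing.HasRHomCx P] (L : DRing.Cx A) :
    Nonempty ((DRing.RHomCx P).obj (DRing.toD L) ≅ DRing.toD (DRing.homCx P L)) := by
  have hF : (HomologicalComplex.quasiIso (ModuleCat.{u} A) (ComplexShape.up ℤ)).IsInvertedBy (DRing.homCxQ P) :=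
    fun X Y f hf => by
      have : QuasiIso f := hf
      have := quasiIso_homCxMap (P := P) f
      exact inferInstanceAs (IsIso (DerivedCategory.Q.map (DRing.homCxMap P f)))
  let α := (DRing.homCxQ P).totalRightDerivedUnit DerivedCategory.Q
    (HomologicalComplex.quasiIso (ModuleCat.{u} A) (ComplexShape.up ℤ))
  have : IsIso α := Functor.isIso_of_isRightDerivedFunctor_of_inverts
    (W := HomologicalComplex.quasiIso (ModuleCat.{u} A) (ComplexShape.up ℤ)) (DRing.RHomCx P) α hF
  exact ⟨(asIso (α.app L)).symm⟩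

/-- `Hom•(K, Hom•(L, Y)) ≅ Hom•(K ⊗ L, Y)`. -/
theorem nonempty_homCx_homCx_iso (K L Y : DRing.Cx A) :
    Nonempty (DRing.homCx K (DRing.homCx L Y) ≅ DRing.homCx (K ⊗ L) Y) := by
  refine ⟨Yoneda.ext _ _ (fun {W} f => curry ((α_ W K L).inv ≫ uncurry (uncurry f)))
    (fun {W} f => curry (curry ((α_ W K L).hom ≫ uncurry f))) (fun f => ?_) (fun f => ?_) (fun {W W'} f g => ?_)⟩
  · rw [uncurry_curry, Iso.hom_inv_id_assoc, curry_uncurry, curry_uncurry]
  · rw [uncurry_curry, uncurry_curry, Iso.inv_hom_id_assoc, curry_uncurry]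
  · refine (homEquivCx W' (K ⊗ L) Y).symm.injective ?_
    change uncurry (curry _) = uncurry (f ≫ curry _)
    rw [uncurry_curry, uncurry_comp (P := K ⊗ L), uncurry_curry, uncurry_comp, uncurry_comp,
      associator_inv_naturality_left_assoc]

end Groth.Agent.DRing.HomCx
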