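import Groth.Agent.DRing.HomCx
import Groth.Agent.DRing.Perfect
import Groth.Agent.DTenLib.BC
import Groth.Agent.DTenLib.Comp

/-!
# `Hom•(P, K)` is K-flat for perfect `P` and K-flat `K`
-/

universe u

open CategoryTheory CategoryTheory.Limits MonoidalCategory

attribute [local instance] HasDerivedCategory.standard

namespace Groth.Agent.DRing.HomCxKFlat

open Groth.Agent.DTenLib DBasic

variable {A : Type u} [CommRing A]

lemma pre_eq_curry {P P' Y : DRing.Cx A} (g : P' ⟶ P) :
    pre g Y = curry (DRing.homCx P Y ◁ g ≫ ev P Y) :=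
  (curry_uncurry (pre g Y)).symm.trans (congrArg curry (pre_ev g))

lemma pre_comp {P P' P'' Y : DRing.Cx A} (g : P'' ⟶ P') (h : P' ⟶ P) :
    pre (g ≫ h) Y = pre h Y ≫ pre g Y :=
  HomologicalComplex.hom_ext _ _ fun n => ModuleCat.hom_ext (LinearMap.ext fun z => cv_ext fun p q hpq => by
    rw [cv_pre]
    change _ = cv (((pre g Y).f n).hom (((pre h Y).f n).hom z)) p q hpq
    rw [cv_pre, cv_pre, HomologicalComplex.comp_f, Category.assoc])

lemma pre_id {P Y : DRing.Cx A} : pre (𝟙 P) Y = 𝟙 _ :=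
  HomologicalComplex.hom_ext _ _ fun n => ModuleCat.hom_ext (LinearMap.ext fun z => cv_ext fun p q hpq => by
    rw [cv_pre, HomologicalComplex.id_f, Category.id_comp]
    rfl)

/-- Precomposition respects homotopies. -/
noncomputable def preHomotopy {P P' Y : DRing.Cx A} {g g' : P' ⟶ P} (h : Homotopy g g') :
    Homotopy (pre g Y) (pre g' Y) :=
  (Homotopy.ofEq (pre_eq_curry g)).trans
    ((curryHomotopy ((Tensor.whiskerLeftHomotopy (DRing.homCx P Y) h).compRight (ev P Y))).trans
      (Homotopy.ofEq (pre_eq_curry g').symm))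

/-- Precomposition with a homotopy equivalence. -/
noncomputable def preEquiv {P P' : DRing.Cx A} (e : HomotopyEquiv P' P) (Y : DRing.Cx A) :
    HomotopyEquiv (DRing.homCx P Y) (DRing.homCx P' Y) where
  hom := pre e.hom Y
  inv := pre e.inv Y
  homotopyHomInvId := (Homotopy.ofEq (pre_comp _ _).symm).trans
    ((preHomotopy e.homotopyInvHomId).trans (Homotopy.ofEq pre_id))
  homotopyInvHomId := (Homotopy.ofEq (pre_comp _ _).symm).trans
    ((preHomotopy e.homotopyHomInvId).trans (Homotopy.ofEq pre_id))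

lemma isKFlat_congr {K L : DRing.Cx A} (e : HomotopyEquiv K L) (hK : DRing.IsKFlat A K) :
    DRing.IsKFlat A L := fun M hM i =>
  (hK M hM i).of_iso ((Tensor.whiskerLeftHomotopyEquiv M e).toHomologyIso i).symm

theorem isKFlat_homCx (P K : DRing.Cx A) (b : ℤ) (hPb : DRing.VanishesAbove P b)
    (hPp : ∀ i, Module.Projective A (P.X i)) (hperf : DRing.IsPerfect A (DRing.toD P))
    (hK : DRing.IsKFlat A K) : DRing.IsKFlat A (DRing.homCx P K) := by
  obtain ⟨E, a, c, hE1, hE2, ⟨e⟩⟩ := hperf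
  have := isKProjective_of_projective P b hPb hPp
  have := isKProjective_of_projective E c (fun i hi => hE1 i (Or.inr hi)) fun i => (hE2 i).2
  obtain ⟨φ, hφ⟩ := exists_Q_map_eq (L := P) e.hom
  obtain ⟨ψ, hψ⟩ := exists_Q_map_eq (L := E) e.inv
  obtain ⟨s⟩ := (DBasic.Q_map_eq_iff (φ ≫ ψ) (𝟙 E)).1 (by
    rw [Functor.map_comp, hφ, hψ, e.hom_inv_id, CategoryTheory.Functor.map_id])
  obtain ⟨t⟩ := (DBasic.Q_map_eq_iff (ψ ≫ φ) (𝟙 P)).1 (by
    rw [Functor.map_comp, hφ, hψ, e.inv_hom_id, CategoryTheory.Functor.map_id])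
  let he : HomotopyEquiv P E := ⟨ψ, φ, t, s⟩
  refine isKFlat_congr (preEquiv he K) ?_
  obtain ⟨D⟩ := nonempty_dualData hE1 hE2
  have hunit : CochainComplex.IsKProjective (𝟙_ (DRing.Cx A)) := by
    refine isKProjective_of_projective _ 0
      (fun i hi => HomologicalComplex.isZero_single_obj_X _ _ _ _ (by omega)) fun i => ?_
    by_cases hi : i = 0
    · subst hi
      exact Trunc.projective_of_iso
        (HomologicalComplex.singleObjXSelf (ComplexShape.up ℤ) 0 (ModuleCat.of A A)).symm inferInstance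
    · exact Trunc.projective_of_isZero (HomologicalComplex.isZero_single_obj_X (ComplexShape.up ℤ) 0 (ModuleCat.of A A) i hi)
  have := isKProjective_homCx (L := 𝟙_ (DRing.Cx A)) D
  have h := isKFlat_tensor hK (isKFlat_kproj (DRing.homCx E (𝟙_ (DRing.Cx A))))
  have := isIso_etaTen_right (P := K) (Y := 𝟙_ (DRing.Cx A)) D
  exact isKFlat_congr (HomotopyEquiv.ofIso (asIso (etaTen K E (𝟙_ (DRing.Cx A))) ≪≫
    (DRing.homCxFunctor E).mapIso (ρ_ K))) h

end Groth.Agent.DRing.HomCxKFlat
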