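import Groth.Agent.DRing.Devissage
import Groth.Agent.DRing.KProj
import Mathlib.Algebra.Homology.DerivedCategory.KInjective
import Mathlib.Algebra.Homology.Factorizations.CM5a
import Mathlib.Algebra.Category.ModuleCat.Injective
import Mathlib.Algebra.Category.ModuleCat.EnoughInjectives
import Mathlib.Tactic.TFAE

/-!
# Injective amplitude
-/

universe u

open CategoryTheory CategoryTheory.Limits CategoryTheory.Pretriangulated DerivedCategory

attribute [local instance] HasDerivedCategory.standard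

namespace Groth.Agent.DRing.InjAmp

open DBasic Homology PC ZeroObject

variable {A : Type u} [CommRing A]

lemma injective_obj {E : DRing.Cx A} (h : DRing.TermwiseInjective E) (i : ℤ) :
    Injective (E.X i) :=
  (Module.injective_iff_injective_object A (E.X i)).1 (h i)

lemma isKInjective_of_amp {E : DRing.Cx A} {a : ℤ} (hv : ∀ i, i < a → IsZero (E.X i))
    (h : DRing.TermwiseInjective E) : E.IsKInjective := by
  have : E.IsStrictlyGE a := (CochainComplex.isStrictlyGE_iff _ _).2 hv
  have := injective_obj h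
  exact CochainComplex.isKInjective_of_injective E a

/-- Morphisms into a K-injective complex come from chain maps. -/
lemma exists_Q_map_eq_inj {K L : DRing.Cx A} [L.IsKInjective]
    (φ : DRing.toD K ⟶ DRing.toD L) : ∃ f : K ⟶ L, Q.map f = φ := by
  obtain ⟨g, hg⟩ := (CochainComplex.IsKInjective.Qh_map_bijective
    ((HomotopyCategory.quotient _ _).obj K) L).surjective
      ((quotientCompQhIso (ModuleCat.{u} A)).hom.app K ≫ φ ≫
        (quotientCompQhIso (ModuleCat.{u} A)).inv.app L)
  obtain ⟨f, rfl⟩ := (HomotopyCategory.quotient _ _).map_surjective g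
  refine ⟨f, ?_⟩
  have h := quotientCompQhIso_hom_naturality f
  rw [hg] at h
  simp only [Category.assoc] at h
  erw [Iso.inv_hom_id_app, Category.comp_id] at h
  exact ((cancel_epi _).1 h).symm

/-- Two chain maps into a K-injective complex agree in `D(A)` iff they are homotopic. -/
lemma Q_map_eq_iff_inj {K L : DRing.Cx A} [L.IsKInjective] (f g : K ⟶ L) :
    Q.map f = Q.map g ↔ Nonempty (Homotopy f g) := by
  refine ⟨fun h => ⟨HomotopyCategory.homotopyOfEq _ _ ?_⟩,
    fun ⟨h⟩ => DerivedCategory.Q_map_eq_of_homotopy (ModuleCat.{u} A) h⟩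
  refine (CochainComplex.IsKInjective.Qh_map_bijective _ L).injective ?_
  have hf := quotientCompQhIso_hom_naturality f
  rw [h, ← quotientCompQhIso_hom_naturality g] at hf
  exact (cancel_mono _).1 hf

/-- Morphisms `N[0] ⟶ K[i]` are morphisms `N[-i] ⟶ K`. -/
lemma subsingleton_ext_iff (K : Dual.D A) (N : Type u) [AddCommGroup N] [Module A N] (i : ℤ) :
    Subsingleton (DRing.ExtD A (Dual.inD A N) K i) ↔
      Subsingleton (DRing.toD (sgl i (ModuleCat.of A N)) ⟶ K) := by
  let e := inDShiftIso (ModuleCat.of A N) i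
  let c := (shiftFunctorCompIsoId (Dual.D A) i (-i) (by omega)).app K
  let F : DRing.ExtD A (Dual.inD A N) K i ≃ (DRing.toD (sgl i (ModuleCat.of A N)) ⟶ K) :=
    (Functor.FullyFaithful.ofFullyFaithful (shiftFunctor (Dual.D A) (-i))).homEquiv.trans
      (Iso.homCongr e c)
  exact F.subsingleton_congr

lemma hasInjAmplitudeIn_of_iso {a b : ℤ} {K L : Dual.D A} (e : K ≅ L)
    (h : DRing.HasInjAmplitudeIn A a b K) : DRing.HasInjAmplitudeIn A a b L := by
  obtain ⟨E, h1, h2, ⟨e'⟩⟩ := h
  exact ⟨E, h1, h2, ⟨e' ≪≫ e⟩⟩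

lemma finiteInjDim_of_iso {K L : Dual.D A} (e : K ≅ L)
    (h : DRing.HasFiniteInjDim A K) : DRing.HasFiniteInjDim A L := by
  obtain ⟨a, b, h⟩ := h
  exact ⟨a, b, hasInjAmplitudeIn_of_iso e h⟩

lemma finiteInjDim_shift {K : Dual.D A} (h : DRing.HasFiniteInjDim A K) (n : ℤ) :
    DRing.HasFiniteInjDim A ((shiftFunctor (Dual.D A) n).obj K) := by
  obtain ⟨a, b, E, h1, h2, ⟨e⟩⟩ := h
  exact ⟨a - n, b - n, E⟦n⟧, fun i hi => h1 (i + n) (by omega), fun i => h2 (i + n),
    ⟨((Q (C := ModuleCat.{u} A)).commShiftIso n).app E ≪≫ (shiftFunctor (Dual.D A) n).mapIso e⟩⟩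

lemma finiteInjDim_of_isZero {K : Dual.D A} (h : IsZero K) : DRing.HasFiniteInjDim A K := by
  have hz : ∀ i, IsZero ((0 : DRing.Cx A).X i) := fun i =>
    (HomologicalComplex.eval (ModuleCat.{u} A) (.up ℤ) i).map_isZero (isZero_zero _)
  exact ⟨0, 0, 0, fun i _ => hz i, fun i => (Module.injective_iff_injective_object A _).2
    (hz i).injective, ⟨(Q.map_isZero (isZero_zero _)).iso h⟩⟩

/-- Finite injective dimension of the outer terms passes to the middle one. -/
lemma finiteInjDim_middle {T : Triangle (Dual.D A)} (hT : T ∈ distinguishedTriangles)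
    (h₁ : DRing.HasFiniteInjDim A T.obj₁) (h₃ : DRing.HasFiniteInjDim A T.obj₃) :
    DRing.HasFiniteInjDim A T.obj₂ := by
  obtain ⟨a, b, I, hI, hIi, ⟨eI⟩⟩ := h₁
  obtain ⟨c, d, J, hJ, hJi, ⟨eJ⟩⟩ := finiteInjDim_shift h₃ (-1)
  have := isKInjective_of_amp (fun i hi => hI i (Or.inl hi)) hIi
  have hT' := inv_rot_of_distTriang _ hT
  obtain ⟨f, hf⟩ := exists_Q_map_eq_inj (K := J) (L := I) (eJ.hom ≫ T.invRotate.mor₁ ≫ eI.inv)
  let e := isoTriangleOfIso₁₂ _ _ (mappingCone_triangle_distinguished f) hT' eJ eI (by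
    change Q.map f ≫ eI.hom = eJ.hom ≫ T.invRotate.mor₁
    erw [hf, Category.assoc, Category.assoc, Iso.inv_hom_id, Category.comp_id]; rfl)
  refine ⟨min a (c - 1), max b d, CochainComplex.mappingCone f, fun i hi => ?_, fun i => ?_,
    ⟨Triangle.π₃.mapIso e⟩⟩
  · exact (IsZero.iff_id_eq_zero _).2
      ((CochainComplex.mappingCone.id_X f i (i + 1) rfl).symm.trans (by
        rw [(hJ (i + 1) (by omega)).eq_of_tgt ((CochainComplex.mappingCone.fst f).1.v i (i + 1) rfl) 0,
          (hI i (by omega)).eq_of_tgt ((CochainComplex.mappingCone.snd f).v i i (add_zero i)) 0,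
          zero_comp, zero_comp, add_zero]))
  · have := injective_obj hJi (i + 1)
    have := injective_obj hIi i
    have : Injective (J.X (i + 1) ⊞ I.X i) := inferInstance
    refine (Module.injective_iff_injective_object A _).2 (Injective.of_iso (?_ : J.X (i + 1) ⊞ I.X i ≅ _) this)
    exact (HomologicalComplex.homotopyCofiber.XIsoBiprod f i (i + 1) rfl).symm

/-- A morphism out of `R[-i]` killing nothing detects cohomology. -/
lemma subsingleton_HD_of_hom (K : Dual.D A) (i : ℤ)
    (h : Subsingleton (DRing.toD (sgl i (ModuleCat.of A (A ⧸ (⊥ : Ideal A)))) ⟶ K)) :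
    Subsingleton (Dual.HD A K i) := by
  obtain ⟨P, _, -, ⟨e⟩⟩ := exists_kproj_iso K
  rw [← subsingleton_HD_congr e, subsingleton_HD_toD_iff,
    ← HomologicalComplex.exactAt_iff_isZero_homology, exactAt_iff_forall i (i - 1) (by omega)]
  intro z hz
  let S := sgl i (ModuleCat.of A (A ⧸ (⊥ : Ideal A)))
  let g : S ⟶ P := HomologicalComplex.mkHomFromSingle
    (ModuleCat.ofHom (((LinearMap.toSpanSingleton A (P.X i) z).comp
      (Submodule.quotEquivOfEqBot (⊥ : Ideal A) rfl).toLinearMap)))
    (fun k (hk : i + 1 = k) => ModuleCat.hom_ext (LinearMap.ext fun x => by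
      change (P.d i k).hom ((Submodule.quotEquivOfEqBot (⊥ : Ideal A) rfl x) • z) = 0
      rw [map_smul, (isCyc_iff hk z).1 hz, smul_zero]))
  have hg : Q.map g = 0 := by
    rw [← cancel_mono e.hom, zero_comp]
    exact h.elim _ _
  have hg' : HomologicalComplex.homologyMap g i = 0 := by
    rw [← cancel_epi (hIso S i).hom, ← cancel_mono (hIso P i).inv, Category.assoc, comp_zero,
      zero_comp, ← HF_map_Q_eq, hg, Functor.map_zero]
  let x : S.X i := (HomologicalComplex.singleObjXSelf (ComplexShape.up ℤ) i (ModuleCat.of A (A ⧸ (⊥ : Ideal A)))).inv.hom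
    (Submodule.Quotient.mk (1 : A))
  have hx : IsCyc S i x := by
    unfold IsCyc
    rw [show S.d i (i + 1) = 0 from HomologicalComplex.single_obj_d _ _ _ _ _]
    rfl
  have hgx : (g.f i).hom x = z := by
    rw [show g.f i = _ from HomologicalComplex.mkHomFromSingle_f _ _]
    change (((LinearMap.toSpanSingleton A (P.X i) z).comp
      (Submodule.quotEquivOfEqBot (⊥ : Ideal A) rfl).toLinearMap))
      ((HomologicalComplex.singleObjXSelf (ComplexShape.up ℤ) i (ModuleCat.of A (A ⧸ (⊥ : Ideal A)))).hom.hom x) = z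
    rw [show (HomologicalComplex.singleObjXSelf (ComplexShape.up ℤ) i (ModuleCat.of A (A ⧸ (⊥ : Ideal A)))).hom.hom x =
        Submodule.Quotient.mk (1 : A) from by
      change ((HomologicalComplex.singleObjXSelf (ComplexShape.up ℤ) i (ModuleCat.of A (A ⧸ (⊥ : Ideal A)))).inv ≫
        (HomologicalComplex.singleObjXSelf (ComplexShape.up ℤ) i (ModuleCat.of A (A ⧸ (⊥ : Ideal A)))).hom).hom _ = _
      rw [Iso.inv_hom_id]; rfl]
    exact one_smul A z
  have := homologyMap_cls g hx
  rw [hg'] at this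
  exact (cls_eq_zero_iff (i - 1) (by omega) hz).1 ((by simpa [hgx] using this.symm))

/-- Vanishing against cyclic modules gives an injective representative in `[a, b]`. -/
theorem hasInjAmplitudeIn_of_vanishing {K : Dual.D A} {a b : ℤ}
    (h : ∀ (J : Ideal A) (i : ℤ), (i < a ∨ b < i) →
      Subsingleton (DRing.ExtD A (Dual.inD A (A ⧸ J)) K i)) :
    DRing.HasInjAmplitudeIn A a b K := by
  have hv : ∀ i, (i < a ∨ b < i) → Subsingleton (Dual.HD A K i) := fun i hi =>
    subsingleton_HD_of_hom K i ((subsingleton_ext_iff K _ i).1 (h ⊥ i hi))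
  have : K.IsGE a := (DerivedCategory.isGE_iff K a).2 fun i hi =>
    (subsingleton_HD_iff_isZero K i).1 (hv i (Or.inl hi))
  obtain ⟨K', hK', ⟨e⟩⟩ := DerivedCategory.exists_iso_Q_obj_of_isGE K a
  obtain ⟨I, ι, _, hI, hIge⟩ := CochainComplex.Plus.modelCategoryQuillen.exists_quasiIso_injective K' a
  have hIz : ∀ i, i < a → IsZero (I.X i) := fun i hi => I.isZero_of_isStrictlyGE a i hi
  have := CochainComplex.isKInjective_of_injective I a
  have eI : DRing.toD I ≅ K := (asIso (Q.map ι)).symm ≪≫ e.symm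
  have hex : ∀ i, b < i → I.ExactAt i := fun i hi => by
    rw [HomologicalComplex.exactAt_iff_isZero_homology, ← subsingleton_HD_toD_iff,
      subsingleton_HD_congr eI]
    exact hv i (Or.inr hi)
  -- the subcomplex of `I` truncated at `b`
  let kz : ∀ i, Submodule A (I.X i) := fun i =>
    if i < b then ⊤ else if i = b then LinearMap.ker (I.d i (i + 1)).hom else ⊥
  have hmaps : ∀ {i j : ℤ} (x : I.X i), x ∈ kz i → (I.d i j).hom x ∈ kz j := by
    intro i j x hx
    by_cases hij : i + 1 = j
    · subst hij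
      simp only [kz] at hx ⊢
      by_cases h1 : i + 1 < b
      · rw [if_pos h1]; trivial
      rw [if_neg h1]
      by_cases h2 : i + 1 = b
      · rw [if_pos h2]; exact d_d _ _ _ x
      rw [if_neg h2, Submodule.mem_bot]
      rw [if_neg (by omega)] at hx
      by_cases h3 : i = b
      · rw [if_pos h3] at hx; exact hx
      · rw [if_neg h3, Submodule.mem_bot] at hx; simp [hx]
    · rw [I.shape i j (by simpa using hij)]
      exact (kz j).zero_mem
  let E : DRing.Cx A :=
    { X := fun i => ModuleCat.of A (kz i)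
      d := fun i j => ModuleCat.ofHom ((I.d i j).hom.restrict fun x hx => hmaps x hx)
      shape := fun i j hij => ModuleCat.hom_ext (LinearMap.ext fun x => Subtype.ext (by
        change (I.d i j).hom x.1 = 0
        rw [I.shape i j hij]; rfl))
      d_comp_d' := fun i j k _ _ => ModuleCat.hom_ext (LinearMap.ext fun x => Subtype.ext (
        d_d i j k x.1)) }
  let j : E ⟶ I :=
    { f := fun i => ModuleCat.ofHom (kz i).subtype
      comm' := fun _ _ _ => rfl }
  have hbot : ∀ i, b < i → kz i = ⊥ := fun i hi => by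
    simp only [kz]; rw [if_neg (by omega), if_neg (by omega)]
  have hcyc : ∀ i, i ≤ b → ∀ z, IsCyc I i z → z ∈ kz i := fun i hi z hz => by
    simp only [kz]
    by_cases h1 : i < b
    · rw [if_pos h1]; trivial
    · rw [if_neg h1, if_pos (by omega)]; exact hz
  have hq : QuasiIso j := quasiIso_of_bijective _ fun i => by
    constructor
    · rw [homologyMap_injective_iff _ i (i - 1) (by omega)]
      intro z w hz hzw
      by_cases hi : i ≤ b
      · refine ⟨⟨w, ?_⟩, Subtype.ext hzw.symm⟩
        simp only [kz]; rw [if_pos (by omega)]; trivial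
      · have h0 : (z.1 : I.X i) = 0 := (Submodule.mem_bot A).1 (le_of_eq (hbot i (by omega)) z.2)
        exact ⟨0, Subtype.ext (by rw [map_zero]; exact h0.symm)⟩
    · rw [homologyMap_surjective_iff _ i (i - 1) (by omega)]
      intro z hz
      by_cases hi : i ≤ b
      · exact ⟨⟨z, hcyc i hi z hz⟩, 0, Subtype.ext hz, by rw [map_zero, add_zero]; rfl⟩
      · obtain ⟨w, hw⟩ := (exactAt_iff_forall i (i - 1) (by omega)).1 (hex i (by omega)) z hz
        exact ⟨0, w, map_zero _, by rw [map_zero, zero_add, hw]⟩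
  have hinjI : ∀ i, Module.Injective A (I.X i) := fun i =>
    (Module.injective_iff_injective_object A _).2 (hI i)
  refine ⟨E, fun i hi => ?_, fun i => ?_, ⟨asIso (Q.map j) ≪≫ eI⟩⟩
  · rcases hi with hi | hi
    · have := ModuleCat.subsingleton_of_isZero (hIz i hi)
      exact ModuleCat.isZero_of_subsingleton (ModuleCat.of A (kz i))
    · have : Subsingleton (kz i) := by rw [hbot i hi]; infer_instance
      exact ModuleCat.isZero_of_subsingleton (ModuleCat.of A (kz i))
  · change Module.Injective A (kz i)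
    refine Module.Baer.injective fun J g => ?_
    obtain ⟨h', hh'⟩ := (Module.Baer.of_injective (hinjI i)) J ((kz i).subtype.comp g)
    by_cases hi : i < b
    · refine ⟨h'.codRestrict (kz i) (fun x => ?_), fun x hx => Subtype.ext (hh' x hx)⟩
      simp only [kz]; rw [if_pos hi]; trivial
    by_cases hib : b < i
    · exact ⟨0, fun x hx => Subtype.ext
        (((Submodule.mem_bot A).1 (le_of_eq (hbot i hib) (g ⟨x, hx⟩).2)).symm)⟩
    obtain rfl : i = b := by omega
    have hkz : ∀ x, x ∈ kz i ↔ (I.d i (i + 1)).hom x = 0 := fun x => by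
      simp only [kz]; rw [if_neg (lt_irrefl _)]; simp
    let β : (A ⧸ J) →ₗ[A] I.X (i + 1) := J.liftQ ((I.d i (i + 1)).hom.comp h') (fun x hx => by
      rw [LinearMap.mem_ker, LinearMap.comp_apply, hh' x hx]
      exact (hkz _).1 (g ⟨x, hx⟩).2)
    have hβ : ∀ x, (I.d (i + 1) (i + 1 + 1)).hom (β x) = 0 := fun x => by
      obtain ⟨r, rfl⟩ := J.mkQ_surjective x
      exact d_d _ _ _ _
    let ψ : sgl (i + 1) (ModuleCat.of A (A ⧸ J)) ⟶ I := HomologicalComplex.mkHomFromSingle
      (ModuleCat.ofHom β) (fun k (hk : i + 1 + 1 = k) => by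
        subst hk; exact ModuleCat.hom_ext (LinearMap.ext hβ))
    have hψ : Q.map ψ = Q.map 0 := by
      have := (subsingleton_ext_iff K (A ⧸ J) (i + 1)).1 (h J (i + 1) (Or.inr (by omega)))
      rw [← cancel_mono eI.hom]
      exact this.elim _ _
    obtain ⟨H⟩ := (Q_map_eq_iff_inj ψ 0).1 hψ
    let σ := HomologicalComplex.singleObjXSelf (ComplexShape.up ℤ) (i + 1) (ModuleCat.of A (A ⧸ J))
    let k : (A ⧸ J) →ₗ[A] I.X i := ((H.hom (i + 1) i).hom).comp σ.inv.hom
    have hk : ∀ x, (I.d i (i + 1)).hom (k x) = β x := fun x => by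
      have hc := H.comm (i + 1)
      rw [dNext_eq H.hom (show (ComplexShape.up ℤ).Rel (i + 1) (i + 1 + 1) from rfl),
        prevD_eq H.hom (show (ComplexShape.up ℤ).Rel i (i + 1) from rfl),
        HomologicalComplex.single_obj_d, zero_comp, zero_add, HomologicalComplex.zero_f, add_zero,
        show ψ.f (i + 1) = σ.hom ≫ ModuleCat.ofHom β from HomologicalComplex.mkHomFromSingle_f _ _,
        ← Iso.eq_inv_comp] at hc
      exact (LinearMap.congr_fun (congrArg ModuleCat.Hom.hom hc) x).symm
    refine ⟨(h' - k.comp J.mkQ).codRestrict (kz i) (fun r => (hkz _).2 ?_),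
      fun x hx => Subtype.ext ?_⟩
    · rw [LinearMap.sub_apply, map_sub, LinearMap.comp_apply, hk, sub_eq_zero]
      rfl
    · have h0 : J.mkQ x = 0 := (Submodule.Quotient.mk_eq_zero J).2 hx
      change h' x - k (J.mkQ x) = (g ⟨x, hx⟩).1
      rw [h0, map_zero, sub_zero]
      exact hh' x hx

theorem injAmp_tfae (K : Dual.D A) (a b : ℤ) :
    [DRing.HasInjAmplitudeIn A a b K,
      ∀ (N : Type u) [AddCommGroup N] [Module A N] (i : ℤ), (i < a ∨ b < i) →
        Subsingleton (DRing.ExtD A (Dual.inD A N) K i),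
      ∀ (I : Ideal A) (i : ℤ), (i < a ∨ b < i) →
        Subsingleton (DRing.ExtD A (Dual.inD A (A ⧸ I)) K i)].TFAE := by
  tfae_have 1 → 2 := by
    rintro ⟨E, hE, hEi, ⟨e⟩⟩ N _ _ i hi
    have := isKInjective_of_amp (fun j hj => hE j (Or.inl hj)) hEi
    rw [subsingleton_ext_iff]
    refine ⟨fun φ ψ => ?_⟩
    have key : ∀ φ : DRing.toD (sgl i (ModuleCat.of A N)) ⟶ DRing.toD E, φ = 0 := fun φ => by
      obtain ⟨g, rfl⟩ := exists_Q_map_eq_inj φ
      have : g = 0 := HomologicalComplex.from_single_hom_ext ((hE i hi).eq_of_tgt _ _)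
      rw [this, Functor.map_zero]
    rw [← cancel_mono e.inv]
    exact (key _).trans (key _).symm
  tfae_have 2 → 3 := fun h I i hi => h (A ⧸ I) i hi
  tfae_have 3 → 1 := fun h => hasInjAmplitudeIn_of_vanishing h
  tfae_finish

end Groth.Agent.DRing.InjAmp
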