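import Groth.Agent.DRing.Tensor
import Groth.Agent.DRing.Homology
import Mathlib.Algebra.Homology.HomologySequence
import Mathlib.Algebra.Homology.HomotopyCategory.DegreewiseSplit
import Mathlib.Algebra.Homology.Embedding.CochainComplex
import Mathlib.RingTheory.Flat.Basic
import Mathlib.RingTheory.Flat.CategoryTheory
import Mathlib.RingTheory.Flat.Equalizer
import Mathlib.Algebra.Category.ModuleCat.FilteredColimits
import Mathlib.CategoryTheory.Functor.OfSequence

/-!
# K-flat complexes

`IsKFlat P` says `L ⊗ P` is acyclic for acyclic `L`.  Stability under isomorphisms, homotopy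
equivalences, shifts, short exact sequences, mapping cones and filtered colimits; bounded above
complexes of flat modules are K-flat.
-/

universe u

open CategoryTheory CategoryTheory.Limits MonoidalCategory DirectSum

namespace Groth.Agent.DRing.KFlat

open Tensor Homology

variable {R : Type u} [CommRing R]

/-- `P` is K-flat if `L ⊗ P` is acyclic for every acyclic `L`. -/
def IsKFlat (P : CochainComplex (ModuleCat.{u} R) ℤ) : Prop :=
  ∀ L : CochainComplex (ModuleCat.{u} R) ℤ, (∀ i : ℤ, IsZero (L.homology i)) →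
    ∀ i : ℤ, IsZero ((L ⊗ P).homology i)

variable {P Q : CochainComplex (ModuleCat.{u} R) ℤ}

lemma IsKFlat.of_homotopyEquiv (e : HomotopyEquiv P Q) (h : IsKFlat P) : IsKFlat Q :=
  fun L hL i => (h L hL i).of_iso ((whiskerLeftHomotopyEquiv L e).toHomologyIso i).symm

lemma IsKFlat.of_iso (e : P ≅ Q) (h : IsKFlat P) : IsKFlat Q :=
  h.of_homotopyEquiv (HomotopyEquiv.ofIso e)

lemma IsKFlat.shift (h : IsKFlat P) (a : ℤ) : IsKFlat (P⟦a⟧) := fun L hL i =>
  (h L hL (i + a)).of_iso (((HomologicalComplex.homologyFunctor _ _ i).mapIso (shiftIso L P a)) ≪≫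
    ((CochainComplex.ShiftSequence.shiftIso (ModuleCat.{u} R) a i (i + a) (add_comm _ _)).app _))

lemma isKFlat_shift_iff (a : ℤ) : IsKFlat (P⟦a⟧) ↔ IsKFlat P :=
  ⟨fun h => (h.shift (-a)).of_iso ((shiftEquiv _ a).unitIso.symm.app P), fun h => h.shift a⟩

section ShortExact

variable (S : ShortComplex (CochainComplex (ModuleCat.{u} R) ℤ))

/-- Degreewise purity of a short complex. -/
def Pure : Prop :=
  ∀ (M : ModuleCat.{u} R) (q : ℤ), Function.Injective (M ◁ S.f.f q).hom

variable {S} (hS : S.ShortExact)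
include hS

lemma pure_of_flat (h3 : ∀ q, Module.Flat R (S.X₃.X q)) : Pure S := fun M q => by
  have hq := hS.map_of_exact (HomologicalComplex.eval (ModuleCat.{u} R) (.up ℤ) q)
  have := h3 q
  exact LinearMap.lTensor_injective_of_exact_of_flat (S.g.f q).hom hq.moduleCat_surjective_g
    (S.f.f q).hom hq.moduleCat_injective_f
    ((ShortComplex.ShortExact.moduleCat_exact_iff_function_exact _).1 hq.exact) M

lemma two_of_three (hp : Pure S) :
    (IsKFlat S.X₁ → IsKFlat S.X₂ → IsKFlat S.X₃) ∧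
    (IsKFlat S.X₁ → IsKFlat S.X₃ → IsKFlat S.X₂) ∧
    (IsKFlat S.X₂ → IsKFlat S.X₃ → IsKFlat S.X₁) := by
  refine ⟨fun h1 h2 L hL i => ?_, fun h1 h3 L hL i => ?_, fun h2 h3 L hL i => ?_⟩
  all_goals have hT := shortExact_map (L := L) S hS fun p q => hp (L.X p) q
  · exact (hT.homology_exact₃ i (i + 1) (by simp)).isZero_of_both_zeros
      ((h2 L hL i).eq_of_src _ _) ((h1 L hL (i + 1)).eq_of_tgt _ _)
  · exact (hT.homology_exact₂ i).isZero_of_both_zeros
      ((h1 L hL i).eq_of_src _ _) ((h3 L hL i).eq_of_tgt _ _)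
  · exact (hT.homology_exact₁ (i - 1) i (by simp)).isZero_of_both_zeros
      ((h3 L hL (i - 1)).eq_of_src _ _) ((h2 L hL i).eq_of_tgt _ _)

end ShortExact

lemma pure_of_splitting {S : ShortComplex (CochainComplex (ModuleCat.{u} R) ℤ)}
    (σ : ∀ n, (S.map (HomologicalComplex.eval (ModuleCat.{u} R) (.up ℤ) n)).Splitting) : Pure S := by
  intro M q
  have h : M ◁ S.f.f q ≫ M ◁ (σ q).r = 𝟙 _ :=
    (MonoidalCategory.whiskerLeft_comp _ _ _).symm.trans
      ((congrArg (M ◁ ·) (σ q).f_r).trans (MonoidalCategory.whiskerLeft_id _ _))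
  intro x y hxy
  have hx := congrArg (fun f => f.hom x) h
  have hy := congrArg (fun f => f.hom y) h
  simp only [ModuleCat.hom_comp, LinearMap.comp_apply] at hx hy
  exact hx.symm.trans ((congrArg _ hxy).trans hy)

lemma mappingCone_two_of_three (φ : P ⟶ Q) :
    (IsKFlat P → IsKFlat Q → IsKFlat (CochainComplex.mappingCone φ)) ∧
    (IsKFlat Q → IsKFlat (CochainComplex.mappingCone φ) → IsKFlat P) ∧
    (IsKFlat P → IsKFlat (CochainComplex.mappingCone φ) → IsKFlat Q) := by
  let σ := CochainComplex.mappingCone.triangleRotateShortComplexSplitting φ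
  have hS : (CochainComplex.mappingCone.triangleRotateShortComplex φ).ShortExact :=
    HomologicalComplex.shortExact_of_degreewise_shortExact _ fun n => (σ n).shortExact
  obtain ⟨h₁, h₂, h₃⟩ := two_of_three hS (pure_of_splitting σ)
  exact ⟨fun hP hQ => h₂ hQ (hP.shift 1), fun hQ hC => (isKFlat_shift_iff 1).1 (h₁ hQ hC),
    fun hP hC => h₃ hC (hP.shift 1)⟩

lemma isKFlat_colimit (J : Type*) [Category J] [IsFiltered J]
    [HasColimitsOfShape J (ModuleCat.{u} R)] [PreservesColimitsOfShape J (forget (ModuleCat.{u} R))]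
    (F : J ⥤ CochainComplex (ModuleCat.{u} R) ℤ) {c : Cocone F} (hc : IsColimit c)
    (hF : ∀ j, IsKFlat (F.obj j)) : IsKFlat c.pt := by
  intro L hL n
  have hcol := fun m => isColimitOfPreserves
    (HomologicalComplex.eval (ModuleCat.{u} R) (.up ℤ) m) (isColimitOfPreserves (TL L) hc)
  rw [← HomologicalComplex.exactAt_iff_isZero_homology, exactAt_iff_forall n (n - 1) (by omega)]
  intro z hz
  obtain ⟨j, y, rfl⟩ := Concrete.isColimit_exists_rep _ (hcol n) z
  have hy : ((L ◁ c.ι.app j).f (n + 1)).hom (((L ⊗ F.obj j).d n (n + 1)).hom y) = 0 :=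
    (hom_d (L ◁ c.ι.app j) n (n + 1) y).symm.trans hz
  obtain ⟨k, f, g, hfg⟩ := Concrete.isColimit_exists_of_rep_eq _ (hcol (n + 1))
    (((L ⊗ F.obj j).d n (n + 1)).hom y) (0 : (L ⊗ F.obj j).X (n + 1))
    (hy.trans (map_zero _).symm)
  have hcyc : IsCyc (L ⊗ F.obj k) n (((L ◁ F.map f).f n).hom y) :=
    (hom_d (L ◁ F.map f) n (n + 1) y).trans (hfg.trans (map_zero _))
  obtain ⟨w, hw⟩ := (exactAt_iff_forall n (n - 1) (by omega)).1
    ((HomologicalComplex.exactAt_iff_isZero_homology _ _).2 (hF k L hL n)) _ hcyc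
  refine ⟨((L ◁ c.ι.app k).f (n - 1)).hom w, ?_⟩
  have h1 : L ◁ F.map f ≫ L ◁ c.ι.app k = L ◁ c.ι.app j :=
    (MonoidalCategory.whiskerLeft_comp _ _ _).symm.trans (congrArg (L ◁ ·) (c.w f))
  refine (hom_d (L ◁ c.ι.app k) (n - 1) n w).trans ((congrArg _ hw).trans ?_)
  exact congrArg (fun φ : L ⊗ F.obj j ⟶ L ⊗ c.pt => (φ.f n).hom y) h1

section ZeroDifferential

variable (hd : ∀ i j, P.d i j = 0) (hflat : ∀ i, Module.Flat R (P.X i))
  {L : CochainComplex (ModuleCat.{u} R) ℤ}

variable (L P) in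
/-- The differential of `L` on the summands. -/
noncomputable def dSum (n n' : ℤ) (hn : n + 1 = n') :
    (⨁ k, Fam L P n k) →ₗ[R] ⨁ k, Fam L P n' k :=
  DirectSum.toModule R _ _ fun k =>
    (DirectSum.lof R _ (Fam L P n') ⟨(k.1.1 + 1, k.1.2), by have := k.2; omega⟩).comp
      ((L.d k.1.1 (k.1.1 + 1)).hom.rTensor _)

include hd in
lemma d_toSum (n n' : ℤ) (hn : n + 1 = n') :
    (L ⊗ P).d n n' ≫ toSum L P n' = toSum L P n ≫ ModuleCat.ofHom (dSum P L n n' hn) := by
  refine hom_ext fun p q h => ?_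
  rw [ιT_toSum_assoc]
  change _ ≫ (HomologicalComplex.mapBifunctor.D₁ L P _ _ n n' +
    HomologicalComplex.mapBifunctor.D₂ L P _ _ n n') ≫ _ = _
  rw [Preadditive.add_comp, Preadditive.comp_add, HomologicalComplex.mapBifunctor.ι_D₁_assoc,
    HomologicalComplex.mapBifunctor.ι_D₂_assoc,
    HomologicalComplex.mapBifunctor.d₂_eq' L P _ _ p (i₂ := q) (i₂' := q + 1) (by simp) n',
    HomologicalComplex.mapBifunctor.d₁_eq L P _ _ (i₁ := p) (i₁' := p + 1) (by simp) q n'
      (show p + 1 + q = n' by omega), hd, Functor.map_zero, zero_comp, smul_zero, zero_comp, add_zero]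
  simp only [ComplexShape.ε₁_def, one_smul, Category.assoc]
  erw [ιT_toSum]
  refine ModuleCat.hom_ext (LinearMap.ext fun x => ?_)
  simp only [ModuleCat.hom_comp, LinearMap.comp_apply, ModuleCat.hom_ofHom, dSum]
  erw [DirectSum.toModule_lof]
  rfl

include hd hflat in
lemma isKFlat_of_d_eq_zero : IsKFlat P := by
  classical
  intro L hL n
  rw [← HomologicalComplex.exactAt_iff_isZero_homology, exactAt_iff_forall n (n - 1) (by omega)]
  intro z hz
  have injn := (ModuleCat.mono_iff_injective (sumIso L P (n + 1)).hom).1 inferInstance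
  have hz' : dSum P L n (n + 1) rfl ((toSum L P n).hom z) = 0 := by
    have := congrArg (fun f => f.hom z) (d_toSum (L := L) hd n (n + 1) rfl)
    simp only [ModuleCat.hom_comp, LinearMap.comp_apply, ModuleCat.hom_ofHom] at this
    rw [← this]
    exact (congrArg (toSum L P (n + 1)).hom hz).trans (map_zero _)
  have hcomp : ∀ k, (L.d k.1.1 (k.1.1 + 1)).hom.rTensor (P.X k.1.2)
      (DirectSum.component R _ (Fam L P n) k ((toSum L P n).hom z)) = 0 := by
    intro k
    have e : (DirectSum.component R _ (Fam L P (n + 1))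
          ⟨(k.1.1 + 1, k.1.2), by have := k.2; omega⟩).comp (dSum P L n (n + 1) rfl) =
        ((L.d k.1.1 (k.1.1 + 1)).hom.rTensor (P.X k.1.2)).comp
          (DirectSum.component R _ (Fam L P n) k) := by
      refine DirectSum.linearMap_ext R fun k' => LinearMap.ext fun x => ?_
      simp only [LinearMap.comp_apply, dSum, DirectSum.toModule_lof]
      rw [DirectSum.component.of, DirectSum.component.of]
      by_cases hk : k = k'
      · subst hk; simp
      · rw [dif_neg, dif_neg (Ne.symm hk), map_zero]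
        intro he
        apply hk
        simp only [Subtype.mk.injEq, Prod.mk.injEq] at he
        exact Subtype.ext (Prod.ext (by omega) he.2.symm)
    have := LinearMap.congr_fun e ((toSum L P n).hom z)
    simp only [LinearMap.comp_apply] at this
    rw [← this, hz', map_zero]
  have hpre : ∀ k : { k : ℤ × ℤ // k.1 + k.2 = n }, ∃ y : ⨁ k, Fam L P (n - 1) k,
      dSum P L (n - 1) n (by omega) y = DirectSum.lof R _ (Fam L P n) k
        (DirectSum.component R _ (Fam L P n) k ((toSum L P n).hom z)) := by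
    rintro ⟨⟨p, q⟩, hk⟩
    obtain ⟨p, rfl⟩ : ∃ p', p = p' + 1 := ⟨p - 1, by omega⟩
    have := hflat q
    have hex : Function.Exact (L.d p (p + 1)).hom (L.d (p + 1) (p + 1 + 1)).hom := by
      intro x
      refine ⟨fun hx => (exactAt_iff_forall (p + 1) p rfl).1
        ((HomologicalComplex.exactAt_iff_isZero_homology _ _).2 (hL _)) x hx, ?_⟩
      rintro ⟨w, rfl⟩
      exact d_d _ _ _ w
    obtain ⟨w, hw⟩ := (Module.Flat.rTensor_exact (P.X q) hex _).1 (hcomp ⟨(p + 1, q), hk⟩)
    refine ⟨DirectSum.lof R _ (Fam L P (n - 1)) ⟨(p, q), by dsimp at hk ⊢; omega⟩ w, ?_⟩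
    simp only [dSum, DirectSum.toModule_lof, LinearMap.comp_apply]
    rw [hw]
  choose y hy using hpre
  obtain ⟨x, hx⟩ := (ModuleCat.epi_iff_surjective (sumIso L P (n - 1)).hom).1 inferInstance
    (∑ k ∈ DFinsupp.support ((toSum L P n).hom z), y k)
  refine ⟨x, (ModuleCat.mono_iff_injective (sumIso L P n).hom).1 inferInstance ?_⟩
  have := congrArg (fun f => f.hom x) (d_toSum (L := L) hd (n - 1) n (by omega))
  simp only [ModuleCat.hom_comp, LinearMap.comp_apply, ModuleCat.hom_ofHom] at this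
  refine this.trans ?_
  erw [hx]
  rw [map_sum]
  exact (Finset.sum_congr rfl fun k _ => hy k).trans (DirectSum.sum_support_of _)

end ZeroDifferential

end Groth.Agent.DRing.KFlat
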