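import Groth.Agent.DRing.KFlatRes
import Groth.Agent.DRing.LTensor
import Groth.Agent.DRing.Trunc
import Mathlib.Algebra.Homology.HomotopyCategory.Pretriangulated

/-!
# Factorisation through a K-flat complex
-/

universe u

open CategoryTheory CategoryTheory.Limits CategoryTheory.Pretriangulated MonoidalCategory

attribute [local instance] HasDerivedCategory.standard

namespace Groth.Agent.DRing.KFlatFactor

open KFlat

variable {R : Type u} [CommRing R]

variable (R) in
/-- The quotient functor to the homotopy category. -/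
noncomputable abbrev qF : DRing.Cx R ⥤ HomotopyCategory (ModuleCat.{u} R) (ComplexShape.up ℤ) :=
  HomotopyCategory.quotient (ModuleCat.{u} R) (ComplexShape.up ℤ)

lemma flat_prod (M N : Type u) [AddCommGroup M] [AddCommGroup N] [Module R M] [Module R N]
    [Module.Flat R M] [Module.Flat R N] : Module.Flat R (M × N) := by
  rw [Module.Flat.iff_lTensor_preserves_injective_linearMap]
  intro A B _ _ _ _ f hf
  rw [← LinearMap.ker_eq_bot, LinearMap.ker_eq_bot']
  intro z hz
  have h1 : (LinearMap.fst R M N).rTensor A z = 0 := by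
    apply Module.Flat.lTensor_preserves_injective_linearMap f hf (M := M)
    rw [← LinearMap.comp_apply, LinearMap.lTensor_comp_rTensor, ← LinearMap.rTensor_comp_lTensor,
      LinearMap.comp_apply, hz, map_zero, map_zero]
  have h2 : (LinearMap.snd R M N).rTensor A z = 0 := by
    apply Module.Flat.lTensor_preserves_injective_linearMap f hf (M := N)
    rw [← LinearMap.comp_apply, LinearMap.lTensor_comp_rTensor, ← LinearMap.rTensor_comp_lTensor,
      LinearMap.comp_apply, hz, map_zero, map_zero]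
  have hid : LinearMap.inl R M N ∘ₗ LinearMap.fst R M N + LinearMap.inr R M N ∘ₗ LinearMap.snd R M N =
      LinearMap.id := LinearMap.ext fun x => Prod.ext (by simp) (by simp)
  have := LinearMap.congr_fun (congrArg (LinearMap.rTensor A) hid) z
  rw [LinearMap.rTensor_add, LinearMap.rTensor_comp, LinearMap.rTensor_comp, LinearMap.rTensor_id,
    LinearMap.add_apply, LinearMap.comp_apply, LinearMap.comp_apply, h1, h2, map_zero, map_zero, add_zero] at this
  exact this.symm

theorem exists_factor (K L : DRing.Cx R) (a : K ⟶ L) (hK : IsKFlat K) :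
    ∃ (N : DRing.Cx R) (b : K ⟶ N) (c : N ⟶ L), IsKFlat N ∧ QuasiIso c ∧
      Nonempty (Homotopy a (b ≫ c)) ∧ (DRing.TermwiseFlat K → DRing.TermwiseFlat N) := by
  obtain ⟨M, π, hM, hMp, hπ, -⟩ := KProjRes.exists_resolution (CochainComplex.mappingCone a)
  let δ : M ⟶ K⟦(1 : ℤ)⟧ := π ≫ (CochainComplex.mappingCone.triangle a).mor₃
  let Ta := CochainComplex.mappingCone.triangleh a
  let T₂ := Ta.rotate.rotate
  let T₁ := CochainComplex.mappingCone.triangleh δ
  have h₁ : T₁ ∈ distinguishedTriangles := HomotopyCategory.mappingCone_triangleh_distinguished δ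
  have hTa : Ta ∈ distinguishedTriangles := HomotopyCategory.mappingCone_triangleh_distinguished a
  have h₂ : T₂ ∈ distinguishedTriangles := rot_of_distTriang _ (rot_of_distTriang _ hTa)
  let iK : (qF R).obj (K⟦(1 : ℤ)⟧) ≅ ((qF R).obj K)⟦(1 : ℤ)⟧ := ((qF R).commShiftIso (1 : ℤ)).app K
  let iL : (qF R).obj (L⟦(1 : ℤ)⟧) ≅ ((qF R).obj L)⟦(1 : ℤ)⟧ := ((qF R).commShiftIso (1 : ℤ)).app L
  have hsq : (qF R).map δ ≫ iK.hom = (qF R).map π ≫ Ta.mor₃ := by
    change (qF R).map (π ≫ _) ≫ _ = (qF R).map π ≫ (qF R).map _ ≫ ((qF R).commShiftIso (1 : ℤ)).hom.app K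
    exact (congrArg (· ≫ _) ((qF R).map_comp π _)).trans (Category.assoc _ _ _)
  obtain ⟨c', hc₁, hc₂⟩ := complete_distinguished_triangle_morphism T₁ T₂ h₁ h₂ ((qF R).map π) iK.hom hsq
  let c'' : (qF R).obj (CochainComplex.mappingCone δ) ⟶ ((qF R).obj L)⟦(1 : ℤ)⟧ := c'
  obtain ⟨r, hr⟩ := (qF R).map_surjective (c'' ≫ iL.inv)
  have hir : (qF R).map (CochainComplex.mappingCone.inr δ ≫ r) = (qF R).map (-(a⟦(1 : ℤ)⟧')) := by
    refine ((qF R).map_comp _ _).trans ?_
    refine (congrArg ((qF R).map (CochainComplex.mappingCone.inr δ) ≫ ·) hr).trans ?_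
    refine (Category.assoc _ _ _).symm.trans ?_
    refine (congrArg (· ≫ iL.inv) hc₁).trans ?_
    have key : iK.hom ≫ (-((qF R).map a)⟦(1 : ℤ)⟧') = -((qF R).map (a⟦(1 : ℤ)⟧') ≫ iL.hom) := by
      rw [Preadditive.comp_neg]
      exact congrArg Neg.neg (((qF R).commShiftIso (1 : ℤ)).hom.naturality a).symm
    refine (congrArg (· ≫ iL.inv) key).trans ?_
    rw [Preadditive.neg_comp, Category.assoc, Iso.hom_inv_id, Category.comp_id, Functor.map_neg]
  have hqr : QuasiIso r := by
    let φ : (DerivedCategory.Qh.mapTriangle.obj T₁) ⟶ (DerivedCategory.Qh.mapTriangle.obj T₂) :=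
      DerivedCategory.Qh.mapTriangle.map (Triangle.homMk T₁ T₂ ((qF R).map π) iK.hom c' hsq hc₁ hc₂)
    have : IsIso φ.hom₁ := LTensor.isIso_Qh_map π
    have : IsIso φ.hom₂ := inferInstanceAs (IsIso (DerivedCategory.Qh.map iK.hom))
    have : IsIso φ.hom₃ := isIso₃_of_isIso₁₂ φ
      (DerivedCategory.Qh.map_distinguished _ h₁) (DerivedCategory.Qh.map_distinguished _ h₂)
      (LTensor.isIso_Qh_map π) (inferInstanceAs (IsIso (DerivedCategory.Qh.map iK.hom)))
    have h3 : IsIso (DerivedCategory.Qh.map c') := this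
    have h4 : IsIso (DerivedCategory.Qh.map ((qF R).map r)) := by
      have h7 : IsIso (DerivedCategory.Qh.map c'') := h3
      have h6 : IsIso (DerivedCategory.Qh.map c'' ≫ DerivedCategory.Qh.map iL.inv) := inferInstance
      rw [← Functor.map_comp] at h6
      rw [hr]
      exact h6
    have h5 := (DerivedCategory.quotientCompQhIso (ModuleCat.{u} R)).hom.naturality r
    rw [← DerivedCategory.isIso_Q_map_iff_quasiIso]
    have : DerivedCategory.Q.map r =
        inv ((DerivedCategory.quotientCompQhIso (ModuleCat.{u} R)).hom.app _) ≫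
          DerivedCategory.Qh.map ((qF R).map r) ≫
            (DerivedCategory.quotientCompQhIso (ModuleCat.{u} R)).hom.app _ := by
      rw [IsIso.eq_inv_comp]; exact h5.symm
    rw [this]
    infer_instance
  have hδk : IsKFlat (K⟦(1 : ℤ)⟧) := hK.shift 1
  let N := (CochainComplex.mappingCone δ)⟦(-1 : ℤ)⟧
  let ηK := (shiftFunctorCompIsoId (DRing.Cx R) (1 : ℤ) (-1) (add_neg_cancel 1)).app K
  let ηL := (shiftFunctorCompIsoId (DRing.Cx R) (1 : ℤ) (-1) (add_neg_cancel 1)).app L
  have : QuasiIso (r⟦(-1 : ℤ)⟧') := (CochainComplex.quasiIso_shift_iff r (-1)).2 hqr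
  refine ⟨N, ηK.inv ≫ (-(CochainComplex.mappingCone.inr δ))⟦(-1 : ℤ)⟧', r⟦(-1 : ℤ)⟧' ≫ ηL.hom,
    ((mappingCone_two_of_three δ).1 (isKFlat_of_isKProjective M) hδk).shift (-1), inferInstance, ?_, ?_⟩
  · obtain h := HomotopyCategory.homotopyOfEq _ _ hir
    have e : ηK.inv ≫ (-(-(a⟦(1 : ℤ)⟧')))⟦(-1 : ℤ)⟧' ≫ ηL.hom = a := by
      rw [neg_neg, shift_shift_neg']
      simp [ηK, ηL]
    rw [Category.assoc, ← Functor.map_comp_assoc, Preadditive.neg_comp]
    refine ⟨(Homotopy.ofEq e.symm).trans (((?_ : Homotopy _ _).shift (-1)).compRight ηL.hom |>.compLeft ηK.inv)⟩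
    exact Homotopy.equivSubZero.symm (by
      rw [neg_sub_neg]
      exact Homotopy.equivSubZero h)
  · intro hKf i
    have h1 : Module.Flat R (M.X (i + -1 + 1)) := have := hMp (i + -1 + 1); inferInstance
    have h2 : Module.Flat R ((K⟦(1 : ℤ)⟧).X (i + -1)) := hKf (i + -1 + 1)
    let e := ModuleCat.biprodIsoProd (M.X (i + -1 + 1)) ((K⟦(1 : ℤ)⟧).X (i + -1))
    exact @Module.Flat.of_linearEquiv R _ _ _ _ _ _ _ (@flat_prod R _ _ _ _ _ _ _ h1 h2)
      (HomologicalComplex.homotopyCofiber.XIsoBiprod δ (i + -1) (i + -1 + 1) rfl ≪≫ e).toLinearEquiv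

end Groth.Agent.DRing.KFlatFactor
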