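import Groth.Agent.DRing.BaseChangeAmp
import Groth.Agent.DRing.DerivedNakayama
import Groth.Agent.DRing.TensorAmp
import Groth.Agent.DRing.PCTools
import Groth.Agent.DRing.PCBaseChange
import Mathlib.RingTheory.Ideal.Maps
import Mathlib.LinearAlgebra.TensorProduct.Quotient

/-!
# Derived base change along a surjection with nilpotent kernel
-/

universe u

open CategoryTheory CategoryTheory.Limits DerivedCategory MonoidalCategory

attribute [local instance] HasDerivedCategory.standard

namespace Groth.Agent.DRing.Nilp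

open DBasic Homology DRing.KFlat TorAmp PC
open scoped TensorProduct

variable {A B : Type u} [CommRing A] [CommRing B] (φ : A →+* B) (hφ : Function.Surjective φ)

include hφ in
/-- A module killed by the kernel comes from the quotient. -/
lemma exists_restrict (N : ModuleCat.{u} A) (hN : ∀ a ∈ RingHom.ker φ, ∀ x : N, a • x = 0) :
    ∃ N' : ModuleCat.{u} B, Nonempty (N ≅ (ModuleCat.restrictScalars φ).obj N') := by
  have hT : Module.IsTorsionBySet A N (RingHom.ker φ : Set A) := fun x a => hN a.1 a.2 x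
  let : Module (A ⧸ RingHom.ker φ) N := hT.module
  let : Module B N := Module.compHom N (RingHom.quotientKerEquivOfSurjective hφ).symm.toRingHom
  refine ⟨ModuleCat.of B N, ⟨(show N ≃ₗ[A] ((ModuleCat.restrictScalars φ).obj (ModuleCat.of B N) : ModuleCat.{u} A) from
    { toFun := fun x => x
      invFun := fun x => x
      left_inv := fun _ => rfl
      right_inv := fun _ => rfl
      map_add' := fun _ _ => rfl
      map_smul' := fun a x => ?_ }).toModuleIso⟩⟩
  change a • x = (RingHom.quotientKerEquivOfSurjective hφ).symm (φ a) • x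
  rw [show (RingHom.quotientKerEquivOfSurjective hφ).symm (φ a) = Ideal.Quotient.mk _ a from
    (RingEquiv.symm_apply_eq _).2 rfl]
  exact (Module.IsTorsionBySet.mk_smul hT a x).symm

include hφ in
lemma exactAt_tensor_killed (P : DRing.Cx A) (N : ModuleCat.{u} A) (i : ℤ)
    (hN : ∀ a ∈ RingHom.ker φ, ∀ x : N, a • x = 0)
    (h : ∀ N' : ModuleCat.{u} B, (DRing.tensorCx ((LTensor.extCx φ).obj P) N').ExactAt i) :
    (DRing.tensorCx P N).ExactAt i := by
  obtain ⟨N', ⟨eN⟩⟩ := exists_restrict φ hφ N hN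
  have e2 := (NatIso.mapHomologicalComplex ((tensoringRight (ModuleCat.{u} A)).mapIso eN ≪≫
    DerComplete.cancelIso φ N') (ComplexShape.up ℤ)).app P
  refine (exactAt_iff_of_quasiIso e2.hom i).2 ?_
  have h3 := h N'
  rw [HomologicalComplex.exactAt_iff] at h3 ⊢
  exact h3.map (ModuleCat.restrictScalars φ)

include hφ in
/-- Vanishing of `P ⊗ M` is detected modulo a nilpotent ideal. -/
theorem exactAt_tensor_of_nilpotent (hnil : IsNilpotent (RingHom.ker φ)) (P : DRing.Cx A)
    (hP : ∀ j, Module.Flat A (P.X j)) (i : ℤ)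
    (h : ∀ N' : ModuleCat.{u} B, (DRing.tensorCx ((LTensor.extCx φ).obj P) N').ExactAt i)
    (M : ModuleCat.{u} A) : (DRing.tensorCx P M).ExactAt i := by
  let I := RingHom.ker φ
  suffices hn : ∀ (n : ℕ) (N : ModuleCat.{u} A), (∀ a ∈ I ^ n, ∀ x : N, a • x = 0) →
      (DRing.tensorCx P N).ExactAt i by
    obtain ⟨n, hn'⟩ := hnil
    refine hn n M fun a ha x => ?_
    have : a = 0 := by simpa [I, hn'] using ha
    rw [this, zero_smul]
  intro n
  induction n with
  | zero =>
    intro N hN
    exact exactAt_tensor_killed φ hφ P N i (fun a _ x => hN a (by simp) x) h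
  | succ n ih =>
    intro N hN
    let S := ShortComplex.moduleCatMk (I • ⊤ : Submodule A N).subtype (I • ⊤ : Submodule A N).mkQ
      (LinearMap.ext fun x => (Submodule.Quotient.mk_eq_zero _).2 x.2)
    have hS : S.ShortExact :=
      { exact := (ShortComplex.ShortExact.moduleCat_exact_iff_function_exact S).2
          (LinearMap.exact_subtype_mkQ _)
        mono_f := (ModuleCat.mono_iff_injective _).2 (Submodule.injective_subtype _)
        epi_g := (ModuleCat.epi_iff_surjective _).2 (Submodule.mkQ_surjective _) }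
    obtain ⟨h0, hse⟩ := DerComplete.shortExact_tmap P hP S hS
    have h1 : (DRing.tensorCx P S.X₁).ExactAt i := by
      refine ih _ fun a ha x => ?_
      obtain ⟨x, hx⟩ := x
      refine Subtype.ext ?_
      change a • x = 0
      refine Submodule.smul_induction_on hx (fun b hb y _ => ?_) (fun y z hy hz => by rw [smul_add, hy, hz, add_zero])
      rw [smul_smul]
      exact hN _ (by rw [pow_succ]; exact Ideal.mul_mem_mul ha hb) y
    have h3 : (DRing.tensorCx P S.X₃).ExactAt i := by
      refine exactAt_tensor_killed φ hφ P _ i (fun a ha x => ?_) h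
      obtain ⟨x, rfl⟩ := Submodule.mkQ_surjective _ x
      exact ((I • ⊤ : Submodule A N).mkQ.map_smul a x).symm.trans
        ((Submodule.Quotient.mk_eq_zero _).2 (Submodule.smul_mem_smul ha trivial))
    rw [HomologicalComplex.exactAt_iff_isZero_homology] at h1 h3 ⊢
    exact (hse.homology_exact₂ i).isZero_of_both_zeros (h1.eq_of_src _ _) (h3.eq_of_tgt _ _)

variable [DRing.HasLBaseChange φ]

include hφ in
theorem torAmp_iff (hnil : IsNilpotent (RingHom.ker φ)) (K : Dual.D A) (a b : ℤ) :
    DRing.HasTorAmplitudeIn B a b ((DRing.LBaseChange φ).obj K) ↔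
      DRing.HasTorAmplitudeIn A a b K := by
  refine ⟨fun h => ?_, Perfect.torAmp_baseChange φ⟩
  obtain ⟨P, _, hproj, ⟨e⟩⟩ := exists_kproj_iso K
  have hQ := DerComplete.isKProjective_extCx φ P
  have hv := (hasTorAmp_iff (isKFlat_of_isKProjective ((LTensor.extCx φ).obj P))
    (Perfect.baseChangeIsoOfRep φ (isKFlat_of_isKProjective P) e) a b).1 h
  exact (hasTorAmp_iff (isKFlat_of_isKProjective P) e a b).2 fun M i hi =>
    exactAt_tensor_of_nilpotent φ hφ hnil P (fun j => have := hproj j; inferInstance) i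
      (fun N' => hv N' i hi) M

omit [DRing.HasLBaseChange φ]

/-- The nilpotent Nakayama lemma, for submodules. -/
lemma eq_top_of_sup_smul {N : Type u} [AddCommGroup N] [Module A N] {I : Ideal A} (hI : IsNilpotent I)
    (S : Submodule A N) (h : S ⊔ I • ⊤ = ⊤) : S = ⊤ := by
  have : ∀ n : ℕ, S ⊔ I ^ n • ⊤ = ⊤ := by
    intro n
    induction n with
    | zero => simp
    | succ n ih =>
      refine top_unique ?_
      calc (⊤ : Submodule A N) = S ⊔ I ^ n • (S ⊔ I • ⊤) := by rw [h, ih]
        _ ≤ S ⊔ I ^ (n + 1) • ⊤ := by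
          rw [Submodule.smul_sup, pow_succ, Submodule.mul_smul, ← sup_assoc]
          exact sup_le_sup_right (sup_le le_rfl Submodule.smul_le_right) _
  obtain ⟨n, hn⟩ := hI
  simpa [hn] using this n

/-- A finitely generated submodule covering the top degree gives a cover by a shifted free module. -/
lemma exists_sgl_cover (P : DRing.Cx A) (c : ℤ) (hb : DRing.VanishesAbove P c)
    (h : ∃ S : Submodule A (P.X c), S.FG ∧ S ⊔ LinearMap.range (P.d (c - 1) c).hom = ⊤) :
    ∃ (F : ModuleCat.{u} A) (ψ : sgl c F ⟶ P), (Module.Finite A F ∧ Module.Free A F) ∧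
      Function.Surjective (HomologicalComplex.homologyMap ψ c).hom := by
  obtain ⟨S, hS, htop⟩ := h
  have : Module.Finite A S := Module.Finite.iff_fg.2 hS
  obtain ⟨n, q, hq⟩ := Module.Finite.exists_fin' A S
  let l : (Fin n → A) →ₗ[A] P.X c := S.subtype ∘ₗ q
  let F := ModuleCat.of A (Fin n → A)
  have hd : ∀ k, c + 1 = k → ModuleCat.ofHom l ≫ P.d c k = (0 : F ⟶ P.X k) := fun k hk =>
    (hb k (by omega)).eq_of_tgt _ _
  refine ⟨F, HomologicalComplex.mkHomFromSingle (ModuleCat.ofHom l) hd,
    ⟨inferInstanceAs (Module.Finite A (Fin n → A)), inferInstanceAs (Module.Free A (Fin n → A))⟩, ?_⟩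
  rw [homologyMap_surjective_iff _ c (c - 1) (by omega)]
  intro z _
  obtain ⟨a, ha, _, ⟨w, rfl⟩, hfw⟩ := Submodule.mem_sup.1 (htop.symm ▸ trivial :
    z ∈ S ⊔ LinearMap.range (P.d (c - 1) c).hom)
  obtain ⟨f, hf⟩ := hq ⟨a, ha⟩
  refine ⟨(HomologicalComplex.singleObjXSelf (ComplexShape.up ℤ) c F).inv.hom f, w, ?_, ?_⟩
  · unfold IsCyc
    rw [show (sgl c F).d c (c + 1) = 0 from HomologicalComplex.single_obj_d _ _ _ _ _]; rfl
  · rw [show (HomologicalComplex.mkHomFromSingle (ModuleCat.ofHom l) hd).f c =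
        (HomologicalComplex.singleObjXSelf (ComplexShape.up ℤ) c F).hom ≫ ModuleCat.ofHom l from
        HomologicalComplex.mkHomFromSingle_f _ _]
    change l ((HomologicalComplex.singleObjXSelf (ComplexShape.up ℤ) c F).hom.hom
      ((HomologicalComplex.singleObjXSelf (ComplexShape.up ℤ) c F).inv.hom f)) + _ = z
    rw [← LinearMap.comp_apply (f := (HomologicalComplex.singleObjXSelf _ c F).hom.hom),
      ← ModuleCat.hom_comp, Iso.inv_hom_id]
    rw [← hfw]
    exact congrArg (· + _) (congrArg Subtype.val hf)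

include hφ in
/-- If `B ⊗ P` is pseudo-coherent, its top degree is covered up to `ker φ` by finitely many elements. -/
lemma exists_fg_sup (P : DRing.Cx A) (c : ℤ) (hb : DRing.VanishesAbove P c)
    (hQ : DRing.IsPseudoCoherent' B (DRing.toD ((LTensor.extCx φ).obj P))) :
    ∃ S : Submodule A (P.X c), S.FG ∧
      S ⊔ LinearMap.range (P.d (c - 1) c).hom ⊔ RingHom.ker φ • ⊤ = ⊤ := by
  have hv : ∀ i, c < i → Subsingleton (Dual.HD B (DRing.toD ((LTensor.extCx φ).obj P)) i) := fun i hi => by
    rw [subsingleton_HD_toD_iff]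
    exact ShortComplex.isZero_homology_of_isZero_X₂ _ (Perfect.isZero_extCx φ (hb i hi))
  have := finite_top ((pc'_iff _).1 hQ c) hv
  have : Module.Finite B (((LTensor.extCx φ).obj P).homology c) :=
    Module.Finite.equiv (hIso ((LTensor.extCx φ).obj P) c).toLinearEquiv
  algebraize [φ]
  obtain ⟨F', g', ⟨hF', -⟩, -, hg'⟩ := PC.exists_cover ((LTensor.extCx φ).obj P) c (c - 1) (c + 1)
    (by omega) rfl inferInstance
  let one : P.X c →ₗ[A] B ⊗[A] P.X c := _root_.TensorProduct.mk A B (P.X c) 1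
  have hone : Function.Surjective one := _root_.TensorProduct.mk_surjective A _ B hφ
  obtain ⟨n, q, hq⟩ := Module.Finite.exists_fin' B F'
  choose x hx using fun k : Fin n => hone (g'.hom (q (Pi.single k 1)))
  let l : (Fin n → A) →ₗ[A] P.X c := Fintype.linearCombination A x
  let S : Submodule A (P.X c) := LinearMap.range l ⊔ LinearMap.range (P.d (c - 1) c).hom
  refine ⟨LinearMap.range l, Module.Finite.iff_fg.1 inferInstance, top_unique fun z _ => ?_⟩
  have hz : IsCyc ((LTensor.extCx φ).obj P) c (one z) := (isCyc_iff rfl _).2 (by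
    exact @Subsingleton.elim _ (ModuleCat.subsingleton_of_isZero (Perfect.isZero_extCx φ (hb (c + 1) (by omega)))) _ _)
  obtain ⟨f, w, hfw⟩ := hg' (one z) hz
  obtain ⟨v, rfl⟩ := hq f
  obtain ⟨y, hy⟩ := (_root_.TensorProduct.mk_surjective A (P.X (c - 1)) B hφ) w
  choose u hu using fun k : Fin n => hφ (v k)
  have key : one (z - (l u + (P.d (c - 1) c).hom y)) = 0 := by
    rw [map_sub, map_add, sub_eq_zero, ← hfw]
    refine congrArg₂ (· + ·) ?_ ?_
    · rw [Fintype.linearCombination_apply, map_sum, pi_eq_sum_univ' v, map_sum, map_sum]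
      refine Finset.sum_congr rfl fun k _ => ?_
      refine ((congrArg g'.hom (q.map_smul (v k) _)).trans (g'.hom.map_smul (v k) (q (Pi.single k 1)))).trans ?_
      rw [← hu k]
      exact (algebraMap_smul B (u k) (show B ⊗[A] P.X c from g'.hom (q (Pi.single k 1)))).trans
        ((congrArg (u k • ·) (hx k).symm).trans (one.map_smul (u k) (x k)).symm)
    · rw [← hy]
      exact (LinearMap.lTensor_tmul _ _ _ _).symm
  have hker : z - (l u + (P.d (c - 1) c).hom y) ∈ (RingHom.ker φ • ⊤ : Submodule A (P.X c)) := by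
    let ε : (A ⧸ RingHom.ker φ) ≃ₐ[A] B := Ideal.quotientKerAlgEquivOfSurjective (f := Algebra.ofId A B) hφ
    refine (Submodule.Quotient.mk_eq_zero _).1 ?_
    have h1 := congrArg (TensorProduct.quotTensorEquivQuotSMul (P.X c) (RingHom.ker φ))
      (congrArg (LinearMap.rTensor (P.X c) ε.symm.toLinearMap) key)
    rw [map_zero, map_zero] at h1
    refine Eq.trans ?_ h1
    change _ = TensorProduct.quotTensorEquivQuotSMul (P.X c) (RingHom.ker φ)
      (ε.symm 1 ⊗ₜ[A] (z - (l u + (P.d (c - 1) c).hom y)))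
    rw [map_one, ← map_one (Ideal.Quotient.mk _), TensorProduct.quotTensorEquivQuotSMul_mk_tmul, one_smul]
  have hmem : l u + (P.d (c - 1) c).hom y ∈ S :=
    add_mem (Submodule.mem_sup_left ⟨u, rfl⟩) (Submodule.mem_sup_right ⟨y, rfl⟩)
  rw [← sub_add_cancel z (l u + (P.d (c - 1) c).hom y)]
  exact add_mem (Submodule.mem_sup_right hker) (Submodule.mem_sup_left hmem)

/-- Descending induction: a class of complexes with finitely covered top degree, stable under the cone
step, consists of pseudo-coherent objects. -/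
theorem pc_of_step (G : DRing.Cx A → Prop)
    (hcov : ∀ (P : DRing.Cx A) (c : ℤ), DRing.VanishesAbove P c → G P →
      ∃ S : Submodule A (P.X c), S.FG ∧ S ⊔ LinearMap.range (P.d (c - 1) c).hom = ⊤)
    (hstep : ∀ {S P C' : DRing.Cx A} (ψ : S ⟶ P) (π : C' ⟶ CochainComplex.mappingCone ψ) [QuasiIso π]
      {b : ℤ}, DRing.VanishesAbove S b → DRing.TermwiseFiniteFree S → DRing.VanishesAbove P b →
      (∀ i, Module.Projective A (P.X i)) → DRing.VanishesAbove C' b →
      (∀ i, Module.Projective A (C'.X i)) → G P → G C')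
    (n : ℕ) : ∀ (P : DRing.Cx A) (c : ℤ),
    DRing.VanishesAbove P c → (∀ i, Module.Projective A (P.X i)) → G P →
    DRing.IsPseudoCoherent A (c - n) (DRing.toD P) := by
  have hs : ∀ (P : DRing.Cx A) (c : ℤ), DRing.VanishesAbove P c → G P →
      ∃ (F : ModuleCat.{u} A) (ψ : sgl c F ⟶ P), (Module.Finite A F ∧ Module.Free A F) ∧
        IsApprox c (Q.map ψ) := fun P c hb hG => by
    obtain ⟨F, ψ, hF, hψ⟩ := exists_sgl_cover P c hb (hcov P c hb hG)
    refine ⟨F, ψ, hF, fun i hi => isIso_of_source_target_iso_zero _ (IsZero.isoZero ?_) (IsZero.isoZero ?_), ?_⟩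
    · refine IsZero.of_iso ?_ (hIso (sgl c F) i)
      exact ((HomologicalComplex.exactAt_single_obj _ _ _ _ (by omega))).isZero_homology
    · exact IsZero.of_iso (ShortComplex.isZero_homology_of_isZero_X₂ _ (hb i hi)) (hIso P i)
    · rw [HF_map_Q_eq]
      have : Epi (HomologicalComplex.homologyMap ψ c) := (ModuleCat.epi_iff_surjective _).2 hψ
      infer_instance
  induction n with
  | zero =>
    intro P c hb hp hG
    obtain ⟨F, ψ, hF, hψ⟩ := hs P c hb hG
    rw [Nat.cast_zero, sub_zero]
    exact isPseudoCoherent_of_approx (Q.map ψ) (vanishesOutside_sgl c F) (finiteFree_sgl c hF) hψ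
  | succ n ih =>
    intro P c hb hp hG
    obtain ⟨F, ψ, hF, hψ⟩ := hs P c hb hG
    have hT := mappingCone_triangle_distinguished ψ
    have hCv := (isApprox_iff_vanishGE _ hT c).1 hψ
    obtain ⟨C', π, hCb, hCp, hπ⟩ := Trunc.exists_projRes (CochainComplex.mappingCone ψ) (c - 1) fun i hi => by
      rw [HomologicalComplex.exactAt_iff_isZero_homology, ← subsingleton_HD_toD_iff]
      exact hCv i (by omega)
    refine pc_middle hT (pc_of_bounded (vanishesOutside_sgl c F) (finiteFree_sgl c hF) _) ?_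
    have := pc_of_iso (asIso (Q.map π)) (ih C' (c - 1) hCb hCp
      (hstep ψ π (b := c) (fun i hi => vanishesOutside_sgl c F i (Or.inr hi)) (finiteFree_sgl c hF) hb hp
        (fun i hi => hCb i (by omega)) hCp hG))
    rw [show c - ((n + 1 : ℕ) : ℤ) = c - 1 - n by push_cast; ring]
    exact this

/-- The cone step preserves pseudo-coherence after base change. -/
lemma pc'_ext_step {S P C' : DRing.Cx A} (ψ : S ⟶ P) (π : C' ⟶ CochainComplex.mappingCone ψ) [QuasiIso π]
    {b : ℤ} (hSb : DRing.VanishesAbove S b) (hSf : DRing.TermwiseFiniteFree S)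
    (hb : DRing.VanishesAbove P b) (hp : ∀ i, Module.Projective A (P.X i))
    (hCb : DRing.VanishesAbove C' b) (hCp : ∀ i, Module.Projective A (C'.X i))
    (hQ : DRing.IsPseudoCoherent' B (DRing.toD ((LTensor.extCx φ).obj P))) :
    DRing.IsPseudoCoherent' B (DRing.toD ((LTensor.extCx φ).obj C')) := by
  have hsp : ∀ i, Module.Projective A (S.X i) := fun i => have := (hSf i).2; inferInstance
  have hCk : IsKFlat (CochainComplex.mappingCone ψ) := (mappingCone_two_of_three ψ).1
    (isKFlat_of_projective hSb hsp) (isKFlat_of_projective hb hp)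
  have := SingleTensor.quasiIso_extendScalars φ π (isKFlat_of_projective hCb hCp) hCk
  refine pc'_of_iso (asIso (Q.map ((LTensor.extCx φ).map π)) ≪≫
    Q.mapIso (CochainComplex.mappingCone.mapHomologicalComplexIso ψ (ModuleCat.extendScalars.{u, u, u} φ))).symm ?_
  refine pc'_cone (mappingCone_triangle_distinguished ((LTensor.extCx φ).map ψ)) ?_ hQ
  exact ⟨(LTensor.extCx φ).obj S, b, fun i hi => Perfect.isZero_extCx φ (hSb i hi),
    fun i => ⟨Perfect.finite_extendScalars φ (hSf i).1, Perfect.free_extendScalars φ (hSf i).2⟩, ⟨Iso.refl _⟩⟩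

include hφ in
theorem pc'_iff_baseChange [DRing.HasLBaseChange φ] (hnil : IsNilpotent (RingHom.ker φ)) (K : Dual.D A) :
    DRing.IsPseudoCoherent' B ((DRing.LBaseChange φ).obj K) ↔ DRing.IsPseudoCoherent' A K := by
  refine ⟨fun h => ?_, Perfect.pc'_baseChange φ⟩
  obtain ⟨P₀, _, hproj, ⟨e₀⟩⟩ := exists_kproj_iso K
  have hQ₀ := DerComplete.isKProjective_extCx φ P₀
  obtain ⟨E, c, hEb, hEf, ⟨eE⟩⟩ := h
  have hEp : ∀ i, Module.Projective B (E.X i) := fun i => have := (hEf i).2; inferInstance
  have hex : ∀ i, c < i → P₀.ExactAt i := fun i hi => (exactAt_tensor_self P₀ i).1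
    (exactAt_tensor_of_nilpotent φ hφ hnil P₀ (fun j => have := hproj j; inferInstance) i
      (fun N' => (exactAt_tensor_congr (isKFlat_of_projective hEb hEp) (isKFlat_of_isKProjective _)
        (eE ≪≫ (Perfect.baseChangeIsoOfRep φ (isKFlat_of_isKProjective P₀) e₀).symm) N' i).1
        (((DRing.tensorCx E N').exactAt_iff i).2
          (ShortComplex.exact_of_isZero_X₂ _ ((tensorRight N').map_isZero (hEb i hi))))) _)
  obtain ⟨P, π, hb, hp, hπ⟩ := Trunc.exists_projRes P₀ c hex
  have e : DRing.toD P ≅ K := asIso (Q.map π) ≪≫ e₀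
  have hQ : DRing.IsPseudoCoherent' B (DRing.toD ((LTensor.extCx φ).obj P)) :=
    pc'_of_iso (Perfect.baseChangeIsoOfRep φ (isKFlat_of_projective hb hp) e).symm
      ⟨E, c, hEb, hEf, ⟨eE⟩⟩
  refine pc'_of_iso e ((pc'_iff _).2 fun m => ?_)
  refine pc_mono (pc_of_step (fun P => DRing.IsPseudoCoherent' B (DRing.toD ((LTensor.extCx φ).obj P)))
    (fun P c hb hG => ?_) (pc'_ext_step φ) (c - m).toNat P c hb hp hQ) (by omega)
  obtain ⟨S, hS, h⟩ := exists_fg_sup φ hφ P c hb hG
  exact ⟨S, hS, eq_top_of_sup_smul hnil _ h⟩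

include hφ in
theorem perfect_iff [DRing.HasLBaseChange φ] (hnil : IsNilpotent (RingHom.ker φ)) (K : Dual.D A) :
    DRing.IsPerfect B ((DRing.LBaseChange φ).obj K) ↔ DRing.IsPerfect A K := by
  refine ⟨fun h => ?_, Perfect.perfect_baseChange φ⟩
  obtain ⟨h1, a, b, h2⟩ := (Perfect.perfect_iff _).1 h
  exact (Perfect.perfect_iff K).2 ⟨(pc'_iff_baseChange φ hφ hnil K).1 h1, a, b,
    (torAmp_iff φ hφ hnil K a b).1 h2⟩

end Groth.Agent.DRing.Nilp
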