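import Groth.Agent.DRing.LiftApp
import Groth.Agent.DRing.Nilpotent
import Mathlib.RingTheory.LocalRing.Module
import Mathlib.RingTheory.Nakayama
import Mathlib.LinearAlgebra.Dimension.Free

/-!
# Minimal free representatives over a local ring
-/

universe u

open CategoryTheory CategoryTheory.Limits DerivedCategory MonoidalCategory

attribute [local instance] HasDerivedCategory.standard

namespace Groth.Agent.DRing.Minimal

open DBasic Homology DRing.KFlat

section Field

variable {k : Type u} [Field k]

/-- Over a field a complex receives a quasi-isomorphism from its cohomology. -/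
lemma exists_homology_cx (L : DRing.Cx k) :
    ∃ (E : DRing.Cx k) (α : E ⟶ L), QuasiIso α ∧ ∀ i, Nonempty (E.X i ≅ L.homology i) := by
  have hproj : ∀ i, Module.Projective k (L.homology i) := fun i =>
    Module.Projective.of_basis (Module.Basis.ofVectorSpace k (L.homology i))
  choose s hs using fun i => Module.projective_lifting_property (h := hproj i) (L.homologyπ i).hom LinearMap.id
    ((ModuleCat.epi_iff_surjective (L.homologyπ i)).1 inferInstance)
  have hs' : ∀ i, ModuleCat.ofHom (s i) ≫ L.homologyπ i = 𝟙 _ := fun i => ModuleCat.hom_ext (hs i)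
  let E : DRing.Cx k :=
    { X := fun i => L.homology i
      d := fun _ _ => 0 }
  let α : E ⟶ L :=
    { f := fun i => ModuleCat.ofHom (s i) ≫ L.iCycles i
      comm' := fun i j _ => by
        change (ModuleCat.ofHom (s i) ≫ L.iCycles i) ≫ L.d i j = 0 ≫ _
        rw [Category.assoc, L.iCycles_d, comp_zero, zero_comp] }
  refine ⟨E, α, ⟨fun i => (quasiIsoAt_iff_isIso_homologyMap α i).2 ?_⟩, fun i => ⟨Iso.refl _⟩⟩
  have h1 : IsIso (E.homologyπ i) := E.isIso_homologyπ _ i rfl rfl
  have h2 : IsIso (E.iCycles i) := E.isIso_iCycles i _ rfl rfl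
  have h3 : HomologicalComplex.cyclesMap α i = E.iCycles i ≫ ModuleCat.ofHom (s i) := by
    rw [← cancel_mono (L.iCycles i), HomologicalComplex.cyclesMap_i, Category.assoc]
  have h4 : E.homologyπ i ≫ HomologicalComplex.homologyMap α i = E.iCycles i := by
    rw [HomologicalComplex.homologyπ_naturality, h3, Category.assoc]
    exact (congrArg (E.iCycles i ≫ ·) (hs' i)).trans (Category.comp_id _)
  have : IsIso (E.homologyπ i ≫ HomologicalComplex.homologyMap α i) := by rw [h4]; infer_instance
  exact IsIso.of_isIso_comp_left (E.homologyπ i) _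

lemma finite_homology (L : DRing.Cx k) (i : ℤ) [Module.Finite k (L.X i)] :
    Module.Finite k (L.homology i) :=
  have : Module.Finite k (L.cycles i) := Module.Finite.of_injective _ (iCycles_injective (K := L) i)
  Module.Finite.of_surjective (L.homologyπ i).hom ((ModuleCat.epi_iff_surjective _).1 inferInstance)

/-- Equal dimensions force vanishing differentials. -/
lemma isIso_of_finrank_eq (L : DRing.Cx k) (i : ℤ) [Module.Finite k (L.X i)]
    (h : Module.finrank k (L.X i) = Module.finrank k (L.homology i)) :
    IsIso (L.iCycles i) ∧ IsIso (L.homologyπ i) := by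
  have hi : Function.Injective (L.iCycles i).hom := iCycles_injective i
  have hp : Function.Surjective (L.homologyπ i).hom := (ModuleCat.epi_iff_surjective _).1 inferInstance
  have : Module.Finite k (L.cycles i) := Module.Finite.of_injective _ hi
  have h1 := LinearMap.finrank_le_finrank_of_injective hi
  have h2 : Module.finrank k (L.homology i) ≤ Module.finrank k (L.cycles i) := by
    rw [← LinearMap.finrank_range_of_inj (f := LinearMap.id (R := k) (M := L.homology i)) Function.injective_id,
      LinearMap.range_id, ← LinearMap.range_eq_top.2 hp]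
    exact LinearMap.finrank_range_le _
  have := finite_homology L i
  exact ⟨(ConcreteCategory.isIso_iff_bijective _).2
      ⟨hi, (LinearMap.injective_iff_surjective_of_finrank_eq_finrank (by omega)).1 hi⟩,
    (ConcreteCategory.isIso_iff_bijective _).2
      ⟨(LinearMap.injective_iff_surjective_of_finrank_eq_finrank (by omega)).2 hp, hp⟩⟩

lemma isIso_f_of_quasiIso {L L' : DRing.Cx k} (g : L ⟶ L') [QuasiIso g] (i : ℤ)
    (h : IsIso (L.iCycles i) ∧ IsIso (L.homologyπ i)) (h' : IsIso (L'.iCycles i) ∧ IsIso (L'.homologyπ i)) :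
    IsIso (g.f i) := by
  have := h.1; have := h.2; have := h'.1; have := h'.2
  have : IsIso (HomologicalComplex.cyclesMap g i) := by
    have : IsIso (HomologicalComplex.cyclesMap g i ≫ L'.homologyπ i) := by
      rw [← HomologicalComplex.homologyπ_naturality]; infer_instance
    exact IsIso.of_isIso_comp_right _ (L'.homologyπ i)
  have : IsIso (L.iCycles i ≫ g.f i) := by
    rw [← HomologicalComplex.cyclesMap_i]; infer_instance
  exact IsIso.of_isIso_comp_left (L.iCycles i) _

end Field

/-- A quasi-isomorphism of K-projective complexes stays one after extension of scalars. -/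
lemma quasiIso_extCx_of_kproj {A B : Type u} [CommRing A] [CommRing B] (φ : A →+* B) {P Q : DRing.Cx A}
    [P.IsKProjective] [Q.IsKProjective] (β : P ⟶ Q) [QuasiIso β] : QuasiIso ((LTensor.extCx φ).map β) := by
  have : IsIso (DerivedCategory.Q.map β) := inferInstance
  obtain ⟨γ, hγ⟩ := exists_Q_map_eq (P := Q) (L := P) (inv (DerivedCategory.Q.map β))
  obtain ⟨h1⟩ := (Q_map_eq_iff (β ≫ γ) (𝟙 P)).1 (by rw [Functor.map_comp, hγ, IsIso.hom_inv_id]; exact (DerivedCategory.Q.map_id P).symm)
  obtain ⟨h2⟩ := (Q_map_eq_iff (γ ≫ β) (𝟙 Q)).1 (by rw [Functor.map_comp, hγ, IsIso.inv_hom_id]; exact (DerivedCategory.Q.map_id Q).symm)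
  exact ((ModuleCat.extendScalars.{u, u, u} φ).mapHomotopyEquiv ⟨β, γ, h1, h2⟩).quasiIso_hom

section Local

variable {R : Type u} [CommRing R] [IsLocalRing R]

open IsLocalRing (maximalIdeal ResidueField residue)

variable (R) in
/-- Finite projective modules along the maximal ideal. -/
abbrev finProjClass : Lift.Class (maximalIdeal R) where
  Pc := fun X => Module.Finite R X ∧ Module.Projective R X
  isoClosed := ⟨fun e h => ⟨have := h.1; Module.Finite.equiv e.toLinearEquiv,
    have := h.2; Module.Projective.of_equiv e.toLinearEquiv⟩⟩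
  proj := fun _ h => h.2
  cancel := fun X Y _ h =>
    have : Module.Finite R (X × Y) := h.1
    have : Module.Projective R (X × Y) := h.2
    ⟨Module.Finite.of_surjective (LinearMap.snd R X Y) LinearMap.snd_surjective,
      Module.Projective.of_split (LinearMap.inr R X Y) (LinearMap.snd R X Y) (LinearMap.snd_comp_inr R X Y)⟩
  nak := fun _ Y f _ hY h =>
    have := hY.1
    LinearMap.range_eq_top.1 (top_unique (Submodule.le_of_le_smul_of_le_jacobson_bot
      Module.Finite.fg_top (IsLocalRing.maximalIdeal_le_jacobson _) (le_of_eq h.symm)))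

lemma finrank_extendScalars (X : ModuleCat.{u} R) [Module.Free R X] [Module.Finite R X] :
    Module.finrank (ResidueField R) ((ModuleCat.extendScalars.{u, u, u} (residue R)).obj X) = Module.finrank R X :=
  Module.finrank_baseChange

/-- A map of finite free modules of the same rank inducing a surjection mod the maximal ideal is bijective. -/
lemma isIso_of_extend {X Y : ModuleCat.{u} R} [Module.Free R X] [Module.Finite R X] [Module.Free R Y]
    [Module.Finite R Y] (h : Module.finrank R X = Module.finrank R Y) (f : X ⟶ Y)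
    (hf : IsIso ((ModuleCat.extendScalars.{u, u, u} (Ideal.Quotient.mk (maximalIdeal R))).map f)) : IsIso f := by
  let I := maximalIdeal R
  have hs : Function.Surjective f.hom := by
    refine LinearMap.range_eq_top.1 (top_unique (Submodule.le_of_le_smul_of_le_jacobson_bot
      Module.Finite.fg_top (IsLocalRing.maximalIdeal_le_jacobson ⊥) (fun y _ => ?_)))
    obtain ⟨z, hz⟩ := ((ConcreteCategory.isIso_iff_bijective _).1 hf).2 ((Lift.unitMap I Y).hom y)
    obtain ⟨x, rfl⟩ := Lift.unitMap_surjective I X z
    have hn : ((ModuleCat.extendScalars.{u, u, u} (Ideal.Quotient.mk I)).map f).hom ((Lift.unitMap I X).hom x) =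
        (Lift.unitMap I Y).hom (f.hom x) :=
      (congrArg (fun t => t.hom x) ((ModuleCat.extendRestrictScalarsAdj.{u, u, u} (Ideal.Quotient.mk I)).unit.naturality f)).symm
    have h0 : y - f.hom x ∈ (I • ⊤ : Submodule R Y) := (Lift.unitMap_eq_zero_iff I Y _).1 (by
      rw [map_sub, ← hn]
      exact sub_eq_zero.2 hz.symm)
    rw [← sub_add_cancel y (f.hom x)]
    exact add_mem (Submodule.mem_sup_right h0) (Submodule.mem_sup_left ⟨x, rfl⟩)
  let e : Y ≃ₗ[R] X := LinearEquiv.ofFinrankEq _ _ h.symm
  have hinj : Function.Injective (e.toLinearMap ∘ₗ f.hom) :=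
    OrzechProperty.injective_of_surjective_endomorphism _ (e.surjective.comp hs)
  exact (ConcreteCategory.isIso_iff_bijective _).2 ⟨fun a b hab => hinj (congrArg e hab), hs⟩

variable [DRing.HasLBaseChange (residue R)]

/-- The predicate of a minimal representative. -/
def IsMinimal (K : Dual.D R) (P : DRing.Cx R) : Prop :=
  (∃ b : ℤ, DRing.VanishesAbove P b) ∧
    (∀ i : ℤ, Module.Free R (P.X i) ∧ Module.Finite R (P.X i) ∧
      Module.finrank R (P.X i) = Module.finrank (ResidueField R)
        (Dual.HD (ResidueField R) ((DRing.LBaseChange (residue R)).obj K) i)) ∧ Nonempty (DRing.toD P ≅ K)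

/-- The fibre of `K` computed by a representative. -/
lemma nonempty_fibre {P : DRing.Cx R} (b : ℤ) (hb : DRing.VanishesAbove P b)
    (hp : ∀ i, Module.Projective R (P.X i)) {K : Dual.D R} (e : DRing.toD P ≅ K) (i : ℤ) :
    Nonempty (Dual.HD (ResidueField R) ((DRing.LBaseChange (residue R)).obj K) i
      ≃ₗ[ResidueField R] ((LTensor.extCx (residue R)).obj P).homology i) :=
  ⟨((HF i).mapIso (Perfect.baseChangeIsoOfRep (residue R) (TorAmp.isKFlat_of_projective hb hp) e).symm
    ≪≫ hIso _ i).toLinearEquiv⟩

theorem finite_fibre (K : Dual.D R) (hK : DRing.IsPseudoCoherent' R K) :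
    (∀ i : ℤ, Module.Finite (ResidueField R) (Dual.HD (ResidueField R) ((DRing.LBaseChange (residue R)).obj K) i)) ∧
      ∃ b : ℤ, ∀ i : ℤ, b < i →
        Subsingleton (Dual.HD (ResidueField R) ((DRing.LBaseChange (residue R)).obj K) i) := by
  obtain ⟨Q, c, hQb, hQf, ⟨eQ⟩⟩ := hK
  have hp : ∀ i, Module.Projective R (Q.X i) := fun i => have := (hQf i).2; inferInstance
  refine ⟨fun i => ?_, c, fun i hi => ?_⟩
  · have := Perfect.finite_extendScalars (residue R) (hQf i).1
    have : Module.Finite (ResidueField R) (((LTensor.extCx (residue R)).obj Q).X i) := this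
    have := finite_homology ((LTensor.extCx (residue R)).obj Q) i
    exact Module.Finite.equiv (nonempty_fibre c hQb hp eQ i).some.symm
  · have : Subsingleton (((LTensor.extCx (residue R)).obj Q).homology i) :=
      ModuleCat.subsingleton_of_isZero (ShortComplex.isZero_homology_of_isZero_X₂ _
        (Perfect.isZero_extCx (residue R) (hQb i hi)))
    exact (nonempty_fibre c hQb hp eQ i).some.toEquiv.subsingleton

theorem exists_minimal (K : Dual.D R) (hK : DRing.IsPseudoCoherent' R K) : ∃ P, IsMinimal K P := by
  obtain ⟨Q, c, hQb, hQf, ⟨eQ⟩⟩ := hK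
  have hp : ∀ i, Module.Projective R (Q.X i) := fun i => have := (hQf i).2; inferInstance
  let L := (LTensor.extCx (residue R)).obj Q
  have hLfin : ∀ i, Module.Finite (ResidueField R) (L.X i) := fun i =>
    Perfect.finite_extendScalars (residue R) (hQf i).1
  obtain ⟨E, α, hα, eE⟩ := exists_homology_cx L
  have hEb : DRing.VanishesAbove E c := fun i hi =>
    (ShortComplex.isZero_homology_of_isZero_X₂ _ (Perfect.isZero_extCx (residue R) (hQb i hi))).of_iso (eE i).some
  let d := fun i => Module.finrank (ResidueField R) (E.X i)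
  have hEfin : ∀ i, Module.Finite (ResidueField R) (E.X i) := fun i => by
    have := finite_homology L i
    exact Module.Finite.equiv (eE i).some.symm.toLinearEquiv
  let X : ℤ → ModuleCat.{u} R := fun i => ModuleCat.of R (Fin (d i) → R)
  let eX : ∀ i, TensorProduct R (ResidueField R) (X i) ≃ₗ[ResidueField R] E.X i := fun i =>
    LinearEquiv.ofFinrankEq _ _ (by rw [Module.finrank_baseChange, show Module.finrank R (X i) = d i from Module.finrank_fin_fun R])
  let eK : DRing.toD E ≅ (DRing.LBaseChange (residue R)).obj K :=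
    asIso (DerivedCategory.Q.map α) ≪≫ Perfect.baseChangeIsoOfRep (residue R) (TorAmp.isKFlat_of_projective hQb hp) eQ
  have : DRing.HasLBaseChange (Ideal.Quotient.mk (maximalIdeal R)) := ‹DRing.HasLBaseChange (residue R)›
  obtain ⟨P, c', hPX, hPb, hPp, hPK, -⟩ := Lift.exists_lift_D (maximalIdeal R) (finProjClass R)
    (fun X Y hX hY =>
      have := hX.1; have := hX.2; have := hY.1; have := hY.2
      ⟨inferInstanceAs (Module.Finite R (X × Y)), inferInstanceAs (Module.Projective R (X × Y))⟩)
    K Q c hQb (fun i => ⟨(hQf i).1, hp i⟩) eQ E c hEb X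
    (fun i => ⟨inferInstanceAs (Module.Finite R (Fin (d i) → R)), inferInstanceAs (Module.Projective R (Fin (d i) → R))⟩)
    eX eK
  refine ⟨P, ⟨c', hPb⟩, fun i => ⟨?_, (hPp i).1, ?_⟩, hPK⟩
  · exact Module.Free.of_equiv (hPX i).some.symm.toLinearEquiv
  · rw [(hPX i).some.toLinearEquiv.finrank_eq, show Module.finrank R (X i) = d i from Module.finrank_fin_fun R,
      (nonempty_fibre c hQb hp eQ i).some.finrank_eq]
    exact (eE i).some.toLinearEquiv.finrank_eq

theorem nonempty_iso (K : Dual.D R) {P Q : DRing.Cx R} (hP : IsMinimal K P) (hQ : IsMinimal K Q) :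
    Nonempty (P ≅ Q) := by
  obtain ⟨⟨a, ha⟩, hPt, ⟨eP⟩⟩ := hP
  obtain ⟨⟨b, hb⟩, hQt, ⟨eQ⟩⟩ := hQ
  have hPp : ∀ i, Module.Projective R (P.X i) := fun i => have := (hPt i).1; inferInstance
  have hQp : ∀ i, Module.Projective R (Q.X i) := fun i => have := (hQt i).1; inferInstance
  have := isKProjective_of_projective P a ha hPp
  have := isKProjective_of_projective Q b hb hQp
  obtain ⟨β, hβ⟩ := exists_Q_map_eq (eP ≪≫ eQ.symm).hom
  have : QuasiIso β := (DerivedCategory.isIso_Q_map_iff_quasiIso (C := ModuleCat.{u} R) β).1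
    (by rw [hβ]; infer_instance)
  have := quasiIso_extCx_of_kproj (residue R) β
  have hsplit : ∀ {W : DRing.Cx R} (w : ℤ), DRing.VanishesAbove W w → (∀ i, Module.Projective R (W.X i)) →
      (DRing.toD W ≅ K) → ∀ i, Module.Free R (W.X i) → Module.Finite R (W.X i) →
      Module.finrank R (W.X i) = Module.finrank (ResidueField R)
        (Dual.HD (ResidueField R) ((DRing.LBaseChange (residue R)).obj K) i) →
      IsIso (((LTensor.extCx (residue R)).obj W).iCycles i) ∧ IsIso (((LTensor.extCx (residue R)).obj W).homologyπ i) := by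
    intro W w hw hp e i _ _ hr
    have : Module.Finite (ResidueField R) (((LTensor.extCx (residue R)).obj W).X i) :=
      Perfect.finite_extendScalars (residue R) inferInstance
    refine isIso_of_finrank_eq _ i ?_
    rw [← (nonempty_fibre w hw hp e i).some.finrank_eq, ← hr]
    exact finrank_extendScalars (W.X i)
  have : ∀ i, IsIso (β.f i) := fun i => by
    obtain ⟨h1, h2, h3⟩ := hPt i
    obtain ⟨g1, g2, g3⟩ := hQt i
    exact isIso_of_extend (h3.trans g3.symm) (β.f i) (isIso_f_of_quasiIso ((LTensor.extCx (residue R)).map β) i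
      (hsplit a ha hPp eP i h1 h2 h3) (hsplit b hb hQp eQ i g1 g2 g3))
  have := HomologicalComplex.Hom.isIso_of_components β
  exact ⟨asIso β⟩

end Local

end Groth.Agent.DRing.Minimal
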