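import Mathlib.CategoryTheory.Functor.Derived.PointwiseLeftDerived

/-!
# Left derived functors from objects with liftable maps

If every object is connected to a "good" object `P` by a map inverted by `L`, where good means that
maps out of `L P` lift to `C` and that `F` identifies lifts, then the left derived functor exists
and its counit is an isomorphism at good objects.
-/

universe v₁ v₂ v₃ u₁ u₂ u₃

open CategoryTheory CategoryTheory.Limits

namespace Groth.Agent.DRing.LeftDerived

variable {C : Type u₁} {D : Type u₂} {H : Type u₃} [Category.{v₁} C] [Category.{v₂} D]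
  [Category.{v₃} H] (L : C ⥤ D) (F : C ⥤ H)

/-- Maps out of `L P` lift to `C`, and `F` cannot tell two lifts apart. -/
structure IsGood (P : C) : Prop where
  fac : ∀ ⦃Y : C⦄ (φ : L.obj P ⟶ L.obj Y), ∃ g : P ⟶ Y, L.map g = φ
  eq : ∀ ⦃Y : C⦄ (g g' : P ⟶ Y), L.map g = L.map g' → F.map g = F.map g'

variable {L F}

section Cone

variable {P : C} (hP : IsGood L F P) {d : D} (e : d ≅ L.obj P)

/-- A chosen lift. -/
noncomputable def IsGood.lift (j : StructuredArrow d L) : P ⟶ j.right :=
  (hP.fac (e.inv ≫ j.hom)).choose

lemma IsGood.map_lift (j : StructuredArrow d L) :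
    L.map (hP.lift e j) = e.inv ≫ j.hom :=
  (hP.fac (e.inv ≫ j.hom)).choose_spec

/-- The limit cone computing the derived functor at a good object. -/
noncomputable def IsGood.cone : Cone (StructuredArrow.proj d L ⋙ F) where
  pt := F.obj P
  π :=
    { app := fun j => F.map (hP.lift e j)
      naturality := fun j j' φ => by
        have h : L.map (hP.lift e j') = L.map (hP.lift e j ≫ φ.right) := by
          rw [L.map_comp, hP.map_lift, hP.map_lift, Category.assoc, StructuredArrow.w]
        exact (Category.id_comp (F.map (hP.lift e j'))).trans ((hP.eq _ _ h).trans (F.map_comp _ _)) }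

/-- It is a limit. -/
noncomputable def IsGood.isLimit : IsLimit (hP.cone e) where
  lift s := s.π.app (StructuredArrow.mk e.hom)
  fac s j := by
    refine s.w (StructuredArrow.homMk (f := StructuredArrow.mk e.hom) (hP.lift e j) ?_)
    simp [hP.map_lift]
  uniq s m hm := by
    have h := hm (StructuredArrow.mk e.hom)
    have h1 : F.map (hP.lift e (StructuredArrow.mk e.hom)) = 𝟙 (F.obj P) := by
      rw [← F.map_id]
      refine hP.eq _ _ ?_
      rw [hP.map_lift]
      simp
    exact ((Category.comp_id m).symm.trans (congrArg (m ≫ ·) h1.symm)).trans h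

include hP e in
lemma IsGood.hasPointwiseRightKanExtensionAt : L.HasPointwiseRightKanExtensionAt F d :=
  ⟨⟨_, hP.isLimit e⟩⟩

end Cone

variable (W : MorphismProperty C) [L.IsLocalization W]

variable (L F) in
/-- Enough good objects. -/
def HasEnough : Prop := ∀ X : C, ∃ (P : C) (s : P ⟶ X), IsGood L F P ∧ IsIso (L.map s)

include W in
lemma HasEnough.hasPointwiseRightKanExtension (h : HasEnough L F) :
    L.HasPointwiseRightKanExtension F := fun d => by
  have := Localization.essSurj L W
  obtain ⟨P, s, hP, hs⟩ := h (L.objPreimage d)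
  exact hP.hasPointwiseRightKanExtensionAt ((L.objObjPreimageIso d).symm ≪≫ (asIso (L.map s)).symm)

theorem HasEnough.hasLeftDerivedFunctor (h : HasEnough L F) : F.HasLeftDerivedFunctor W := by
  have := h.hasPointwiseRightKanExtension W
  rw [Functor.hasLeftDerivedFunctor_iff F L W]
  infer_instance

variable {W} (LF : D ⥤ H) (α : L ⋙ LF ⟶ F) [LF.IsLeftDerivedFunctor α W]

include W in
/-- The counit is an isomorphism at good objects. -/
theorem HasEnough.isIso_app (h : HasEnough L F) {P : C} (hP : IsGood L F P) :
    IsIso (α.app P) := by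
  have := h.hasPointwiseRightKanExtension W
  have := Functor.IsLeftDerivedFunctor.isRightKanExtension LF α W
  have hlim : IsLimit ((Functor.RightExtension.mk LF α).coneAt (L.obj P)) :=
    Functor.isPointwiseRightKanExtensionOfIsRightKanExtension LF α (L.obj P)
  let c := hP.cone (Iso.refl (L.obj P))
  let j : StructuredArrow (L.obj P) L := StructuredArrow.mk (𝟙 (L.obj P))
  have h1 : ((Functor.RightExtension.mk LF α).coneAt (L.obj P)).π.app j = α.app P := by
    change LF.map (𝟙 (L.obj P)) ≫ α.app P = _
    rw [LF.map_id, Category.id_comp]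
  have h2 := IsLimit.conePointUniqueUpToIso_hom_comp hlim (hP.isLimit (Iso.refl _)) j
  have hl : L.map (hP.lift (Iso.refl (L.obj P)) j) = L.map (𝟙 P) :=
    (hP.map_lift (Iso.refl (L.obj P)) j).trans ((Category.id_comp _).trans (L.map_id P).symm)
  have h3 : (hP.cone (Iso.refl (L.obj P))).π.app j = 𝟙 (F.obj P) :=
    (hP.eq _ _ hl).trans (F.map_id P)
  rw [h1, h3] at h2
  have h4 : (hlim.conePointUniqueUpToIso (hP.isLimit (Iso.refl _))).hom = α.app P :=
    (Category.comp_id _).symm.trans h2
  rw [← h4]
  exact ⟨_, (hlim.conePointUniqueUpToIso (hP.isLimit (Iso.refl _))).hom_inv_id,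
    (hlim.conePointUniqueUpToIso (hP.isLimit (Iso.refl _))).inv_hom_id⟩

include W in
/-- The counit is an isomorphism at `X` iff `F` inverts a good replacement of `X`. -/
theorem HasEnough.isIso_app_iff (h : HasEnough L F) {P X : C} (s : P ⟶ X) (hP : IsGood L F P)
    [IsIso (L.map s)] : IsIso (α.app X) ↔ IsIso (F.map s) := by
  have := h.isIso_app (W := W) LF α hP
  have hn : LF.map (L.map s) ≫ α.app X = α.app P ≫ F.map s := α.naturality s
  constructor
  · intro hX
    have : IsIso (α.app P ≫ F.map s) := by rw [← hn]; infer_instance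
    exact IsIso.of_isIso_comp_left (α.app P) (F.map s)
  · intro hs
    have : IsIso (LF.map (L.map s) ≫ α.app X) := by rw [hn]; infer_instance
    exact IsIso.of_isIso_comp_left (LF.map (L.map s)) (α.app X)

end Groth.Agent.DRing.LeftDerived
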