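import Groth.Agent.DRing.BaseChangeAmp
import Groth.Agent.DRing.DerivedNakayama
import Mathlib.LinearAlgebra.TensorProduct.Quotient
import Mathlib.CategoryTheory.ObjectProperty.ClosedUnderIsomorphisms

/-!
# Lifting complexes along `R → R/I` relative to a class of projective modules
-/

universe u

open CategoryTheory CategoryTheory.Limits DerivedCategory MonoidalCategory

attribute [local instance] HasDerivedCategory.standard

namespace Groth.Agent.DRing.Lift

open DBasic Homology DRing.KFlat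

variable {R : Type u} [CommRing R]

/-- The data from which the lift is built. -/
structure Setup (I : Ideal R) where
  /-- The class of modules. -/
  Pc : ObjectProperty (ModuleCat.{u} R)
  isoClosed : Pc.IsClosedUnderIsomorphisms
  proj : ∀ X : ModuleCat.{u} R, Pc X → Module.Projective R X
  cancel : ∀ X Y : ModuleCat.{u} R, Pc X → Pc (ModuleCat.of R (X × Y)) → Pc Y
  nak : ∀ (X Y : ModuleCat.{u} R) (f : X ⟶ Y), Pc X → Pc Y →
    LinearMap.range f.hom ⊔ I • (⊤ : Submodule R Y) = ⊤ → Function.Surjective f.hom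
  zero : ∀ X : ModuleCat.{u} R, IsZero X → Pc X
  /-- The lifts of the terms. -/
  X : ℤ → ModuleCat.{u} R
  /-- The complex to map to. -/
  Q : DRing.Cx R
  /-- The complex to lift. -/
  E : DRing.Cx R
  /-- The reduction of `Q`. -/
  Q' : DRing.Cx R
  pcX : ∀ n, Pc (X n)
  pcC : ∀ n, Pc (ModuleCat.of R (X (n + 1) × Q.X n))
  /-- The reduction of the terms. -/
  ρ : ∀ n, X n →ₗ[R] E.X n
  ρ_surj : ∀ n, Function.Surjective (ρ n)
  ρ_ker : ∀ n x, ρ n x = 0 ↔ x ∈ (I • ⊤ : Submodule R (X n))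
  /-- The reduction of `Q`. -/
  σ : Q ⟶ Q'
  σ_surj : ∀ n, Function.Surjective (σ.f n).hom
  σ_ker : ∀ n x, (σ.f n).hom x = 0 ↔ x ∈ (I • ⊤ : Submodule R (Q.X n))
  /-- The map to lift. -/
  α : E ⟶ Q'
  α_qis : QuasiIso α
  /-- Bound. -/
  c : ℤ
  hQ : ∀ n, c < n → IsZero (Q.X n)
  hE : ∀ n, c < n → IsZero (E.X n)

namespace Setup

variable {I : Ideal R} (s : Setup I)

lemma subsingleton_X {n : ℤ} (h : s.c < n) : Subsingleton (s.X n) := by
  have := ModuleCat.subsingleton_of_isZero (s.hE n h)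
  have htop : (I • ⊤ : Submodule R (s.X n)) = ⊤ :=
    top_unique fun x _ => (s.ρ_ker n x).1 (Subsingleton.elim _ _)
  have hs := s.nak (s.X n) (s.X n) (ModuleCat.ofHom 0) (s.pcX n) (s.pcX n) (by
    rw [htop]; exact top_unique le_sup_right)
  exact ⟨fun x y => by
    obtain ⟨x', rfl⟩ := hs x
    obtain ⟨y', rfl⟩ := hs y
    rfl⟩

/-- Terms of the cone. -/
abbrev C (n : ℤ) : Type u := s.X (n + 1) × s.Q.X n

/-- A candidate component `(-δ, β)`. -/
abbrev Comp (n : ℤ) : Type u := s.X (n + 1) →ₗ[R] s.C (n + 1)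

/-- The differential of the cone. -/
noncomputable def D (n : ℤ) (f : s.Comp n) : s.C n →ₗ[R] s.C (n + 1) :=
  f ∘ₗ LinearMap.fst R _ _ + LinearMap.inr R _ _ ∘ₗ (s.Q.d n (n + 1)).hom ∘ₗ LinearMap.snd R _ _

/-- The reduction of the cone. -/
noncomputable def ρC (n : ℤ) : s.C n →ₗ[R] s.E.X (n + 1) × s.Q'.X n :=
  (s.ρ (n + 1)).prodMap (s.σ.f n).hom

/-- The differential of the reduced cone. -/
noncomputable def Dbar (n : ℤ) : s.E.X (n + 1) × s.Q'.X n →ₗ[R] s.E.X (n + 1 + 1) × s.Q'.X (n + 1) :=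
  LinearMap.prod (-((s.E.d (n + 1) (n + 1 + 1)).hom ∘ₗ LinearMap.fst R _ _))
    ((s.α.f (n + 1)).hom ∘ₗ LinearMap.fst R _ _ + (s.Q'.d n (n + 1)).hom ∘ₗ LinearMap.snd R _ _)

lemma ρC_surj (n : ℤ) : Function.Surjective (s.ρC n) :=
  (s.ρ_surj (n + 1)).prodMap (s.σ_surj n)

lemma mem_smul_of_ρC {n : ℤ} {z : s.C n} (h : s.ρC n z = 0) : z ∈ (I • ⊤ : Submodule R (s.C n)) := by
  obtain ⟨h1, h2⟩ := Prod.mk_eq_zero.1 h
  have e1 := Submodule.mem_map_of_mem (f := LinearMap.inl R (s.X (n + 1)) (s.Q.X n)) ((s.ρ_ker _ _).1 h1)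
  have e2 := Submodule.mem_map_of_mem (f := LinearMap.inr R (s.X (n + 1)) (s.Q.X n)) ((s.σ_ker _ _).1 h2)
  rw [Submodule.map_smul''] at e1 e2
  have : z = LinearMap.inl R _ _ z.1 + LinearMap.inr R _ _ z.2 := Prod.ext (by simp) (by simp)
  rw [this]
  exact add_mem (Submodule.smul_mono le_rfl le_top e1) (Submodule.smul_mono le_rfl le_top e2)

lemma Dbar_sq (n : ℤ) (x : s.E.X (n + 1) × s.Q'.X n) : s.Dbar (n + 1) (s.Dbar n x) = 0 := by
  refine Prod.ext ?_ ?_
  · simp only [Dbar, LinearMap.prod_apply, Function.prod, LinearMap.neg_apply, LinearMap.comp_apply,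
      LinearMap.fst_apply, map_neg, neg_neg, Prod.fst_zero]
    exact d_d (K := s.E) _ _ _ _
  · simp only [Dbar, LinearMap.prod_apply, Function.prod, LinearMap.neg_apply, LinearMap.comp_apply,
      LinearMap.fst_apply, LinearMap.snd_apply, LinearMap.add_apply, map_neg, map_add, Prod.snd_zero]
    rw [d_d (K := s.Q') n (n + 1) (n + 1 + 1), add_zero]
    rw [hom_d s.α (n + 1) (n + 1 + 1), neg_add_cancel]

/-- The reduced cone is acyclic. -/
lemma exists_Dbar_eq (n : ℤ) (x : s.E.X (n + 1 + 1) × s.Q'.X (n + 1)) (hx : s.Dbar (n + 1) x = 0) :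
    ∃ y, s.Dbar n y = x := by
  obtain ⟨e, q⟩ := x
  have := s.α_qis
  obtain ⟨h1, h2⟩ := Prod.mk_eq_zero.1 hx
  simp only [LinearMap.neg_apply, LinearMap.comp_apply, LinearMap.fst_apply, neg_eq_zero] at h1
  simp only [LinearMap.comp_apply, LinearMap.fst_apply, LinearMap.snd_apply, LinearMap.add_apply] at h2
  have hb : ∀ j, Function.Bijective (HomologicalComplex.homologyMap s.α j).hom := fun j =>
    (isIso_homologyMap_iff s.α j).1 inferInstance
  obtain ⟨e', he'⟩ := (homologyMap_injective_iff s.α (n + 1 + 1) (n + 1) rfl).1 (hb _).1 e (-q)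
    ((isCyc_iff rfl e).2 h1) (by rw [map_neg]; exact eq_neg_of_add_eq_zero_left h2)
  have hcyc : IsCyc s.Q' (n + 1) (q + (s.α.f (n + 1)).hom e') := (isCyc_iff rfl _).2 (by
    rw [map_add, hom_d s.α (n + 1) (n + 1 + 1), he']; exact (add_comm _ _).trans h2)
  obtain ⟨e'', q', he'', hq'⟩ := (homologyMap_surjective_iff s.α (n + 1) n rfl).1 (hb _).2 _ hcyc
  refine ⟨(e'' - e', q'), Prod.ext ?_ ?_⟩
  · simp only [Dbar, LinearMap.prod_apply, Function.prod, LinearMap.neg_apply, LinearMap.comp_apply,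
      LinearMap.fst_apply, map_sub, he', (isCyc_iff rfl e'').1 he'', zero_sub, neg_neg]
  · simp only [Dbar, LinearMap.prod_apply, Function.prod, LinearMap.comp_apply, LinearMap.fst_apply,
      LinearMap.snd_apply, LinearMap.add_apply, map_sub]
    rw [sub_add_eq_add_sub, hq', add_sub_cancel_right]

/-- The state of the descending construction. -/
structure State (n : ℤ) where
  /-- The component. -/
  f : s.Comp n
  comm : ∀ x, s.ρC (n + 1) (f x) = s.Dbar n (s.ρ (n + 1) x, 0)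
  pc : s.Pc (ModuleCat.of R (LinearMap.ker (s.D n f)))
  /-- A retraction onto the cycles. -/
  retr : s.C n →ₗ[R] LinearMap.ker (s.D n f)
  retr_id : ∀ z : LinearMap.ker (s.D n f), retr z.1 = z
  lift : ∀ x, s.Dbar n x = 0 → ∃ z : LinearMap.ker (s.D n f), s.ρC n z.1 = x

lemma ρC_D {n : ℤ} {f : s.Comp n} (hf : ∀ x, s.ρC (n + 1) (f x) = s.Dbar n (s.ρ (n + 1) x, 0)) (z : s.C n) :
    s.ρC (n + 1) (s.D n f z) = s.Dbar n (s.ρC n z) := by
  have h1 : s.ρC n z = (s.ρ (n + 1) z.1, 0) + (0, (s.σ.f n).hom z.2) := Prod.ext (by simp [ρC]) (by simp [ρC])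
  rw [h1, map_add, ← hf, D, LinearMap.add_apply, map_add]
  refine congrArg₂ (· + ·) rfl (Prod.ext ?_ ?_)
  · simp [ρC, Dbar]
  · simp only [ρC, Dbar, LinearMap.comp_apply, LinearMap.snd_apply, LinearMap.inr_apply,
      LinearMap.prodMap_apply, LinearMap.prod_apply, Function.prod, LinearMap.add_apply,
      LinearMap.fst_apply, map_zero, zero_add]
    exact (hom_d s.σ n (n + 1) z.2).symm

/-- At the top everything vanishes. -/
noncomputable def topState (n : ℤ) (h : s.c < n) : s.State n :=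
  have hC : Subsingleton (s.C n) := by
    have := s.subsingleton_X (n := n + 1) (by omega)
    have := ModuleCat.subsingleton_of_isZero (s.hQ n h)
    infer_instance
  { f := 0
    comm := fun x => by
      have := s.subsingleton_X (n := n + 1) (by omega)
      rw [Subsingleton.elim x 0, map_zero, map_zero, map_zero]
      exact (map_zero (s.Dbar n)).symm
    pc := s.zero _ (ModuleCat.isZero_of_subsingleton _)
    retr := 0
    retr_id := fun _ => Subsingleton.elim _ _
    lift := fun x _ => ⟨0, by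
      have h1 := ModuleCat.subsingleton_of_isZero (s.hE (n + 1) (by omega))
      obtain ⟨x1, x2⟩ := x
      obtain ⟨q, rfl⟩ := s.σ_surj n x2
      have := ModuleCat.subsingleton_of_isZero (s.hQ n h)
      rw [Subsingleton.elim q 0, Subsingleton.elim x1 0]
      exact (map_zero _).trans (Prod.ext rfl (map_zero _).symm)⟩ }

lemma D_D (n : ℤ) (f' : s.Comp (n + 1)) (f : s.Comp n) (h : ∀ x, s.D (n + 1) f' (f x) = 0) (z : s.C n) :
    s.D (n + 1) f' (s.D n f z) = 0 := by
  change s.D (n + 1) f' (f z.1 + ((0 : s.X (n + 1 + 1)), (s.Q.d n (n + 1)).hom z.2)) = 0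
  rw [map_add, h, zero_add]
  simp only [D, LinearMap.add_apply, LinearMap.comp_apply, LinearMap.fst_apply, LinearMap.snd_apply,
    LinearMap.inr_apply, map_zero, zero_add]
  rw [d_d (K := s.Q) n (n + 1) (n + 1 + 1)]
  rfl

/-- One step down. -/
lemma exists_step (n : ℤ) (S : s.State (n + 1)) :
    ∃ T : s.State n, ∀ x, s.D (n + 1) S.f (T.f x) = 0 := by
  let K := LinearMap.ker (s.D (n + 1) S.f)
  let q : K →ₗ[R] s.E.X (n + 1 + 1) × s.Q'.X (n + 1) := s.ρC (n + 1) ∘ₗ K.subtype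
  let gbar : s.X (n + 1) →ₗ[R] s.E.X (n + 1 + 1) × s.Q'.X (n + 1) :=
    s.Dbar n ∘ₗ LinearMap.inl R _ _ ∘ₗ s.ρ (n + 1)
  have hg : ∀ x, gbar x ∈ LinearMap.range q := fun x => by
    obtain ⟨z, hz⟩ := S.lift (gbar x) (s.Dbar_sq n _)
    exact ⟨z, hz⟩
  have := s.proj _ (s.pcX (n + 1))
  obtain ⟨g, hg'⟩ := Module.projective_lifting_property q.rangeRestrict (gbar.codRestrict _ hg)
    q.surjective_rangeRestrict
  let f : s.Comp n := K.subtype ∘ₗ g
  have hcomm : ∀ x, s.ρC (n + 1) (f x) = s.Dbar n (s.ρ (n + 1) x, 0) := fun x =>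
    congrArg Subtype.val (LinearMap.congr_fun hg' x)
  have hsq : ∀ z, s.D n f z ∈ K := fun z =>
    LinearMap.mem_ker.2 (s.D_D n S.f f (fun x => LinearMap.mem_ker.1 (g x).2) z)
  let D' : s.C n →ₗ[R] K := (s.D n f).codRestrict K hsq
  have hsmul : ∀ z : K, q z = 0 → z ∈ (I • ⊤ : Submodule R K) := fun z hz => by
    have h1 := Submodule.mem_map_of_mem (f := S.retr) (s.mem_smul_of_ρC hz)
    rw [Submodule.map_smul'', show S.retr (K.subtype z) = z from S.retr_id z] at h1
    exact Submodule.smul_mono le_rfl le_top h1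
  have hsurj : Function.Surjective D' := by
    refine s.nak (ModuleCat.of R (s.C n)) (ModuleCat.of R K) (ModuleCat.ofHom D') (s.pcC n) S.pc
      (top_unique fun z _ => ?_)
    have hz : s.Dbar (n + 1) (q z) = 0 := by
      change s.Dbar (n + 1) (s.ρC (n + 1) z.1) = 0
      rw [← s.ρC_D S.comm, LinearMap.mem_ker.1 z.2, map_zero]
    obtain ⟨y, hy⟩ := s.exists_Dbar_eq n (q z) hz
    obtain ⟨w, rfl⟩ := s.ρC_surj n y
    have : q (z - D' w) = 0 := by
      rw [map_sub, sub_eq_zero, ← hy]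
      exact (s.ρC_D hcomm w).symm
    rw [← sub_add_cancel z (D' w)]
    exact add_mem (Submodule.mem_sup_right (hsmul _ this)) (Submodule.mem_sup_left ⟨w, rfl⟩)
  have := s.proj _ S.pc
  obtain ⟨sec, hsec⟩ := Module.projective_lifting_property D' LinearMap.id hsurj
  have hker : LinearMap.ker (s.D n f) = LinearMap.ker D' := (LinearMap.ker_codRestrict K _ hsq).symm
  let r : s.C n →ₗ[R] LinearMap.ker (s.D n f) := (LinearMap.id - sec ∘ₗ D').codRestrict _ fun z => by
    rw [hker, LinearMap.mem_ker, LinearMap.sub_apply, map_sub]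
    exact sub_eq_zero.2 (LinearMap.congr_fun hsec (D' z)).symm
  have hr : ∀ z : LinearMap.ker (s.D n f), r z.1 = z := fun z => by
    refine Subtype.ext ?_
    have : D' z.1 = 0 := LinearMap.mem_ker.1 (hker.le z.2)
    change z.1 - sec (D' z.1) = z.1
    rw [this, map_zero, sub_zero]
  refine ⟨⟨f, hcomm, ?_, r, hr, fun x hx => ?_⟩, fun x => LinearMap.mem_ker.1 (g x).2⟩
  · let e : s.C n ≃ₗ[R] K × LinearMap.ker (s.D n f) :=
      LinearEquiv.ofBijective (D'.prod r) ⟨fun a b hab => by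
        obtain ⟨h1, h2⟩ := Prod.ext_iff.1 hab
        have h2' : a - sec (D' a) = b - sec (D' b) := congrArg Subtype.val h2
        rw [show D' a = D' b from h1] at h2'
        exact sub_left_inj.1 h2', fun ⟨k, z⟩ => ⟨sec k + z.1, by
        have hz : D' z.1 = 0 := LinearMap.mem_ker.1 (hker.le z.2)
        have hk : D' (sec k) = k := LinearMap.congr_fun hsec k
        refine Prod.ext ?_ (Subtype.ext ?_)
        · change D' (sec k + z.1) = k
          rw [map_add, hk, hz, add_zero]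
        · change sec k + z.1 - sec (D' (sec k + z.1)) = z.1
          rw [map_add, hk, hz, add_zero, add_sub_cancel_left]⟩⟩
    have := s.isoClosed
    exact s.cancel (ModuleCat.of R K) _ S.pc (s.Pc.prop_of_iso e.toModuleIso (s.pcC n))
  · obtain ⟨w, rfl⟩ := s.ρC_surj n x
    have h0 : q (D' w) = 0 := (s.ρC_D hcomm w).trans hx
    obtain ⟨v, hv, hvw⟩ : ∃ v ∈ (I • ⊤ : Submodule R (s.C n)), D' v = D' w := by
      have := hsmul _ h0
      rw [← LinearMap.range_eq_top.2 hsurj, LinearMap.range_eq_map, ← Submodule.map_smul''] at this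
      exact this
    refine ⟨⟨w - v, by rw [hker, LinearMap.mem_ker, map_sub, hvw, sub_self]⟩, ?_⟩
    have hv0 : s.ρC n v = 0 := by
      refine Submodule.smul_induction_on hv (fun a ha y _ => ?_) (fun a b ha hb => by rw [map_add, ha, hb, add_zero])
      refine Prod.ext ((s.ρ_ker _ _).2 ?_) ((s.σ_ker _ _).2 ?_)
      · exact Submodule.smul_mem_smul ha trivial
      · exact Submodule.smul_mem_smul ha trivial
    rw [map_sub, hv0, sub_zero]

/-- The descending construction. -/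
noncomputable def fam (n : ℤ) : s.State n :=
  if h : s.c < n then s.topState n h else (s.exists_step n (fam (n + 1))).choose
  termination_by (s.c + 1 - n).toNat
  decreasing_by omega

lemma fam_sq (n : ℤ) (x : s.X (n + 1)) : s.D (n + 1) (s.fam (n + 1)).f ((s.fam n).f x) = 0 := by
  by_cases h : s.c < n
  · have := s.subsingleton_X (n := n + 1) (by omega)
    rw [Subsingleton.elim x 0, map_zero, map_zero]
  · rw [show s.fam n = (s.exists_step n (s.fam (n + 1))).choose by rw [fam, dif_neg h]]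
    exact (s.exists_step n (s.fam (n + 1))).choose_spec x

lemma exact_fam (n : ℤ) (z : s.C (n + 1)) (hz : s.D (n + 1) (s.fam (n + 1)).f z = 0) :
    ∃ w, s.D n (s.fam n).f w = z := by
  by_cases h : s.c < n + 1
  · have := s.subsingleton_X (n := n + 1 + 1) (by omega)
    have := ModuleCat.subsingleton_of_isZero (s.hQ (n + 1) h)
    exact ⟨0, Subsingleton.elim _ _⟩
  · let K := LinearMap.ker (s.D (n + 1) (s.fam (n + 1)).f)
    let S := s.fam (n + 1)
    have hsq : ∀ w, s.D n (s.fam n).f w ∈ K := fun w =>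
      LinearMap.mem_ker.2 (s.D_D n _ _ (s.fam_sq n) w)
    have hsurj : Function.Surjective ((s.D n (s.fam n).f).codRestrict K hsq) := by
      refine s.nak (ModuleCat.of R (s.C n)) (ModuleCat.of R K) (ModuleCat.ofHom _) (s.pcC n) S.pc
        (top_unique fun z _ => ?_)
      have hz : s.Dbar (n + 1) (s.ρC (n + 1) z.1) = 0 := by
        rw [← s.ρC_D S.comm, LinearMap.mem_ker.1 z.2, map_zero]
      obtain ⟨y, hy⟩ := s.exists_Dbar_eq n _ hz
      obtain ⟨w, rfl⟩ := s.ρC_surj n y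
      have hq : s.ρC (n + 1) (z - (s.D n (s.fam n).f).codRestrict K hsq w : K).1 = 0 := by
        change s.ρC (n + 1) (z.1 - s.D n (s.fam n).f w) = 0
        rw [map_sub, s.ρC_D (s.fam n).comm, hy, sub_self]
      have h1 := Submodule.mem_map_of_mem (f := S.retr) (s.mem_smul_of_ρC hq)
      rw [Submodule.map_smul'', S.retr_id] at h1
      rw [← sub_add_cancel z ((s.D n (s.fam n).f).codRestrict K hsq w)]
      exact add_mem (Submodule.mem_sup_right (Submodule.smul_mono le_rfl le_top h1))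
        (Submodule.mem_sup_left ⟨w, rfl⟩)
    obtain ⟨w, hw⟩ := hsurj ⟨z, LinearMap.mem_ker.2 hz⟩
    exact ⟨w, congrArg Subtype.val hw⟩

/-- The differential on `X`, starting in degree `n + 1`. -/
noncomputable def δ (n : ℤ) : s.X (n + 1) ⟶ s.X (n + 1 + 1) :=
  ModuleCat.ofHom (-(LinearMap.fst R _ _ ∘ₗ (s.fam n).f))

/-- The comparison in degree `n + 1`. -/
noncomputable def β (n : ℤ) : s.X (n + 1) ⟶ s.Q.X (n + 1) :=
  ModuleCat.ofHom (LinearMap.snd R _ _ ∘ₗ (s.fam n).f)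

lemma rel (n : ℤ) (x : s.X (n + 1)) :
    (s.δ (n + 1)).hom ((s.δ n).hom x) = 0 ∧
      (s.β (n + 1)).hom ((s.δ n).hom x) = (s.Q.d (n + 1) (n + 1 + 1)).hom ((s.β n).hom x) := by
  obtain ⟨h1, h2⟩ := Prod.mk_eq_zero.1 (s.fam_sq n x)
  simp at h1 h2
  constructor
  · change -((s.fam (n + 1)).f (-((s.fam n).f x).1)).1 = 0
    rw [map_neg, Prod.fst_neg, neg_neg]; exact h1
  · change ((s.fam (n + 1)).f (-((s.fam n).f x).1)).2 = (s.Q.d (n + 1) (n + 1 + 1)).hom ((s.fam n).f x).2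
    rw [map_neg, Prod.snd_neg, ← add_eq_zero_iff_neg_eq]
    exact h2

/-- The reduction is compatible. -/
lemma red (n : ℤ) (x : s.X (n + 1)) :
    s.ρ (n + 1 + 1) ((s.δ n).hom x) = (s.E.d (n + 1) (n + 1 + 1)).hom (s.ρ (n + 1) x) ∧
      (s.σ.f (n + 1)).hom ((s.β n).hom x) = (s.α.f (n + 1)).hom (s.ρ (n + 1) x) := by
  obtain ⟨h1, h2⟩ := Prod.ext_iff.1 ((s.fam n).comm x)
  simp [ρC, Dbar] at h1 h2
  refine ⟨?_, h2⟩
  change s.ρ (n + 1 + 1) (-((s.fam n).f x).1) = _
  rw [map_neg]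
  exact neg_eq_iff_eq_neg.2 h1

/-- Elementwise exactness of the lifted cone. -/
lemma exact_cone (n : ℤ) (x : s.X (n + 1 + 1)) (q : s.Q.X (n + 1)) (h1 : (s.δ (n + 1)).hom x = 0)
    (h2 : (s.β (n + 1)).hom x + (s.Q.d (n + 1) (n + 1 + 1)).hom q = 0) :
    ∃ (y : s.X (n + 1)) (w : s.Q.X n), -(s.δ n).hom y = x ∧ (s.β n).hom y + (s.Q.d n (n + 1)).hom w = q := by
  obtain ⟨⟨y, w⟩, hyw⟩ := s.exact_fam n (x, q) (by
    refine Prod.ext ?_ ?_
    · have h1' : -((s.fam (n + 1)).f x).1 = 0 := h1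
      simp [D, neg_eq_zero.1 h1']
    · have h2' : ((s.fam (n + 1)).f x).2 + (s.Q.d (n + 1) (n + 1 + 1)).hom q = 0 := h2
      simpa [D] using h2')
  obtain ⟨e1, e2⟩ := Prod.ext_iff.1 hyw
  simp [D] at e1 e2
  exact ⟨y, w, (neg_neg ((s.fam n).f y).1).trans e1, e2⟩

/-- The lifted differential, starting in any degree. -/
noncomputable def dd (i : ℤ) : s.X i ⟶ s.X (i + 1) :=
  eqToHom (by rw [sub_add_cancel]) ≫ s.δ (i - 1) ≫ eqToHom (by rw [sub_add_cancel])

/-- The comparison in any degree. -/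
noncomputable def bb (i : ℤ) : s.X i ⟶ s.Q.X i :=
  eqToHom (by rw [sub_add_cancel]) ≫ s.β (i - 1) ≫ eqToHom (by rw [sub_add_cancel])

lemma dd_eq (n : ℤ) : s.dd (n + 1) = s.δ n := by
  have : ∀ m, m = n → ∀ (h1 : s.X (n + 1) = s.X (m + 1)) (h2 : s.X (m + 1 + 1) = s.X (n + 1 + 1)),
      eqToHom h1 ≫ s.δ m ≫ eqToHom h2 = s.δ n := by
    rintro m rfl h1 h2; simp
  exact this _ (by omega) _ _

lemma bb_eq (n : ℤ) : s.bb (n + 1) = s.β n := by
  have : ∀ m, m = n → ∀ (h1 : s.X (n + 1) = s.X (m + 1)) (h2 : s.Q.X (m + 1) = s.Q.X (n + 1)),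
      eqToHom h1 ≫ s.β m ≫ eqToHom h2 = s.β n := by
    rintro m rfl h1 h2; simp
  exact this _ (by omega) _ _

/-- The lifted complex. -/
noncomputable def P : DRing.Cx R :=
  CochainComplex.of s.X s.dd fun i => by
    obtain ⟨n, rfl⟩ : ∃ n, i = n + 1 := ⟨i - 1, by omega⟩
    rw [s.dd_eq n, s.dd_eq (n + 1)]
    exact ModuleCat.hom_ext (LinearMap.ext fun x => (s.rel n x).1)

lemma P_d (n : ℤ) : s.P.d (n + 1) (n + 1 + 1) = s.δ n :=
  (CochainComplex.of_d _ _ _).trans (s.dd_eq n)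

/-- The comparison map. -/
noncomputable def βh : s.P ⟶ s.Q where
  f := s.bb
  comm' i j hij := by
    obtain rfl : i + 1 = j := hij
    obtain ⟨n, rfl⟩ : ∃ n, i = n + 1 := ⟨i - 1, by omega⟩
    rw [s.P_d n, s.bb_eq n, s.bb_eq (n + 1)]
    exact ModuleCat.hom_ext (LinearMap.ext fun x => ((s.rel n x).2).symm)

/-- The reduction map. -/
noncomputable def ρh : s.P ⟶ s.E where
  f i := ModuleCat.ofHom (s.ρ i)
  comm' i j hij := by
    obtain rfl : i + 1 = j := hij
    obtain ⟨n, rfl⟩ : ∃ n, i = n + 1 := ⟨i - 1, by omega⟩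
    rw [s.P_d n]
    exact ModuleCat.hom_ext (LinearMap.ext fun x => ((s.red n x).1).symm)

theorem quasiIso_βh : QuasiIso s.βh := by
  refine quasiIso_of_bijective _ fun i => ?_
  obtain ⟨m, rfl⟩ : ∃ m, i = m + 1 + 1 := ⟨i - 2, by omega⟩
  constructor
  · rw [homologyMap_injective_iff s.βh (m + 1 + 1) (m + 1) rfl]
    intro z w hz hzw
    have hz' : (s.δ (m + 1)).hom z = 0 := by rw [← s.P_d]; exact (isCyc_iff rfl z).1 hz
    have hzw' : (s.β (m + 1)).hom z = (s.Q.d (m + 1) (m + 1 + 1)).hom w := by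
      rw [← s.bb_eq]; exact hzw
    obtain ⟨y, v, hy, -⟩ := s.exact_cone m z (-w) hz' (by rw [map_neg, hzw', add_neg_cancel])
    refine ⟨-y, ?_⟩
    rw [s.P_d]
    exact ((s.δ m).hom.map_neg y).trans hy
  · rw [homologyMap_surjective_iff s.βh (m + 1 + 1) (m + 1) rfl]
    intro q hq
    obtain ⟨y, v, hy, hv⟩ := s.exact_cone (m + 1) 0 q (map_zero _)
      (by rw [map_zero, zero_add]; exact (isCyc_iff rfl q).1 hq)
    refine ⟨y, v, (isCyc_iff rfl _).2 ?_, ?_⟩
    · rw [s.P_d]; exact neg_eq_zero.1 hy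
    · change (s.bb (m + 1 + 1)).hom y + _ = q
      rw [s.bb_eq]; exact hv

lemma vanishesAbove_P : DRing.VanishesAbove s.P s.c := fun i hi =>
  @ModuleCat.isZero_of_subsingleton _ _ (s.P.X i) (s.subsingleton_X hi)

end Setup

end Groth.Agent.DRing.Lift
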