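import Groth.Agent.DRing.Lift
import Mathlib.LinearAlgebra.TensorProduct.Quotient
import Mathlib.RingTheory.Ideal.Maps

/-!
# Lifting complexes along `R → R/I`: packaged form
-/

universe u

open CategoryTheory CategoryTheory.Limits DerivedCategory MonoidalCategory

attribute [local instance] HasDerivedCategory.standard

namespace Groth.Agent.DRing.Lift

open DBasic Homology DRing.KFlat
open scoped TensorProduct

variable {R : Type u} [CommRing R]

/-- For a surjective algebra, `1 ⊗ x = 0` iff `x ∈ ker • M`. -/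
lemma one_tmul_eq_zero_iff {B : Type u} [CommRing B] [Algebra R B]
    (hB : Function.Surjective (algebraMap R B)) {M : Type u} [AddCommGroup M] [Module R M] (x : M) :
    (1 : B) ⊗ₜ[R] x = 0 ↔ x ∈ (RingHom.ker (algebraMap R B) • ⊤ : Submodule R M) := by
  let ε : (R ⧸ RingHom.ker (algebraMap R B)) ≃ₐ[R] B :=
    Ideal.quotientKerAlgEquivOfSurjective (f := Algebra.ofId R B) hB
  let T := TensorProduct.congr ε.symm.toLinearEquiv (LinearEquiv.refl R M)
  have h : TensorProduct.quotTensorEquivQuotSMul M (RingHom.ker (algebraMap R B)) (T ((1 : B) ⊗ₜ[R] x)) =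
      Submodule.Quotient.mk x := by
    change TensorProduct.quotTensorEquivQuotSMul M _ ((ε.symm 1) ⊗ₜ[R] x) = _
    rw [map_one, ← map_one (Ideal.Quotient.mk _), TensorProduct.quotTensorEquivQuotSMul_mk_tmul, one_smul]
  rw [← Submodule.Quotient.mk_eq_zero, ← h, EmbeddingLike.map_eq_zero_iff, EmbeddingLike.map_eq_zero_iff]

variable (I : Ideal R)

/-- The unit `M → (R/I) ⊗ M`. -/
noncomputable abbrev unitMap (M : ModuleCat.{u} R) : M ⟶ (ModuleCat.restrictScalars (Ideal.Quotient.mk I)).obj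
    ((ModuleCat.extendScalars.{u, u, u} (Ideal.Quotient.mk I)).obj M) :=
  (ModuleCat.extendRestrictScalarsAdj.{u, u, u} (Ideal.Quotient.mk I)).unit.app M

lemma unitMap_surjective (M : ModuleCat.{u} R) : Function.Surjective (unitMap I M).hom := by
  let := (Ideal.Quotient.mk I).toAlgebra
  intro z
  obtain ⟨x, hx⟩ := _root_.TensorProduct.mk_surjective R M (R ⧸ I) Ideal.Quotient.mk_surjective z
  exact ⟨x, hx⟩

lemma unitMap_eq_zero_iff (M : ModuleCat.{u} R) (x : M) :
    (unitMap I M).hom x = 0 ↔ x ∈ (I • ⊤ : Submodule R M) := by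
  let := (Ideal.Quotient.mk I).toAlgebra
  have h := one_tmul_eq_zero_iff (B := R ⧸ I) Ideal.Quotient.mk_surjective x
  rw [show RingHom.ker (algebraMap R (R ⧸ I)) = I from Ideal.mk_ker] at h
  exact h

/-- A class of modules fit for lifting. -/
structure Class where
  /-- The class. -/
  Pc : ObjectProperty (ModuleCat.{u} R)
  isoClosed : Pc.IsClosedUnderIsomorphisms
  proj : ∀ X : ModuleCat.{u} R, Pc X → Module.Projective R X
  cancel : ∀ X Y : ModuleCat.{u} R, Pc X → Pc (ModuleCat.of R (X × Y)) → Pc Y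
  nak : ∀ (X Y : ModuleCat.{u} R) (f : X ⟶ Y), Pc X → Pc Y →
    LinearMap.range f.hom ⊔ I • (⊤ : Submodule R Y) = ⊤ → Function.Surjective f.hom

lemma Class.zero {I : Ideal R} (𝒞 : Class I) {X₀ : ModuleCat.{u} R} (h : 𝒞.Pc X₀)
    (X : ModuleCat.{u} R) (hX : IsZero X) : 𝒞.Pc X := by
  have := 𝒞.isoClosed
  have := ModuleCat.subsingleton_of_isZero hX
  exact 𝒞.cancel X₀ X h (𝒞.Pc.prop_of_iso (LinearEquiv.toModuleIso
    (({ LinearMap.inl R X₀ X with
        invFun := fun p => p.1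
        left_inv := fun _ => rfl
        right_inv := fun _ => Prod.ext rfl (Subsingleton.elim _ _) } : X₀ ≃ₗ[R] X₀ × X))) h)

lemma quasiIso_restrict {S : Type u} [CommRing S] (φ : R →+* S) {E E' : DRing.Cx S} (α : E ⟶ E') [QuasiIso α] :
    QuasiIso (((ModuleCat.restrictScalars.{u} φ).mapHomologicalComplex (ComplexShape.up ℤ)).map α) :=
  inferInstance

theorem exists_lift (𝒞 : Class I) (Q : DRing.Cx R) (E : DRing.Cx (R ⧸ I)) (c : ℤ)
    (hQ : DRing.VanishesAbove Q c) (hE : DRing.VanishesAbove E c) (X : ℤ → ModuleCat.{u} R)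
    (hX : ∀ n, 𝒞.Pc (X n)) (e : ∀ n, TensorProduct R (R ⧸ I) (X n) ≃ₗ[R ⧸ I] E.X n)
    (hC : ∀ n, 𝒞.Pc (ModuleCat.of R (X (n + 1) × Q.X n)))
    (α : E ⟶ (LTensor.extCx (Ideal.Quotient.mk I)).obj Q) [QuasiIso α] :
    ∃ (P : DRing.Cx R) (β : P ⟶ Q), (∀ n, Nonempty (P.X n ≅ X n)) ∧ DRing.VanishesAbove P c ∧ QuasiIso β ∧
      (∀ n, 𝒞.Pc (P.X n)) ∧ Nonempty ((LTensor.extCx (Ideal.Quotient.mk I)).obj P ≅ E) := by
  let φ := Ideal.Quotient.mk I
  let adj := ModuleCat.extendRestrictScalarsAdj.{u, u, u} φ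
  let ρ : ∀ n, X n →ₗ[R] ((DRing.restrictCx φ).obj E).X n := fun n =>
    { toFun := fun x => e n ((1 : R ⧸ I) ⊗ₜ[R] x)
      map_add' := fun x y => by rw [TensorProduct.tmul_add, map_add]; rfl
      map_smul' := fun r x => by
        rw [TensorProduct.tmul_smul, ← algebraMap_smul (R ⧸ I) r ((1 : R ⧸ I) ⊗ₜ[R] x), map_smul]
        rfl }
  let s : Setup I :=
    { Pc := 𝒞.Pc
      isoClosed := 𝒞.isoClosed
      proj := 𝒞.proj
      cancel := 𝒞.cancel
      nak := 𝒞.nak
      zero := 𝒞.zero (hX 0)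
      X := X
      Q := Q
      E := (DRing.restrictCx φ).obj E
      Q' := (DRing.restrictCx φ).obj ((LTensor.extCx φ).obj Q)
      pcX := hX
      pcC := hC
      ρ := ρ
      ρ_surj := fun n z => by
        obtain ⟨x, hx⟩ := _root_.TensorProduct.mk_surjective R (X n) (R ⧸ I) Ideal.Quotient.mk_surjective ((e n).symm z)
        exact ⟨x, ((congrArg (e n) hx).trans ((e n).apply_symm_apply z) :)⟩
      ρ_ker := fun n x => by
        have h := one_tmul_eq_zero_iff (B := R ⧸ I) Ideal.Quotient.mk_surjective x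
        rw [show RingHom.ker (algebraMap R (R ⧸ I)) = I from Ideal.mk_ker] at h
        exact (EmbeddingLike.map_eq_zero_iff (f := e n)).trans h
      σ :=
        { f := fun n => unitMap I (Q.X n)
          comm' := fun i j _ => (adj.unit.naturality (Q.d i j)).symm }
      σ_surj := fun n => unitMap_surjective I (Q.X n)
      σ_ker := fun n => unitMap_eq_zero_iff I (Q.X n)
      α := (DRing.restrictCx φ).map α
      α_qis := quasiIso_restrict φ α
      c := c
      hQ := hQ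
      hE := fun n hn => (ModuleCat.restrictScalars φ).map_isZero (hE n hn) }
  refine ⟨s.P, s.βh, fun n => ⟨Iso.refl _⟩, s.vanishesAbove_P, s.quasiIso_βh, hX, ?_⟩
  let g : (LTensor.extCx φ).obj s.P ⟶ E :=
    { f := fun n => (adj.homEquiv _ _).symm (s.ρh.f n)
      comm' := fun i j _ => (adj.homEquiv_naturality_right_symm (s.ρh.f i) (E.d i j)).symm.trans
        ((congrArg (adj.homEquiv _ _).symm (s.ρh.comm i j)).trans
          (adj.homEquiv_naturality_left_symm (s.P.d i j) (s.ρh.f j))) }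
  have hg : ∀ n (x : X n), (g.f n).hom ((unitMap I (X n)).hom x) = ρ n x := fun n x => by
    have h := (adj.homEquiv (X n) (E.X n)).apply_symm_apply (s.ρh.f n)
    rw [Adjunction.homEquiv_unit] at h
    exact congrArg (fun t => t.hom x) h
  have : ∀ n, IsIso (g.f n) := fun n => by
    refine (ConcreteCategory.isIso_iff_bijective _).2 ⟨?_, fun z => ?_⟩
    · change Function.Injective (g.f n).hom
      rw [injective_iff_map_eq_zero]
      intro z hz
      obtain ⟨x, rfl⟩ := unitMap_surjective I (X n) z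
      exact (unitMap_eq_zero_iff I (X n) x).2 ((s.ρ_ker n x).1 ((hg n x).symm.trans hz))
    · obtain ⟨x, hx⟩ := s.ρ_surj n z
      exact ⟨(unitMap I (X n)).hom x, (hg n x).trans hx⟩
  have := HomologicalComplex.Hom.isIso_of_components g
  exact ⟨asIso g⟩

/-- Lifting acyclic complexes. -/
theorem exists_acyclic_lift (𝒞 : Class I) (E : DRing.Cx (R ⧸ I)) (b : ℤ) (hEb : DRing.VanishesAbove E b)
    (hEa : E.Acyclic)
    (hEt : ∀ i : ℤ, ∃ X : ModuleCat.{u} R, 𝒞.Pc X ∧ Nonempty (TensorProduct R (R ⧸ I) X ≃ₗ[R ⧸ I] E.X i)) :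
    ∃ P : DRing.Cx R, DRing.VanishesAbove P b ∧ P.Acyclic ∧ (∀ i, 𝒞.Pc (P.X i)) ∧
      Nonempty ((LTensor.extCx (Ideal.Quotient.mk I)).obj P ≅ E) := by
  choose X hX e using hEt
  have := 𝒞.isoClosed
  let Q : DRing.Cx R := HomologicalComplex.zero
  have hQ : ∀ i, IsZero (Q.X i) := fun i => isZero_zero _
  have hQ' : ∀ i, IsZero (((LTensor.extCx (Ideal.Quotient.mk I)).obj Q).X i) := fun i =>
    Perfect.isZero_extCx _ (hQ i)
  let α : E ⟶ (LTensor.extCx (Ideal.Quotient.mk I)).obj Q := 0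
  have : QuasiIso α := by
    refine ⟨fun i => (quasiIsoAt_iff_isIso_homologyMap α i).2 ?_⟩
    exact isIso_of_source_target_iso_zero _ (hEa i).isZero_homology.isoZero
      (ShortComplex.isZero_homology_of_isZero_X₂ _ (hQ' i)).isoZero
  obtain ⟨P, β, -, hb, hβ, hP, hiso⟩ := exists_lift I 𝒞 Q E b (fun i _ => hQ i) hEb X hX (fun n => (e n).some)
    (fun n => by
      have := ModuleCat.subsingleton_of_isZero (hQ n)
      exact 𝒞.Pc.prop_of_iso (LinearEquiv.toModuleIso
        ({ LinearMap.inl R (X (n + 1)) (Q.X n) with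
            invFun := fun p => p.1
            left_inv := fun _ => rfl
            right_inv := fun _ => Prod.ext rfl (Subsingleton.elim _ _) } :
          X (n + 1) ≃ₗ[R] X (n + 1) × Q.X n)) (hX (n + 1))) α
  refine ⟨P, hb, fun i => ?_, hP, hiso⟩
  exact (TorAmp.exactAt_iff_of_quasiIso β i).2
    ((Q.exactAt_iff i).2 (ShortComplex.exact_of_isZero_X₂ _ (hQ i)))

/-- Lifting along a representative. -/
theorem exists_lift_D [DRing.HasLBaseChange (Ideal.Quotient.mk I)] (𝒞 : Class I)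
    (hprod : ∀ X Y : ModuleCat.{u} R, 𝒞.Pc X → 𝒞.Pc Y → 𝒞.Pc (ModuleCat.of R (X × Y)))
    (K : Dual.D R) (Q : DRing.Cx R) (c₀ : ℤ) (hQb : DRing.VanishesAbove Q c₀) (hQp : ∀ i, 𝒞.Pc (Q.X i))
    (eQ : DRing.toD Q ≅ K) (E : DRing.Cx (R ⧸ I)) (b : ℤ) (hEb : DRing.VanishesAbove E b)
    (X : ℤ → ModuleCat.{u} R) (hX : ∀ n, 𝒞.Pc (X n))
    (e : ∀ n, TensorProduct R (R ⧸ I) (X n) ≃ₗ[R ⧸ I] E.X n)
    (eE : DRing.toD E ≅ (DRing.LBaseChange (Ideal.Quotient.mk I)).obj K) :
    ∃ (P : DRing.Cx R) (c : ℤ), (∀ n, Nonempty (P.X n ≅ X n)) ∧ DRing.VanishesAbove P c ∧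
      (∀ i, 𝒞.Pc (P.X i)) ∧ Nonempty (DRing.toD P ≅ K) ∧
      Nonempty ((LTensor.extCx (Ideal.Quotient.mk I)).obj P ≅ E) := by
  have hEp : ∀ n, Module.Projective (R ⧸ I) (E.X n) := fun n => by
    have := 𝒞.proj _ (hX n)
    exact Module.Projective.of_equiv (e n)
  have := isKProjective_of_projective E b hEb hEp
  have hQk : IsKFlat Q := TorAmp.isKFlat_of_projective hQb fun i => 𝒞.proj _ (hQp i)
  let ψ := eE.hom ≫ (Perfect.baseChangeIsoOfRep (Ideal.Quotient.mk I) hQk eQ).inv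
  obtain ⟨α, hα⟩ := exists_Q_map_eq (L := (LTensor.extCx (Ideal.Quotient.mk I)).obj Q) ψ
  have : QuasiIso α := (DerivedCategory.isIso_Q_map_iff_quasiIso (C := ModuleCat.{u} (R ⧸ I)) α).1
    (by rw [hα]; infer_instance)
  obtain ⟨P, β, hPX, hb, hβ, hP, hiso⟩ := exists_lift I 𝒞 Q E (max b c₀) (fun i hi => hQb i (by omega))
    (fun i hi => hEb i (by omega)) X hX e (fun n => hprod _ _ (hX (n + 1)) (hQp n)) α
  exact ⟨P, max b c₀, hPX, hb, hP, ⟨asIso (DerivedCategory.Q.map β) ≪≫ eQ⟩, hiso⟩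

end Groth.Agent.DRing.Lift
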