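import Groth.Agent.DRing.LiftApp
import Groth.Agent.DRing.Nilpotent
import Mathlib.Algebra.Module.StablyFree.Basic
import Mathlib.RingTheory.Idempotents
import Mathlib.RingTheory.Nakayama

/-!
# Projective and stably free modules lift along `R → R/I`
-/

universe u

open CategoryTheory CategoryTheory.Limits DerivedCategory MonoidalCategory

attribute [local instance] HasDerivedCategory.standard

namespace Groth.Agent.DRing.Lift

open DBasic Homology DRing.KFlat
open scoped TensorProduct

variable {R : Type u} [CommRing R] (I : Ideal R)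

/-- A map with kernel in `I • X` identifies the reduction. -/
lemma nonempty_reduction {X M : Type u} [AddCommGroup X] [Module R X] [AddCommGroup M] [Module R M]
    [Module (R ⧸ I) M] [IsScalarTower R (R ⧸ I) M] (g : X →ₗ[R] M) (hs : Function.Surjective g)
    (hk : ∀ x, g x = 0 → x ∈ (I • ⊤ : Submodule R X)) :
    Nonempty ((R ⧸ I) ⊗[R] X ≃ₗ[R ⧸ I] M) := by
  refine ⟨LinearEquiv.ofBijective (LinearMap.liftBaseChange (R ⧸ I) g) ⟨?_, fun m => ?_⟩⟩
  · rw [injective_iff_map_eq_zero]
    intro z hz
    obtain ⟨x, rfl⟩ := _root_.TensorProduct.mk_surjective R X (R ⧸ I) Ideal.Quotient.mk_surjective z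
    have h := one_tmul_eq_zero_iff (B := R ⧸ I) Ideal.Quotient.mk_surjective x
    rw [show RingHom.ker (algebraMap R (R ⧸ I)) = I from Ideal.mk_ker] at h
    refine h.2 (hk x ?_)
    simpa using hz
  · obtain ⟨x, rfl⟩ := hs m
    exact ⟨1 ⊗ₜ x, by simp⟩

variable {I} in
lemma mem_smul_of_retraction {F X : Type u} [AddCommGroup F] [Module R F] [AddCommGroup X] [Module R X]
    (π : F →ₗ[R] X) (j : X →ₗ[R] F) (h : ∀ x, π (j x) = x) {x : X}
    (hx : j x ∈ (I • ⊤ : Submodule R F)) : x ∈ (I • ⊤ : Submodule R X) := by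
  have := Submodule.mem_map_of_mem (f := π) hx
  rw [Submodule.map_smul'', h] at this
  exact Submodule.smul_mono le_rfl le_top this

lemma mapRange_eq_zero_iff {ι : Type u} (x : ι →₀ R) :
    Finsupp.mapRange.linearMap (Algebra.linearMap R (R ⧸ I)) x = 0 ↔ x ∈ (I • ⊤ : Submodule R (ι →₀ R)) := by
  classical
  constructor
  · intro hx
    rw [← x.sum_single]
    refine Submodule.sum_mem _ fun i _ => ?_
    have : x i ∈ I := Ideal.Quotient.eq_zero_iff_mem.1 (by simpa using DFunLike.congr_fun hx i)
    rw [show Finsupp.single i (x i) = x i • Finsupp.single i (1 : R) by rw [Finsupp.smul_single, smul_eq_mul, mul_one]]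
    exact Submodule.smul_mem_smul this trivial
  · intro hx
    refine Submodule.smul_induction_on hx (fun a ha y _ => ?_) (fun y z hy hz => by rw [map_add, hy, hz, add_zero])
    ext i
    simp [Algebra.smul_def, Ideal.Quotient.eq_zero_iff_mem.2 ha]

/-- Idempotents of `F/IF` lift. -/
lemma exists_idem_lift (hI : IsNilpotent I) {F : Type u} [AddCommGroup F] [Module R F] [Module.Projective R F]
    (eb : Module.End R (F ⧸ (I • ⊤ : Submodule R F))) (heb : ∀ x, eb (eb x) = eb x) :
    ∃ e : Module.End R F, (∀ x, e (e x) = e x) ∧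
      ∀ x, Submodule.Quotient.mk (e x) = eb (Submodule.Quotient.mk x) := by
  let S : Submodule R F := I • ⊤
  have hle : ∀ g : Module.End R F, S ≤ S.comap g := fun g => by
    rw [← Submodule.map_le_iff_le_comap, Submodule.map_smul'']
    exact Submodule.smul_mono le_rfl le_top
  let f : Module.End R F →+* Module.End R (F ⧸ S) :=
    { toFun := fun g => S.mapQ S g (hle g)
      map_one' := Submodule.linearMap_qext _ rfl
      map_mul' := fun _ _ => Submodule.linearMap_qext _ rfl
      map_zero' := Submodule.linearMap_qext _ rfl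
      map_add' := fun _ _ => Submodule.linearMap_qext _ rfl }
  have hnil : ∀ g ∈ RingHom.ker f, IsNilpotent g := fun g hg => by
    obtain ⟨n, hn⟩ := hI
    refine ⟨n, LinearMap.ext fun x => ?_⟩
    have h1 : ∀ y, g y ∈ S := fun y => (Submodule.Quotient.mk_eq_zero S).1
      (LinearMap.congr_fun (RingHom.mem_ker.1 hg) (Submodule.Quotient.mk y))
    have : ∀ k : ℕ, (g ^ k) x ∈ (I ^ k • ⊤ : Submodule R F) := by
      intro k
      induction k with
      | zero => simp
      | succ k ih =>
        rw [pow_succ' g, Module.End.mul_apply]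
        have hm := Submodule.mem_map_of_mem (f := g) ih
        rw [Submodule.map_smul''] at hm
        rw [pow_succ I, Submodule.mul_smul]
        exact Submodule.smul_mono le_rfl (by rintro _ ⟨y, -, rfl⟩; exact h1 y) hm
    simpa [hn] using this n
  obtain ⟨g, hg⟩ := Module.projective_lifting_property S.mkQ (eb ∘ₗ S.mkQ) S.mkQ_surjective
  obtain ⟨e, he, hfe⟩ := exists_isIdempotentElem_eq_of_ker_isNilpotent (R := Module.End R F)
    (S := Module.End R (F ⧸ S)) f hnil eb ⟨g, Submodule.linearMap_qext _ hg⟩ (LinearMap.ext heb)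
  exact ⟨e, fun x => LinearMap.congr_fun he x, fun x => LinearMap.congr_fun hfe (Submodule.Quotient.mk x)⟩

/-- Projective modules lift along nilpotent ideals. -/
theorem exists_projective_lift (hI : IsNilpotent I) (M : ModuleCat.{u} (R ⧸ I)) [Module.Projective (R ⧸ I) M] :
    ∃ X : ModuleCat.{u} R, Module.Projective R X ∧ Nonempty ((R ⧸ I) ⊗[R] X ≃ₗ[R ⧸ I] M) := by
  let : Module R M := Module.compHom M (Ideal.Quotient.mk I)
  have : IsScalarTower R (R ⧸ I) M := IsScalarTower.of_algebraMap_smul fun _ _ => rfl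
  obtain ⟨i0, hi0⟩ := Module.projective_lifting_property (Finsupp.linearCombination (R ⧸ I) (id : M → M))
    LinearMap.id (Finsupp.linearCombination_id_surjective (R ⧸ I) M)
  let ρ : ((M : Type u) →₀ R) →ₗ[R] ((M : Type u) →₀ (R ⧸ I)) := Finsupp.mapRange.linearMap (Algebra.linearMap R (R ⧸ I))
  have hρ : Function.Surjective ρ := Finsupp.mapRange_surjective _ (map_zero _) Ideal.Quotient.mk_surjective
  let p : ((M : Type u) →₀ (R ⧸ I)) →ₗ[R] M := (Finsupp.linearCombination (R ⧸ I) (id : M → M)).restrictScalars R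
  let i : M →ₗ[R] ((M : Type u) →₀ (R ⧸ I)) := i0.restrictScalars R
  have hpi : ∀ m, p (i m) = m := fun m => LinearMap.congr_fun hi0 m
  let ψ : (((M : Type u) →₀ R) ⧸ (I • ⊤ : Submodule R ((M : Type u) →₀ R))) ≃ₗ[R] ((M : Type u) →₀ (R ⧸ I)) :=
    (Submodule.quotEquivOfEq _ _ (Submodule.ext fun x => (mapRange_eq_zero_iff I x).symm.trans LinearMap.mem_ker.symm)).trans
      (ρ.quotKerEquivOfSurjective hρ)
  have hψ : ∀ x, ψ (Submodule.Quotient.mk x) = ρ x := fun x => rfl
  obtain ⟨e, hee, hfe⟩ := exists_idem_lift I hI (ψ.symm.toLinearMap ∘ₗ i ∘ₗ p ∘ₗ ψ.toLinearMap) fun x => by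
    change ψ.symm (i (p (ψ (ψ.symm (i (p (ψ x))))))) = ψ.symm (i (p (ψ x)))
    rw [ψ.apply_symm_apply, hpi]
  have hρe : ∀ x, ρ (e x) = i (p (ρ x)) := fun x => by
    rw [← hψ, hfe, ← hψ x]
    exact ψ.apply_symm_apply _
  let X := LinearMap.range e
  refine ⟨ModuleCat.of R X, Module.Projective.of_split X.subtype e.rangeRestrict (LinearMap.ext fun x => ?_),
    nonempty_reduction I (p ∘ₗ ρ ∘ₗ X.subtype) (fun m => ?_) fun x hx => ?_⟩
  · obtain ⟨_, y, rfl⟩ := x
    exact Subtype.ext (hee y)
  · obtain ⟨y, hy⟩ := hρ (i m)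
    refine ⟨⟨e y, y, rfl⟩, ?_⟩
    change p (ρ (e y)) = m
    rw [hρe, hy, hpi, hpi]
  · refine mem_smul_of_retraction (I := I) e.rangeRestrict X.subtype (fun z => ?_) ((mapRange_eq_zero_iff I x.1).1 ?_)
    · obtain ⟨_, w, rfl⟩ := z
      exact Subtype.ext (hee w)
    · obtain ⟨_, y, rfl⟩ := x
      change ρ (e y) = 0
      have : p (ρ (e y)) = 0 := hx
      rw [← hee, hρe, this, map_zero]

/-- The class of projective modules along a nilpotent ideal. -/
abbrev projClass (hI : IsNilpotent I) : Class I where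
  Pc := fun X => Module.Projective R X
  isoClosed := ⟨fun e h => have : Module.Projective R _ := h; Module.Projective.of_equiv e.toLinearEquiv⟩
  proj := fun _ h => h
  cancel := fun X Y _ h => have : Module.Projective R (X × Y) := h; Module.Projective.of_split (LinearMap.inr R X Y) (LinearMap.snd R X Y)
    (LinearMap.snd_comp_inr R X Y)
  nak := fun _ Y f _ _ h => LinearMap.range_eq_top.1 (Nilp.eq_top_of_sup_smul hI _ h)

theorem exists_projective_representative (hI : IsNilpotent I) [DRing.HasLBaseChange (Ideal.Quotient.mk I)]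
    (K : Dual.D R) (E : DRing.Cx (R ⧸ I)) (b : ℤ) (hEb : DRing.VanishesAbove E b)
    (hEp : ∀ i : ℤ, Module.Projective (R ⧸ I) (E.X i))
    (eE : DRing.toD E ≅ (DRing.LBaseChange (Ideal.Quotient.mk I)).obj K) :
    ∃ (P : DRing.Cx R) (b' : ℤ), DRing.VanishesAbove P b' ∧ (∀ i : ℤ, Module.Projective R (P.X i)) ∧
      Nonempty (DRing.toD P ≅ K) ∧ Nonempty ((LTensor.extCx (Ideal.Quotient.mk I)).obj P ≅ E) := by
  obtain ⟨P₀, _, hproj, ⟨e₀⟩⟩ := exists_kproj_iso K
  have := DerComplete.isKProjective_extCx (Ideal.Quotient.mk I) P₀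
  have hk := isKFlat_of_isKProjective P₀
  have hex : ∀ i, b < i → P₀.ExactAt i := fun i hi => (TorAmp.exactAt_tensor_self P₀ i).1
    (Nilp.exactAt_tensor_of_nilpotent (Ideal.Quotient.mk I) Ideal.Quotient.mk_surjective (by rwa [Ideal.mk_ker])
      P₀ (fun j => have := hproj j; inferInstance) i
      (fun N' => (TorAmp.exactAt_tensor_congr (TorAmp.isKFlat_of_projective hEb hEp) (isKFlat_of_isKProjective _)
        (eE ≪≫ (Perfect.baseChangeIsoOfRep _ hk e₀).symm) N' i).1
        (((DRing.tensorCx E N').exactAt_iff i).2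
          (ShortComplex.exact_of_isZero_X₂ _ ((tensorRight N').map_isZero (hEb i hi))))) _)
  obtain ⟨Q, π, hQb, hQp, hπ⟩ := Trunc.exists_projRes P₀ b hex
  choose X hX e using fun i => have := hEp i; exists_projective_lift I hI (E.X i)
  obtain ⟨P, c, -, hb, hp, hK, hi⟩ := exists_lift_D I (projClass I hI)
    (fun X Y hx hy => show Module.Projective R (X × Y) from
      have : Module.Projective R X := hx; have : Module.Projective R Y := hy; inferInstance)
    K Q b hQb hQp (asIso (DerivedCategory.Q.map π) ≪≫ e₀) E b hEb X hX (fun n => (e n).some) eE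
  exact ⟨P, c, hb, hp, hK, hi⟩

/-- Finite stably free modules. -/
def SFree (X : ModuleCat.{u} R) : Prop := Module.Finite R X ∧ Module.IsStablyFree R X

/-- Stably free from a free completion. -/
lemma sfree_iff (M : Type u) [AddCommGroup M] [Module R M] :
    Module.IsStablyFree R M ↔ ∃ (N : Type u) (_ : AddCommGroup N) (_ : Module R N),
      Module.Finite R N ∧ Module.Free R N ∧ Module.Free R (M × N) := by
  refine ⟨fun h => ?_, fun ⟨N, _, _, _, _, _⟩ => Module.IsStablyFree.of_free_prod R M N⟩
  obtain ⟨N, i1, i2, h1, h2, h3⟩ := Module.IsStablyFree.exist_free_prod R M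
  exact ⟨N, i1, i2, h1, h2, h3⟩

lemma sfree_prod {X Y : ModuleCat.{u} R} (hX : SFree X) (hY : SFree Y) : SFree (ModuleCat.of R (X × Y)) := by
  obtain ⟨N, _, _, _, _, _⟩ := (sfree_iff X).1 hX.2
  obtain ⟨N', _, _, _, _, _⟩ := (sfree_iff Y).1 hY.2
  have := hX.1
  have := hY.1
  refine ⟨inferInstanceAs (Module.Finite R (X × Y)), (sfree_iff (X × Y)).2 ⟨N × N', inferInstance, inferInstance,
    inferInstance, inferInstance, Module.Free.of_equiv (LinearEquiv.prodProdProdComm R X N Y N')⟩⟩

/-- Rearranging four factors. -/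
def shuffle (A B C D : Type u) [AddCommGroup A] [AddCommGroup B] [AddCommGroup C] [AddCommGroup D] [Module R A]
    [Module R B] [Module R C] [Module R D] : (((A × B) × D) × C) ≃ₗ[R] (B × ((A × C) × D)) where
  toFun p := (p.1.1.2, ((p.1.1.1, p.2), p.1.2))
  invFun p := (((p.2.1.1, p.1), p.2.2), p.2.1.2)
  left_inv _ := rfl
  right_inv _ := rfl
  map_add' _ _ := rfl
  map_smul' _ _ := rfl

lemma sfree_cancel {X Y : ModuleCat.{u} R} (hX : SFree X) (hXY : SFree (ModuleCat.of R (X × Y))) : SFree Y := by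
  obtain ⟨N, _, _, _, _, _⟩ := (sfree_iff X).1 hX.2
  obtain ⟨N', _, _, hN'1, hN'2, hN'3⟩ := (sfree_iff (X × Y)).1 hXY.2
  have := hX.1
  have hf : Module.Finite R (X × Y) := hXY.1
  refine ⟨Module.Finite.of_surjective (LinearMap.snd R X Y) LinearMap.snd_surjective,
    (sfree_iff Y).2 ⟨(X × N) × N', inferInstance, inferInstance, inferInstance, inferInstance, ?_⟩⟩
  exact Module.Free.of_equiv (shuffle (X : Type u) (Y : Type u) N N')

lemma surjective_of_jacobson (hI : I ≤ Ideal.jacobson (⊥ : Ideal R)) {X Y : Type u} [AddCommGroup X] [Module R X]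
    [AddCommGroup Y] [Module R Y] [Module.Finite R Y] (f : X →ₗ[R] Y)
    (h : LinearMap.range f ⊔ I • (⊤ : Submodule R Y) = ⊤) : Function.Surjective f :=
  LinearMap.range_eq_top.1 (top_unique (Submodule.le_of_le_smul_of_le_jacobson_bot
    Module.Finite.fg_top hI (le_of_eq h.symm)))

/-- The class of finite stably free modules along an ideal in the radical. -/
def sfreeClass (hI : I ≤ Ideal.jacobson (⊥ : Ideal R)) : Class I where
  Pc := SFree
  isoClosed := ⟨fun e h => ⟨have := h.1; Module.Finite.equiv e.toLinearEquiv,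
    have := h.2; Module.IsStablyFree.equiv e.toLinearEquiv⟩⟩
  proj := fun X h => have := h.2; inferInstance
  cancel := fun _ _ => sfree_cancel
  nak := fun _ Y f _ hY h => have := hY.1; surjective_of_jacobson I hI f.hom h

/-- Finite stably free modules lift along ideals in the radical. -/
theorem exists_sfree_lift (hI : I ≤ Ideal.jacobson (⊥ : Ideal R)) (M : ModuleCat.{u} (R ⧸ I))
    (hf : Module.Finite (R ⧸ I) M) (hs : Module.IsStablyFree (R ⧸ I) M) :
    ∃ X : ModuleCat.{u} R, SFree X ∧ Nonempty ((R ⧸ I) ⊗[R] X ≃ₗ[R ⧸ I] M) ∧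
      (Module.Free (R ⧸ I) M → Module.Free R X) := by
  classical
  let : Module R M := Module.compHom M (Ideal.Quotient.mk I)
  have : IsScalarTower R (R ⧸ I) M := IsScalarTower.of_algebraMap_smul fun _ _ => rfl
  by_cases hfree : Module.Free (R ⧸ I) M
  · let ι := Module.Free.ChooseBasisIndex (R ⧸ I) M
    let bM := Module.Free.chooseBasis (R ⧸ I) M
    cases subsingleton_or_nontrivial (R ⧸ I) with
    | inl h =>
      have : Subsingleton M := Module.subsingleton (R ⧸ I) M
      refine ⟨ModuleCat.of R PUnit, ⟨inferInstanceAs (Module.Finite R PUnit), inferInstanceAs (Module.IsStablyFree R PUnit)⟩,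
        nonempty_reduction I (0 : PUnit →ₗ[R] M) (fun m => ⟨0, Subsingleton.elim _ _⟩) (fun x _ => ?_),
        fun _ => inferInstanceAs (Module.Free R PUnit)⟩
      exact (Submodule.zero_mem _ : (0 : PUnit) ∈ (I • ⊤ : Submodule R PUnit))
    | inr h =>
      have : Finite ι := Module.Finite.finite_basis bM
      refine ⟨ModuleCat.of R (ι →₀ R), ⟨inferInstanceAs (Module.Finite R (ι →₀ R)),
        inferInstanceAs (Module.IsStablyFree R (ι →₀ R))⟩,
        nonempty_reduction I ((bM.repr.symm.toLinearMap.restrictScalars R) ∘ₗ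
          Finsupp.mapRange.linearMap (Algebra.linearMap R (R ⧸ I))) ?_ (fun x hx => ?_),
        fun _ => inferInstanceAs (Module.Free R (ι →₀ R))⟩
      · exact bM.repr.symm.surjective.comp (Finsupp.mapRange_surjective _ (map_zero _) Ideal.Quotient.mk_surjective)
      · exact (mapRange_eq_zero_iff I x).1 (bM.repr.symm.injective (hx.trans (map_zero _).symm))
  · obtain ⟨N, _, _, hN1, hN2, hN3⟩ := (sfree_iff (R := R ⧸ I) M).1 hs
    let a := Module.Free.ChooseBasisIndex (R ⧸ I) N
    let c := Module.Free.ChooseBasisIndex (R ⧸ I) (M × N)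
    let bN := Module.Free.chooseBasis (R ⧸ I) N
    let bT := Module.Free.chooseBasis (R ⧸ I) (M × N)
    cases subsingleton_or_nontrivial (R ⧸ I) with
    | inl h =>
      have : Subsingleton M := Module.subsingleton (R ⧸ I) M
      exact absurd (inferInstance : Module.Free (R ⧸ I) M) hfree
    | inr h =>
      have : Finite a := Module.Finite.finite_basis bN
      have : Finite c := Module.Finite.finite_basis bT
      let Fc := c →₀ R
      let Fa := a →₀ R
      let rc : Fc →ₗ[R] (c →₀ (R ⧸ I)) := Finsupp.mapRange.linearMap (Algebra.linearMap R (R ⧸ I))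
      let ra : Fa →ₗ[R] (a →₀ (R ⧸ I)) := Finsupp.mapRange.linearMap (Algebra.linearMap R (R ⧸ I))
      have hrc : Function.Surjective rc := Finsupp.mapRange_surjective _ (map_zero _) Ideal.Quotient.mk_surjective
      have hra : Function.Surjective ra := Finsupp.mapRange_surjective _ (map_zero _) Ideal.Quotient.mk_surjective
      let t : Fc →ₗ[R] (a →₀ (R ⧸ I)) :=
        ((bN.repr.toLinearMap ∘ₗ LinearMap.snd (R ⧸ I) M N ∘ₗ bT.repr.symm.toLinearMap).restrictScalars R) ∘ₗ rc
      obtain ⟨q, hq⟩ := Module.projective_lifting_property ra t hra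
      have hqs : Function.Surjective q := surjective_of_jacobson I hI q (top_unique fun y _ => by
        obtain ⟨z, hz⟩ := hrc (bT.repr (0, bN.repr.symm (ra y)))
        have h0 : ra (y - q z) = 0 := by
          rw [map_sub, ← LinearMap.comp_apply ra q, hq, sub_eq_zero]
          simp [t, hz]
        rw [← sub_add_cancel y (q z)]
        exact add_mem (Submodule.mem_sup_right ((mapRange_eq_zero_iff I _).1 h0)) (Submodule.mem_sup_left ⟨z, rfl⟩))
      obtain ⟨sec, hsec⟩ := Module.projective_lifting_property q LinearMap.id hqs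
      let X := LinearMap.ker q
      let π : Fc →ₗ[R] X := (LinearMap.id - sec ∘ₗ q).codRestrict X fun z => by
        rw [LinearMap.mem_ker, LinearMap.sub_apply, map_sub]
        exact sub_eq_zero.2 (LinearMap.congr_fun hsec (q z)).symm
      have hπ : ∀ x : X, π x.1 = x := fun x => Subtype.ext (by
        change x.1 - sec (q x.1) = x.1
        rw [LinearMap.mem_ker.1 x.2, map_zero, sub_zero])
      have hXfin : Module.Finite R X := Module.Finite.of_surjective π fun x => ⟨x.1, hπ x⟩
      have hsfree : Module.IsStablyFree R X := by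
        refine (sfree_iff X).2 ⟨Fa, inferInstance, inferInstance, inferInstance, inferInstance, ?_⟩
        refine Module.Free.of_equiv (M := Fc) (LinearEquiv.ofBijective (π.prod q) ⟨fun u v huv => ?_, fun ⟨x, y⟩ => ⟨x.1 + sec y, ?_⟩⟩)
        · obtain ⟨h1, h2⟩ := Prod.ext_iff.1 huv
          have h1' : u - sec (q u) = v - sec (q v) := congrArg Subtype.val h1
          rw [show q u = q v from h2] at h1'
          exact sub_left_inj.1 h1'
        · have hy : q (sec y) = y := LinearMap.congr_fun hsec y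
          have hx : q x.1 = 0 := LinearMap.mem_ker.1 x.2
          refine Prod.ext (Subtype.ext ?_) ?_
          · change x.1 + sec y - sec (q (x.1 + sec y)) = x.1
            rw [map_add, hx, hy, zero_add, add_sub_cancel_right]
          · change q (x.1 + sec y) = y
            rw [map_add, hx, hy, zero_add]
      let g : X →ₗ[R] M :=
        ((LinearMap.fst (R ⧸ I) M N ∘ₗ bT.repr.symm.toLinearMap).restrictScalars R) ∘ₗ rc ∘ₗ X.subtype
      have hsnd : ∀ z, bN.repr (bT.repr.symm (rc z)).2 = ra (q z) := fun z => (LinearMap.congr_fun hq z).symm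
      refine ⟨ModuleCat.of R X, ⟨hXfin, hsfree⟩, nonempty_reduction I g (fun m => ?_) (fun x hx => ?_),
        fun h' => absurd h' hfree⟩
      · obtain ⟨z, hz⟩ := hrc (bT.repr (m, 0))
        refine ⟨π z, ?_⟩
        have h0 : q z ∈ (I • ⊤ : Submodule R Fa) := (mapRange_eq_zero_iff I (q z)).1 (by
          change ra (q z) = 0
          rw [← hsnd, hz, LinearEquiv.symm_apply_apply, map_zero])
        have h1 : rc (sec (q z)) = 0 := (mapRange_eq_zero_iff I _).2 (by
          have := Submodule.mem_map_of_mem (f := sec) h0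
          rw [Submodule.map_smul''] at this
          exact Submodule.smul_mono le_rfl le_top this)
        change (bT.repr.symm (rc (z - sec (q z)))).1 = m
        rw [map_sub, h1, sub_zero, hz, LinearEquiv.symm_apply_apply]
      · refine mem_smul_of_retraction (I := I) π X.subtype hπ ((mapRange_eq_zero_iff I x.1).1 ?_)
        change rc x.1 = 0
        refine bT.repr.symm.injective (Eq.trans ?_ (map_zero _).symm)
        refine Prod.ext hx (bN.repr.injective ?_)
        rw [hsnd, LinearMap.mem_ker.1 x.2, map_zero]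
        exact (map_zero _).symm

theorem exists_sfree_representative (hI : I ≤ Ideal.jacobson (⊥ : Ideal R))
    [DRing.HasLBaseChange (Ideal.Quotient.mk I)] (K : Dual.D R) (hK : DRing.IsPseudoCoherent' R K)
    (E : DRing.Cx (R ⧸ I)) (b : ℤ) (hEb : DRing.VanishesAbove E b)
    (hEs : ∀ i : ℤ, Module.Finite (R ⧸ I) (E.X i) ∧ Module.IsStablyFree (R ⧸ I) (E.X i))
    (eE : DRing.toD E ≅ (DRing.LBaseChange (Ideal.Quotient.mk I)).obj K) :
    ∃ (P : DRing.Cx R) (b' : ℤ), DRing.VanishesAbove P b' ∧
      (∀ i : ℤ, Module.Finite R (P.X i) ∧ Module.IsStablyFree R (P.X i)) ∧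
      Nonempty (DRing.toD P ≅ K) ∧ Nonempty ((LTensor.extCx (Ideal.Quotient.mk I)).obj P ≅ E) ∧
      ∀ i : ℤ, Module.Free (R ⧸ I) (E.X i) → Module.Free R (P.X i) := by
  obtain ⟨Q, c₀, hQb, hQf, ⟨eQ⟩⟩ := hK
  choose X hX e hfree using fun i => exists_sfree_lift I hI (E.X i) (hEs i).1 (hEs i).2
  obtain ⟨P, c, hPX, hb, hp, hK', hi⟩ := exists_lift_D I (sfreeClass I hI) (fun _ _ => sfree_prod) K Q c₀ hQb
    (fun i => ⟨(hQf i).1, have := (hQf i).2; inferInstance⟩) eQ E b hEb X hX (fun n => (e n).some) eE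
  exact ⟨P, c, hb, hp, hK', hi, fun i h => have := hfree i h; Module.Free.of_equiv (hPX i).some.symm.toLinearEquiv⟩

end Groth.Agent.DRing.Lift
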