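import Groth.Agent.DRing.LiftClasses
import Groth.Agent.S0534

/-!
# Finite projective representatives lift along henselian pairs
-/

universe u
open CategoryTheory CategoryTheory.Limits DerivedCategory
attribute [local instance] HasDerivedCategory.standard

namespace Groth.Agent.DRing.Lift

open scoped TensorProduct

variable {R : Type u} [CommRing R] (I : Ideal R)

/-- Finite projective modules. -/
def FProj (X : ModuleCat.{u} R) : Prop := Module.Finite R X ∧ Module.Projective R X

/-- The class of finite projective modules along an ideal in the radical. -/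
def fprojClass (hI : I ≤ Ideal.jacobson (⊥ : Ideal R)) : Class I where
  Pc := FProj
  isoClosed := ⟨fun e h => ⟨have := h.1; Module.Finite.equiv e.toLinearEquiv,
    have := h.2; Module.Projective.of_equiv e.toLinearEquiv⟩⟩
  proj := fun _ h => h.2
  cancel := fun X Y _ h =>
    have : Module.Finite R (X × Y) := h.1
    have : Module.Projective R (X × Y) := h.2
    ⟨Module.Finite.of_surjective (LinearMap.snd R X Y) LinearMap.snd_surjective,
      Module.Projective.of_split (LinearMap.inr R X Y) (LinearMap.snd R X Y) (LinearMap.snd_comp_inr R X Y)⟩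
  nak := fun _ Y f _ hY h => have := hY.1; surjective_of_jacobson I hI f.hom h

theorem exists_fproj_lift [HenselianRing R I] (M : ModuleCat.{u} (R ⧸ I))
    (hM : Module.Finite (R ⧸ I) M ∧ Module.Projective (R ⧸ I) M) :
    ∃ X : ModuleCat.{u} R, FProj X ∧ Nonempty ((R ⧸ I) ⊗[R] X ≃ₗ[R ⧸ I] M) ∧
      (Module.Free (R ⧸ I) M → Module.Free R X) := by
  have := hM.1
  have := hM.2
  by_cases hfree : Module.Free (R ⧸ I) M
  · obtain ⟨X, hX, e, hf⟩ := exists_sfree_lift I HenselianRing.jac M hM.1 inferInstance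
    have := hX.2
    exact ⟨X, ⟨hX.1, inferInstance⟩, e, hf⟩
  · obtain ⟨P, _, _, h1, h2, e⟩ := Groth.Agent.S0534.result R I (Q := M)
    exact ⟨ModuleCat.of R P, ⟨h1, h2⟩, e, fun h => absurd h hfree⟩

theorem exists_fproj_representative [HenselianRing R I] [DRing.HasLBaseChange (Ideal.Quotient.mk I)]
    (K : Dual.D R) (hK : DRing.IsPseudoCoherent' R K) (E : DRing.Cx (R ⧸ I)) (b : ℤ)
    (hEb : DRing.VanishesAbove E b) (hEp : DRing.TermwiseFiniteProjective E)
    (eE : DRing.toD E ≅ (DRing.LBaseChange (Ideal.Quotient.mk I)).obj K) :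
    ∃ (P : DRing.Cx R) (b' : ℤ), DRing.VanishesAbove P b' ∧ DRing.TermwiseFiniteProjective P ∧
      Nonempty (DRing.toD P ≅ K) ∧ Nonempty ((LTensor.extCx (Ideal.Quotient.mk I)).obj P ≅ E) ∧
      ∀ i : ℤ, Module.Free (R ⧸ I) (E.X i) → Module.Free R (P.X i) := by
  obtain ⟨Q, c₀, hQb, hQf, ⟨eQ⟩⟩ := hK
  choose X hX e hfree using fun i => exists_fproj_lift I (E.X i) (hEp i)
  obtain ⟨P, c, hPX, hb, hp, hK', hi⟩ := exists_lift_D I (fprojClass I HenselianRing.jac)
    (fun X Y hx hy => by
      have := hx.1; have := hx.2; have := hy.1; have := hy.2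
      exact ⟨inferInstanceAs (Module.Finite R (X × Y)), inferInstanceAs (Module.Projective R (X × Y))⟩)
    K Q c₀ hQb (fun i => ⟨(hQf i).1, have := (hQf i).2; inferInstance⟩) eQ E b hEb X hX (fun n => (e n).some) eE
  exact ⟨P, c, hb, hp, hK', hi, fun i h => have := hfree i h; Module.Free.of_equiv (hPX i).some.symm.toLinearEquiv⟩

end Groth.Agent.DRing.Lift
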