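import Groth.Agent.DRing.PCTrunc
import Groth.Agent.DRing.TensorAmp
import Groth.Agent.DTrunc.CohIn
import Groth.Prelude.Def_DDual2

/-!
# Pseudo-coherence and perfection under restriction of scalars
-/

universe u

open CategoryTheory CategoryTheory.Limits CategoryTheory.Pretriangulated DerivedCategory

attribute [local instance] HasDerivedCategory.standard

namespace Groth.Agent.DRing.PCRestrict

open DBasic PC TensorAmp

variable {A B : Type u} [CommRing A] [CommRing B]

section

variable (φ : A →+* B)

lemma subsingleton_HD_restrict_iff (K : Dual.D B) (i : ℤ) :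
    Subsingleton (Dual.HD A ((DRing.restrictD φ).obj K) i) ↔ Subsingleton (Dual.HD B K i) :=
  (DTrunc.homologyMapDerivedIso (ModuleCat.restrictScalars.{u} φ) K i).toLinearEquiv.toEquiv.subsingleton_congr

lemma isApprox_restrict {K L : Dual.D B} {m : ℤ} {f : K ⟶ L} (h : IsApprox m f) :
    IsApprox m ((DRing.restrictD φ).map f) := by
  obtain ⟨C, p, q, hC⟩ := distinguished_cocone_triangle f
  refine (isApprox_iff_vanishGE _ ((DRing.restrictD φ).map_distinguished _ hC) m).2 fun i hi => ?_
  exact (subsingleton_HD_restrict_iff φ C i).2 ((isApprox_iff_vanishGE _ hC m).1 h i hi)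

end

variable [Algebra A B]

lemma pcModule_pi {m : ℤ} (hB : DRing.IsPseudoCoherentModule A m B) :
    ∀ k : ℕ, DRing.IsPseudoCoherentModule A m (Fin k → B) := by
  intro k
  induction k with
  | zero =>
    refine pc_of_vanishGE fun i _ => ?_
    by_cases hi : i = 0
    · subst hi; exact (inDEquiv A (Fin 0 → B)).toEquiv.subsingleton
    · exact subsingleton_HD_inD A _ i hi
  | succ k ih =>
    let f : (Fin (k + 1) → B) →ₗ[A] B := LinearMap.proj 0
    obtain ⟨T, hT, h1, h2, h3⟩ := exists_triangle_of_surjective f fun b => ⟨fun _ => b, rfl⟩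
    have e : LinearMap.ker f ≃ₗ[A] (Fin k → B) :=
      { toFun := fun x => Fin.tail x.1
        invFun := fun y => ⟨(Fin.cons 0 y : Fin (k + 1) → B), LinearMap.mem_ker.2 (Fin.cons_zero (α := fun _ => B) 0 y)⟩
        left_inv := fun x => Subtype.ext (funext fun j => by
          refine Fin.cases ?_ (fun i => ?_) j
          · exact x.2.symm
          · simp [Fin.tail])
        right_inv := fun y => by simp
        map_add' := fun _ _ => rfl
        map_smul' := fun _ _ => rfl }
    have := pc_middle hT (by rw [h1]; exact pcModule_congr e.symm ih) (by rw [h3]; exact hB)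
    rwa [h2] at this

lemma pcModule_restrict_finiteFree (hB : ∀ m, DRing.IsPseudoCoherentModule A m B) (M : ModuleCat.{u} B)
    (h : Module.Finite B M ∧ Module.Free B M) (m : ℤ) :
    DRing.IsPseudoCoherentModule A m ((ModuleCat.restrictScalars (algebraMap A B)).obj M) := by
  have := h.1; have := h.2
  let b := Module.Free.chooseBasis B M
  let n := Fintype.card (Module.Free.ChooseBasisIndex B M)
  let e : M ≃ₗ[B] (Fin n → B) := (b.reindex (Fintype.equivFin _)).equivFun
  exact pcModule_congr (show (Fin n → B) ≃ₗ[A] ((ModuleCat.restrictScalars (algebraMap A B)).obj M : ModuleCat.{u} A) from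
    { toFun := fun y => e.symm y
      invFun := fun x => e x
      left_inv := e.apply_symm_apply
      right_inv := e.symm_apply_apply
      map_add' := map_add e.symm
      map_smul' := fun a y => (congrArg e.symm (algebraMap_smul B a y).symm).trans (map_smul e.symm _ y) })
    (pcModule_pi (hB m) n)

lemma pc_restrict_of_finiteFree (hB : ∀ m, DRing.IsPseudoCoherentModule A m B) (E : DRing.Cx B) {b : ℤ}
    (hb : DRing.VanishesAbove E b) (hf : DRing.TermwiseFiniteFree E) (m : ℤ) :
    DRing.IsPseudoCoherent A m ((DRing.restrictD (algebraMap A B)).obj (DRing.toD E)) :=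
  pc_of_iso (restrictDIso (algebraMap A B) (Iso.refl _))
    (pc_of_terms _ (fun i hi => (ModuleCat.restrictScalars (algebraMap A B)).map_isZero (hb i hi))
      fun i _ => pcModule_restrict_finiteFree hB (E.X i) (hf i) (m - i))

theorem pc_restrict (hB : ∀ m, DRing.IsPseudoCoherentModule A m B) {K : Dual.D B} {m : ℤ}
    (h : DRing.IsPseudoCoherent B m K) :
    DRing.IsPseudoCoherent A m ((DRing.restrictD (algebraMap A B)).obj K) := by
  obtain ⟨E, b, α, hE, hf, hα⟩ := exists_approx h
  obtain ⟨E', b', β, hE', hf', hβ⟩ :=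
    exists_approx (pc_restrict_of_finiteFree hB E (fun i hi => hE i (Or.inr hi)) hf m)
  exact isPseudoCoherent_of_approx (β ≫ (DRing.restrictD (algebraMap A B)).map α) hE' hf'
    (hβ.comp (isApprox_restrict _ hα))

theorem pc_of_restrict (hB : ∀ m, DRing.IsPseudoCoherentModule A m B) {K : Dual.D B} {m : ℤ}
    (h : DRing.IsPseudoCoherent A m ((DRing.restrictD (algebraMap A B)).obj K)) :
    DRing.IsPseudoCoherent B m K := by
  let φ := algebraMap A B
  suffices H : ∀ (k : ℕ) (K : Dual.D B), DRing.IsPseudoCoherent A m ((DRing.restrictD φ).obj K) →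
      (∀ i : ℤ, m + (k : ℤ) ≤ i → Subsingleton (Dual.HD B K i)) → DRing.IsPseudoCoherent B m K by
    obtain ⟨b, hb⟩ := pc_boundedAbove h
    exact H (b + 1 - m).toNat K h fun i hi => (subsingleton_HD_restrict_iff φ K i).1 (hb i (by omega))
  intro k
  induction k with
  | zero => exact fun K _ hv => pc_of_vanishGE fun i hi => hv i (by omega)
  | succ k ih =>
    intro K hK hv
    let n : ℤ := m + k
    have hv' : ∀ i, n < i → Subsingleton (Dual.HD B K i) := fun i hi => hv i (by omega)
    have hfA := finite_top (pc_mono hK (show m ≤ n by omega))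
      fun i hi => (subsingleton_HD_restrict_iff φ K i).2 (hv' i hi)
    have hfB : Module.Finite B (Dual.HD B K n) := by
      let : Module A (Dual.HD B K n) := Module.compHom _ φ
      have : IsScalarTower A B (Dual.HD B K n) := IsScalarTower.of_algebraMap_smul fun _ _ => rfl
      have := hfA
      have h' : Module.Finite A ((ModuleCat.restrictScalars φ).obj ((HF n).obj K) : ModuleCat.{u} A) :=
        Module.Finite.equiv
          (DTrunc.homologyMapDerivedIso (ModuleCat.restrictScalars.{u} φ) K n).toLinearEquiv
      have : Module.Finite A (Dual.HD B K n) := h'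
      exact Module.Finite.of_restrictScalars_finite A B _
    obtain ⟨F, α, hF, hα⟩ := exists_sgl_epi K n hfB
    obtain ⟨C, p, q, hC⟩ := distinguished_cocone_triangle α
    have hα' : IsApprox n α := by
      refine ⟨fun i hi => isIso_of_source_target_iso_zero _ (IsZero.isoZero ?_) (IsZero.isoZero ?_), hα⟩
      · refine IsZero.of_iso ?_ (hIso (sgl n F) i)
        exact ((HomologicalComplex.exactAt_single_obj _ _ _ _ (by omega))).isZero_homology
      · exact (subsingleton_HD_iff_isZero K i).1 (hv' i hi)
    have hvC := (isApprox_iff_vanishGE _ hC n).1 hα'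
    have hC' := ih C (pc_cone ((DRing.restrictD φ).map_distinguished _ hC)
      (pc_restrict_of_finiteFree hB _ (fun i hi => vanishesOutside_sgl n F i (Or.inr hi))
        (finiteFree_sgl n hF) (m + 1)) hK) fun i hi => hvC i hi
    exact pc_middle hC (pc_of_bounded (vanishesOutside_sgl n F) (finiteFree_sgl n hF) m) hC'

theorem perfect_restrict (hB : DRing.IsPerfectModule A B) {K : Dual.D B} (hK : DRing.IsPerfect B K) :
    DRing.IsPerfect A ((DRing.restrictD (algebraMap A B)).obj K) := by
  obtain ⟨hB1, c, d, hB2⟩ := (Perfect.perfect_iff _).1 hB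
  obtain ⟨hK1, a, b, hK2⟩ := (Perfect.perfect_iff _).1 hK
  exact (Perfect.perfect_iff _).2 ⟨(pc'_iff _).2 fun m => pc_restrict ((pc'_iff _).1 hB1) ((pc'_iff _).1 hK1 m),
    a + c, b + d, torAmp_restrict_algebra hK2 hB2⟩

end Groth.Agent.DRing.PCRestrict
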