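import Groth.Agent.DRing.Compact
import Groth.Agent.DRing.Perfect
import Groth.Agent.DRing.Devissage
import Groth.Agent.DRing.ProjAmp
import Mathlib.CategoryTheory.Triangulated.Triangulated
import Mathlib.Data.Int.Interval

/-!
# Perfect objects are the compact objects of `D(R)`
-/

universe u

open CategoryTheory CategoryTheory.Limits CategoryTheory.Pretriangulated

attribute [local instance] HasDerivedCategory.standard

namespace Groth.Agent.DRing.PerfectCompact

open DBasic PC Compact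

variable {R : Type u} [CommRing R]

/-- Finite decompositions of maps into sums of complexes. -/
def Good (K : Dual.D R) : Prop :=
  ∀ (I : Type u) (L : I → DRing.Cx R) (φ : K ⟶ DRing.toD (∐ L)),
    ∃ (s : Finset I) (y : ∀ i, K ⟶ DRing.toD (L i)), φ = ∑ i ∈ s, y i ≫ DerivedCategory.Q.map (Sigma.ι L i)

/-- The projection of a sum to the summands in a finite set. -/
noncomputable def proj {I : Type u} (L : I → DRing.Cx R) (s : Finset I) : (∐ L) ⟶ ∐ L :=
  open Classical in ∑ i ∈ s, Sigma.desc (Pi.single (M := fun k => L k ⟶ L i) i (𝟙 (L i))) ≫ Sigma.ι L i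

lemma ι_proj {I : Type u} (L : I → DRing.Cx R) {s : Finset I} {i : I} (hi : i ∈ s) :
    Sigma.ι L i ≫ proj L s = Sigma.ι L i := by
  classical
  rw [proj, Preadditive.comp_sum, Finset.sum_eq_single_of_mem i hi]
  · rw [← Category.assoc, Sigma.ι_desc, Pi.single_eq_same, Category.id_comp]
  · intro j _ hji
    rw [← Category.assoc, Sigma.ι_desc, Pi.single_eq_of_ne (Ne.symm hji), zero_comp]

lemma proj_mono {I : Type u} (L : I → DRing.Cx R) {s t : Finset I} (h : s ⊆ t) :
    proj L s ≫ proj L t = proj L s := by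
  classical
  have hgen : ∀ q : (∐ L) ⟶ ∐ L, proj L s ≫ q = ∑ i ∈ s,
      (Sigma.desc (Pi.single (M := fun k => L k ⟶ L i) i (𝟙 (L i))) ≫ Sigma.ι L i) ≫ q := fun q =>
    Preadditive.sum_comp _ _ _
  rw [hgen]
  conv_rhs => rw [proj]
  exact Finset.sum_congr rfl fun i hi => by rw [Category.assoc, ι_proj L (h hi)]

lemma exists_proj_apply {I : Type u} (L : I → DRing.Cx R) (n : ℤ) (x : (∐ L).X n) :
    ∃ s, ((proj L s).f n).hom x = x := by
  classical
  let S : Submodule R ((∐ L).X n) :=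
    { carrier := {x | ∃ s, ((proj L s).f n).hom x = x}
      zero_mem' := ⟨∅, map_zero _⟩
      add_mem' := fun {x y} ⟨s, hs⟩ ⟨t, ht⟩ => ⟨s ∪ t, by
        have h1 := congrArg (fun g : (∐ L) ⟶ ∐ L => (g.f n).hom x) (proj_mono L (Finset.subset_union_left (s₁ := s) (s₂ := t)))
        have h2 := congrArg (fun g : (∐ L) ⟶ ∐ L => (g.f n).hom y) (proj_mono L (Finset.subset_union_right (s₁ := s) (s₂ := t)))
        simp only [HomologicalComplex.comp_f, ModuleCat.hom_comp, LinearMap.comp_apply, hs, ht] at h1 h2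
        rw [map_add, h1, h2]⟩
      smul_mem' := fun c x ⟨s, hs⟩ => ⟨s, by rw [map_smul, hs]⟩ }
  have hc := isColimitCofanMkObjOfIsColimit (HomologicalComplex.eval (ModuleCat.{u} R) (ComplexShape.up ℤ) n)
    L _ (coproductIsCoproduct L)
  have hq : ModuleCat.ofHom S.mkQ = (0 : (∐ L).X n ⟶ ModuleCat.of R ((∐ L).X n ⧸ S)) := by
    refine Cofan.IsColimit.hom_ext hc _ _ fun i => ModuleCat.hom_ext (LinearMap.ext fun z => ?_)
    exact (Submodule.Quotient.mk_eq_zero S).2
      ⟨{i}, congrArg (fun g : L i ⟶ ∐ L => (g.f n).hom z) (ι_proj L (Finset.mem_singleton_self i))⟩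
  exact (Submodule.Quotient.mk_eq_zero S).1 (congrArg (fun g => g.hom x) hq)

/-- Perfect objects are good. -/
theorem good_of_perfect {K : Dual.D R} (h : DRing.IsPerfect R K) : Good K := by
  classical
  obtain ⟨P, a, b, hb, hP, ⟨e⟩⟩ := h
  have := isKProjective_of_projective P b (fun i hi => hb i (Or.inr hi)) fun i => (hP i).2
  intro I L φ
  obtain ⟨f, hf⟩ := exists_Q_map_eq (e.hom ≫ φ)
  choose S hS using fun (n : ℤ) (x : P.X n) => exists_proj_apply L n ((f.f n).hom x)
  choose G hG using fun n => (hP n).1.fg_top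
  let s : Finset I := (Finset.Icc a b).biUnion fun n => (G n).biUnion fun x => S n x
  have hfs : f ≫ proj L s = f := HomologicalComplex.hom_ext _ _ fun n => by
    by_cases hn : n < a ∨ b < n
    · exact (hb n hn).eq_of_src _ _
    · refine ModuleCat.hom_ext (LinearMap.ext_on (hG n) fun x hx => ?_)
      have hsub : S n x ⊆ s := fun i hi => Finset.mem_biUnion.2 ⟨n, Finset.mem_Icc.2 (by omega),
        Finset.mem_biUnion.2 ⟨x, hx, hi⟩⟩
      have h1 := congrArg (fun g : (∐ L) ⟶ ∐ L => (g.f n).hom ((f.f n).hom x)) (proj_mono L hsub)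
      simp only [HomologicalComplex.comp_f, ModuleCat.hom_comp, LinearMap.comp_apply, hS] at h1 ⊢
      exact h1
  refine ⟨s, fun i => e.inv ≫ DerivedCategory.Q.map
    (f ≫ Sigma.desc (Pi.single (M := fun k => L k ⟶ L i) i (𝟙 (L i)))), ?_⟩
  rw [← cancel_epi e.hom, ← hf, Preadditive.comp_sum]
  conv_lhs => rw [← hfs, proj, Preadditive.comp_sum, Functor.map_sum]
  refine Finset.sum_congr rfl fun i _ => ?_
  rw [Category.assoc, Iso.hom_inv_id_assoc, ← Functor.map_comp, Category.assoc]

/-- Good objects are compact. -/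
theorem bijective_of_good {K : Dual.D R} (h : Good K) {I : Type u} {J : Type (u + 1)} (σ : J ≃ I) (E : I → Dual.D R)
    [HasCoproduct fun j => E (σ j)] :
    Function.Bijective (CohDer.homSumToHomCoprod K (fun j => E (σ j))) := by
  classical
  refine bijective_of_exists_sum fun φ => ?_
  let L : I → DRing.Cx R := fun i => DerivedCategory.Q.objPreimage (E i)
  let e : ∀ i, DerivedCategory.Q.obj (L i) ≅ E i := fun i => DerivedCategory.Q.objObjPreimageIso (E i)
  obtain ⟨hc⟩ := nonempty_isColimit_Q L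
  let t : ∀ i, E i ⟶ ∐ fun j => E (σ j) := fun i =>
    eqToHom (congrArg E (σ.apply_symm_apply i).symm) ≫ Sigma.ι (fun j => E (σ j)) (σ.symm i)
  have ht : ∀ j, t (σ j) = Sigma.ι (fun j => E (σ j)) j := fun j => by
    have key : ∀ j' (w : j = j'), eqToHom (congrArg (fun x => E (σ x)) w) ≫ Sigma.ι (fun j => E (σ j)) j' =
        Sigma.ι (fun j => E (σ j)) j := by
      rintro _ rfl; rw [eqToHom_refl, Category.id_comp]
    exact key _ (σ.symm_apply_apply j).symm
  let g : DRing.toD (∐ L) ⟶ ∐ fun j => E (σ j) := Cofan.IsColimit.desc hc fun i => (e i).hom ≫ t i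
  let g' : (∐ fun j => E (σ j)) ⟶ DRing.toD (∐ L) :=
    Sigma.desc fun j => (e (σ j)).inv ≫ DerivedCategory.Q.map (Sigma.ι L (σ j))
  have hg : ∀ i, DerivedCategory.Q.map (Sigma.ι L i) ≫ g = (e i).hom ≫ t i :=
    fun i => Cofan.IsColimit.fac hc _ i
  have hgg : g' ≫ g = 𝟙 _ := Sigma.hom_ext _ _ fun j => by
    rw [Sigma.ι_desc_assoc, Category.assoc, hg, Iso.inv_hom_id_assoc, ht]
    exact (Category.comp_id _).symm
  obtain ⟨s, y, hy⟩ := h I L (φ ≫ g')
  refine ⟨s.map σ.symm.toEmbedding, fun j => y (σ j) ≫ (e (σ j)).hom, ?_⟩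
  rw [Finset.sum_map, ← Category.comp_id φ, ← hgg, ← Category.assoc, hy, Preadditive.sum_comp]
  refine Finset.sum_congr rfl fun i _ => ?_
  rw [Category.assoc, hg, ← ht]
  have key : ∀ i' (_ : i' = i), y i ≫ (e i).hom ≫ t i = (y i' ≫ (e i').hom) ≫ t i' := by
    rintro _ rfl; exact (Category.assoc _ _ _).symm
  exact key _ (σ.apply_symm_apply i)

/-- Compact objects are good. -/
theorem good_of_compact {K : Dual.D R}
    (hK : ∀ (I : Type u) (E : I → Dual.D R) [HasCoproduct fun i : ULift.{u + 1} I => E i.down],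
      Function.Bijective (CohDer.homSumToHomCoprod K (fun i : ULift.{u + 1} I => E i.down))) : Good K := by
  intro I L φ
  obtain ⟨hc⟩ := nonempty_isColimit_Q L
  exact exists_sum Equiv.ulift.{u + 1} hc (@fun inst => (@hK I (fun i => DRing.toD (L i)) inst).2) φ

lemma good_proj {K : Dual.D R} (h : Good K) {I : Type u} (L : I → DRing.Cx R) (φ : K ⟶ DRing.toD (∐ L)) :
    ∃ s, φ ≫ DerivedCategory.Q.map (proj L s) = φ := by
  classical
  obtain ⟨s, y, rfl⟩ := h I L φ
  refine ⟨s, ?_⟩
  rw [Preadditive.sum_comp]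
  refine Finset.sum_congr rfl fun i hi => ?_
  rw [Category.assoc, ← Functor.map_comp, ι_proj L hi]

lemma good_of_proj {K : Dual.D R}
    (h : ∀ (I : Type u) (L : I → DRing.Cx R) (φ : K ⟶ DRing.toD (∐ L)),
      ∃ s, φ ≫ DerivedCategory.Q.map (proj L s) = φ) : Good K := by
  classical
  intro I L φ
  obtain ⟨s, hs⟩ := h I L φ
  refine ⟨s, fun i => φ ≫ DerivedCategory.Q.map (Sigma.desc (Pi.single (M := fun k => L k ⟶ L i) i (𝟙 (L i)))), ?_⟩
  conv_lhs => rw [← hs, proj, Functor.map_sum, Preadditive.comp_sum]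
  exact Finset.sum_congr rfl fun i _ => by rw [Category.assoc, ← Functor.map_comp]

lemma good_mid {T : Triangle (Dual.D R)} (hT : T ∈ distinguishedTriangles) (h1 : Good T.obj₁) (h3 : Good T.obj₃) :
    Good T.obj₂ := by
  classical
  refine good_of_proj fun I L φ => ?_
  obtain ⟨s, hs⟩ := good_proj h1 L (T.mor₁ ≫ φ)
  have h0 : T.mor₁ ≫ (φ - φ ≫ DerivedCategory.Q.map (proj L s)) = 0 := by
    rw [Preadditive.comp_sub, ← Category.assoc, hs, sub_self]
  obtain ⟨ψ, hψ⟩ := Triangle.yoneda_exact₂ _ hT _ h0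
  obtain ⟨t, ht⟩ := good_proj h3 L ψ
  refine ⟨s ∪ t, ?_⟩
  have hdec : φ = φ ≫ DerivedCategory.Q.map (proj L s) + T.mor₂ ≫ ψ ≫ DerivedCategory.Q.map (proj L t) := by
    rw [ht, ← hψ]; abel
  conv_lhs => rw [hdec]
  rw [Preadditive.add_comp]
  simp only [Category.assoc]
  rw [← Functor.map_comp, proj_mono L Finset.subset_union_left, ← Functor.map_comp,
    proj_mono L Finset.subset_union_right, ← hdec]

/-- The fibre of a map from a good object to a perfect one is good. -/
lemma good_fibre {T : Triangle (Dual.D R)} (hT : T ∈ distinguishedTriangles) (h2 : Good T.obj₂)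
    (h3 : DRing.IsPerfect R T.obj₃) : Good T.obj₁ :=
  good_mid (inv_rot_of_distTriang _ hT) (good_of_perfect (Perfect.perfect_shift h3 (-1))) h2

lemma perfect_of_retract {K W : Dual.D R} (g : K ⟶ W) (h : W ⟶ K) (hgh : g ≫ h = 𝟙 K)
    (hW : DRing.IsPerfect R W) : DRing.IsPerfect R K := by
  rw [Perfect.perfect_iff] at hW ⊢
  obtain ⟨h1, a, b, h2⟩ := hW
  refine ⟨?_, a, b, TorAmp.torAmp_of_retract g h hgh h2⟩
  obtain ⟨K', q, r, hT⟩ := distinguished_cocone_triangle g
  have hr : r = 0 := by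
    have h0 : r ≫ g⟦(1 : ℤ)⟧' = 0 := comp_distTriang_mor_zero₃₁ _ hT
    have := congrArg (· ≫ h⟦(1 : ℤ)⟧') h0
    simp only [Category.assoc, ← Functor.map_comp, hgh, zero_comp, CategoryTheory.Functor.map_id,
      Category.comp_id] at this
    exact this
  obtain ⟨e, -, -⟩ := exists_iso_binaryBiproduct_of_distTriang _ hT hr
  exact (PC.pc'_of_biprod (PC.pc'_of_iso e h1)).1

/-- A map factoring through a perfect object. -/
def Fac {A B : Dual.D R} (φ : A ⟶ B) : Prop :=
  ∃ (W : Dual.D R) (g : A ⟶ W) (h : W ⟶ B), DRing.IsPerfect R W ∧ g ≫ h = φ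

/-- All maps from good objects factor through perfect ones. -/
def FacGood (X : Dual.D R) : Prop := ∀ (C : Dual.D R), Good C → ∀ φ : C ⟶ X, Fac φ

lemma facGood_mid {T : Triangle (Dual.D R)} (hT : T ∈ distinguishedTriangles)
    (h1 : FacGood T.obj₁) (h3 : FacGood T.obj₃) : FacGood T.obj₂ := by
  intro C hC φ
  obtain ⟨Q, c, q, hQ, hcq⟩ := h3 C hC (φ ≫ T.mor₂)
  obtain ⟨C', u, δ, hC'⟩ := distinguished_cocone_triangle₁ c
  have hcomp : Good C' := good_fibre hC' hC hQ
  have huc : u ≫ c = 0 := comp_distTriang_mor_zero₁₂ _ hC'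
  obtain ⟨ψ, hψ⟩ : ∃ ψ : C' ⟶ T.obj₁, u ≫ φ = ψ ≫ T.mor₁ :=
    Triangle.coyoneda_exact₂ _ hT (u ≫ φ) (by rw [Category.assoc, ← hcq, reassoc_of% huc, zero_comp])
  obtain ⟨E'', g, h, hE'', hgh⟩ := h1 C' hcomp ψ
  let v : C' ⟶ E'' ⊞ C := biprod.lift (-g) u
  have hv : v ≫ biprod.snd = u := biprod.lift_snd _ _
  obtain ⟨D', j, w, hD'⟩ := distinguished_cocone_triangle v
  have hsnd := rot_of_distTriang _ (binaryBiproductTriangle_distinguished E'' C)
  let o := Triangulated.someOctahedron hv hD' hsnd hC'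
  have hD'mem : DRing.IsPerfect R D' :=
    (Perfect.perfect_two_of_three o.mem).2.2 hQ (Perfect.perfect_shift hE'' 1)
  obtain ⟨h', hh'⟩ : ∃ h' : D' ⟶ T.obj₂, biprod.desc (h ≫ T.mor₁) φ = j ≫ h' :=
    Triangle.yoneda_exact₂ _ hD' (biprod.desc (h ≫ T.mor₁) φ) (by
      show v ≫ biprod.desc (h ≫ T.mor₁) φ = 0
      rw [biprod.lift_desc, hψ, ← hgh]
      simp)
  exact ⟨D', biprod.inr ≫ j, h', hD'mem, by rw [Category.assoc, ← hh', biprod.inr_desc]⟩

lemma facGood_sgl (n : ℤ) (F : ModuleCat.{u} R) [Module.Free R F] : FacGood (DRing.toD (sgl n F)) := by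
  classical
  intro C hC φ
  let ι := Module.Free.ChooseBasisIndex R F
  let bF := Module.Free.chooseBasis R F
  let S := HomologicalComplex.single (ModuleCat.{u} R) (ComplexShape.up ℤ) n
  let L : ι → DRing.Cx R := fun _ => sgl n (ModuleCat.of R R)
  let m : ι → (ModuleCat.of R R ⟶ F) := fun j => ModuleCat.ofHom (LinearMap.toSpanSingleton R F (bF j))
  let κ : (∐ L) ⟶ sgl n F := Sigma.desc fun j => S.map (m j)
  let x : ι → (∐ L).X n := fun j => ((Sigma.ι L j).f n).hom
    ((HomologicalComplex.singleObjXSelf (ComplexShape.up ℤ) n (ModuleCat.of R R)).inv.hom (1 : R))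
  have hx : ∀ j, ((∐ L).d n (n + 1)).hom (x j) = 0 := fun j => by
    change ((Sigma.ι L j).f n ≫ (∐ L).d n (n + 1)).hom _ = 0
    rw [(Sigma.ι L j).comm, show (L j).d n (n + 1) = 0 from HomologicalComplex.single_obj_d _ _ _ _ _, zero_comp]
    rfl
  let γ : sgl n F ⟶ ∐ L := HomologicalComplex.mkHomFromSingle (ModuleCat.ofHom (bF.constr R x)) fun k hk => by
    obtain rfl : k = n + 1 := hk.symm
    refine ModuleCat.hom_ext (bF.ext fun j => ?_)
    change ((∐ L).d n (n + 1)).hom (bF.constr R x (bF j)) = 0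
    rw [bF.constr_basis, hx]
  have hγ : κ ≫ γ = 𝟙 _ := Sigma.hom_ext _ _ fun j => by
    refine HomologicalComplex.from_single_hom_ext ?_
    rw [← cancel_epi (HomologicalComplex.singleObjXSelf (ComplexShape.up ℤ) n (ModuleCat.of R R)).inv]
    refine ModuleCat.hom_ext (LinearMap.ext_ring ?_)
    rw [Category.comp_id, ← Category.assoc, Sigma.ι_desc, HomologicalComplex.comp_f,
      HomologicalComplex.single_map_f_self, HomologicalComplex.mkHomFromSingle_f]
    simp only [Category.assoc, Iso.inv_hom_id_assoc]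
    change bF.constr R x ((LinearMap.toSpanSingleton R F (bF j)) 1) = x j
    rw [LinearMap.toSpanSingleton_apply, one_smul, bF.constr_basis]
  have hκ : γ ≫ κ = 𝟙 _ := by
    refine HomologicalComplex.from_single_hom_ext ?_
    rw [← cancel_epi (HomologicalComplex.singleObjXSelf (ComplexShape.up ℤ) n F).inv]
    refine ModuleCat.hom_ext (bF.ext fun j => ?_)
    rw [HomologicalComplex.comp_f, HomologicalComplex.mkHomFromSingle_f]
    simp only [Category.assoc, Iso.inv_hom_id_assoc]
    change ((κ.f n).hom (bF.constr R x (bF j))) = _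
    rw [bF.constr_basis]
    change ((Sigma.ι L j ≫ κ).f n).hom _ = _
    rw [Sigma.ι_desc, HomologicalComplex.single_map_f_self]
    change (((HomologicalComplex.singleObjXSelf (ComplexShape.up ℤ) n (ModuleCat.of R R)).inv ≫
      (HomologicalComplex.singleObjXSelf (ComplexShape.up ℤ) n (ModuleCat.of R R)).hom ≫ m j ≫
      (HomologicalComplex.singleObjXSelf (ComplexShape.up ℤ) n F).inv).hom (1 : R)) = _
    rw [Iso.inv_hom_id_assoc]
    change (HomologicalComplex.singleObjXSelf (ComplexShape.up ℤ) n F).inv.hom (LinearMap.toSpanSingleton R F (bF j) 1) = _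
    rw [LinearMap.toSpanSingleton_apply, one_smul]
    rfl
  obtain ⟨s, y, hy⟩ := hC ι L (φ ≫ DerivedCategory.Q.map γ)
  let W : ModuleCat.{u} R := ModuleCat.of R (s →₀ R)
  let p : W ⟶ F := ModuleCat.ofHom (Finsupp.linearCombination R fun j : s => bF j.1)
  refine ⟨DRing.toD (sgl n W), ∑ j : s, y j.1 ≫ DerivedCategory.Q.map (S.map (ModuleCat.ofHom (Finsupp.lsingle j))),
    DerivedCategory.Q.map (S.map p), ?_, ?_⟩
  · refine ⟨sgl n W, n, n, vanishesOutside_sgl n W, fun i => ?_, ⟨Iso.refl _⟩⟩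
    obtain ⟨h1, h2⟩ := finiteFree_sgl n (M := W) ⟨inferInstanceAs (Module.Finite R (s →₀ R)),
      inferInstanceAs (Module.Free R (s →₀ R))⟩ i
    exact ⟨h1, inferInstance⟩
  · have hp : ∀ j : s, ModuleCat.ofHom (Finsupp.lsingle j) ≫ p = m j.1 := fun j =>
      ModuleCat.hom_ext (LinearMap.ext_ring (by
        change Finsupp.linearCombination R (fun j : s => bF j.1) (Finsupp.single j (1 : R)) = _
        rw [Finsupp.linearCombination_single]
        rfl))
    calc (∑ j : s, y j.1 ≫ DerivedCategory.Q.map (S.map (ModuleCat.ofHom (Finsupp.lsingle j)))) ≫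
          DerivedCategory.Q.map (S.map p)
        = ∑ j : s, y j.1 ≫ DerivedCategory.Q.map (Sigma.ι L j.1 ≫ κ) := by
          rw [Preadditive.sum_comp]
          refine Finset.sum_congr rfl fun j _ => ?_
          rw [Category.assoc, ← Functor.map_comp, ← Functor.map_comp, hp, Sigma.ι_desc]
      _ = (∑ j ∈ s, y j ≫ DerivedCategory.Q.map (Sigma.ι L j)) ≫ DerivedCategory.Q.map κ := by
          rw [Preadditive.sum_comp, ← Finset.sum_coe_sort s]
          simp only [Category.assoc, ← Functor.map_comp]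
      _ = φ := by
          rw [← hy, Category.assoc, ← Functor.map_comp, hκ]
          exact (congrArg (φ ≫ ·) (DerivedCategory.Q.map_id _)).trans (Category.comp_id _)

/-- A union of an increasing sequence of subcomplexes. -/
lemma exists_factor_sub {K : Dual.D R} (hK : Good K) (P : DRing.Cx R) (F : ℕ ⥤ DRing.Cx R) (c : Cocone F)
    (hc : IsColimit c) (e : DRing.toD c.pt ≅ K) :
    ∃ (k : ℕ) (g : K ⟶ DRing.toD (F.obj k)) (h : DRing.toD (F.obj k) ⟶ K), g ≫ h = 𝟙 K := by
  obtain ⟨k, g, hg⟩ := (Compact.hom_colimit F hc K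
    (fun E inst => (@bijective_of_good R _ K hK (ULift.{u} ℕ) (ULift.{u + 1} ℕ)
      (Equiv.ulift.trans Equiv.ulift.symm) (fun i => E i.down) inst).2)).1 e.inv
  exact ⟨k, g, DerivedCategory.Q.map (c.ι.app k) ≫ e.hom, by rw [← Category.assoc, hg, e.inv_hom_id]⟩

/-- The pieces of the good truncations `τ≤k`. -/
noncomputable def leSub (P : DRing.Cx R) (k i : ℤ) : Submodule R (P.X i) :=
  if i < k then ⊤ else if i = k then LinearMap.ker (P.d i (i + 1)).hom else ⊥

lemma leSub_mapsTo (P : DRing.Cx R) (k i j : ℤ) (x : P.X i) (hx : x ∈ leSub P k i) :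
    (P.d i j).hom x ∈ leSub P k j := by
  by_cases h : i + 1 = j
  · subst h
    unfold leSub at hx ⊢
    split_ifs with h1 h2
    · trivial
    · exact Homology.d_d (K := P) i (i + 1) (i + 1 + 1) x
    · by_cases hi : i = k
      · rw [if_neg (by omega), if_pos hi] at hx
        exact (Submodule.mem_bot R).2 (LinearMap.mem_ker.1 hx)
      · rw [if_neg (by omega), if_neg hi] at hx
        rw [(Submodule.mem_bot R).1 hx, map_zero]
        exact zero_mem _
  · rw [P.shape i j (by simpa using h)]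
    exact zero_mem _

lemma leSub_mono (P : DRing.Cx R) {k k' : ℤ} (h : k ≤ k') (i : ℤ) : leSub P k i ≤ leSub P k' i := by
  unfold leSub
  split_ifs with h1 h2 h3 h4 h5 h6 <;> first | exact le_rfl | exact bot_le | exact le_top | omega

/-- The good truncation `τ≤k`. -/
noncomputable def leCx (P : DRing.Cx R) (k : ℤ) : DRing.Cx R where
  X i := ModuleCat.of R (leSub P k i)
  d i j := ModuleCat.ofHom ((P.d i j).hom.restrict fun x hx => leSub_mapsTo P k i j x hx)
  shape i j h := by
    ext x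
    simp [P.shape i j h]
  d_comp_d' i j l _ _ := by
    ext x
    exact Homology.d_d (K := P) i j l x.1

lemma isZero_leCx (P : DRing.Cx R) {k i : ℤ} (h : k < i) : IsZero ((leCx P k).X i) := by
  have : Subsingleton (leSub P k i) := by
    unfold leSub; rw [if_neg (by omega), if_neg (by omega)]; infer_instance
  exact ModuleCat.isZero_of_subsingleton (ModuleCat.of R (leSub P k i))

theorem boundedAbove_of_good {K : Dual.D R} (hK : Good K) :
    ∃ b : ℤ, ∀ i, b < i → Subsingleton (Dual.HD R K i) := by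
  obtain ⟨P, _, -, ⟨e⟩⟩ := exists_kproj_iso K
  let F : ℕ ⥤ DRing.Cx R :=
    { obj := fun k => leCx P k
      map := fun {k l} h =>
        { f := fun i => ModuleCat.ofHom (Submodule.inclusion (leSub_mono P (by exact_mod_cast leOfHom h) i))
          comm' := fun _ _ _ => rfl } }
  let c : Cocone F :=
    { pt := P
      ι := { app := fun k => { f := fun i => ModuleCat.ofHom (leSub P k i).subtype
                               comm' := fun _ _ _ => rfl } } }
  have hsurj : ∀ (i : ℤ) (x : P.X i) (k : ℕ), i.toNat + 1 ≤ k → x ∈ leSub P k i := by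
    intro i x k hk
    unfold leSub
    rw [if_pos (by omega)]
    trivial
  have hc : IsColimit c := HomologicalComplex.isColimitOfEval _ _ fun i =>
    { desc := fun s => ModuleCat.ofHom
        { toFun := fun x => (s.ι.app (i.toNat + 1)).hom ⟨x, hsurj i x _ le_rfl⟩
          map_add' := fun x y => map_add (s.ι.app (i.toNat + 1)).hom ⟨x, _⟩ ⟨y, _⟩
          map_smul' := fun r x => map_smul (s.ι.app (i.toNat + 1)).hom r ⟨x, _⟩ }
      fac := fun s k => ModuleCat.hom_ext (LinearMap.ext fun x => by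
        rcases le_total k (i.toNat + 1) with hk | hk
        · exact congrArg (fun φ => φ.hom x) (s.w (homOfLE hk))
        · exact (congrArg (fun φ => φ.hom ⟨x.1, hsurj i x.1 _ le_rfl⟩) (s.w (homOfLE hk))).symm)
      uniq := fun s g hg => ModuleCat.hom_ext (LinearMap.ext fun x =>
        congrArg (fun φ => φ.hom ⟨x, hsurj i x _ le_rfl⟩) (hg (i.toNat + 1))) }
  obtain ⟨k, g, h, hgh⟩ := exists_factor_sub hK P F c hc e
  refine ⟨k, fun i hi => (subsingleton_HD_iff_isZero K i).2 ?_⟩
  have hz : IsZero ((HF i).obj (DRing.toD (F.obj k))) :=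
    (subsingleton_HD_iff_isZero _ i).1 ((subsingleton_HD_toD_iff _ i).2
      (ShortComplex.isZero_homology_of_isZero_X₂ _ (isZero_leCx P hi)))
  rw [IsZero.iff_id_eq_zero, ← (HF i).map_id, ← hgh, Functor.map_comp,
    hz.eq_of_tgt ((HF i).map g) 0, zero_comp]

theorem perfect_of_good {K : Dual.D R} (hK : Good K) : DRing.IsPerfect R K := by
  obtain ⟨b, hb⟩ := boundedAbove_of_good hK
  obtain ⟨P, hPb, hPf, ⟨e⟩⟩ := ProjAmp.exists_freeRep K b hb
  let F : ℕ ⥤ DRing.Cx R :=
    { obj := fun k => KFlat.sigmaGE P (-(k : ℤ))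
      map := fun {k l} h => KFlat.sigmaGEMap P (by have := leOfHom h; omega) }
  let c : Cocone F :=
    { pt := P
      ι := { app := fun k => KFlat.sigmaGEι P _ } }
  have hsurj : ∀ (i : ℤ) (x : P.X i) (k : ℕ), (-i).toNat ≤ k → x ∈ KFlat.truncSub P (-(k : ℤ)) i := by
    intro i x k hk
    unfold KFlat.truncSub
    rw [if_pos (by omega)]
    trivial
  have hc : IsColimit c := HomologicalComplex.isColimitOfEval _ _ fun i =>
    { desc := fun s => ModuleCat.ofHom
        { toFun := fun x => (s.ι.app (-i).toNat).hom ⟨x, hsurj i x _ le_rfl⟩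
          map_add' := fun x y => map_add (s.ι.app (-i).toNat).hom ⟨x, _⟩ ⟨y, _⟩
          map_smul' := fun r x => map_smul (s.ι.app (-i).toNat).hom r ⟨x, _⟩ }
      fac := fun s k => ModuleCat.hom_ext (LinearMap.ext fun x => by
        rcases le_total k (-i).toNat with hk | hk
        · exact congrArg (fun φ => φ.hom x) (s.w (homOfLE hk))
        · exact (congrArg (fun φ => φ.hom ⟨x.1, hsurj i x.1 _ le_rfl⟩) (s.w (homOfLE hk))).symm)
      uniq := fun s g hg => ModuleCat.hom_ext (LinearMap.ext fun x =>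
        congrArg (fun φ => φ.hom ⟨x, hsurj i x _ le_rfl⟩) (hg (-i).toNat)) }
  obtain ⟨k, g, h, hgh⟩ := exists_factor_sub hK P F c hc e
  have hfree : ∀ i, Module.Free R ((F.obj k).X i) := fun i => by
    have := hPf i
    by_cases hi : -(k : ℤ) ≤ i
    · have ht : KFlat.truncSub P (-(k : ℤ)) i = ⊤ := if_pos hi
      exact Module.Free.of_equiv (LinearEquiv.ofTop _ ht).symm
    · have := ModuleCat.subsingleton_of_isZero (KFlat.sigmaGE_X_isZero P (m := -(k : ℤ)) (i := i) (by omega))
      exact Module.Free.of_subsingleton R _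
  have hX : FacGood (DRing.toD (F.obj k)) :=
    Devissage.of_terms FacGood
      (fun e' h' C hC φ => by
        obtain ⟨W, g', h'', hW, hg'⟩ := h' C hC (φ ≫ e'.inv)
        exact ⟨W, g', h'' ≫ e'.hom, hW, by rw [← Category.assoc, hg', Category.assoc, e'.inv_hom_id, Category.comp_id]⟩)
      (fun Z hZ C _ φ => ⟨Z, φ, 𝟙 Z, Perfect.perfect_of_isZero hZ, Category.comp_id φ⟩)
      (fun T hT h1 h3 => facGood_mid hT h1 h3) (F.obj k) (a := -(k : ℤ)) (b := b)
      (vanishesOutside_sigmaGE hPb (-(k : ℤ)))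
      (fun i => have := hfree i; facGood_sgl i _)
  obtain ⟨W, g', h', hW, hgW⟩ := hX K hK g
  exact perfect_of_retract g' (h' ≫ h) (by rw [← Category.assoc, hgW, hgh]) hW

theorem perfect_iff_compact (K : Dual.D R) :
    DRing.IsPerfect R K ↔
      ∀ (I : Type u) (E : I → Dual.D R) [HasCoproduct fun i : ULift.{u + 1} I => E i.down],
        Function.Bijective (CohDer.homSumToHomCoprod K (fun i : ULift.{u + 1} I => E i.down)) :=
  ⟨fun h I E inst => @bijective_of_good R _ K (good_of_perfect h) I _ Equiv.ulift.{u + 1} E inst,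
    fun h => perfect_of_good (good_of_compact h)⟩

end Groth.Agent.DRing.PerfectCompact
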