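import Groth.Agent.DRing.BaseChangeAmp
import Mathlib.CategoryTheory.Preadditive.Projective.Resolution
import Mathlib.CategoryTheory.Abelian.Projective.Extend
import Mathlib.Algebra.Homology.ShortComplex.ModuleCat

/-!
# Perfect modules and finite resolutions by finite projective modules
-/

universe u

open CategoryTheory CategoryTheory.Limits DerivedCategory

attribute [local instance] HasDerivedCategory.standard

namespace Groth.Agent.DRing.Perfect

open Homology DBasic PC TorAmp

variable {A : Type u} [CommRing A]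

/-- A complex of finite projectives in degrees `[-d, 0]` with cohomology `M[0]` is a resolution. -/
lemma exists_resolution_of_rep {M : Type u} [AddCommGroup M] [Module A M] {E : DRing.Cx A} {d : ℕ}
    (hE : DRing.VanishesOutside E (-(d : ℤ)) 0) (hf : DRing.TermwiseFiniteProjective E)
    (e : DRing.toD E ≅ Dual.inD A M) :
    ∃ P : ProjectiveResolution (ModuleCat.of A M),
      (∀ i : ℕ, d < i → IsZero (P.complex.X i)) ∧ ∀ i : ℕ, Module.Finite A (P.complex.X i) := by
  let l : (E.X 0 ⧸ LinearMap.range (E.d (0 - 1) 0).hom) ≃ₗ[A] M :=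
    ((topEquiv E 0 (hE (0 + 1) (Or.inr (by omega)))).trans
      ((hIso E 0).symm ≪≫ (HF 0).mapIso e).toLinearEquiv).trans (inDEquiv A M)
  let f : E.X 0 →ₗ[A] M := l.toLinearMap.comp (Submodule.mkQ _)
  have hker : ∀ x, f x = 0 ↔ ∃ w, (E.d (-1) 0).hom w = x := fun x => by
    change l (Submodule.Quotient.mk x) = 0 ↔ _
    rw [LinearEquiv.map_eq_zero_iff, Submodule.Quotient.mk_eq_zero]
    exact LinearMap.mem_range
  let C : ChainComplex (ModuleCat.{u} A) ℕ :=
    ChainComplex.of (fun n => E.X (-(n : ℤ))) (fun n => E.d (-((n + 1 : ℕ) : ℤ)) (-(n : ℤ)))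
      (fun n => E.d_comp_d _ _ _)
  have hd : ∀ n, C.d (n + 1) n = E.d (-((n + 1 : ℕ) : ℤ)) (-(n : ℤ)) := fun n =>
    ChainComplex.of_d (fun n : ℕ => E.X (-(n : ℤ)))
      (fun n => E.d (-((n + 1 : ℕ) : ℤ)) (-(n : ℤ))) n
  have hf0 : C.d 1 0 ≫ ModuleCat.ofHom f = 0 := by
    rw [hd 0]
    exact ModuleCat.hom_ext (LinearMap.ext fun x => (hker _).2 ⟨x, rfl⟩)
  let π := (ChainComplex.toSingle₀Equiv C (ModuleCat.of A M)).symm ⟨ModuleCat.ofHom f, hf0⟩
  have hπ : QuasiIso π := ⟨fun n => by
    cases n with
    | zero =>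
      rw [ChainComplex.quasiIsoAt₀_iff, ShortComplex.quasiIso_iff_of_zeros']
      · have hτ : ((HomologicalComplex.shortComplexFunctor' _ (ComplexShape.down ℕ) 1 0 0).map π).τ₂ =
            ModuleCat.ofHom f := ChainComplex.toSingle₀Equiv_symm_apply_f_zero _ _
        refine ⟨?_, ?_⟩
        · refine (ShortComplex.exact_iff_of_iso (S₂ := ShortComplex.mk (C.d 1 0) (ModuleCat.ofHom f) hf0)
            (ShortComplex.isoMk (Iso.refl (C.X 1)) (Iso.refl (C.X 0)) (Iso.refl (ModuleCat.of A M))
              ?_ ?_)).2 ?_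
          · exact (Category.id_comp _).trans (Category.comp_id _).symm
          · exact (Category.id_comp _).trans (hτ.symm.trans (Category.comp_id _).symm)
          rw [ShortComplex.moduleCat_exact_iff]
          intro x hx
          obtain ⟨w, hw⟩ := (hker x).1 hx
          refine ⟨w, ?_⟩
          change (C.d 1 0).hom w = x
          rw [hd 0]
          exact hw
        · rw [hτ]
          exact (ModuleCat.epi_iff_surjective (ModuleCat.ofHom (X := E.X 0) (Y := M) f)).2
            (l.surjective.comp (Submodule.mkQ_surjective _))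
      all_goals rfl
    | succ n =>
      rw [quasiIsoAt_iff_exactAt']
      · rw [C.exactAt_iff' (n + 2) (n + 1) n (by simp) (by simp), ShortComplex.moduleCat_exact_iff]
        intro x hx
        change (C.d (n + 1) n).hom x = 0 at hx
        rw [hd n] at hx
        have hex : E.ExactAt (-((n + 1 : ℕ) : ℤ)) := by
          rw [HomologicalComplex.exactAt_iff_isZero_homology, ← subsingleton_HD_toD_iff,
            subsingleton_HD_congr e]
          exact subsingleton_HD_inD A M _ (by omega)
        obtain ⟨w, hw⟩ := (exactAt_iff_forall _ (-((n + 2 : ℕ) : ℤ)) (by omega)).1 hex x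
          ((isCyc_iff (by omega) x).2 hx)
        refine ⟨w, ?_⟩
        change (C.d (n + 2) (n + 1)).hom w = x
        rw [hd (n + 1)]
        exact hw
      · exact ChainComplex.exactAt_succ_single_obj _ _⟩
  exact ⟨{ complex := C
           projective := fun n => (IsProjective.iff_projective _).1 (hf (-(n : ℤ))).2
           π := π
           quasiIso := hπ }, fun i hi => hE _ (Or.inl (by omega)), fun i => (hf _).1⟩

/-- A perfect module has a finite resolution by finite projectives and conversely. -/
theorem perfectModule_iff (M : Type u) [AddCommGroup M] [Module A M] :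
    DRing.IsPerfectModule A M ↔
      ∃ (P : ProjectiveResolution (ModuleCat.of A M)) (d : ℕ),
        (∀ i : ℕ, d < i → IsZero (P.complex.X i)) ∧ ∀ i : ℕ, Module.Finite A (P.complex.X i) := by
  constructor
  · intro h
    obtain ⟨hpc, a, b, hab⟩ := (perfect_iff _).1 h
    obtain ⟨d, hd⟩ : ∃ d : ℕ, -(d : ℤ) ≤ a := ⟨(-a).toNat, by omega⟩
    have h0 : DRing.HasTorAmplitudeIn A (-(d : ℤ)) 0 (Dual.inD A M) := by
      obtain ⟨P, hb, hproj, ⟨e⟩⟩ := Trunc.exists_projRep (Dual.inD A M) 0
        (fun i hi => subsingleton_HD_inD A M i (by omega))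
      have hP := isKFlat_of_projective hb hproj
      rw [hasTorAmp_iff hP e] at hab ⊢
      intro N i hi
      rcases hi with hi | hi
      · exact hab N i (Or.inl (by omega))
      · exact ((DRing.tensorCx P N).exactAt_iff i).2 (ShortComplex.exact_of_isZero_X₂ _
          (((MonoidalCategory.tensorRight N)).map_isZero (hb i hi)))
    obtain ⟨E, hE, hf, ⟨e⟩⟩ := exists_rep hpc h0
    obtain ⟨P, hP⟩ := exists_resolution_of_rep hE hf e
    exact ⟨P, d, hP⟩
  · rintro ⟨P, d, hz, hfin⟩
    refine ⟨P.cochainComplex, -(d : ℤ), 0, fun i hi => ?_, fun i => ⟨?_, ?_⟩, ⟨?_⟩⟩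
    · rcases hi with hi | hi
      · exact (hz (-i).toNat (by omega)).of_iso (P.cochainComplexXIso i (-i).toNat (by omega))
      · exact CochainComplex.isZero_of_isStrictlyLE _ 0 i hi
    · by_cases hi : i ≤ 0
      · have := hfin (-i).toNat
        exact Module.Finite.equiv (P.cochainComplexXIso i (-i).toNat (by omega)).toLinearEquiv.symm
      · have := ModuleCat.subsingleton_of_isZero
          (CochainComplex.isZero_of_isStrictlyLE P.cochainComplex 0 i (by omega))
        infer_instance
    · exact (IsProjective.iff_projective _).2 (inferInstanceAs (Projective (P.cochainComplex.X i)))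
    · have h : IsIso (DerivedCategory.Q.map P.π') :=
        (DerivedCategory.isIso_Q_map_iff_quasiIso (C := ModuleCat.{u} A) P.π').2 inferInstance
      exact @asIso _ _ _ _ (DerivedCategory.Q.map P.π') h ≪≫
        ((singleFunctorIsoCompQ (ModuleCat.{u} A) 0).app (ModuleCat.of A M)).symm

end Groth.Agent.DRing.Perfect
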