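import Groth.Agent.DRing.ProjAmpTFAE
import Groth.Agent.DRing.BaseChangeAmp
import Groth.Agent.RegLoc.Homological
import Mathlib.RingTheory.LocalProperties.ProjectiveDimension
import Mathlib.RingTheory.Spectrum.Prime.FreeLocus

/-!
# Finite modules over regular rings are perfect
-/

universe u

open CategoryTheory CategoryTheory.Limits DerivedCategory

attribute [local instance] HasDerivedCategory.standard

namespace Groth.Agent.DRing.Perfect

variable {R : Type u} [CommRing R] [IsNoetherianRing R]

lemma isOpen_pdLocus (n : ℕ) : ∀ (M : Type u) [AddCommGroup M] [Module R M] [Module.Finite R M],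
    IsOpen {p : PrimeSpectrum R |
      HasProjectiveDimensionLE ((ModuleCat.of R M).localizedModule p.asIdeal.primeCompl) n} := by
  induction n with
  | zero =>
    intro M _ _ _
    have := Module.finitePresentation_of_finite R M
    convert Module.isOpen_freeLocus (R := R) (M := M) using 1
    ext p
    change HasProjectiveDimensionLE _ 0 ↔ _
    rw [← projective_iff_hasProjectiveDimensionLE_zero, ← IsProjective.iff_projective,
      Module.mem_freeLocus]
    refine ⟨fun h => ?_, fun h => Module.Projective.of_equiv (Shrink.linearEquiv _ _).symm⟩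
    have : Module.Projective (Localization.AtPrime p.asIdeal)
        (Shrink.{u} (LocalizedModule p.asIdeal.primeCompl M)) := h
    have : Module.Projective (Localization.AtPrime p.asIdeal)
        (LocalizedModule p.asIdeal.primeCompl M) :=
      Module.Projective.of_equiv (Shrink.linearEquiv (Localization.AtPrime p.asIdeal)
        (LocalizedModule p.asIdeal.primeCompl M))
    exact Module.free_of_flat_of_isLocalRing
  | succ n ih =>
    intro M _ _ _
    obtain ⟨P, _, _, _, _, f, hf⟩ := Module.exists_finite_presentation R M
    convert ih (LinearMap.ker f) using 1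
    ext p
    have hS := LinearMap.shortExact_shortComplexKer hf
    have := ModuleCat.projective_of_categoryTheory_projective f.shortComplexKer.X₂
    exact (hS.map_of_exact (ModuleCat.localizedModuleFunctor p.asIdeal.primeCompl))
      |>.hasProjectiveDimensionLT_X₃_iff n
        ((ModuleCat.localizedModuleFunctor.{u} p.asIdeal.primeCompl).projective_obj_of_projective this)

/-- Finite modules over regular rings have finite projective dimension. -/
theorem exists_pd_le_of_regular
    (hreg : ∀ p : PrimeSpectrum R, IsRegularLocalRing (Localization.AtPrime p.asIdeal))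
    (M : Type u) [AddCommGroup M] [Module R M] [Module.Finite R M] :
    ∃ n : ℕ, HasProjectiveDimensionLE (ModuleCat.of R M) n := by
  let U : ℕ → Set (PrimeSpectrum R) := fun n => {p |
    HasProjectiveDimensionLE ((ModuleCat.of R M).localizedModule p.asIdeal.primeCompl) n}
  have hmono : Monotone U := fun m n hmn p (hp : HasProjectiveDimensionLE _ m) =>
    hasProjectiveDimensionLT_of_ge _ (m + 1) (n + 1) (by omega)
  have hcov : Set.univ ⊆ ⋃ n, U n := fun p _ => by
    have := hreg p
    obtain ⟨d, hd, -⟩ := RegLoc.exists_natCast_eq_ringKrullDim (Localization.AtPrime p.asIdeal)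
    exact Set.mem_iUnion.2 ⟨d, RegLoc.Homological.pd_le_dim hd _⟩
  obtain ⟨t, ht⟩ := isCompact_univ.elim_finite_subcover U (fun n => isOpen_pdLocus n M) hcov
  refine ⟨t.sup id, (ModuleCat.hasProjectiveDimensionLE_iff_forall_primeSpectrum _ _).2 fun p => ?_⟩
  obtain ⟨n, hn, hp⟩ := Set.mem_iUnion₂.1 (ht (Set.mem_univ p))
  exact hmono (Finset.le_sup (f := id) hn) hp

theorem perfectModule_of_regular
    (hreg : ∀ p : PrimeSpectrum R, IsRegularLocalRing (Localization.AtPrime p.asIdeal))
    (M : Type u) [AddCommGroup M] [Module R M] [Module.Finite R M] : DRing.IsPerfectModule R M := by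
  obtain ⟨n, hn⟩ := exists_pd_le_of_regular hreg M
  have := Module.finitePresentation_of_finite R M
  refine (perfect_iff _).2 ⟨PC.pcModule'_of_fp (fun I hI => ?_) M, _, _,
    (ProjAmp.hasProjAmp_of_projDimLT (ModuleCat.of R M) n).torAmp⟩
  exact Module.finitePresentation_of_finite R I

omit [IsNoetherianRing R] in
theorem finite_of_perfectModule {M : Type u} [AddCommGroup M] [Module R M]
    (h : DRing.IsPerfectModule R M) : Module.Finite R M :=
  PC.pcModule_zero_iff.1 ((PC.pc'_iff _).1 ((perfect_iff _).1 h).1 0)

theorem perfect_iff_of_regular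
    (hreg : ∀ p : PrimeSpectrum R, IsRegularLocalRing (Localization.AtPrime p.asIdeal))
    (K : Dual.D R) : DRing.IsPerfect R K ↔
      (∃ a b : ℤ, ∀ i : ℤ, (i < a ∨ b < i) → Subsingleton (Dual.HD R K i)) ∧
        ∀ i : ℤ, Module.Finite R (Dual.HD R K i) := by
  constructor
  · intro h
    obtain ⟨hpc, a, b, hab⟩ := (perfect_iff _).1 h
    have hb := TorAmp.torAmp_boundedHD hab
    refine ⟨⟨a, b, hb⟩, fun i => ((PC.pc_iff_of_coherent (fun I _ =>
      Module.finitePresentation_of_finite R I) ⟨b, fun j hj => hb j (Or.inr hj)⟩).1
        ((PC.pc'_iff K).1 hpc i)).1⟩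
  · rintro ⟨⟨a, b, hb⟩, hfin⟩
    exact perfect_of_cohomology K hb fun i =>
      have := hfin i
      perfectModule_of_regular hreg _

end Groth.Agent.DRing.Perfect
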