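import Groth.Agent.DTenLib.Base
import Groth.Agent.DRing.LTensor
import Groth.Agent.DRing.DerivedNakayama
import Groth.Agent.DRing.KProj
import Mathlib.Algebra.Polynomial.Inductions

/-!
# Base change along `R[x] → R`, `x ↦ 0`, of a restricted object
-/

universe u

open CategoryTheory CategoryTheory.Limits CategoryTheory.Pretriangulated DerivedCategory Polynomial
open scoped TensorProduct

attribute [local instance] HasDerivedCategory.standard

namespace Groth.Agent.DRing.PolyEval

open Groth.Agent.DTenLib DBasic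

variable {R : Type u} [CommRing R]

/-- `R[x]` as an `R`-module by restriction. -/
noncomputable abbrev M0 : ModuleCat.{u} R :=
  (ModuleCat.restrictScalars.{u} (C : R →+* R[X])).obj (ModuleCat.of R[X] R[X])

/-- Division by `x`. -/
noncomputable def dv : M0 (R := R) →ₗ[R] M0 (R := R) where
  toFun p := (show R[X] from p).divX
  map_add' p q := Polynomial.divX_add
  map_smul' r p := Polynomial.divX_C_mul

/-- `N` over `R[x]` with `x` acting by `0`, restricted to `R`. -/
noncomputable def idMap (N : ModuleCat.{u} R) :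
    N ⟶ (ModuleCat.restrictScalars.{u} (C : R →+* R[X])).obj ((ModuleCat.restrictScalars.{u} (evalRingHom (0 : R))).obj N) :=
  ModuleCat.ofHom (Y := (ModuleCat.restrictScalars.{u} (C : R →+* R[X])).obj ((ModuleCat.restrictScalars.{u} (evalRingHom (0 : R))).obj N))
    { toFun := fun x => x
      map_add' := fun _ _ => rfl
      map_smul' := fun r x => by
        change r • x = (evalRingHom (0 : R)) (C r) • (show N from x)
        rw [coe_evalRingHom, eval_C] }

variable (P : DRing.Cx R)

/-- `R[x] ⊗ P`. -/
noncomputable abbrev E : DRing.Cx R[X] := (DTen.extCx (C : R →+* R[X])).obj P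

/-- `P` with `x = 0`. -/
noncomputable abbrev P0 : DRing.Cx R[X] := (DRing.restrictCx (evalRingHom (0 : R))).obj P

/-- Evaluation at `0`. -/
noncomputable def pi : E P ⟶ P0 P :=
  coadjunct (C : R →+* R[X])
    { f := fun i => idMap (P.X i)
      comm' := fun _ _ _ => rfl }

lemma pi_tmul (i : ℤ) (p : R[X]) (x : P.X i) :
    ((pi P).f i).hom ((show M0 (R := R) from p) ⊗ₜ[R] x) = (show P.X i from (eval 0 p) • x) := rfl

/-- Multiplication by `x`. -/
noncomputable abbrev mX : E P ⟶ E P := DerComplete.mulCx (E P) X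

lemma mX_tmul (i : ℤ) (p : R[X]) (x : P.X i) :
    ((mX P).f i).hom ((show M0 (R := R) from p) ⊗ₜ[R] x) = (show M0 (R := R) from X * p) ⊗ₜ[R] x := rfl

/-- The sequence `0 → R[x] ⊗ P → R[x] ⊗ P → P → 0`. -/
noncomputable def seq : ShortComplex (DRing.Cx R[X]) :=
  ShortComplex.mk (mX P) (pi P) (HomologicalComplex.hom_ext _ _ fun i => ModuleCat.hom_ext (LinearMap.ext fun z => by
    change ((pi P).f i).hom ((X : R[X]) • z) = 0
    rw [map_smul]
    change eval 0 (X : R[X]) • (show P.X i from ((pi P).f i).hom z) = (0 : P.X i)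
    rw [eval_X, zero_smul]))

lemma shortExact_seq : (seq P).ShortExact := by
  refine HomologicalComplex.shortExact_of_degreewise_shortExact _ fun i => ?_
  let d : ((M0 (R := R)) ⊗[R] (P.X i)) →ₗ[R] ((M0 (R := R)) ⊗[R] (P.X i)) := (dv (R := R)).rTensor (P.X i)
  let m : ((M0 (R := R)) ⊗[R] (P.X i)) → ((M0 (R := R)) ⊗[R] (P.X i)) := fun z => ((mX P).f i).hom z
  let π : ((M0 (R := R)) ⊗[R] (P.X i)) → P.X i := fun z => ((pi P).f i).hom z
  have hm : ∀ z z', m (z + z') = m z + m z' := fun z z' => map_add ((mX P).f i).hom z z'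
  have hπ : ∀ z z', π (z + z') = π z + π z' := fun z z' => map_add ((pi P).f i).hom z z'
  have hm0 : m 0 = 0 := map_zero ((mX P).f i).hom
  have hπ0 : π 0 = 0 := map_zero ((pi P).f i).hom
  have h1 : ∀ z, d (m z) = z := fun z => by
    induction z using TensorProduct.induction_on with
    | zero => rw [hm0, map_zero]
    | tmul p x =>
      have key : ∀ p : R[X], (X * p).divX = p := fun p => by
        ext n; simp [coeff_divX]
      have : dv (show M0 (R := R) from (X : R[X]) * (show R[X] from p)) = p := key _
      change (dv (show M0 (R := R) from (X : R[X]) * (show R[X] from p))) ⊗ₜ[R] x = _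
      rw [this]
    | add a b ha hb => rw [hm, map_add, ha, hb]
  have h2 : ∀ z, z = m (d z) + (show M0 (R := R) from (1 : R[X])) ⊗ₜ[R] π z := fun z => by
    induction z using TensorProduct.induction_on with
    | zero => rw [map_zero, hm0, hπ0, TensorProduct.tmul_zero, add_zero]
    | tmul p x =>
      change _ = (show M0 (R := R) from (X : R[X]) * (show R[X] from p).divX) ⊗ₜ[R] x +
        (show M0 (R := R) from (1 : R[X])) ⊗ₜ[R] (eval 0 (show R[X] from p) • x)
      rw [← TensorProduct.smul_tmul, ← TensorProduct.add_tmul]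
      congr 1
      have key : ∀ p : R[X], p = X * p.divX + C (eval 0 p) * 1 := fun p => by
        rw [mul_one, ← coeff_zero_eq_eval_zero, X_mul_divX_add]
      exact key _
    | add a b ha hb =>
      rw [map_add, hm, hπ, TensorProduct.tmul_add]
      conv_lhs => rw [ha, hb]
      abel
  refine { exact := ?_, mono_f := ?_, epi_g := ?_ }
  · refine (ShortComplex.ShortExact.moduleCat_exact_iff_function_exact _).2 fun z => ⟨fun hz => ?_, ?_⟩
    · refine ⟨d z, ?_⟩
      change m (d z) = z
      conv_rhs => rw [h2 z, show π z = 0 from hz, TensorProduct.tmul_zero, add_zero]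
    · rintro ⟨w, rfl⟩
      exact LinearMap.congr_fun (congrArg ModuleCat.Hom.hom (HomologicalComplex.congr_hom (seq P).zero i)) w
  · exact (ModuleCat.mono_iff_injective _).2 (Function.LeftInverse.injective (g := d) h1)
  · refine (ModuleCat.epi_iff_surjective _).2 fun x => ⟨(show M0 (R := R) from (1 : R[X])) ⊗ₜ[R] (show P.X i from x), ?_⟩
    change eval 0 (1 : R[X]) • (show P.X i from x) = x
    rw [eval_one, one_smul]

theorem nonempty_iso [DRing.HasLBaseChange (evalRingHom (0 : R))] (K : Dual.D R)
    [HasBinaryBiproduct K ((shiftFunctor (Dual.D R) (1 : ℤ)).obj K)] :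
    Nonempty ((DRing.LBaseChange (evalRingHom (0 : R))).obj
        ((DRing.restrictD (evalRingHom (0 : R))).obj K) ≅
      K ⊞ (shiftFunctor (Dual.D R) (1 : ℤ)).obj K) := by
  let φ := evalRingHom (0 : R)
  obtain ⟨P, hP, -, ⟨eK⟩⟩ := exists_kproj_iso K
  have : (E P).IsKProjective := Groth.Agent.DTenLib.isKProjective_extCx (C : R →+* R[X]) P
  let M := CochainComplex.mappingCone (mX P)
  have hM : M.IsKProjective := KProj.isKProjective_mappingCone (mX P)
  have hq := CochainComplex.mappingCone.quasiIso_descShortComplex (shortExact_seq P)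
  let q : DRing.toD M ≅ DRing.toD (P0 P) :=
    @asIso _ _ _ _ (Q.map (CochainComplex.mappingCone.descShortComplex (seq P))) (by
      exact (isIso_Q_map_iff_quasiIso (C := ModuleCat.{u} R[X]) _).2 hq)
  let e1 : (DRing.restrictD φ).obj K ≅ DRing.toD M :=
    (DRing.restrictD φ).mapIso eK.symm ≪≫
      (ModuleCat.restrictScalars.{u} φ).mapDerivedCategoryFactors.app P ≪≫ q.symm
  let GF := (ModuleCat.extendScalars.{u, u, u} φ).mapHomologicalComplex (ComplexShape.up ℤ)
  let Eb := GF.obj (E P)
  have hcomp : φ.comp (C : R →+* R[X]) = RingHom.id R := RingHom.ext fun r => by simp [φ]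
  let eE : Eb ≅ P :=
    HomologicalComplex.Hom.isoOfComponents
      (fun i => ((ModuleCat.extendScalarsComp (C : R →+* R[X]) φ).symm.app (P.X i) ≪≫
        eqToIso (congrArg (fun f => (ModuleCat.extendScalars.{u, u, u} f).obj (P.X i)) hcomp) ≪≫
        (ModuleCat.extendScalarsId (R := R)).app (P.X i) : _))
      (fun i j _ => by
        let N : ModuleCat.extendScalars.{u, u, u} (C : R →+* R[X]) ⋙ ModuleCat.extendScalars.{u, u, u} φ ≅ 𝟭 _ :=
          (ModuleCat.extendScalarsComp (C : R →+* R[X]) φ).symm ≪≫
            eqToIso (congrArg (fun f => ModuleCat.extendScalars.{u, u, u} f) hcomp) ≪≫ ModuleCat.extendScalarsId (R := R)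
        have h := N.hom.naturality (P.d i j)
        simp only [N, Iso.trans_hom, NatTrans.comp_app, eqToIso.hom, eqToHom_app] at h
        exact h.symm)
  have hz : GF.map (mX P) = 0 := HomologicalComplex.hom_ext _ _ fun i => ModuleCat.hom_ext (LinearMap.ext fun z => by
    change ((ModuleCat.extendScalars.{u, u, u} φ).map ((mX P).f i)).hom z = 0
    induction z using TensorProduct.induction_on with
    | zero => exact map_zero _
    | tmul r w =>
      change r ⊗ₜ[R[X]] ((X : R[X]) • w) = 0
      rw [← TensorProduct.smul_tmul]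
      rw [show (X : R[X]) • r = 0 from ?_, TensorProduct.zero_tmul]
      change φ X * (show R from r) = (0 : R)
      simp only [φ, coe_evalRingHom, eval_X]
      exact zero_mul (show R from r)
    | add a b ha hb => exact (map_add _ a b).trans ((congr (congrArg HAdd.hAdd ha) hb).trans (add_zero _)))
  let T := Q.mapTriangle.obj (CochainComplex.mappingCone.triangle (GF.map (mX P)))
  have hT : T ∈ distinguishedTriangles := mappingCone_triangle_distinguished _
  obtain ⟨e2, -, -⟩ := exists_iso_binaryBiproduct_of_distTriang _ (rot_of_distTriang _ hT)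
    (show T.rotate.mor₃ = 0 by
      change -(shiftFunctor (Dual.D R) (1 : ℤ)).map (Q.map (GF.map (mX P))) = 0
      rw [hz, Functor.map_zero, Functor.map_zero, neg_zero])
  let eK' : DRing.toD Eb ≅ K := Q.mapIso eE ≪≫ eK
  exact ⟨(DRing.LBaseChange φ).mapIso e1 ≪≫ LTensor.LBaseChangeIso φ (KFlat.isKFlat_of_isKProjective M) ≪≫
    Q.mapIso (CochainComplex.mappingCone.mapHomologicalComplexIso (mX P) (ModuleCat.extendScalars.{u, u, u} φ)) ≪≫
    e2 ≪≫ biprod.mapIso eK' ((shiftFunctor (Dual.D R) (1 : ℤ)).mapIso eK')⟩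

end Groth.Agent.DRing.PolyEval
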