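import Groth.Agent.DRing.DBasic
import Groth.Agent.DRing.KFlatRes
import Mathlib.CategoryTheory.Triangulated.Pretriangulated
import Mathlib.RingTheory.Finiteness.Basic
import Mathlib.LinearAlgebra.Projection
import Mathlib.Algebra.Category.ModuleCat.Biproducts
import Mathlib.RingTheory.Finiteness.Prod
import Mathlib.LinearAlgebra.FreeModule.Basic

/-!
# `m`-pseudo-coherent objects of `D(A)`

Characterisation by triangles, shifts, two-out-of-three, direct summands, boundedness and
finiteness of the top cohomology.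
-/

universe u

open CategoryTheory CategoryTheory.Limits CategoryTheory.Pretriangulated DerivedCategory

attribute [local instance] HasDerivedCategory.standard

namespace Groth.Agent.DRing.PC

open DBasic Homology ZeroObject

variable {A : Type u} [CommRing A]

/-- Cohomology vanishes in degrees `≥ m`. -/
def VanishGE (C : Dual.D A) (m : ℤ) : Prop := ∀ i : ℤ, m ≤ i → Subsingleton (Dual.HD A C i)

/-- `f` is iso on `H^i` for `i > m` and epi on `H^m`. -/
def IsApprox {K L : Dual.D A} (m : ℤ) (f : K ⟶ L) : Prop :=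
  (∀ i : ℤ, m < i → IsIso ((HF i).map f)) ∧ Epi ((HF m).map f)

lemma IsApprox.mono {K L : Dual.D A} {m m' : ℤ} {f : K ⟶ L} (h : IsApprox m f) (hm : m ≤ m') :
    IsApprox m' f := by
  refine ⟨fun i hi => h.1 i (by omega), ?_⟩
  rcases eq_or_lt_of_le hm with rfl | hlt
  · exact h.2
  · have := h.1 m' hlt
    infer_instance

lemma IsApprox.epi {K L : Dual.D A} {m : ℤ} {f : K ⟶ L} (h : IsApprox m f) {i : ℤ} (hi : m ≤ i) :
    Epi ((HF i).map f) :=
  (h.mono hi).2

lemma IsApprox.mono_map {K L : Dual.D A} {m : ℤ} {f : K ⟶ L} (h : IsApprox m f) {i : ℤ}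
    (hi : m < i) : Mono ((HF i).map f) := by
  have := h.1 i hi
  infer_instance

lemma IsApprox.comp {K L M : Dual.D A} {m : ℤ} {f : K ⟶ L} {g : L ⟶ M} (hf : IsApprox m f)
    (hg : IsApprox m g) : IsApprox m (f ≫ g) := by
  refine ⟨fun i hi => ?_, ?_⟩
  · have := hf.1 i hi
    have := hg.1 i hi
    rw [Functor.map_comp]
    infer_instance
  · have := hf.2
    have := hg.2
    rw [Functor.map_comp]
    infer_instance

lemma isApprox_of_isIso {K L : Dual.D A} (f : K ⟶ L) [IsIso f] (m : ℤ) : IsApprox m f :=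
  ⟨fun _ _ => inferInstance, inferInstance⟩

/-- Approximations are the maps with cone acyclic in degrees `≥ m`. -/
lemma isApprox_iff_vanishGE (T : Triangle (Dual.D A)) (hT : T ∈ distinguishedTriangles) (m : ℤ) :
    IsApprox m T.mor₁ ↔ VanishGE T.obj₃ m := by
  constructor
  · intro h i hi
    rw [subsingleton_HD_iff_isZero]
    refine (HomologySequence.exact₃ T hT i (i + 1) rfl).isZero_of_both_zeros
      ((HomologySequence.epi_homologyMap_mor₁_iff T hT i).1 (h.epi hi)) ?_
    exact (HomologySequence.mono_homologyMap_mor₁_iff T hT i (i + 1) rfl).1 (h.mono_map (by omega))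
  · intro h
    have he : ∀ i, m ≤ i → Epi ((HF i).map T.mor₁) := fun i hi =>
      (HomologySequence.epi_homologyMap_mor₁_iff T hT i).2
        (((subsingleton_HD_iff_isZero _ _).1 (h i hi)).eq_of_tgt _ _)
    refine ⟨fun i hi => ?_, he m le_rfl⟩
    have := he i hi.le
    have : Mono ((HF i).map T.mor₁) :=
      (HomologySequence.mono_homologyMap_mor₁_iff T hT (i - 1) i (by omega)).2
        (((subsingleton_HD_iff_isZero _ _).1 (h (i - 1) (by omega))).eq_of_src _ _)
    exact isIso_of_mono_of_epi _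

lemma isApprox_shift {K L : Dual.D A} {m : ℤ} {f : K ⟶ L} (h : IsApprox m f) (n : ℤ) :
    IsApprox (m - n) ((shiftFunctor (Dual.D A) n).map f) := by
  have hnat : ∀ i j (hij : n + i = j), (HF i).map ((shiftFunctor (Dual.D A) n).map f) =
      (HFShiftIso K n i j hij).hom ≫ (HF j).map f ≫ (HFShiftIso L n i j hij).inv := by
    intro i j hij
    have := ((DerivedCategory.homologyFunctor (ModuleCat.{u} A) 0).shiftIso n i j hij).hom.naturality f
    rw [← Category.assoc, Iso.eq_comp_inv]
    exact this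
  refine ⟨fun i hi => ?_, ?_⟩
  · rw [hnat i (n + i) rfl]
    have := h.1 (n + i) (by omega)
    infer_instance
  · rw [hnat (m - n) m (by omega)]
    have := h.2
    infer_instance

section TermwiseFiniteFree

lemma finiteFree_of_iso {M N : ModuleCat.{u} A} (e : M ≅ N)
    (h : Module.Finite A M ∧ Module.Free A M) : Module.Finite A N ∧ Module.Free A N :=
  ⟨have := h.1; Module.Finite.equiv e.toLinearEquiv,
    have := h.2; Module.Free.of_equiv e.toLinearEquiv⟩

lemma finiteFree_of_isZero {M : ModuleCat.{u} A} (h : IsZero M) :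
    Module.Finite A M ∧ Module.Free A M := by
  have := ModuleCat.subsingleton_of_isZero h
  exact ⟨inferInstance, Module.Free.of_subsingleton A M⟩

lemma finiteFree_biprod {M N : ModuleCat.{u} A} (hM : Module.Finite A M ∧ Module.Free A M)
    (hN : Module.Finite A N ∧ Module.Free A N) :
    Module.Finite A (M ⊞ N : ModuleCat.{u} A) ∧ Module.Free A (M ⊞ N : ModuleCat.{u} A) := by
  obtain ⟨_, _⟩ := hM
  obtain ⟨_, _⟩ := hN
  exact finiteFree_of_iso (ModuleCat.biprodIsoProd M N).symm
    ⟨inferInstanceAs (Module.Finite A (M × N)), inferInstanceAs (Module.Free A (M × N))⟩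

lemma finiteFree_mappingCone {E F : DRing.Cx A} (f : E ⟶ F) (hE : DRing.TermwiseFiniteFree E)
    (hF : DRing.TermwiseFiniteFree F) : DRing.TermwiseFiniteFree (CochainComplex.mappingCone f) :=
  fun i => finiteFree_of_iso (HomologicalComplex.homotopyCofiber.XIsoBiprod f i (i + 1) rfl).symm
    (finiteFree_biprod (hE (i + 1)) (hF i))

lemma vanishesOutside_mappingCone {E F : DRing.Cx A} (f : E ⟶ F) {a b a' b' : ℤ}
    (hE : DRing.VanishesOutside E a b) (hF : DRing.VanishesOutside F a' b') :
    DRing.VanishesOutside (CochainComplex.mappingCone f) (min (a - 1) a') (max (b - 1) b') := by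
  intro i hi
  rw [CochainComplex.mappingCone.isZero_X_iff]
  exact ⟨hE (i + 1) (by omega), hF i (by omega)⟩

lemma isKProjective_of_finiteFree {E : DRing.Cx A} {a b : ℤ} (hE : DRing.VanishesOutside E a b)
    (hf : DRing.TermwiseFiniteFree E) : E.IsKProjective :=
  isKProjective_of_projective E b (fun i hi => hE i (Or.inr hi))
    (fun i => have := (hf i).2; inferInstance)

lemma finiteFree_sigmaGE {E : DRing.Cx A} (hE : DRing.TermwiseFiniteFree E) (m : ℤ) :
    DRing.TermwiseFiniteFree (KFlat.sigmaGE E m) := by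
  intro i
  by_cases h : m ≤ i
  · exact finiteFree_of_iso
      ((LinearEquiv.ofEq _ _ (show KFlat.truncSub E m i = ⊤ from if_pos h)).trans
        Submodule.topEquiv).symm.toModuleIso (hE i)
  · exact finiteFree_of_isZero (KFlat.sigmaGE_X_isZero E (by omega))

lemma vanishesOutside_sigmaGE {E : DRing.Cx A} {b : ℤ} (hE : DRing.VanishesAbove E b) (m : ℤ) :
    DRing.VanishesOutside (KFlat.sigmaGE E m) m b := by
  rintro i (hi | hi)
  · exact KFlat.sigmaGE_X_isZero E hi
  · have : Subsingleton (E.X i) := ModuleCat.subsingleton_of_isZero (hE i hi)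
    have : Subsingleton (KFlat.truncSub E m i) :=
      ⟨fun a b => Subtype.ext (Subsingleton.elim (α := E.X i) _ _)⟩
    exact ModuleCat.isZero_of_subsingleton (ModuleCat.of A (KFlat.truncSub E m i))

lemma mem_truncSub {E : DRing.Cx A} {m i : ℤ} (h : m ≤ i) (x : E.X i) :
    x ∈ KFlat.truncSub E m i := by
  rw [KFlat.truncSub, if_pos h]; trivial

/-- The brutal truncation approximates. -/
lemma isApprox_sigmaGEι (E : DRing.Cx A) (m : ℤ) :
    IsApprox m (Q.map (KFlat.sigmaGEι E m)) := by
  have hsurj : ∀ i, m ≤ i →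
      Function.Surjective (HomologicalComplex.homologyMap (KFlat.sigmaGEι E m) i).hom := by
    intro i hi
    rw [homologyMap_surjective_iff _ i (i - 1) (by omega)]
    intro z hz
    exact ⟨⟨z, mem_truncSub hi z⟩, 0, Subtype.ext hz, by rw [map_zero, add_zero]; rfl⟩
  have hinj : ∀ i, m < i →
      Function.Injective (HomologicalComplex.homologyMap (KFlat.sigmaGEι E m) i).hom := by
    intro i hi
    rw [homologyMap_injective_iff _ i (i - 1) (by omega)]
    intro e w _ hew
    exact ⟨⟨w, mem_truncSub (by omega) w⟩, Subtype.ext hew.symm⟩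
  refine ⟨fun i hi => ?_, ?_⟩
  · rw [HF_map_Q_eq]
    have := (isIso_homologyMap_iff (KFlat.sigmaGEι E m) i).2 ⟨hinj i hi, hsurj i hi.le⟩
    infer_instance
  · rw [HF_map_Q_eq]
    have : Epi (HomologicalComplex.homologyMap (KFlat.sigmaGEι E m) m) :=
      (ModuleCat.epi_iff_surjective _).2 (hsurj m le_rfl)
    infer_instance

end TermwiseFiniteFree

/-- An approximation may be taken in degrees `≥ m`. -/
lemma exists_approx {m : ℤ} {K : Dual.D A} (h : DRing.IsPseudoCoherent A m K) :
    ∃ (E : DRing.Cx A) (b : ℤ) (α : DRing.toD E ⟶ K), DRing.VanishesOutside E m b ∧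
      DRing.TermwiseFiniteFree E ∧ IsApprox m α := by
  obtain ⟨E, a, b, α, hE, hf, hi, he⟩ := h
  exact ⟨KFlat.sigmaGE E m, b, Q.map (KFlat.sigmaGEι E m) ≫ α,
    vanishesOutside_sigmaGE (fun i hi => hE i (Or.inr hi)) m, finiteFree_sigmaGE hf m,
    (isApprox_sigmaGEι E m).comp ⟨hi, he⟩⟩

lemma isPseudoCoherent_of_approx {m : ℤ} {K : Dual.D A} {E : DRing.Cx A} {a b : ℤ}
    (α : DRing.toD E ⟶ K) (hE : DRing.VanishesOutside E a b) (hf : DRing.TermwiseFiniteFree E)
    (hα : IsApprox m α) : DRing.IsPseudoCoherent A m K :=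
  ⟨E, a, b, α, hE, hf, hα.1, hα.2⟩

lemma pc_mono {m m' : ℤ} {K : Dual.D A} (h : DRing.IsPseudoCoherent A m K) (hm : m ≤ m') :
    DRing.IsPseudoCoherent A m' K := by
  obtain ⟨E, b, α, hE, hf, hα⟩ := exists_approx h
  exact isPseudoCoherent_of_approx α hE hf (hα.mono hm)

lemma pc_of_iso {m : ℤ} {K L : Dual.D A} (e : K ≅ L) (h : DRing.IsPseudoCoherent A m K) :
    DRing.IsPseudoCoherent A m L := by
  obtain ⟨E, b, α, hE, hf, hα⟩ := exists_approx h
  exact isPseudoCoherent_of_approx (α ≫ e.hom) hE hf (hα.comp (isApprox_of_isIso e.hom m))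

lemma pc_of_vanishGE {m : ℤ} {K : Dual.D A} (h : VanishGE K m) : DRing.IsPseudoCoherent A m K := by
  have hz : ∀ i, IsZero ((0 : DRing.Cx A).X i) := fun i =>
    (HomologicalComplex.eval (ModuleCat.{u} A) (.up ℤ) i).map_isZero (isZero_zero _)
  refine isPseudoCoherent_of_approx (E := 0) (a := 0) (b := 0) 0 (fun i _ => hz i)
    (fun i => finiteFree_of_isZero (hz i)) ⟨fun i hi => ?_, ?_⟩
  · have h2 := (subsingleton_HD_iff_isZero K i).1 (h i hi.le)
    exact isIso_of_source_target_iso_zero _
      ((HF i).map_isZero (Q.map_isZero (isZero_zero _))).isoZero h2.isoZero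
  · exact ⟨fun f g _ => ((subsingleton_HD_iff_isZero K m).1 (h m le_rfl)).eq_of_src f g⟩

lemma pc_shift {m : ℤ} {K : Dual.D A} (h : DRing.IsPseudoCoherent A m K) (n m' : ℤ)
    (hm : m' + n = m) : DRing.IsPseudoCoherent A m' ((shiftFunctor (Dual.D A) n).obj K) := by
  obtain ⟨E, b, α, hE, hf, hα⟩ := exists_approx h
  obtain rfl : m' = m - n := by omega
  exact isPseudoCoherent_of_approx (E := E⟦n⟧) (a := m - n) (b := b - n)
    (((Q (C := ModuleCat.{u} A)).commShiftIso n).hom.app E ≫ (shiftFunctor (Dual.D A) n).map α)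
    (fun i hi => hE (i + n) (by omega)) (fun i => hf (i + n))
    ((isApprox_of_isIso _ _).comp (isApprox_shift hα n))

lemma pc_shift_iff {m : ℤ} {K : Dual.D A} (n m' : ℤ) (hm : m' + n = m) :
    DRing.IsPseudoCoherent A m' ((shiftFunctor (Dual.D A) n).obj K) ↔
      DRing.IsPseudoCoherent A m K :=
  ⟨fun h => pc_of_iso ((shiftEquiv (Dual.D A) n).unitIso.symm.app K) (pc_shift h (-n) m (by omega)),
    fun h => pc_shift h n m' hm⟩

lemma pc_boundedAbove {m : ℤ} {K : Dual.D A} (h : DRing.IsPseudoCoherent A m K) :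
    ∃ b : ℤ, ∀ i : ℤ, b < i → Subsingleton (Dual.HD A K i) := by
  obtain ⟨E, b, α, hE, hf, hα⟩ := exists_approx h
  refine ⟨max m b, fun i hi => ?_⟩
  have := hα.1 i (by omega)
  rw [subsingleton_HD_iff_isZero]
  refine IsZero.of_iso ?_ (asIso ((HF i).map α)).symm
  refine IsZero.of_iso ?_ (hIso E i)
  exact (HomologicalComplex.exactAt_iff_isZero_homology _ _).1
    ((exactAt_iff_forall i (i - 1) (by omega)).2 fun z _ => ⟨0, by
      have := ModuleCat.subsingleton_of_isZero (hE i (Or.inr (by omega)))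
      exact Subsingleton.elim _ _⟩)

lemma exact₁_elt {T : Triangle (Dual.D A)} (hT : T ∈ distinguishedTriangles) (i : ℤ)
    (x : (HF (i + 1)).obj T.obj₁) (hx : ((HF (i + 1)).map T.mor₁).hom x = 0) :
    ∃ y : (HF i).obj T.obj₃, (HomologySequence.δ T i (i + 1) rfl).hom y = x :=
  (ShortComplex.moduleCat_exact_iff _).1 (HomologySequence.exact₁ T hT i (i + 1) rfl) x hx

lemma exact₂_elt {T : Triangle (Dual.D A)} (hT : T ∈ distinguishedTriangles) (i : ℤ)
    (x : (HF i).obj T.obj₂) (hx : ((HF i).map T.mor₂).hom x = 0) :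
    ∃ y : (HF i).obj T.obj₁, ((HF i).map T.mor₁).hom y = x :=
  (ShortComplex.moduleCat_exact_iff _).1 (HomologySequence.exact₂ T hT i) x hx

lemma exact₃_elt {T : Triangle (Dual.D A)} (hT : T ∈ distinguishedTriangles) (i : ℤ)
    (x : (HF i).obj T.obj₃) (hx : (HomologySequence.δ T i (i + 1) rfl).hom x = 0) :
    ∃ y : (HF i).obj T.obj₂, ((HF i).map T.mor₂).hom y = x :=
  (ShortComplex.moduleCat_exact_iff _).1 (HomologySequence.exact₃ T hT i (i + 1) rfl) x hx

lemma mor₁₂_elt {T : Triangle (Dual.D A)} (hT : T ∈ distinguishedTriangles) (i : ℤ)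
    (x : (HF i).obj T.obj₁) : ((HF i).map T.mor₂).hom (((HF i).map T.mor₁).hom x) = 0 := by
  rw [← LinearMap.comp_apply, ← ModuleCat.hom_comp, ← Functor.map_comp,
    comp_distTriang_mor_zero₁₂ _ hT, Functor.map_zero, ModuleCat.hom_zero, LinearMap.zero_apply]

/-- The map on cones of two approximations is an approximation. -/
lemma isApprox_cone {m : ℤ} {T' T : Triangle (Dual.D A)} (hT' : T' ∈ distinguishedTriangles)
    (hT : T ∈ distinguishedTriangles) (φ : T' ⟶ T) (hα : IsApprox (m + 1) φ.hom₁)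
    (hβ : IsApprox m φ.hom₂) : IsApprox m φ.hom₃ := by
  have hδ : ∀ i, (HF i).map φ.hom₃ ≫ HomologySequence.δ T i (i + 1) rfl =
      HomologySequence.δ T' i (i + 1) rfl ≫ (HF (i + 1)).map φ.hom₁ := by
    intro i
    have e1 := (DerivedCategory.homologyFunctor (ModuleCat.{u} A) 0).shiftMap_comp' φ.hom₃ T.mor₃
      i (i + 1) (by omega)
    have e2 := (DerivedCategory.homologyFunctor (ModuleCat.{u} A) 0).shiftMap_comp T'.mor₃ φ.hom₁
      i (i + 1) (by omega)
    rw [← φ.comm₃] at e1
    exact e1.symm.trans e2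
  have hmor₂ : ∀ i, (HF i).map T'.mor₂ ≫ (HF i).map φ.hom₃ =
      (HF i).map φ.hom₂ ≫ (HF i).map T.mor₂ := fun i => by
    rw [← Functor.map_comp, ← Functor.map_comp, φ.comm₂]
  have hmor₁ : ∀ i, (HF i).map T'.mor₁ ≫ (HF i).map φ.hom₂ =
      (HF i).map φ.hom₁ ≫ (HF i).map T.mor₁ := fun i => by
    rw [← Functor.map_comp, ← Functor.map_comp, φ.comm₁]
  have epi : ∀ i, m ≤ i → Function.Surjective ((HF i).map φ.hom₃).hom := by
    intro i hi x
    obtain ⟨e, he⟩ := (ModuleCat.epi_iff_surjective _).1 (hα.epi (i := i + 1) (by omega))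
      ((HomologySequence.δ T i (i + 1) rfl).hom x)
    have he0 : ((HF (i + 1)).map T'.mor₁).hom e = 0 := by
      apply (ModuleCat.mono_iff_injective _).1 (hβ.mono_map (i := i + 1) (by omega))
      refine ((congrArg (fun g => g.hom e) (hmor₁ (i + 1))).trans ?_).trans
        (map_zero ((HF (i + 1)).map φ.hom₂).hom).symm
      refine (congrArg ((HF (i + 1)).map T.mor₁).hom he).trans ?_
      exact congrArg (fun g => g.hom x) (HomologySequence.δ_comp T hT i (i + 1) rfl)
    obtain ⟨c, hc⟩ := exact₁_elt hT' i e he0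
    have hsub : (HomologySequence.δ T i (i + 1) rfl).hom (((HF i).map φ.hom₃).hom c - x) = 0 := by
      rw [map_sub, sub_eq_zero]
      exact ((congrArg (fun g => g.hom c) (hδ i)).trans
        (congrArg ((HF (i + 1)).map φ.hom₁).hom hc)).trans he
    obtain ⟨l, hl⟩ := exact₃_elt hT i _ hsub
    obtain ⟨e', rfl⟩ := (ModuleCat.epi_iff_surjective _).1 (hβ.epi hi) l
    refine ⟨c - ((HF i).map T'.mor₂).hom e', ?_⟩
    rw [map_sub]
    erw [show ((HF i).map φ.hom₃).hom (((HF i).map T'.mor₂).hom e') =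
      ((HF i).map T.mor₂).hom (((HF i).map φ.hom₂).hom e') from
        congrArg (fun g => g.hom e') (hmor₂ i)]
    erw [hl]
    abel
  have inj : ∀ i, m < i → Function.Injective ((HF i).map φ.hom₃).hom := by
    intro i hi
    rw [injective_iff_map_eq_zero]
    intro c hc
    have hc0 : (HomologySequence.δ T' i (i + 1) rfl).hom c = 0 := by
      apply (ModuleCat.mono_iff_injective _).1 (hα.mono_map (i := i + 1) (by omega))
      refine ((congrArg (fun g => g.hom c) (hδ i)).symm.trans ?_).trans
        (map_zero ((HF (i + 1)).map φ.hom₁).hom).symm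
      exact (congrArg (HomologySequence.δ T i (i + 1) rfl).hom hc).trans (map_zero _)
    obtain ⟨e', rfl⟩ := exact₃_elt hT' i c hc0
    have h0 : ((HF i).map T.mor₂).hom (((HF i).map φ.hom₂).hom e') = 0 :=
      (congrArg (fun g => g.hom e') (hmor₂ i)).symm.trans hc
    obtain ⟨k, hk⟩ := exact₂_elt hT i _ h0
    obtain ⟨e, he⟩ := (ModuleCat.epi_iff_surjective _).1 (hα.epi (i := i) (by omega)) k
    have hm : ((HF i).map φ.hom₂).hom (((HF i).map T'.mor₁).hom e) =
        ((HF i).map T.mor₁).hom (((HF i).map φ.hom₁).hom e) := by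
      rw [← LinearMap.comp_apply, ← ModuleCat.hom_comp, hmor₁ i]
      rfl
    have hm2 : ((HF i).map T.mor₁).hom (((HF i).map φ.hom₁).hom e) =
        ((HF i).map φ.hom₂).hom e' := (congrArg ((HF i).map T.mor₁).hom he).trans hk
    have he' : e' = ((HF i).map T'.mor₁).hom e :=
      (ModuleCat.mono_iff_injective _).1 (hβ.mono_map hi) (hm2.symm.trans hm.symm)
    rw [he']
    exact mor₁₂_elt hT' i e
  refine ⟨fun i hi => ?_, (ModuleCat.epi_iff_surjective _).2 (epi m le_rfl)⟩
  have := (ModuleCat.mono_iff_injective _).2 (inj i hi)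
  have := (ModuleCat.epi_iff_surjective _).2 (epi i hi.le)
  exact isIso_of_mono_of_epi _

/-- Two out of three: the cone. -/
lemma pc_cone {m : ℤ} {T : Triangle (Dual.D A)} (hT : T ∈ distinguishedTriangles)
    (h₁ : DRing.IsPseudoCoherent A (m + 1) T.obj₁) (h₂ : DRing.IsPseudoCoherent A m T.obj₂) :
    DRing.IsPseudoCoherent A m T.obj₃ := by
  obtain ⟨E, b, α, hE, hf, hα⟩ := exists_approx h₁
  obtain ⟨E', b', β, hE', hf', hβ⟩ := exists_approx h₂
  have := isKProjective_of_finiteFree hE hf
  obtain ⟨C, p, q, hC⟩ := distinguished_cocone_triangle β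
  have hCv := (isApprox_iff_vanishGE _ hC m).1 hβ
  obtain ⟨φ, hφ⟩ := Triangle.coyoneda_exact₂ _ hC (α ≫ T.mor₁)
    (hom_eq_zero E (m + 1) (fun i hi => hE i (Or.inl hi)) C (fun i hi => hCv i (by omega)) _)
  obtain ⟨f, rfl⟩ := exists_Q_map_eq φ
  let T' := Q.mapTriangle.obj (CochainComplex.mappingCone.triangle f)
  have hT' : T' ∈ distinguishedTriangles := mappingCone_triangle_distinguished f
  obtain ⟨γ, hγ₁, hγ₂⟩ := complete_distinguished_triangle_morphism T' T hT' hT α β hφ.symm
  exact isPseudoCoherent_of_approx (E := CochainComplex.mappingCone f) γ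
    (vanishesOutside_mappingCone f hE hE') (finiteFree_mappingCone f hf hf')
    (isApprox_cone hT' hT (Triangle.homMk T' T α β γ hφ.symm hγ₁ hγ₂) hα hβ)

/-- Two out of three: the middle term. -/
lemma pc_middle {m : ℤ} {T : Triangle (Dual.D A)} (hT : T ∈ distinguishedTriangles)
    (h₁ : DRing.IsPseudoCoherent A m T.obj₁) (h₃ : DRing.IsPseudoCoherent A m T.obj₃) :
    DRing.IsPseudoCoherent A m T.obj₂ := by
  refine pc_cone (T := T.invRotate) (inv_rot_of_distTriang _ hT) ?_ h₁
  exact pc_shift h₃ (-1) (m + 1) (by omega)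

/-- Two out of three: the first term. -/
lemma pc_first {m : ℤ} {T : Triangle (Dual.D A)} (hT : T ∈ distinguishedTriangles)
    (h₂ : DRing.IsPseudoCoherent A (m + 1) T.obj₂) (h₃ : DRing.IsPseudoCoherent A m T.obj₃) :
    DRing.IsPseudoCoherent A (m + 1) T.obj₁ :=
  (pc_shift_iff 1 m rfl).1 (pc_cone (T := T.rotate) (rot_of_distTriang _ hT) h₂ h₃)

/-- Direct summands. -/
lemma pc_of_biprod {m : ℤ} {K L : Dual.D A} [HasBinaryBiproduct K L]
    (h : DRing.IsPseudoCoherent A m (K ⊞ L)) :
    DRing.IsPseudoCoherent A m K ∧ DRing.IsPseudoCoherent A m L := by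
  obtain ⟨b, hb⟩ := pc_boundedAbove h
  have hv : ∀ i, b < i → Subsingleton (Dual.HD A K i) ∧ Subsingleton (Dual.HD A L i) := by
    intro i hi
    have hz := (subsingleton_HD_iff_isZero _ _).1 (hb i hi)
    constructor
    · rw [subsingleton_HD_iff_isZero, IsZero.iff_id_eq_zero, ← (HF i).map_id,
        ← biprod.inl_fst (X := K) (Y := L), Functor.map_comp, hz.eq_of_tgt ((HF i).map biprod.inl) 0,
        zero_comp]
    · rw [subsingleton_HD_iff_isZero, IsZero.iff_id_eq_zero, ← (HF i).map_id,
        ← biprod.inr_snd (X := K) (Y := L), Functor.map_comp, hz.eq_of_tgt ((HF i).map biprod.inr) 0,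
        zero_comp]
  have key : ∀ (k : ℕ) (j : ℤ), m ≤ j → b + 1 ≤ j + (k : ℤ) →
      DRing.IsPseudoCoherent A j K ∧ DRing.IsPseudoCoherent A j L := by
    intro k
    induction k with
    | zero =>
      intro j _ hj
      exact ⟨pc_of_vanishGE fun i hi => (hv i (by omega)).1,
        pc_of_vanishGE fun i hi => (hv i (by omega)).2⟩
    | succ k ih =>
      intro j hjm hj
      obtain ⟨h1, h2⟩ := ih (j + 1) (by omega) (by omega)
      have hS := pc_mono h hjm
      exact ⟨pc_cone (T := binaryBiproductTriangle L K) (binaryBiproductTriangle_distinguished L K) h2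
          (pc_of_iso (biprod.braiding K L) hS),
        pc_cone (T := binaryBiproductTriangle K L) (binaryBiproductTriangle_distinguished K L) h1 hS⟩
  exact key (b + 1 - m).toNat m le_rfl (by omega)

/-- In a bounded above complex of finite projectives, exact in degrees `> m`, the cocycles in
degrees `≥ m` are finite projective. -/
lemma ker_finite_projective {E : DRing.Cx A} {b m : ℤ} (hb : DRing.VanishesAbove E b)
    (hf : ∀ i, Module.Finite A (E.X i) ∧ Module.Projective A (E.X i))
    (hex : ∀ i, m < i → E.ExactAt i) (i : ℤ) (hi : m ≤ i) :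
    Module.Finite A (LinearMap.ker (E.d i (i + 1)).hom) ∧
      Module.Projective A (LinearMap.ker (E.d i (i + 1)).hom) := by
  obtain ⟨k, hk⟩ : ∃ k : ℕ, b + 1 ≤ i + k := ⟨(b + 1 - i).toNat, by omega⟩
  induction k generalizing i with
  | zero =>
    have := ModuleCat.subsingleton_of_isZero (hb i (by omega))
    exact ⟨inferInstance, inferInstance⟩
  | succ k ih =>
    obtain ⟨h1, h2⟩ := ih (i + 1) (by omega) (by omega)
    let g : E.X i →ₗ[A] LinearMap.ker (E.d (i + 1) (i + 1 + 1)).hom :=
      (E.d i (i + 1)).hom.codRestrict _ fun x => d_d (K := E) _ _ _ x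
    have hg : Function.Surjective g := by
      rintro ⟨y, hy⟩
      obtain ⟨x, hx⟩ := (exactAt_iff_forall (i + 1) i rfl).1 (hex (i + 1) (by omega)) y hy
      exact ⟨x, Subtype.ext hx⟩
    obtain ⟨s, hs⟩ := Module.projective_lifting_property g LinearMap.id hg
    have e : LinearMap.ker g = LinearMap.ker (E.d i (i + 1)).hom := LinearMap.ker_codRestrict _ _ _
    let r : E.X i →ₗ[A] LinearMap.ker g :=
      (LinearMap.id - s.comp g).codRestrict _ fun x => by
        simp only [LinearMap.mem_ker, LinearMap.sub_apply, LinearMap.id_apply, LinearMap.comp_apply,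
          map_sub]
        rw [show g (s (g x)) = g x from LinearMap.congr_fun hs (g x), sub_self]
    have hr : r.comp (LinearMap.ker g).subtype = LinearMap.id := by
      refine LinearMap.ext fun x => Subtype.ext ?_
      have hx : g x = 0 := x.2
      simp [r, hx]
    obtain ⟨_, _⟩ := hf i
    rw [← e]
    refine ⟨Module.Finite.of_surjective r fun x => ⟨x, LinearMap.congr_fun hr x⟩, ?_⟩
    exact Module.Projective.of_split (LinearMap.ker g).subtype r hr

/-- The top cohomology of an `m`-pseudo-coherent object with `H^{>m} = 0` is finite. -/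
lemma finite_top {m : ℤ} {K : Dual.D A} (h : DRing.IsPseudoCoherent A m K)
    (hv : ∀ i, m < i → Subsingleton (Dual.HD A K i)) : Module.Finite A (Dual.HD A K m) := by
  obtain ⟨E, b, α, hE, hf, hα⟩ := exists_approx h
  have hex : ∀ i, m < i → E.ExactAt i := fun i hi => by
    rw [HomologicalComplex.exactAt_iff_isZero_homology]
    have := hα.1 i hi
    exact (((subsingleton_HD_iff_isZero _ _).1 (hv i hi)).of_iso
      (asIso ((HF i).map α))).of_iso (hIso E i).symm
  have := (ker_finite_projective (fun i hi => hE i (Or.inr hi))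
    (fun i => ⟨(hf i).1, have := (hf i).2; inferInstance⟩) hex m le_rfl).1
  let c : LinearMap.ker (E.d m (m + 1)).hom →ₗ[A] E.homology m :=
    { toFun := fun z => cls z.1 z.2
      map_add' := fun z w => cls_add z.2 w.2
      map_smul' := fun r z => cls_smul z.2 r }
  have : Module.Finite A (E.homology m) := Module.Finite.of_surjective c fun x => by
    obtain ⟨z, hz, rfl⟩ := cls_surjective x
    exact ⟨⟨z, hz⟩, rfl⟩
  have := hα.2
  exact Module.Finite.of_surjective (((hIso E m).inv ≫ (HF m).map α).hom)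
    ((ModuleCat.epi_iff_surjective _).1 inferInstance)

end Groth.Agent.DRing.PC
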