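import Groth.Agent.DRing.HomCx
import Groth.Agent.DRing.InjAmp
import Groth.Agent.DRing.KFlatRes
import Groth.Agent.DRing.LTensor
import Groth.Agent.DHA.KInjectiveResolution
import Groth.Agent.DTrunc.RightDerived

/-!
# `RHom(E, -)` for an arbitrary complex `E`, computed by resolutions of either argument
-/

universe u

open CategoryTheory CategoryTheory.Limits MonoidalCategory

attribute [local instance] HasDerivedCategory.standard

namespace Groth.Agent.DRing.RHomRep

open Groth.Agent.DTenLib DBasic HomCx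

variable {A : Type u} [CommRing A] {E E' L L' Z : DRing.Cx A}

lemma homCxMap_eq_curry (f : L ⟶ L') : DRing.homCxMap E f = curry (ev E L ≫ f) := by
  have h : uncurry (𝟙 (DRing.homCx E L)) = ev E L := by
    rw [uncurry, MonoidalCategory.id_whiskerRight, Category.id_comp]
  rw [← h, curry_post, curry_uncurry, Category.id_comp]

/-- `Hom•(E, -)` respects homotopies. -/
noncomputable def homCxMapHomotopy {f f' : L ⟶ L'} (h : Homotopy f f') :
    Homotopy (DRing.homCxMap E f) (DRing.homCxMap E f') :=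
  (Homotopy.ofEq (homCxMap_eq_curry f)).trans
    ((curryHomotopy (h.compLeft (ev E L))).trans (Homotopy.ofEq (homCxMap_eq_curry f').symm))

lemma isGood (I : DRing.Cx A) [I.IsKInjective] :
    DTrunc.RightDerived.IsGood DerivedCategory.Q (DRing.homCxQ E) I where
  fac _ φ := InjAmp.exists_Q_map_eq_inj φ
  eq Y g g' h := by
    obtain ⟨s⟩ := (InjAmp.Q_map_eq_iff_inj g g').1 h
    exact DerivedCategory.Q_map_eq_of_homotopy (ModuleCat.{u} A) (homCxMapHomotopy s)

lemma hasEnough : DTrunc.RightDerived.HasEnough DerivedCategory.Q (DRing.homCxQ E) := fun X => by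
  obtain ⟨I, s, hI, hs, -, -⟩ := DHA.KInj.exists_resolution (ModuleCat.{u} A) X
  exact ⟨I, s, isGood I, inferInstance⟩

/-- `RHom(E, -)` exists. -/
theorem hasRHomCx (E : DRing.Cx A) : DRing.HasRHomCx E := hasEnough.hasRightDerivedFunctor _

lemma uncurry_pre (g : E' ⟶ E) (a : Z ⟶ DRing.homCx E L) :
    uncurry (a ≫ pre g L) = Z ◁ g ≫ uncurry a := by
  rw [uncurry_comp (P := E'), uncurry, uncurry, pre_ev, ← Category.assoc, ← whisker_exchange, Category.assoc]

/-- `Hom•(-, I)` preserves quasi-isomorphisms for K-injective `I`. -/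
theorem quasiIso_pre {I : DRing.Cx A} [I.IsKInjective] (g : E' ⟶ E) [QuasiIso g] : QuasiIso (pre g I) := by
  refine (DerivedCategory.isIso_Q_map_iff_quasiIso (C := ModuleCat.{u} A) _).1 ?_
  have key : ∀ (W : DRing.Cx A) [W.IsKProjective], Function.Bijective
      (fun φ : DRing.toD W ⟶ DRing.toD (DRing.homCx E I) => φ ≫ DerivedCategory.Q.map (pre g I)) := by
    intro W _
    have := KFlat.quasiIso_whiskerLeft (KFlat.isKFlat_of_isKProjective W) g
    have : IsIso (DerivedCategory.Q.map (W ◁ g)) := inferInstance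
    refine ⟨fun φ φ' h => ?_, fun ψ => ?_⟩
    · obtain ⟨a, rfl⟩ := exists_Q_map_eq φ
      obtain ⟨a', rfl⟩ := exists_Q_map_eq φ'
      dsimp only at h
      rw [← Functor.map_comp, ← Functor.map_comp] at h
      obtain ⟨s⟩ := (Q_map_eq_iff _ _).1 h
      have h1 : DerivedCategory.Q.map (W ◁ g) ≫ DerivedCategory.Q.map (uncurry a) =
          DerivedCategory.Q.map (W ◁ g) ≫ DerivedCategory.Q.map (uncurry a') := by
        rw [← Functor.map_comp, ← Functor.map_comp, ← uncurry_pre, ← uncurry_pre]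
        exact DerivedCategory.Q_map_eq_of_homotopy (ModuleCat.{u} A) (uncurryHomotopy s)
      obtain ⟨t⟩ := (InjAmp.Q_map_eq_iff_inj _ _).1 ((cancel_epi _).1 h1)
      have h2 := curryHomotopy t
      rw [curry_uncurry, curry_uncurry] at h2
      exact (Q_map_eq_iff _ _).2 ⟨h2⟩
    · obtain ⟨b, rfl⟩ := exists_Q_map_eq ψ
      obtain ⟨a, ha⟩ := InjAmp.exists_Q_map_eq_inj (K := W ⊗ E) (L := I)
        (inv (DerivedCategory.Q.map (W ◁ g)) ≫ DerivedCategory.Q.map (uncurry b))
      obtain ⟨s⟩ := (InjAmp.Q_map_eq_iff_inj (W ◁ g ≫ a) (uncurry b)).1 (by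
        rw [Functor.map_comp, ha, IsIso.hom_inv_id_assoc])
      refine ⟨DerivedCategory.Q.map (curry a), ?_⟩
      dsimp only
      rw [← Functor.map_comp]
      refine DerivedCategory.Q_map_eq_of_homotopy (ModuleCat.{u} A) ?_
      have h2 := curryHomotopy ((Homotopy.ofEq (show uncurry (curry a ≫ pre g I) = W ◁ g ≫ a by
        rw [uncurry_pre, uncurry_curry])).trans s)
      rw [curry_uncurry, curry_uncurry] at h2
      exact h2
  obtain ⟨W, _, -, ⟨e⟩⟩ := exists_kproj_iso (DRing.toD (DRing.homCx E' I))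
  obtain ⟨W', _, -, ⟨e'⟩⟩ := exists_kproj_iso (DRing.toD (DRing.homCx E I))
  obtain ⟨s, hs⟩ := (key W).2 e.hom
  refine ⟨e.inv ≫ s, ?_, ?_⟩
  · rw [← cancel_epi e'.hom]
    refine (key W').1 ?_
    dsimp only at hs ⊢
    simp only [Category.assoc]
    rw [hs, Iso.inv_hom_id, Category.comp_id]
    exact (congrArg (e'.hom ≫ ·) (Category.id_comp _)).symm
  · dsimp only at hs
    rw [Category.assoc, hs, Iso.inv_hom_id]

/-- `RHom(E, -)` is the Hom complex from a K-projective resolution of `E`. -/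
theorem nonempty_iso_of_res {P E : DRing.Cx A} [P.IsKProjective] (π : P ⟶ E) [QuasiIso π]
    [DRing.HasRHomCx E] (L : DRing.Cx A) :
    Nonempty ((DRing.RHomCx E).obj (DRing.toD L) ≅ DRing.toD (DRing.homCx P L)) := by
  obtain ⟨I, s, hI, hs, -, -⟩ := DHA.KInj.exists_resolution (ModuleCat.{u} A) L
  let α := (DRing.homCxQ E).totalRightDerivedUnit DerivedCategory.Q
    (HomologicalComplex.quasiIso (ModuleCat.{u} A) (ComplexShape.up ℤ))
  have hα : IsIso (α.app I) :=
    hasEnough.isIso_app (W := HomologicalComplex.quasiIso (ModuleCat.{u} A) (ComplexShape.up ℤ)) (DRing.RHomCx E) α (isGood I)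
  have h1 : IsIso (DerivedCategory.Q.map (pre π I)) :=
    (DerivedCategory.isIso_Q_map_iff_quasiIso (C := ModuleCat.{u} A) _).2 (quasiIso_pre (I := I) π)
  have h2 : IsIso (DerivedCategory.Q.map (DRing.homCxMap P s)) :=
    (DerivedCategory.isIso_Q_map_iff_quasiIso (C := ModuleCat.{u} A) _).2 (quasiIso_homCxMap (P := P) s)
  exact ⟨(DRing.RHomCx E).mapIso (asIso (DerivedCategory.Q.map s)) ≪≫ (@asIso _ _ _ _ (α.app I) hα).symm ≪≫
    (@asIso _ _ _ _ (DerivedCategory.Q.map (pre π I)) h1) ≪≫ (@asIso _ _ _ _ (DerivedCategory.Q.map (DRing.homCxMap P s)) h2).symm⟩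

/-- `RHom(E, -)` is the Hom complex from a K-projective representative of the class of `E`. -/
theorem nonempty_iso_of_rep {P E : DRing.Cx A} [P.IsKProjective] (e : DRing.toD P ≅ DRing.toD E)
    [DRing.HasRHomCx E] {L : DRing.Cx A} {K : Dual.D A} (eL : DRing.toD L ≅ K) :
    Nonempty ((DRing.RHomCx E).obj K ≅ DRing.toD (DRing.homCx P L)) := by
  obtain ⟨π, hπ⟩ := exists_Q_map_eq e.hom
  have : QuasiIso π := (DerivedCategory.isIso_Q_map_iff_quasiIso (C := ModuleCat.{u} A) π).1
    (by rw [hπ]; infer_instance)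
  obtain ⟨i⟩ := nonempty_iso_of_res π L
  exact ⟨(DRing.RHomCx E).mapIso eL.symm ≪≫ i⟩

end Groth.Agent.DRing.RHomRep
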