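import Groth.Agent.DRing.ProjAmpTFAE
import Groth.Agent.DRing.ProjAmp
import Groth.Agent.DRing.TorAmp
import Groth.Agent.DRing.Perfect
import Groth.Agent.DTrunc.WayOut
import Groth.Agent.RegLoc.Homological
import Mathlib.RingTheory.LocalProperties.ProjectiveDimension
import Mathlib.RingTheory.Ideal.Height
import Mathlib.Algebra.Homology.DerivedCategory.TStructure
import Mathlib.CategoryTheory.Triangulated.TStructure.TruncLTGE

/-!
# Regular rings of finite dimension: orthogonality across a gap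
-/

universe u

open CategoryTheory CategoryTheory.Limits DerivedCategory CategoryTheory.Pretriangulated

attribute [local instance] HasDerivedCategory.standard

namespace Groth.Agent.DRing.RegularGap

open DBasic

variable {R : Type u} [CommRing R]

theorem glDim_le [IsNoetherianRing R]
    (hreg : ∀ p : PrimeSpectrum R, IsRegularLocalRing (Localization.AtPrime p.asIdeal)) {d : ℕ}
    (hd : ringKrullDim R = d) (M : ModuleCat.{u} R) : HasProjectiveDimensionLT M (d + 1) := by
  refine RegLoc.PD.pd_of_forall_cyclic d (fun I => ?_) M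
  refine (ModuleCat.hasProjectiveDimensionLE_iff_forall_primeSpectrum d _).2 fun p => ?_
  have := hreg p
  obtain ⟨e, he, -⟩ := RegLoc.exists_natCast_eq_ringKrullDim (Localization.AtPrime p.asIdeal)
  have hle : e ≤ d := by
    have h1 : ringKrullDim (Localization.AtPrime p.asIdeal) ≤ ringKrullDim R := by
      rw [IsLocalization.AtPrime.ringKrullDim_eq_height p.asIdeal]
      exact Ideal.height_le_ringKrullDim_of_ne_top (Ideal.IsPrime.ne_top inferInstance)
    rw [he, hd] at h1
    exact_mod_cast h1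
  have h2 := RegLoc.Homological.pd_le_dim he
    ((ModuleCat.of R (R ⧸ I)).localizedModule p.asIdeal.primeCompl)
  have : HasProjectiveDimensionLT ((ModuleCat.of R (R ⧸ I)).localizedModule p.asIdeal.primeCompl)
      (e + 1) := h2
  exact hasProjectiveDimensionLT_of_ge _ (e + 1) (d + 1) (by omega)

theorem hom_eq_zero_of_gap [IsNoetherianRing R]
    (hreg : ∀ p : PrimeSpectrum R, IsRegularLocalRing (Localization.AtPrime p.asIdeal)) {d : ℕ}
    (hd : ringKrullDim R = d) {K L : Dual.D R} (hKb : ∃ b : ℤ, ∀ i : ℤ, b < i → Subsingleton (Dual.HD R K i))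
    (k : ℤ) (hK : ∀ i : ℤ, i ≤ k → Subsingleton (Dual.HD R K i))
    (hL : ∀ i : ℤ, k - d + 1 ≤ i → Subsingleton (Dual.HD R L i)) (φ : K ⟶ L) : φ = 0 := by
  obtain ⟨b, hb⟩ := hKb
  obtain ⟨P, hP, hproj, ⟨e⟩⟩ := ProjAmp.hasProjAmp_of_glDim (glDim_le hreg hd) K (a := k + 1) (b := b)
    fun i hi => hi.elim (fun h => hK i (by omega)) (hb i)
  exact ProjAmp.hom_eq_zero_of_rep hP hproj e (fun i hi => hL i (by omega)) φ

/-- The standard t-structure. -/
noncomputable abbrev tt : Triangulated.TStructure (Dual.D R) := DerivedCategory.TStructure.t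

theorem split_of_gap [IsNoetherianRing R]
    (hreg : ∀ p : PrimeSpectrum R, IsRegularLocalRing (Localization.AtPrime p.asIdeal)) {d : ℕ}
    (hd1 : 1 ≤ d) (hd : ringKrullDim R = d) (K : Dual.D R)
    (hKb : ∃ b : ℤ, ∀ i : ℤ, b < i → Subsingleton (Dual.HD R K i)) (k : ℤ)
    (hgap : ∀ i : ℤ, k - d + 2 ≤ i → i ≤ k → Subsingleton (Dual.HD R K i))
    [HasBinaryBiproduct (((tt).truncLT (k - d + 2)).obj K) (((tt).truncGE (k + 1)).obj K)] :
    ∃ e : K ≅ ((tt).truncLT (k - d + 2)).obj K ⊞ ((tt).truncGE (k + 1)).obj K,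
      ((tt).truncLTι (k - d + 2)).app K ≫ e.hom = biprod.inl ∧
        e.hom ≫ biprod.snd = ((tt).truncGEπ (k + 1)).app K := by
  set m := k - (d : ℤ) + 2 with hm
  let X₁ := ((tt).truncLT m).obj K
  let X₂ := ((tt).truncGE m).obj K
  let X₃ := ((tt).truncGE (k + 1)).obj K
  have h₂ : X₂.IsGE m := (tt).isGE_truncGE_obj K m m le_rfl
  have h₃ : X₃.IsGE (k + 1) := (tt).isGE_truncGE_obj K (k + 1) (k + 1) le_rfl
  have h₁ : X₁.IsLE (m - 1) := (tt).isLE_truncLT_obj K m (m - 1) (by omega)
  have h₁' : (((tt).truncLT (k + 1)).obj K).IsLE k := (tt).isLE_truncLT_obj K (k + 1) k (by omega)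
  have hπ : ∀ i, m ≤ i → IsIso ((HF i).map (((tt).truncGEπ m).app K)) := fun i hi =>
    DTrunc.isIso_homology_mor₂ _ ((tt).triangleLTGE_distinguished m K) (m - 1) i (by omega)
  haveI : (((tt).triangleLTGE (k + 1)).obj K).obj₁.IsLE k := h₁'
  haveI : (((tt).triangleLTGE m).obj K).obj₁.IsLE (m - 1) := h₁
  have hπ' : ∀ i, k + 1 ≤ i → IsIso ((HF i).map (((tt).truncGEπ (k + 1)).app K)) := fun i hi =>
    DTrunc.isIso_homology_mor₂ _ ((tt).triangleLTGE_distinguished (k + 1) K) k i (by omega)
  have hlow : ∀ i, i ≤ k → IsZero ((HF i).obj X₂) := fun i hi => by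
    by_cases h : i < m
    · exact DerivedCategory.isZero_of_isGE X₂ m i h
    · have := hπ i (by omega)
      exact (((subsingleton_HD_iff_isZero K i).1 (hgap i (by omega) hi)).of_iso
        (asIso ((HF i).map (((tt).truncGEπ m).app K))).symm)
  let j : X₂ ⟶ X₃ := ((tt).natTransTruncGEOfLE m (k + 1) (by omega)).app K
  have hj : ((tt).truncGEπ m).app K ≫ j = ((tt).truncGEπ (k + 1)).app K :=
    (tt).π_natTransTruncGEOfLE_app m (k + 1) (by omega) K
  have hjiso : IsIso j := by
    rw [isIso_iff_HF]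
    intro i
    by_cases hi : i ≤ k
    · exact isIso_of_source_target_iso_zero _ (hlow i hi).isoZero
        (DerivedCategory.isZero_of_isGE X₃ (k + 1) i (by omega)).isoZero
    · have := hπ i (by omega)
      have h : IsIso ((HF i).map (((tt).truncGEπ m).app K) ≫ (HF i).map j) := by
        rw [← Functor.map_comp, hj]
        exact hπ' i (by omega)
      exact IsIso.of_isIso_comp_left ((HF i).map (((tt).truncGEπ m).app K)) ((HF i).map j)
  let T := ((tt).triangleLTGE m).obj K
  have hT : T ∈ distinguishedTriangles := (tt).triangleLTGE_distinguished m K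
  have h0 : T.mor₃ = 0 := by
    refine hom_eq_zero_of_gap hreg hd ?_ k (fun i hi => (subsingleton_HD_iff_isZero X₂ i).2 (hlow i hi)) ?_ T.mor₃
    · obtain ⟨b, hb⟩ := hKb
      refine ⟨max b m, fun i hi => (subsingleton_HD_iff_isZero X₂ i).2 ?_⟩
      have := hπ i (by omega)
      exact ((subsingleton_HD_iff_isZero K i).1 (hb i (by omega))).of_iso
        (asIso ((HF i).map (((tt).truncGEπ m).app K))).symm
    · intro i hi
      refine (subsingleton_HD_shift X₁ 1 i (1 + i) rfl).2 ((subsingleton_HD_iff_isZero X₁ (1 + i)).2 ?_)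
      exact DerivedCategory.isZero_of_isLE X₁ (m - 1) (1 + i) (by omega)
  obtain ⟨f, hf1, hf2⟩ := Pretriangulated.exists_iso_binaryBiproduct_of_distTriang T hT h0
  refine ⟨f ≪≫ biprod.mapIso (Iso.refl X₁) (@asIso _ _ _ _ j hjiso), ?_, ?_⟩
  · change T.mor₁ ≫ f.hom ≫ biprod.map (𝟙 X₁) j = biprod.inl
    rw [reassoc_of% hf1]
    exact (biprod.inl_map _ _).trans (Category.id_comp _)
  · change (f.hom ≫ biprod.map (𝟙 X₁) j) ≫ biprod.snd = _
    rw [Category.assoc]
    erw [biprod.map_snd, ← reassoc_of% hf2]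
    exact hj

end Groth.Agent.DRing.RegularGap
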