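import Groth.Agent.DRing.RelPCLoc
import Groth.Agent.DRing.BaseChangeAmp

/-!
# Base change and restriction along a flat base
-/

universe u

open CategoryTheory DerivedCategory
open scoped TensorProduct

attribute [local instance] HasDerivedCategory.standard

namespace Groth.Agent.DRing.RelBC

/-- base change of a pseudo-coherent object and restriction commute -/
theorem nonempty_baseChange_restrict (R A R' : Type u) [CommRing R] [CommRing A] [Algebra R A] [CommRing R']
    [Algebra R R'] [Module.Flat R A] [DRing.HasLBaseChange (algebraMap R R')]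
    [DRing.HasLBaseChange (Algebra.TensorProduct.includeRight.toRingHom : A →+* R' ⊗[R] A)]
    (K : Dual.D A) (hpc : DRing.IsPseudoCoherent' A K) :
    Nonempty ((DRing.LBaseChange (algebraMap R R')).obj ((DRing.restrictD (algebraMap R A)).obj K) ≅
      (DRing.restrictD (algebraMap R' (R' ⊗[R] A))).obj
        ((DRing.LBaseChange (Algebra.TensorProduct.includeRight.toRingHom : A →+* R' ⊗[R] A)).obj K)) := by
  obtain ⟨E, c, hc, hf, ⟨e⟩⟩ := hpc
  let α := algebraMap R A
  let ψ := algebraMap R R'
  let φ : A →+* R' ⊗[R] A := Algebra.TensorProduct.includeRight.toRingHom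
  let ρ := algebraMap R' (R' ⊗[R] A)
  let X := (DRing.restrictCx α).obj E
  have hX : Groth.Agent.DRing.KFlat.IsKFlat X := by
    refine Groth.Agent.DRing.KFlat.isKFlat_of_boundedAbove_flat _ c
      (fun i hi => (ModuleCat.restrictScalars.{u} α).map_isZero (hc i hi)) fun i => ?_
    let N : Type u := E.X i
    letI : Module R N := Module.compHom N α
    haveI : IsScalarTower R A N := IsScalarTower.of_algebraMap_smul fun _ _ => rfl
    haveI : Module.Free A N := (hf i).2
    exact Module.Flat.trans R A N
  have hE : Groth.Agent.DRing.KFlat.IsKFlat E :=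
    Groth.Agent.DRing.TorAmp.isKFlat_of_projective hc fun i => have := (hf i).2; inferInstance
  letI : Algebra A (R' ⊗[R] A) := Algebra.TensorProduct.rightAlgebra
  have hsq : ∀ r, ρ (ψ r) = φ (α r) := fun r => by
    change (algebraMap R R' r) ⊗ₜ[R] (1 : A) = (1 : R') ⊗ₜ[R] (algebraMap R A r)
    rw [Algebra.algebraMap_eq_smul_one, Algebra.algebraMap_eq_smul_one, TensorProduct.smul_tmul]
  haveI : IsScalarTower R A (R' ⊗[R] A) := IsScalarTower.of_algebraMap_eq fun r => hsq r
  let s := Groth.Agent.DRing.RelPC.sqIso α ψ φ ρ hsq fun M =>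
    Groth.Agent.DRing.RelPC.bijective_sqHom α ψ φ ρ hsq inferInstance inferInstance inferInstance inferInstance (Algebra.algebra_ext _ _ fun _ => rfl)
      (Algebra.algebra_ext _ _ fun _ => rfl) (Algebra.algebra_ext _ _ fun _ => rfl)
      (Algebra.algebra_ext _ _ fun _ => rfl) M
  let i2 : (Groth.Agent.DRing.LTensor.extCx ψ).obj X ≅
      (DRing.restrictCx ρ).obj ((Groth.Agent.DRing.LTensor.extCx φ).obj E) :=
    (Functor.mapHomologicalComplexCompIso (Iso.refl (ModuleCat.restrictScalars.{u} α ⋙ ModuleCat.extendScalars.{u, u, u} ψ)) (ComplexShape.up ℤ)).app E ≪≫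
      (NatIso.mapHomologicalComplex s (ComplexShape.up ℤ)).app E ≪≫
      (Functor.mapHomologicalComplexCompIso (Iso.refl (ModuleCat.extendScalars.{u, u, u} φ ⋙ ModuleCat.restrictScalars.{u} ρ)) (ComplexShape.up ℤ)).symm.app E
  exact ⟨(Groth.Agent.DRing.Perfect.baseChangeIsoOfRep ψ hX (Groth.Agent.DRing.TensorAmp.restrictDIso α e)).symm ≪≫
    DerivedCategory.Q.mapIso i2 ≪≫
    Groth.Agent.DRing.TensorAmp.restrictDIso ρ (Groth.Agent.DRing.Perfect.baseChangeIsoOfRep φ hE e)⟩

end Groth.Agent.DRing.RelBC
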