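import Groth.Agent.DRing.RelPC
import Groth.Agent.DRing.FlatBCModule
import Mathlib.RingTheory.AdjoinRoot
import Mathlib.RingTheory.TensorProduct.MvPolynomial
import Mathlib.RingTheory.Finiteness.Cardinality
import Mathlib.RingTheory.IntegralClosure.IsIntegralClosure.Basic
import Mathlib.RingTheory.Flat.Basic

/-!
# Relative pseudo-coherence: finite maps, pseudo-coherent intermediate rings
-/

universe u

open CategoryTheory CategoryTheory.Limits DerivedCategory

attribute [local instance] HasDerivedCategory.standard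

namespace Groth.Agent.DRing.RelPC

open DBasic PC TensorAmp

/-- Pseudo-coherence of restrictions along `φ` and along `ψ` agree. -/
def SamePC {A A' B : Type u} [CommRing A] [CommRing A'] [CommRing B] (φ : A →+* B) (ψ : A' →+* B) : Prop :=
  ∀ (K : Dual.D B) (m : ℤ), DRing.IsPseudoCoherent A m ((DRing.restrictD φ).obj K) ↔
    DRing.IsPseudoCoherent A' m ((DRing.restrictD ψ).obj K)

variable {S B : Type u} [CommRing S] [CommRing B]

lemma samePC_comp {C : Type u} [CommRing C] {φ : S →+* C} (h : Good φ) (ψ : C →+* B) :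
    SamePC (ψ.comp φ) ψ := fun K m => by
  obtain ⟨e⟩ := nonempty_restrictComp φ ψ K
  exact Iff.trans ⟨pc_of_iso e, pc_of_iso e.symm⟩ (h _ m).symm

open Polynomial in
lemma samePC_eval₂ (γ : S →+* B) (hγ : γ.Finite) (b : B) :
    SamePC (Polynomial.eval₂RingHom γ b) γ := by
  obtain ⟨p, hp, hpb⟩ := hγ.to_isIntegral b
  let ψ : AdjoinRoot p →+* B := AdjoinRoot.lift γ b hpb
  have h1 : Good (AdjoinRoot.mk p) := by
    refine good_of_surjective _ AdjoinRoot.mk_surjective (a := p) ?_ fun x hx => ?_
    · ext x
      rw [RingHom.mem_ker, AdjoinRoot.mk_eq_zero, Ideal.mem_span_singleton]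
    · by_contra h
      exact h (hp.mul_left_eq_zero_iff.1 hx)
  have h2 : Good (AdjoinRoot.of p) := by
    have := hp.finite_adjoinRoot
    have := hp.free_adjoinRoot
    exact good_of_module ((pc'_iff _).1 pcModule'_of_finiteFree)
  intro K m
  rw [pc_restrict_congr (show Polynomial.eval₂RingHom γ b = ψ.comp (AdjoinRoot.mk p) from
    Polynomial.ringHom_ext (fun r => by simp [ψ]) (by simp [ψ])) K m,
    pc_restrict_congr (show γ = ψ.comp (AdjoinRoot.of p) from RingHom.ext fun r => by simp [ψ]) K m]
  exact (samePC_comp h1 ψ K m).trans (samePC_comp h2 ψ K m).symm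

lemma samePC_eval₂Hom (γ : S →+* B) (hγ : γ.Finite) :
    ∀ {k : ℕ} (b : Fin k → B), SamePC (MvPolynomial.eval₂Hom γ b) γ := by
  intro k
  induction k with
  | zero =>
    intro b K m
    have hg : Good (MvPolynomial.C (R := S) (σ := Fin 0)) :=
      good_of_bijective _ ⟨MvPolynomial.C_injective _ _, MvPolynomial.C_surjective _⟩
    rw [pc_restrict_congr (show γ = (MvPolynomial.eval₂Hom γ b).comp MvPolynomial.C from
      RingHom.ext fun r => by simp) K m]
    exact (samePC_comp hg _ K m).symm
  | succ k ih =>
    intro b K m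
    let γ' := MvPolynomial.eval₂Hom γ fun j : Fin k => b j.succ
    have hγ' : γ'.Finite := RingHom.Finite.of_comp_finite (f := MvPolynomial.C) (by
      rwa [show γ'.comp MvPolynomial.C = γ from RingHom.ext fun r => by simp [γ']])
    rw [pc_restrict_congr (show MvPolynomial.eval₂Hom γ b = (Polynomial.eval₂RingHom γ' (b 0)).comp
        (MvPolynomial.finSuccEquiv S k : MvPolynomial (Fin (k + 1)) S →+* Polynomial (MvPolynomial (Fin k) S)) from
      MvPolynomial.ringHom_ext (fun r => by simp [γ', MvPolynomial.finSuccEquiv_apply]) fun i => by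
        refine Fin.cases ?_ (fun j => ?_) i
        · simp [γ', MvPolynomial.finSuccEquiv_X_zero]
        · simp [γ', MvPolynomial.finSuccEquiv_X_succ]) K m]
    exact ((samePC_comp (good_of_bijective _ (MvPolynomial.finSuccEquiv S k).bijective) _ K m).trans
      (samePC_eval₂ γ' hγ' (b 0) K m)).trans (ih _ K m)

theorem relPC_restrict_finite {R A B : Type u} [CommRing R] [CommRing A] [CommRing B]
    [Algebra R A] [Algebra A B] [Algebra R B] [IsScalarTower R A B] [Algebra.FiniteType R A]
    [Module.Finite A B] (K : Dual.D B) (m : ℤ) :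
    DerCA.IsRelPseudoCoherent R B m K ↔
      DerCA.IsRelPseudoCoherent R A m ((DRing.restrictD (algebraMap A B)).obj K) := by
  obtain ⟨n, α, hα⟩ := exists_presentation R A
  let γ : MvPolynomial (Fin n) R →+* B := (algebraMap A B).comp α
  have hγ : γ.Finite := RingHom.Finite.comp (RingHom.finite_algebraMap.2 inferInstance)
    (RingHom.Finite.of_surjective _ hα)
  obtain ⟨k, b, hb⟩ := Module.Finite.exists_fin (R := A) (M := B)
  let e := MvPolynomial.sumAlgEquiv R (Fin k) (Fin n)
  let f := MvPolynomial.renameEquiv R (finSumFinEquiv (m := k) (n := n)).symm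
  let δ : MvPolynomial (Fin (k + n)) R →ₐ[R] B :=
    MvPolynomial.aeval fun i => Sum.elim b (fun j => algebraMap A B (α (MvPolynomial.X j))) (finSumFinEquiv.symm i)
  let E : MvPolynomial (Fin (k + n)) R →+* MvPolynomial (Fin k) (MvPolynomial (Fin n) R) :=
    (f.trans e : MvPolynomial (Fin (k + n)) R →+* _)
  have hE : Good E := good_of_bijective _ (f.trans e).bijective
  have hδ : (δ : MvPolynomial (Fin (k + n)) R →+* B) = (MvPolynomial.eval₂Hom γ b).comp E := by
    refine MvPolynomial.ringHom_ext (fun r => ?_) fun i => ?_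
    · simp [δ, E, γ, e, f, ← IsScalarTower.algebraMap_apply]
    · obtain ⟨i | i, rfl⟩ := finSumFinEquiv.surjective i <;> simp [δ, E, γ, e, f]
  have hsurj : Function.Surjective δ := by
    intro y
    have hy : y ∈ Submodule.span A (Set.range b) := hb ▸ Submodule.mem_top
    induction hy using Submodule.span_induction with
    | mem x hx =>
      obtain ⟨i, rfl⟩ := hx
      exact ⟨MvPolynomial.X (finSumFinEquiv (Sum.inl i)), by simp [δ]⟩
    | zero => exact ⟨0, map_zero _⟩
    | add x y _ _ hx hy =>
      obtain ⟨px, rfl⟩ := hx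
      obtain ⟨py, rfl⟩ := hy
      exact ⟨px + py, map_add _ _ _⟩
    | smul a x _ hx =>
      obtain ⟨px, rfl⟩ := hx
      obtain ⟨q, rfl⟩ := hα a
      refine ⟨MvPolynomial.rename (fun j => finSumFinEquiv (Sum.inr j)) q * px, ?_⟩
      rw [map_mul, Algebra.smul_def]
      congr 1
      have : δ.comp (MvPolynomial.rename fun j => finSumFinEquiv (Sum.inr j)) =
          (IsScalarTower.toAlgHom R A B).comp α := MvPolynomial.algHom_ext fun j => by simp [δ]
      exact DFunLike.congr_fun this q
  obtain ⟨i⟩ := nonempty_restrictComp (α : MvPolynomial (Fin n) R →+* A) (algebraMap A B) K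
  rw [isRel_iff δ hsurj, isRel_iff α hα]
  refine Iff.trans ?_ ⟨pc_of_iso i, pc_of_iso i.symm⟩
  refine (pc_restrict_congr hδ K m).trans ?_
  exact (samePC_comp hE _ K m).trans (samePC_eval₂Hom γ hγ b K m)

lemma pcModule'_tensor {P Q : Type u} [CommRing P] [CommRing Q] [iQ : Algebra P Q] [Module.Flat P Q]
    {M : Type u} [AddCommGroup M] [Module P M] (hM : DRing.IsPseudoCoherentModule' P M) :
    DRing.IsPseudoCoherentModule' Q (TensorProduct P Q M) := by
  have key : ∀ (φ : P →+* Q) (i : Algebra P Q), φ.Flat → i = φ.toAlgebra →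
      letI := i; DRing.IsPseudoCoherentModule' Q (TensorProduct P Q M) := by
    intro φ i hφ hi
    subst hi
    exact Perfect.pcModule'_baseChange φ hφ hM
  exact key (algebraMap P Q) iQ (RingHom.flat_algebraMap_iff.2 inferInstance)
    (Algebra.algebra_ext _ _ fun _ => rfl)

attribute [local instance] MvPolynomial.algebraMvPolynomial in
lemma good_map {P A : Type u} [CommRing P] [CommRing A] [Algebra P A]
    (hA : DRing.IsPseudoCoherentModule' P A) (k : ℕ) :
    Good (MvPolynomial.map (σ := Fin k) (algebraMap P A)) := by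
  have h := pcModule'_tensor (Q := MvPolynomial (Fin k) P) hA
  have hb : IsBaseChange (MvPolynomial (Fin k) P)
      (IsScalarTower.toAlgHom P A (MvPolynomial (Fin k) A)).toLinearMap := Algebra.IsPushout.out
  exact good_congr (show algebraMap (MvPolynomial (Fin k) P) (MvPolynomial (Fin k) A) =
      MvPolynomial.map (algebraMap P A) from rfl)
    (good_of_module fun m => pcModule_congr hb.equiv ((pc'_iff _).1 h m))

theorem relPC_intermediate {R A B : Type u} [CommRing R] [CommRing A]
    [CommRing B] [Algebra R A] [Algebra A B] [Algebra R B] [IsScalarTower R A B] [Algebra.FiniteType R A]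
    [Algebra.FiniteType A B] (hA : DerCA.IsRelPseudoCoherentModuleAll R A A)
    (K : Dual.D B) (m : ℤ) :
    DerCA.IsRelPseudoCoherent A B m K ↔ DerCA.IsRelPseudoCoherent R B m K := by
  obtain ⟨n, α, hα⟩ := exists_presentation R A
  obtain ⟨k, β, hβ⟩ := exists_presentation A B
  let := (α : MvPolynomial (Fin n) R →+* A).toAlgebra
  have hA' : DRing.IsPseudoCoherentModule' (MvPolynomial (Fin n) R) A := by
    refine (pc'_iff _).2 fun m => ?_
    have h1 := (pcModule_restrict_iff (α : MvPolynomial (Fin n) R →+* A) (ModuleCat.of A A) m).1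
      ((isRel_iff α hα _ _).1 (hA m))
    exact pcModule_congr (show ((ModuleCat.restrictScalars (α : MvPolynomial (Fin n) R →+* A)).obj
        (ModuleCat.of A A) : ModuleCat.{u} _) ≃ₗ[MvPolynomial (Fin n) R] A from
      { toFun := fun x => x
        invFun := fun x => x
        left_inv := fun _ => rfl
        right_inv := fun _ => rfl
        map_add' := fun _ _ => rfl
        map_smul' := fun r x => (Algebra.smul_def r (show A from x)).symm }) h1
  let e := (MvPolynomial.renameEquiv R (finSumFinEquiv (m := k) (n := n)).symm).trans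
    (MvPolynomial.sumAlgEquiv R (Fin k) (Fin n))
  let E : MvPolynomial (Fin (k + n)) R →+* MvPolynomial (Fin k) A :=
    (MvPolynomial.map (algebraMap (MvPolynomial (Fin n) R) A)).comp
      (e : MvPolynomial (Fin (k + n)) R →+* MvPolynomial (Fin k) (MvPolynomial (Fin n) R))
  have hE : Good E := good_comp (good_of_bijective _ e.bijective) (good_map hA' k)
  let δ : MvPolynomial (Fin (k + n)) R →ₐ[R] B := MvPolynomial.aeval fun i =>
    Sum.elim (fun j => β (MvPolynomial.X j)) (fun j => algebraMap A B (α (MvPolynomial.X j)))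
      (finSumFinEquiv.symm i)
  have hδ : (δ : MvPolynomial (Fin (k + n)) R →+* B) = (β : MvPolynomial (Fin k) A →+* B).comp E := by
    refine MvPolynomial.ringHom_ext (fun r => ?_) fun i => ?_
    · simp [δ, E, e, RingHom.algebraMap_toAlgebra, ← IsScalarTower.algebraMap_apply]
    · obtain ⟨i | i, rfl⟩ := finSumFinEquiv.surjective i <;> simp [δ, E, e, RingHom.algebraMap_toAlgebra]
  have hsurj : Function.Surjective δ := by
    change Function.Surjective (δ : MvPolynomial (Fin (k + n)) R →+* B)
    rw [hδ]
    exact hβ.comp ((MvPolynomial.map_surjective _ hα).comp e.surjective)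
  rw [isRel_iff β hβ, isRel_iff δ hsurj]
  exact ((pc_restrict_congr hδ K m).trans (samePC_comp hE _ K m)).symm

end Groth.Agent.DRing.RelPC
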