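import Groth.Agent.DRing.TorIndep
import Groth.Agent.DRing.RelPCBaseChange
import Groth.Agent.DRing.BaseChangeAmp
import Groth.Agent.DRing.PCBaseChange

/-!
# Relative pseudo-coherence under tor-independent base change
-/

universe u
attribute [local instance] HasDerivedCategory.standard
open CategoryTheory CategoryTheory.Limits DerivedCategory CochainComplex HomComplex
open scoped TensorProduct

namespace Groth.Agent.DRing.RelPCTorBC

open PC DBasic

/-- Base change of a quasi-isomorphism of tor-independent complexes. -/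
theorem quasiIso_extCx {R R' P P' : Type u} [CommRing R] [CommRing R'] [Algebra R R'] [CommRing P]
    [CommRing P'] (ι : R →+* P) (ι' : R' →+* P') (ψ : P →+* P')
    (hsq : ∀ r, ι' (algebraMap R R' r) = ψ (ι r))
    (hb : ∀ M, Function.Bijective (RelPC.sqHom ι (algebraMap R R') ψ ι' hsq M).hom)
    {E E' : DRing.Cx P} (π : E ⟶ E') [QuasiIso π] {b : ℤ} (hE : DRing.VanishesAbove E b)
    (hE' : DRing.VanishesAbove E' b)
    (h : ∀ i, TorIndep.Ind ((ModuleCat.restrictScalars (algebraMap R R')).obj (ModuleCat.of R' R'))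
      ((ModuleCat.restrictScalars ι).obj (E.X i)))
    (h' : ∀ i, TorIndep.Ind ((ModuleCat.restrictScalars (algebraMap R R')).obj (ModuleCat.of R' R'))
      ((ModuleCat.restrictScalars ι).obj (E'.X i))) :
    QuasiIso ((LTensor.extCx ψ).map π) := by
  rw [Groth.Agent.LocCoh.RGamma.quasiIso_iff_cone_acyclic]
  have hA : ((LTensor.extCx ψ).obj (mappingCone π)).Acyclic := by
    refine TorIndep.acyclic_extCx ι ι' ψ hsq hb _
      ((Groth.Agent.LocCoh.RGamma.quasiIso_iff_cone_acyclic π).1 inferInstance) (b := b)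
      (fun i hi => (CochainComplex.mappingCone.isZero_X_iff π i).2 ⟨hE _ (by omega), hE' _ hi⟩)
      fun i => TorIndep.ind_mappingCone ι π i (h _) (h' i)
  intro i
  exact HomologicalComplex.ExactAt.of_iso (hA i)
    (mappingCone.mapHomologicalComplexIso π (ModuleCat.extendScalars.{u, u, u} ψ))

theorem isRel_baseChange {R A R' A' : Type u} [CommRing R] [CommRing A] [CommRing R'] [CommRing A']
    [Algebra R A] [Algebra R R'] [Algebra A A'] [Algebra R' A'] [Algebra R A'] [IsScalarTower R A A']
    [IsScalarTower R R' A'] [Algebra.IsPushout R A R' A']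
    (htor : ∀ p : ℕ, 0 < p → Subsingleton (DRing.Tor R p A R'))
    (φA : A →+* A') (hφA : φA = algebraMap A A') [DRing.HasLBaseChange φA] (K : Dual.D A) {m : ℤ}
    (hK : DerCA.IsRelPseudoCoherent R A m K) :
    DerCA.IsRelPseudoCoherent R' A' m ((DRing.LBaseChange φA).obj K) := by
  subst hφA
  obtain ⟨n, α, hα, hK⟩ := hK
  let P := MvPolynomial (Fin n) R
  let P' := MvPolynomial (Fin n) R'
  let α' : MvPolynomial (Fin n) R' →ₐ[R'] A' :=
    MvPolynomial.aeval fun i => algebraMap A A' (α (MvPolynomial.X i))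
  let iPA : Algebra P A := (α : P →+* A).toAlgebra
  let iPA' : Algebra P A' := ((algebraMap A A').comp (α : P →+* A)).toAlgebra
  let iP'A' : Algebra P' A' := (α' : P' →+* A').toAlgebra
  let iPP' : Algebra P P' := MvPolynomial.algebraMvPolynomial
  haveI : IsScalarTower P A A' := IsScalarTower.of_algebraMap_eq fun _ => rfl
  haveI : IsScalarTower R P A := IsScalarTower.of_algebraMap_eq fun r => (α.commutes r).symm
  have hmap : (algebraMap P P') = MvPolynomial.map (algebraMap R R') := rfl
  have hsqA : ∀ p : P, α' (MvPolynomial.map (algebraMap R R') p) = algebraMap A A' (α p) := by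
    intro p
    induction p using MvPolynomial.induction_on with
    | C r =>
      rw [MvPolynomial.map_C, MvPolynomial.algHom_C, ← MvPolynomial.algebraMap_eq, α.commutes,
        ← IsScalarTower.algebraMap_apply, ← IsScalarTower.algebraMap_apply]
    | add p q hp hq => simp only [map_add, hp, hq]
    | mul_X p i hp => simp only [map_mul, hp, MvPolynomial.map_X, α', MvPolynomial.aeval_X]
  haveI : IsScalarTower P P' A' := IsScalarTower.of_algebraMap_eq fun p => (hsqA p).symm
  haveI : IsScalarTower R' P' A' := IsScalarTower.of_algebraMap_eq fun r => (α'.commutes r).symm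
  haveI : IsScalarTower R P A' := IsScalarTower.of_algebraMap_eq fun r => by
    change algebraMap R A' r = algebraMap A A' (α (algebraMap R P r))
    rw [α.commutes, ← IsScalarTower.algebraMap_apply]
  haveI : IsScalarTower R P' A' := IsScalarTower.of_algebraMap_eq fun r => by
    rw [IsScalarTower.algebraMap_apply R R' A', IsScalarTower.algebraMap_apply R R' P',
      ← IsScalarTower.algebraMap_apply R' P' A']
  haveI hpo : Algebra.IsPushout P A P' A' :=
    (Algebra.IsPushout.comp_iff (R := R) (S := P) (R' := R') (S' := P') (T := A) (T' := A')).1 ‹_›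
  have hsurj : Function.Surjective α' := by
    intro y
    haveI := hpo.symm
    induction y using (Algebra.IsPushout.out (R := P) (S := A) (R' := P') (S' := A')).inductionOn with
    | zero => exact ⟨0, map_zero _⟩
    | tmul p' =>
      exact ⟨p', rfl⟩
    | smul a y hy =>
      obtain ⟨p, rfl⟩ := hα a
      obtain ⟨q, rfl⟩ := hy
      refine ⟨MvPolynomial.map (algebraMap R R') p * q, ?_⟩
      rw [map_mul, hsqA, Algebra.smul_def]
    | add y z hy hz =>
      obtain ⟨p, rfl⟩ := hy; obtain ⟨q, rfl⟩ := hz
      exact ⟨p + q, map_add _ _ _⟩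
  refine ⟨n, α', hsurj, ?_⟩
  let φ : P →+* A := α
  let ρ : P' →+* A' := α'
  let ψ : P →+* P' := algebraMap P P'
  haveI : Algebra.IsPushout P P' A A' := hpo.symm
  have hsq1 : ∀ x, ρ (ψ x) = algebraMap A A' (φ x) := fun x => hsqA x
  have hb1 : ∀ M, Function.Bijective (RelPC.sqHom φ ψ (algebraMap A A') ρ hsq1 M).hom := fun M =>
    RelPC.bijective_sqHom φ ψ (algebraMap A A') ρ hsq1 iPA iPP' inferInstance iP'A' rfl
      (Algebra.algebra_ext _ _ fun _ => rfl) (Algebra.algebra_ext _ _ fun _ => rfl) rfl M
  have hsq2 : ∀ r, algebraMap R' P' (algebraMap R R' r) = ψ (algebraMap R P r) := fun r => by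
    rw [← IsScalarTower.algebraMap_apply, ← IsScalarTower.algebraMap_apply]
  haveI : Algebra.IsPushout R R' P P' := inferInstance
  have hb2 : ∀ M, Function.Bijective (RelPC.sqHom (algebraMap R P) (algebraMap R R') ψ (algebraMap R' P') hsq2 M).hom :=
    fun M => RelPC.bijective_sqHom _ _ _ _ hsq2 inferInstance inferInstance inferInstance inferInstance
      (Algebra.algebra_ext _ _ fun _ => rfl) (Algebra.algebra_ext _ _ fun _ => rfl)
      (Algebra.algebra_ext _ _ fun _ => rfl) (Algebra.algebra_ext _ _ fun _ => rfl) M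
  -- representatives
  obtain ⟨c, hc⟩ := pc_boundedAbove hK
  obtain ⟨X, hXb, hXp, ⟨e⟩⟩ := Trunc.exists_projRep K c fun i hi =>
    (PCRestrict.subsingleton_HD_restrict_iff φ K i).1 (hc i hi)
  let Y := (DRing.restrictCx φ).obj X
  have hYb : DRing.VanishesAbove Y c := fun i hi => (ModuleCat.restrictScalars φ).map_isZero (hXb i hi)
  obtain ⟨Q, π, hQb, hQp, hq⟩ := Trunc.exists_projRes Y c fun i hi =>
    HomologicalComplex.exactAt_iff_isZero_homology _ _ |>.2
      (ShortComplex.isZero_homology_of_isZero_X₂ _ (hYb i hi))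
  haveI := hq
  have hInd := TorIndep.ind_of_tor (R := R) (A := A) (R' := R') htor
  have hI₁ : ∀ i, TorIndep.Ind ((ModuleCat.restrictScalars (algebraMap R R')).obj (ModuleCat.of R' R'))
      ((ModuleCat.restrictScalars (algebraMap R P)).obj (Q.X i)) := fun i => by
    let M : Type u := Q.X i
    letI : Module R M := Module.compHom M (algebraMap R P)
    haveI : IsScalarTower R P M := IsScalarTower.of_algebraMap_smul fun _ _ => rfl
    haveI : Module.Projective P M := hQp i
    haveI : Module.Flat R M := Module.Flat.trans R P M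
    exact @TorIndep.ind_of_flat R _ _ ((ModuleCat.restrictScalars (algebraMap R P)).obj (Q.X i))
      (inferInstanceAs (Module.Flat R M))
  have hI₂ : ∀ i, TorIndep.Ind ((ModuleCat.restrictScalars (algebraMap R R')).obj (ModuleCat.of R' R'))
      ((ModuleCat.restrictScalars (algebraMap R P)).obj (Y.X i)) := fun i => by
    let M : Type u := X.X i
    letI : Module R M := Module.compHom M (φ.comp (algebraMap R P))
    haveI : IsScalarTower R A M := IsScalarTower.of_algebraMap_smul fun r m =>
      congrArg (· • m) (α.commutes r).symm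
    haveI : Module.Projective A M := hXp i
    exact TorIndep.ind_restrict_of_flat hInd M
  have hqi := quasiIso_extCx (algebraMap R P) (algebraMap R' P') ψ hsq2 hb2 π hQb hYb hI₁ hI₂
  haveI := LTensor.hasLBaseChange ψ
  have hpc : DRing.IsPseudoCoherent P' m ((DRing.LBaseChange ψ).obj ((DRing.restrictD φ).obj K)) :=
    pc_baseChange ψ hK
  haveI : IsIso (DerivedCategory.Q.map π) :=
    (DerivedCategory.isIso_Q_map_iff_quasiIso (C := ModuleCat.{u} P) π).2 hq
  haveI : IsIso (DerivedCategory.Q.map ((LTensor.extCx ψ).map π)) :=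
    (DerivedCategory.isIso_Q_map_iff_quasiIso (C := ModuleCat.{u} P') _).2 hqi
  let s := RelPC.sqIso φ ψ (algebraMap A A') ρ hsq1 hb1
  let i₁ : DRing.toD ((LTensor.extCx ψ).obj Q) ≅ (DRing.LBaseChange ψ).obj ((DRing.restrictD φ).obj K) :=
    Perfect.baseChangeIsoOfRep ψ (TorAmp.isKFlat_of_projective hQb hQp)
      (asIso (DerivedCategory.Q.map π) ≪≫ TensorAmp.restrictDIso φ e)
  let i₂ : (LTensor.extCx ψ).obj Y ≅ (DRing.restrictCx ρ).obj ((LTensor.extCx (algebraMap A A')).obj X) :=
    (Functor.mapHomologicalComplexCompIso (Iso.refl (ModuleCat.restrictScalars.{u} φ ⋙ ModuleCat.extendScalars.{u, u, u} ψ)) (ComplexShape.up ℤ)).app X ≪≫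
      (NatIso.mapHomologicalComplex s (ComplexShape.up ℤ)).app X ≪≫
      (Functor.mapHomologicalComplexCompIso (Iso.refl (ModuleCat.extendScalars.{u, u, u} (algebraMap A A') ⋙ ModuleCat.restrictScalars.{u} ρ)) (ComplexShape.up ℤ)).symm.app X
  exact pc_of_iso (i₁.symm ≪≫ asIso (DerivedCategory.Q.map ((LTensor.extCx ψ).map π)) ≪≫
    DerivedCategory.Q.mapIso i₂ ≪≫ TensorAmp.restrictDIso ρ
      (Perfect.baseChangeIsoOfRep (algebraMap A A') (TorAmp.isKFlat_of_projective hXb hXp) e)) hpc

end Groth.Agent.DRing.RelPCTorBC
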