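import Groth.Agent.DRing.SplitTrunc
import Groth.Agent.DRing.FibreAmp
import Groth.Agent.DRing.FlatAwayQuot
import Groth.Agent.DRing.Descent
import Mathlib.Algebra.Module.FinitePresentation
import Mathlib.RingTheory.Localization.BaseChange
import Mathlib.RingTheory.LocalRing.ResidueField.Ideal

/-!
# Splitting near a prime where the fibre has vanishing cohomology in one degree
-/

universe u

open CategoryTheory CategoryTheory.Limits DerivedCategory MonoidalCategory

attribute [local instance] HasDerivedCategory.standard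

namespace Groth.Agent.DRing.SplitFibre

open DBasic Homology DRing.KFlat TorAmp PC
open scoped TensorProduct

variable {R : Type u} [CommRing R]

/-- Contraction near a prime. -/
theorem exists_away_contraction (E : DRing.Cx R) (p : Ideal R) [p.IsPrime] (k : ℤ)
    (hf1 : Module.Finite R (E.X (k + 1))) (hp1 : Module.Projective R (E.X (k + 1)))
    (hf2 : Module.Finite R (E.X (k + 1 + 1))) (hp2 : Module.Projective R (E.X (k + 1 + 1)))
    (h : ((LTensor.extCx (algebraMap R p.ResidueField)).obj E).ExactAt (k + 1)) :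
    ∃ σ ∉ p, ∃ (r : E.X (k + 1) →ₗ[R] E.X k) (t : E.X (k + 1 + 1) →ₗ[R] E.X (k + 1)),
      (E.d k (k + 1)).hom ∘ₗ r + t ∘ₗ (E.d (k + 1) (k + 1 + 1)).hom = σ • LinearMap.id := by
  classical
  let A := Localization.AtPrime p
  let κ := p.ResidueField
  let a := (E.d k (k + 1)).hom
  let b := (E.d (k + 1) (k + 1 + 1)).hom
  let aA := a.baseChange A
  let bA := b.baseChange A
  have hba : bA ∘ₗ aA = 0 := by
    rw [← LinearMap.baseChange_comp, ← ModuleCat.hom_comp, E.d_comp_d, ModuleCat.hom_zero,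
      LinearMap.baseChange_zero]
  let res : A →ₗ[R] κ := (IsScalarTower.toAlgHom R A κ).toLinearMap
  have hres : Function.Surjective res := IsLocalRing.residue_surjective
  let π : ∀ j, A ⊗[R] E.X j →ₗ[R] E.X j ⊗[R] κ := fun j =>
    (_root_.TensorProduct.comm R κ (E.X j)).toLinearMap ∘ₗ res.rTensor (E.X j)
  have hπtmul : ∀ j (c : A) (e : E.X j), π j (c ⊗ₜ e) = e ⊗ₜ res c := fun j c e => rfl
  have hπs : ∀ j, Function.Surjective (π j) := fun j =>
    (_root_.TensorProduct.comm R κ (E.X j)).surjective.comp (LinearMap.rTensor_surjective (E.X j) hres)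
  have hker : ∀ j (x : A ⊗[R] E.X j), π j x = 0 ↔
      x ∈ (IsLocalRing.maximalIdeal A • ⊤ : Submodule A (A ⊗[R] E.X j)) := by
    intro j x
    constructor
    · intro hx
      have hx' : res.rTensor (E.X j) x = 0 :=
        (_root_.TensorProduct.comm R κ (E.X j)).injective (by rw [map_zero]; exact hx)
      obtain ⟨w, rfl⟩ := (rTensor_exact (E.X j) (LinearMap.exact_subtype_ker_map res) hres x).1 hx'
      clear hx hx'
      induction w using TensorProduct.induction_on with
      | zero => rw [map_zero]; exact zero_mem _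
      | tmul c e =>
        have hc : (c : A) ∈ IsLocalRing.maximalIdeal A := Ideal.Quotient.eq_zero_iff_mem.1 c.2
        rw [LinearMap.rTensor_tmul, show ((LinearMap.ker res).subtype c ⊗ₜ[R] e : A ⊗[R] E.X j) =
          (c : A) • ((1 : A) ⊗ₜ[R] e) by rw [TensorProduct.smul_tmul', smul_eq_mul, mul_one]; rfl]
        exact Submodule.smul_mem_smul hc trivial
      | add x y hx hy => rw [map_add]; exact add_mem hx hy
    · intro hx
      refine Submodule.smul_induction_on hx (fun c hc y hy => ?_) (fun y z hy hz => by rw [map_add, hy, hz, add_zero])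
      clear hy
      induction y using TensorProduct.induction_on with
      | zero => rw [smul_zero, map_zero]
      | tmul d e =>
        rw [TensorProduct.smul_tmul', hπtmul, show res (c • d) = 0 from
          Ideal.Quotient.eq_zero_iff_mem.2 (Ideal.mul_mem_right _ _ hc), TensorProduct.tmul_zero]
      | add x y hx hy => rw [smul_add, map_add, hx, hy, add_zero]
  have hnat : ∀ (i j : ℤ) (x : A ⊗[R] E.X i),
      π j ((E.d i j).hom.baseChange A x) = (E.d i j).hom.rTensor κ (π i x) := by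
    intro i j x
    induction x using TensorProduct.induction_on with
    | zero => simp
    | tmul c e => rfl
    | add x y hx hy => simp only [map_add, hx, hy]
  have hex : (DRing.tensorCx E (ModuleCat.of R κ)).ExactAt (k + 1) := by
    let φ := algebraMap R κ
    have h' : ((DRing.restrictCx φ).obj ((LTensor.extCx φ).obj E)).ExactAt (k + 1) :=
      (TensorAmp.exactAt_restrictCx_iff φ _ _).2 h
    have eN : (ModuleCat.restrictScalars φ).obj (ModuleCat.of κ κ) ≅ ModuleCat.of R κ :=
      (show ((ModuleCat.restrictScalars φ).obj (ModuleCat.of κ κ) : ModuleCat.{u} R) ≃ₗ[R] κ from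
        { toFun := fun x => x
          invFun := fun x => x
          left_inv := fun _ => rfl
          right_inv := fun _ => rfl
          map_add' := fun _ _ => rfl
          map_smul' := fun r x => (Algebra.smul_def r (show κ from x)).symm }).toModuleIso
    exact (exactAt_iff_of_quasiIso ((NatIso.mapHomologicalComplex (SingleTensor.restrictExtendIso φ ≪≫
      (tensoringRight (ModuleCat.{u} R)).mapIso eN) (ComplexShape.up ℤ)).app E).hom (k + 1)).1 h'
  obtain ⟨sA, hsA, rA, tA, hrt⟩ := FibreAmp.exists_contraction aA bA hba (IsLocalRing.maximalIdeal A)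
    fun x hx => by
      obtain ⟨w, hw⟩ := AwayQuot.exists_of_exactAt hex (π (k + 1) x)
        (by rw [← hnat]; exact (hker _ _).2 hx)
      obtain ⟨y, rfl⟩ := hπs k w
      refine ⟨y, (hker _ _).1 ?_⟩
      rw [map_sub, sub_eq_zero, hnat, hw]
  have hu : IsUnit sA := by simpa [IsLocalRing.mem_maximalIdeal] using hsA
  obtain ⟨u, hu⟩ := hu
  let ι : ∀ j, E.X j →ₗ[R] A ⊗[R] E.X j := fun j => _root_.TensorProduct.mk R A (E.X j) 1
  have : Module.FinitePresentation R (E.X (k + 1)) := Module.finitePresentation_of_projective R _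
  have : Module.FinitePresentation R (E.X (k + 1 + 1)) := Module.finitePresentation_of_projective R _
  obtain ⟨r₀, s, hs⟩ := Module.FinitePresentation.exists_lift_of_isLocalizedModule p.primeCompl (ι k)
    (((↑u⁻¹ : A) • rA).restrictScalars R ∘ₗ ι (k + 1))
  obtain ⟨t₀, s', hs'⟩ := Module.FinitePresentation.exists_lift_of_isLocalizedModule p.primeCompl (ι (k + 1))
    (((↑u⁻¹ : A) • tA).restrictScalars R ∘ₗ ι (k + 1 + 1))
  have hι : ∀ (i j : ℤ) (x : E.X i), ι j ((E.d i j).hom x) = (E.d i j).hom.baseChange A (ι i x) :=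
    fun i j x => (LinearMap.baseChange_tmul _ _ _).symm
  let U := (s' : R) • (a ∘ₗ r₀) + (s : R) • (t₀ ∘ₗ b) - ((s : R) * s') • LinearMap.id
  have hU : ∀ x, ∃ τ : p.primeCompl, τ • U x = 0 := fun x => by
    refine (IsLocalizedModule.eq_zero_iff p.primeCompl (ι (k + 1))).1 ?_
    have e1 : ι (k + 1) (a (r₀ x)) = (s : R) • aA ((↑u⁻¹ : A) • rA (ι (k + 1) x)) := by
      rw [hι, ← LinearMap.comp_apply (ι k), hs]
      exact LinearMap.map_smul_of_tower _ (s : R) _
    have e2 : ι (k + 1) (t₀ (b x)) = (s' : R) • ((↑u⁻¹ : A) • tA (bA (ι (k + 1) x))) := by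
      rw [← LinearMap.comp_apply (ι (k + 1)), hs']
      exact congrArg (fun z => (s' : R) • ((↑u⁻¹ : A) • tA z)) (hι _ _ x)
    have e3 : aA (rA (ι (k + 1) x)) + tA (bA (ι (k + 1) x)) = sA • ι (k + 1) x :=
      LinearMap.congr_fun hrt _
    simp only [U, LinearMap.sub_apply, LinearMap.add_apply, LinearMap.smul_apply, LinearMap.comp_apply,
      LinearMap.id_apply, map_sub, map_add, map_smul]
    rw [e1, e2, map_smul, smul_smul, smul_smul, mul_comm (s' : R), ← smul_add, ← smul_add, e3, ← hu,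
      smul_smul, Units.inv_mul, one_smul, sub_self]
  choose τ hτ using hU
  obtain ⟨T, hT⟩ := hf1.fg_top
  let τ₀ : p.primeCompl := ∏ x ∈ T, τ x
  have hU0 : (τ₀ : R) • U = 0 := LinearMap.ext_on hT fun x hx => by
    obtain ⟨c, hc⟩ := Finset.dvd_prod_of_mem τ hx
    change (τ₀ : R) • U x = 0
    rw [show τ₀ = τ x * c from hc, Submonoid.coe_mul, mul_comm, mul_smul,
      show (τ x : R) • U x = 0 from hτ x, smul_zero]
  refine ⟨(τ₀ : R) * ((s : R) * s'), (τ₀ * (s * s')).2, (τ₀ : R) • (s' : R) • r₀, (τ₀ : R) • (s : R) • t₀, ?_⟩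
  rw [LinearMap.comp_smul, LinearMap.comp_smul, LinearMap.smul_comp, LinearMap.smul_comp, ← smul_add, mul_smul]
  exact sub_eq_zero.1 ((smul_sub _ _ _).symm.trans hU0)

/-- A contraction gives exactness and the retraction onto boundaries. -/
lemma exists_of_contraction {S : Type u} [CommRing S] (X : DRing.Cx S) (k : ℤ)
    (r : X.X (k + 1) →ₗ[S] X.X k) (t : X.X (k + 1 + 1) →ₗ[S] X.X (k + 1))
    (h : ∀ z, (X.d k (k + 1)).hom (r z) + t ((X.d (k + 1) (k + 1 + 1)).hom z) = z) :
    X.ExactAt (k + 1) ∧ ∃ ρ : X.X (k + 1 + 1) →ₗ[S] X.X (k + 1 + 1),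
      (∀ x, ∃ y, (X.d (k + 1) (k + 1 + 1)).hom y = ρ x) ∧
      ∀ y, ρ ((X.d (k + 1) (k + 1 + 1)).hom y) = (X.d (k + 1) (k + 1 + 1)).hom y := by
  refine ⟨(exactAt_iff_forall (k + 1) k rfl).2 fun z hz => ⟨r z, ?_⟩,
    (X.d (k + 1) (k + 1 + 1)).hom ∘ₗ t, fun x => ⟨t x, rfl⟩, fun y => ?_⟩
  · have := h z
    rwa [(isCyc_iff rfl z).1 hz, map_zero, add_zero] at this
  · conv_rhs => rw [← h y, map_add, d_d (K := X), zero_add]
    rfl

lemma extend_smul_id {B : Type u} [CommRing B] (ψ : R →+* B) (M : ModuleCat.{u} R) (σ : R)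
    (x : ((ModuleCat.extendScalars.{u, u, u} ψ).obj M : ModuleCat.{u} B)) :
    ((ModuleCat.extendScalars.{u, u, u} ψ).map (ModuleCat.ofHom (σ • LinearMap.id : M →ₗ[R] M))).hom x =
      ψ σ • x := by
  algebraize [ψ]
  change B ⊗[R] M at x
  induction x using TensorProduct.induction_on with
  | zero => exact (map_zero _).trans (smul_zero (A := ((ModuleCat.extendScalars.{u, u, u} ψ).obj M)) _).symm
  | tmul c m =>
    change (c ⊗ₜ[R] (σ • m) : B ⊗[R] M) = ((ψ σ * c) ⊗ₜ[R] m : B ⊗[R] M)
    rw [← TensorProduct.smul_tmul, Algebra.smul_def]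
    rfl
  | add x y hx hy =>
    refine (map_add _ x y).trans ((congrArg₂ (· + ·) hx hy).trans ?_)
    exact (smul_add (A := ((ModuleCat.extendScalars.{u, u, u} ψ).obj M)) _ x y).symm

theorem exists_away_split (p : Ideal R) [p.IsPrime] [DRing.HasLBaseChange (algebraMap R p.ResidueField)]
    (i : ℤ) (K : DRing.Cx R) (hK : DRing.IsPseudoCoherent' R (DRing.toD K))
    (hi : Subsingleton (Dual.HD p.ResidueField
      ((DRing.LBaseChange (algebraMap R p.ResidueField)).obj (DRing.toD K)) i)) :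
    ∃ f : R, f ∉ p ∧
      let Kf := DRing.toD (((ModuleCat.extendScalars (algebraMap R (Localization.Away f))).mapHomologicalComplex
        (ComplexShape.up ℤ)).obj K)
      let t := (DerivedCategory.TStructure.t : Triangulated.TStructure (Dual.D (Localization.Away f)))
      let Kge := (t.truncGE (i + 1)).obj Kf
      let Klt := (t.truncLT i).obj Kf
      DRing.IsPerfect (Localization.Away f) Kge ∧
        (∃ b : ℤ, DRing.HasTorAmplitudeIn (Localization.Away f) (i + 1) b Kge) ∧
        ∀ [HasBinaryBiproduct Kge Klt], ∃ e : Kf ≅ Kge ⊞ Klt,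
          e.hom ≫ biprod.fst = (t.truncGEπ (i + 1)).app Kf ∧ (t.truncLTι i).app Kf ≫ e.hom = biprod.inr := by
  obtain ⟨k, rfl⟩ : ∃ k, i = k + 1 := ⟨i - 1, by omega⟩
  obtain ⟨E, c, hEb, hEf, ⟨e⟩⟩ := hK
  have hEp : ∀ j, Module.Projective R (E.X j) := fun j => have := (hEf j).2; inferInstance
  have := isKProjective_of_projective E c hEb hEp
  have hex : ((LTensor.extCx (algebraMap R p.ResidueField)).obj E).ExactAt (k + 1) := by
    rw [HomologicalComplex.exactAt_iff_isZero_homology, ← subsingleton_HD_toD_iff,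
      subsingleton_HD_congr (Perfect.baseChangeIsoOfRep _ (isKFlat_of_isKProjective E) e) (k + 1)]
    exact hi
  obtain ⟨σ, hσ, r, t, hrt⟩ := exists_away_contraction E p k (hEf _).1 (hEp _) (hEf _).1 (hEp _) hex
  refine ⟨σ, hσ, ?_⟩
  let S := Localization.Away σ
  let ψ := algebraMap R S
  let F := ModuleCat.extendScalars.{u, u, u} ψ
  let X := (LTensor.extCx ψ).obj E
  obtain ⟨v, hv⟩ := IsLocalization.Away.algebraMap_isUnit (S := S) σ
  let r' : X.X (k + 1) →ₗ[S] X.X k := (↑v⁻¹ : S) • (F.map (ModuleCat.ofHom r)).hom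
  let t' : X.X (k + 1 + 1) →ₗ[S] X.X (k + 1) := (↑v⁻¹ : S) • (F.map (ModuleCat.ofHom t)).hom
  have hcontr : ∀ z, (X.d k (k + 1)).hom (r' z) + t' ((X.d (k + 1) (k + 1 + 1)).hom z) = z := fun z => by
    have h1 : (F.map (ModuleCat.ofHom r) ≫ F.map (E.d k (k + 1)) +
        F.map (E.d (k + 1) (k + 1 + 1)) ≫ F.map (ModuleCat.ofHom t)) =
        F.map (ModuleCat.ofHom (σ • LinearMap.id : E.X (k + 1) →ₗ[R] E.X (k + 1))) := by
      rw [← CategoryTheory.Functor.map_comp, ← CategoryTheory.Functor.map_comp, ← Functor.map_add]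
      exact congrArg _ (ModuleCat.hom_ext hrt)
    have h2 := congrArg (fun g => g.hom z) h1
    let p1 : X.X (k + 1) := (X.d k (k + 1)).hom ((F.map (ModuleCat.ofHom r)).hom z)
    let q1 : X.X (k + 1) := (F.map (ModuleCat.ofHom t)).hom ((X.d (k + 1) (k + 1 + 1)).hom z)
    have h3 : p1 + q1 = ψ σ • z := h2.trans (extend_smul_id ψ _ σ z)
    have h4 : (X.d k (k + 1)).hom (r' z) = (↑v⁻¹ : S) • p1 := (X.d k (k + 1)).hom.map_smul _ _
    rw [h4]
    change (↑v⁻¹ : S) • p1 + (↑v⁻¹ : S) • q1 = z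
    rw [← smul_add, h3, smul_smul, ← hv, Units.inv_mul, one_smul]
  obtain ⟨hXex, ρ, hρ1, hρ2⟩ := exists_of_contraction X k r' t' hcontr
  have hXb : DRing.VanishesAbove X c := fun j hj => Perfect.isZero_extCx ψ (hEb j hj)
  have hXp : ∀ j, Module.Projective S (X.X j) := fun j => Perfect.projective_extendScalars ψ (hEp j)
  have hXf : ∀ j, Module.Finite S (X.X j) := fun j => Perfect.finite_extendScalars ψ (hEf j).1
  have := isKProjective_of_projective X c hXb hXp
  obtain ⟨g, hg⟩ := exists_Q_map_eq (L := K) e.hom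
  have : QuasiIso g := (DerivedCategory.isIso_Q_map_iff_quasiIso (C := ModuleCat.{u} R) g).1
    (by rw [hg]; infer_instance)
  have := Descent.quasiIso_extCx ψ Descent.flat_algebraMap g
  let eX : DRing.toD X ≅ DRing.toD ((LTensor.extCx ψ).obj K) := asIso (Q.map ((LTensor.extCx ψ).map g))
  let T := SplitTrunc.topCx (k + 1) X ρ
  have hiso := SplitTrunc.isIso_top _ (k + 1) X eX ρ hρ1 hρ2 (k + 1 + 1) (Or.inl rfl)
  have hTp := SplitTrunc.projective_topCx (k + 1) X ρ hXp hρ1 hρ2
  have hTb : DRing.VanishesOutside T (k + 1 + 1) c := by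
    rintro j (hj | hj)
    · exact SplitTrunc.isZero_topCx _ _ _ (by omega)
    · have := ModuleCat.subsingleton_of_isZero (hXb j hj)
      have : Subsingleton (SplitTrunc.topSub (k + 1) X ρ j) := ⟨fun x y => Subtype.ext (Subsingleton.elim x.1 y.1)⟩
      exact ModuleCat.isZero_of_subsingleton (ModuleCat.of S (SplitTrunc.topSub (k + 1) X ρ j))
  have hTf : ∀ j, Module.Finite S (T.X j) := fun j => by
    have := hXf j
    change Module.Finite S (SplitTrunc.topSub (k + 1) X ρ j)
    rcases lt_trichotomy j (k + 1 + 1) with hj | rfl | hj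
    · have : Subsingleton (SplitTrunc.topSub (k + 1) X ρ j) :=
        ModuleCat.subsingleton_of_isZero (SplitTrunc.isZero_topCx (k + 1) X ρ (i := j) (by omega))
      infer_instance
    · refine Module.Finite.of_surjective ((LinearMap.id - ρ).codRestrict (SplitTrunc.topSub (k + 1) X ρ (k + 1 + 1))
        fun x => ?codr) ?surj
      case codr =>
        rw [SplitTrunc.topSub_self, LinearMap.mem_ker, LinearMap.sub_apply, LinearMap.id_apply, map_sub]
        obtain ⟨y, hy⟩ := hρ1 x
        rw [← hy, hρ2, sub_self]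
      case surj =>
        intro x
        refine ⟨x.1, Subtype.ext ?_⟩
        have hx : ρ x.1 = 0 := LinearMap.mem_ker.1 ((SplitTrunc.topSub_self (k + 1) X ρ).le x.2)
        change x.1 - ρ x.1 = x.1
        rw [hx, sub_zero]
    · exact Module.Finite.equiv ((LinearEquiv.ofEq _ _ (SplitTrunc.topSub_eq_top _ X ρ hj)).trans Submodule.topEquiv).symm
  let eT := @asIso _ _ _ _ _ hiso
  refine ⟨⟨T, k + 1 + 1, c, hTb, fun j => ⟨hTf j, hTp j⟩, ⟨eT⟩⟩,
    ⟨c, T, hTb, fun j => have := hTp j; inferInstance, ⟨eT⟩⟩, ?_⟩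
  intro
  obtain ⟨f, h1, h2⟩ := SplitTrunc.exists_split _ (k + 1) X eX ρ hρ1 hρ2 (k + 1) (Or.inr ⟨rfl, hXex⟩)
  refine ⟨f ≪≫ biprod.braiding _ _, ?_, ?_⟩
  · rw [Iso.trans_hom, Category.assoc, biprod.braiding_hom, biprod.lift_fst]
    exact h2
  · rw [Iso.trans_hom]
    refine ((reassoc_of% h1) _).trans ?_
    rw [biprod.braiding_hom]
    refine biprod.hom_ext _ _ ?_ ?_
    · rw [Category.assoc, biprod.lift_fst, biprod.inl_snd, biprod.inr_fst]
    · rw [Category.assoc, biprod.lift_snd, biprod.inl_fst, biprod.inr_snd]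

end Groth.Agent.DRing.SplitFibre
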