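import Groth.Agent.DRing.PCTrunc
import Groth.Agent.DRing.Trunc
import Groth.Agent.DTrunc.WayOut

/-!
# Splitting truncations from vanishing or injectivity of `Hom(K, M[-a])`
-/

universe u

open CategoryTheory CategoryTheory.Limits DerivedCategory CategoryTheory.Pretriangulated

attribute [local instance] HasDerivedCategory.standard

namespace Groth.Agent.DRing.SplitTrunc

open DBasic Homology PC

variable {R : Type u} [CommRing R]

/-- A cocycle `P^a → M` as a chain map. -/
noncomputable def toSgl (P : DRing.Cx R) (a : ℤ) {M : ModuleCat.{u} R} (θ : P.X a →ₗ[R] M)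
    (h0 : θ ∘ₗ (P.d (a - 1) a).hom = 0) : P ⟶ sgl a M :=
  HomologicalComplex.mkHomToSingle (ModuleCat.ofHom θ) (fun k (hk : k + 1 = a) => by
    obtain rfl : k = a - 1 := by omega
    exact ModuleCat.hom_ext h0)

lemma toSgl_f (P : DRing.Cx R) (a : ℤ) {M : ModuleCat.{u} R} (θ : P.X a →ₗ[R] M)
    (h0 : θ ∘ₗ (P.d (a - 1) a).hom = 0) : (toSgl P a θ h0).f a =
    ModuleCat.ofHom θ ≫ (HomologicalComplex.singleObjXSelf (ComplexShape.up ℤ) a M).inv :=
  HomologicalComplex.mkHomToSingle_f _ _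

/-- A cocycle vanishes in `D` iff it is a coboundary. -/
lemma Q_toSgl_eq_zero_iff (P : DRing.Cx R) [P.IsKProjective] (a : ℤ) {M : ModuleCat.{u} R}
    (θ : P.X a →ₗ[R] M) (h0 : θ ∘ₗ (P.d (a - 1) a).hom = 0) :
    Q.map (toSgl P a θ h0) = 0 ↔ ∃ s : P.X (a + 1) →ₗ[R] M, θ = s ∘ₗ (P.d a (a + 1)).hom := by
  constructor
  · intro h
    rw [← Q.map_zero, Q_map_eq_iff] at h
    obtain ⟨H⟩ := h
    have hc := H.comm a
    rw [dNext_eq H.hom (show (ComplexShape.up ℤ).Rel a (a + 1) from rfl),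
      prevD_eq H.hom (show (ComplexShape.up ℤ).Rel (a - 1) a by simp),
      show (sgl a M).d (a - 1) a = 0 from HomologicalComplex.single_obj_d _ _ _ _ _, comp_zero,
      add_zero, HomologicalComplex.zero_f, add_zero, toSgl_f] at hc
    refine ⟨(H.hom (a + 1) a ≫ (HomologicalComplex.singleObjXSelf (ComplexShape.up ℤ) a M).hom).hom, ?_⟩
    have := congrArg (· ≫ (HomologicalComplex.singleObjXSelf (ComplexShape.up ℤ) a M).hom) hc
    simp only [Category.assoc, Iso.inv_hom_id, Category.comp_id] at this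
    exact congrArg ModuleCat.Hom.hom this
  · rintro ⟨s, rfl⟩
    let h : ∀ i j, (ComplexShape.up ℤ).Rel j i → (P.X i ⟶ (sgl a M).X j) := fun i j hij =>
      if hj : j = a then
        (P.XIsoOfEq (show i = a + 1 by subst hj; exact hij.symm)).hom ≫ ModuleCat.ofHom s ≫
          (HomologicalComplex.singleObjXSelf (ComplexShape.up ℤ) a M).inv ≫
          ((sgl a M).XIsoOfEq hj.symm).hom
      else 0
    have e : toSgl P a (s ∘ₗ (P.d a (a + 1)).hom) h0 = Homotopy.nullHomotopicMap' h := by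
      refine HomologicalComplex.to_single_hom_ext ?_
      rw [Homotopy.nullHomotopicMap'_f (show (ComplexShape.up ℤ).Rel (a - 1) a by simp)
        (show (ComplexShape.up ℤ).Rel a (a + 1) from rfl),
        show (sgl a M).d (a - 1) a = 0 from HomologicalComplex.single_obj_d _ _ _ _ _, comp_zero,
        add_zero, toSgl_f]
      simp only [h, dif_pos, HomologicalComplex.XIsoOfEq_rfl, Iso.refl_hom, Category.id_comp, Category.comp_id]
      rfl
    rw [e, ← Q.map_zero, Q_map_eq_iff]
    exact ⟨Homotopy.nullHomotopy' h⟩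

lemma toSgl_comp (P : DRing.Cx R) (a : ℤ) {M M' : ModuleCat.{u} R} (θ : P.X a →ₗ[R] M)
    (h0 : θ ∘ₗ (P.d (a - 1) a).hom = 0) (g : M ⟶ M') (h0' : (g.hom ∘ₗ θ) ∘ₗ (P.d (a - 1) a).hom = 0) :
    toSgl P a θ h0 ≫ (HomologicalComplex.single (ModuleCat.{u} R) (ComplexShape.up ℤ) a).map g =
      toSgl P a (g.hom ∘ₗ θ) h0' := by
  refine HomologicalComplex.to_single_hom_ext ?_
  rw [HomologicalComplex.comp_f, toSgl_f, toSgl_f, HomologicalComplex.single_map_f_self]
  simp only [Category.assoc, Iso.inv_hom_id_assoc]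
  rfl

set_option linter.unusedSectionVars false

variable (K : Dual.D R) (a : ℤ) (P : DRing.Cx R) [P.IsKProjective] (e : DRing.toD P ≅ K)

include e in
/-- Vanishing gives exactness at `a`. -/
lemma exactAt_of_vanishing
    (h : ∀ (M : Type u) [AddCommGroup M] [Module R M],
      Subsingleton (K ⟶ (shiftFunctor (Dual.D R) (-a)).obj (Dual.inD R M))) : P.ExactAt a := by
  rw [exactAt_iff_forall a (a - 1) (by omega)]
  intro z hz
  let T := P.X a ⧸ LinearMap.range (P.d (a - 1) a).hom
  let θ : P.X a →ₗ[R] T := (LinearMap.range (P.d (a - 1) a).hom).mkQ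
  have h0 : θ ∘ₗ (P.d (a - 1) a).hom = 0 :=
    LinearMap.ext fun w => (Submodule.Quotient.mk_eq_zero _).2 ⟨w, rfl⟩
  have := h T
  have hz0 : Q.map (toSgl (M := ModuleCat.of R T) P a θ h0) = 0 := by
    have := Subsingleton.elim (e.inv ≫ Q.map (toSgl (M := ModuleCat.of R T) P a θ h0) ≫
      (inDShiftIso (ModuleCat.of R T) a).inv) 0
    have h' : Q.map (toSgl (M := ModuleCat.of R T) P a θ h0) ≫ (inDShiftIso (ModuleCat.of R T) a).inv = 0 := by
      simpa using this
    exact (cancel_mono (inDShiftIso (ModuleCat.of R T) a).inv).1 (h'.trans Limits.zero_comp.symm)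
  obtain ⟨s, hs⟩ := (Q_toSgl_eq_zero_iff (M := ModuleCat.of R T) P a θ h0).1 hz0
  have : θ z = 0 := by
    rw [hs]
    change s ((P.d a (a + 1)).hom z) = 0
    rw [(isCyc_iff rfl z).1 hz, map_zero]
  exact (Submodule.Quotient.mk_eq_zero _).1 this

include e in
/-- Injectivity on injections gives a retraction onto the boundaries in degree `a + 1`. -/
lemma exists_retraction
    (h : ∀ (M M' : Type u) [AddCommGroup M] [Module R M] [AddCommGroup M'] [Module R M'] (g : M →ₗ[R] M'),
      Function.Injective g → Function.Injective (fun x : K ⟶ (shiftFunctor (Dual.D R) (-a)).obj (Dual.inD R M) =>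
        x ≫ (shiftFunctor (Dual.D R) (-a)).map
          ((DerivedCategory.singleFunctor (ModuleCat.{u} R) 0).map (ModuleCat.ofHom g)))) :
    ∃ ρ : P.X (a + 1) →ₗ[R] P.X (a + 1), (∀ x, ∃ y, (P.d a (a + 1)).hom y = ρ x) ∧
      ∀ y, ρ ((P.d a (a + 1)).hom y) = (P.d a (a + 1)).hom y := by
  let S := LinearMap.range (P.d a (a + 1)).hom
  let MS := ModuleCat.of R S
  let θ : P.X a →ₗ[R] MS := (P.d a (a + 1)).hom.rangeRestrict
  have h0 : θ ∘ₗ (P.d (a - 1) a).hom = 0 :=
    LinearMap.ext fun w => Subtype.ext (d_d (K := P) _ _ _ w)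
  let g : MS ⟶ P.X (a + 1) := ModuleCat.ofHom S.subtype
  have h0' : (g.hom ∘ₗ θ) ∘ₗ (P.d (a - 1) a).hom = 0 := by rw [LinearMap.comp_assoc, h0, LinearMap.comp_zero]
  let x : K ⟶ (shiftFunctor (Dual.D R) (-a)).obj (Dual.inD R S) :=
    e.inv ≫ Q.map (toSgl P a θ h0) ≫ (inDShiftIso MS a).inv
  have hnat : (inDShiftIso MS a).inv ≫ (shiftFunctor (Dual.D R) (-a)).map
      ((DerivedCategory.singleFunctor (ModuleCat.{u} R) 0).map g) =
      Q.map ((HomologicalComplex.single (ModuleCat.{u} R) (ComplexShape.up ℤ) a).map g) ≫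
        (inDShiftIso (P.X (a + 1)) a).inv :=
    ((((DerivedCategory.singleFunctors (ModuleCat.{u} R)).shiftIso (-a) a 0 (by omega)) ≪≫
      singleFunctorIsoCompQ (ModuleCat.{u} R) a).inv.naturality g).symm
  have hx : x = 0 := by
    refine h S (P.X (a + 1)) S.subtype S.injective_subtype ?_
    change x ≫ (shiftFunctor (Dual.D R) (-a)).map
        ((DerivedCategory.singleFunctor (ModuleCat.{u} R) 0).map g) = 0 ≫ _
    rw [zero_comp]
    dsimp only [x]
    rw [Category.assoc, Category.assoc]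
    refine (congrArg (fun t => e.inv ≫ Q.map (toSgl P a θ h0) ≫ t) hnat).trans ?_
    rw [← Functor.map_comp_assoc, toSgl_comp P a θ h0 g h0',
      (Q_toSgl_eq_zero_iff P a _ h0').2 ⟨LinearMap.id, rfl⟩, zero_comp, comp_zero]
  have hz0 : Q.map (toSgl P a θ h0) = 0 := by
    have hx' : Q.map (toSgl P a θ h0) ≫ (inDShiftIso MS a).inv = 0 := by simpa [x] using hx
    exact (cancel_mono (inDShiftIso MS a).inv).1 (hx'.trans Limits.zero_comp.symm)
  obtain ⟨s, hs⟩ := (Q_toSgl_eq_zero_iff P a θ h0).1 hz0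
  refine ⟨g.hom ∘ₗ s, fun z => (s z).2, fun y => ?_⟩
  exact (congrArg Subtype.val (LinearMap.congr_fun hs y)).symm

variable (ρ : P.X (a + 1) →ₗ[R] P.X (a + 1))

/-- The terms of the complementary subcomplex. -/
def topSub (i : ℤ) : Submodule R (P.X i) :=
  if h : i = a + 1 then LinearMap.ker (ρ ∘ₗ (P.XIsoOfEq h).hom.hom) else if a + 1 < i then ⊤ else ⊥

lemma topSub_self : topSub a P ρ (a + 1) = LinearMap.ker ρ := by
  unfold topSub
  rw [dif_pos rfl]
  rfl

lemma topSub_mapsTo {i j : ℤ} (x : P.X i) (hx : x ∈ topSub a P ρ i) :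
    (P.d i j).hom x ∈ topSub a P ρ j := by
  by_cases h : i + 1 = j
  · subst h
    by_cases hi : a + 1 ≤ i
    · unfold topSub
      rw [dif_neg (by omega), if_pos (by omega)]
      trivial
    · have : x = 0 := by
        unfold topSub at hx
        rw [dif_neg (by omega), if_neg (by omega)] at hx
        exact (Submodule.mem_bot R).1 hx
      rw [this, map_zero]; exact zero_mem _
  · rw [P.shape i j (by simpa using h)]
    exact (topSub a P ρ j).zero_mem

/-- The complementary subcomplex. -/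
noncomputable def topCx : DRing.Cx R where
  X i := ModuleCat.of R (topSub a P ρ i)
  d i j := ModuleCat.ofHom ((P.d i j).hom.restrict fun x hx => topSub_mapsTo a P ρ x hx)
  shape i j h := by
    ext x
    simp [P.shape i j h]
  d_comp_d' i j k _ _ := by
    ext x
    exact d_d (K := P) i j k x.1

/-- Its inclusion. -/
noncomputable def topι : topCx a P ρ ⟶ P where
  f i := ModuleCat.ofHom (topSub a P ρ i).subtype
  comm' _ _ _ := rfl

lemma isZero_topCx {i : ℤ} (h : i ≤ a) : IsZero ((topCx a P ρ).X i) := by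
  have : Subsingleton (topSub a P ρ i) := by
    unfold topSub; rw [dif_neg (by omega), if_neg (by omega)]; infer_instance
  exact ModuleCat.isZero_of_subsingleton (ModuleCat.of R (topSub a P ρ i))

lemma topSub_eq_top {i : ℤ} (h : a + 1 < i) : topSub a P ρ i = ⊤ := by
  unfold topSub; rw [dif_neg (by omega), if_pos h]

lemma projective_topCx (hp : ∀ i, Module.Projective R (P.X i))
    (hρ1 : ∀ x, ∃ y, (P.d a (a + 1)).hom y = ρ x)
    (hρ2 : ∀ y, ρ ((P.d a (a + 1)).hom y) = (P.d a (a + 1)).hom y) (i : ℤ) :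
    Module.Projective R ((topCx a P ρ).X i) := by
  change Module.Projective R (topSub a P ρ i)
  rcases lt_trichotomy i (a + 1) with hi | rfl | hi
  · have := ModuleCat.subsingleton_of_isZero (isZero_topCx a P ρ (i := i) (by omega))
    have : Subsingleton (topSub a P ρ i) := this
    infer_instance
  · have := hp (a + 1)
    refine Module.Projective.of_split (topSub a P ρ (a + 1)).subtype
      ((LinearMap.id - ρ).codRestrict _ fun x => ?codr) (LinearMap.ext fun x => Subtype.ext ?ext)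
    case codr => rw [topSub_self, LinearMap.mem_ker, LinearMap.sub_apply, LinearMap.id_apply, map_sub]
                 obtain ⟨y, hy⟩ := hρ1 x
                 rw [← hy, hρ2, sub_self]
    case ext =>
      have hx : ρ x.1 = 0 := LinearMap.mem_ker.1 ((topSub_self a P ρ).le x.2)
      change x.1 - ρ x.1 = x.1
      rw [hx, sub_zero]
  · have := hp i
    exact Module.Projective.of_equiv ((LinearEquiv.ofEq _ _ (topSub_eq_top a P ρ hi)).trans Submodule.topEquiv).symm

lemma bijective_homologyMap_topι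
    (hρ1 : ∀ x, ∃ y, (P.d a (a + 1)).hom y = ρ x)
    (hρ2 : ∀ y, ρ ((P.d a (a + 1)).hom y) = (P.d a (a + 1)).hom y) {i : ℤ} (hi : a + 1 ≤ i) :
    Function.Bijective (HomologicalComplex.homologyMap (topι a P ρ) i).hom := by
  rcases eq_or_lt_of_le hi with rfl | hi'
  · constructor
    · rw [homologyMap_injective_iff _ (a + 1) a rfl]
      intro z w _ hw
      refine ⟨0, ?_⟩
      rw [map_zero]
      have hz : ρ z.1 = 0 := LinearMap.mem_ker.1 ((topSub_self a P ρ).le z.2)
      have hw' : z.1 = (P.d a (a + 1)).hom w := hw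
      refine Subtype.ext ?_
      rw [hw', hρ2] at hz
      exact (hw'.trans hz).symm
    · rw [homologyMap_surjective_iff _ (a + 1) a rfl]
      intro y hy
      obtain ⟨w, hw⟩ := hρ1 y
      refine ⟨⟨y - ρ y, ?_⟩, w, ?_, ?_⟩
      · rw [topSub_self, LinearMap.mem_ker, map_sub, ← hw, hρ2, sub_self]
      · refine (isCyc_iff rfl _).2 (Subtype.ext ?_)
        change (P.d (a + 1) (a + 1 + 1)).hom (y - ρ y) = 0
        rw [map_sub, ← hw, d_d (K := P), sub_zero]
        exact (isCyc_iff rfl y).1 hy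
      · change (y - ρ y) + (P.d a (a + 1)).hom w = y
        rw [hw, sub_add_cancel]
  · obtain ⟨k, rfl⟩ : ∃ k, i = k + 1 := ⟨i - 1, by omega⟩
    constructor
    · rw [homologyMap_injective_iff _ (k + 1) k rfl]
      intro z w _ hw
      have hw' : z.1 = (P.d k (k + 1)).hom w := hw
      by_cases h2 : k = a + 1
      · subst h2
        obtain ⟨y, hy⟩ := hρ1 w
        refine ⟨⟨w - ρ w, ?_⟩, Subtype.ext ?_⟩
        · rw [topSub_self, LinearMap.mem_ker, map_sub, ← hy, hρ2, sub_self]
        · change (P.d (a + 1) (a + 1 + 1)).hom (w - ρ w) = z.1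
          rw [map_sub, ← hy, d_d (K := P), sub_zero, hw']
      · exact ⟨⟨w, by rw [topSub_eq_top a P ρ (by omega)]; trivial⟩, Subtype.ext hw'.symm⟩
    · rw [homologyMap_surjective_iff _ (k + 1) k rfl]
      intro y hy
      refine ⟨⟨y, by rw [topSub_eq_top a P ρ hi']; trivial⟩, 0, ?_, by rw [map_zero, add_zero]; rfl⟩
      exact (isCyc_iff rfl _).2 (Subtype.ext ((isCyc_iff rfl y).1 hy))

local notation "tt" => (DerivedCategory.TStructure.t : Triangulated.TStructure (Dual.D R))

/-- The complementary subcomplex represents the upper truncation. -/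
lemma isIso_top
    (hρ1 : ∀ x, ∃ y, (P.d a (a + 1)).hom y = ρ x)
    (hρ2 : ∀ y, ρ ((P.d a (a + 1)).hom y) = (P.d a (a + 1)).hom y) (n : ℤ)
    (hn : n = a + 1 ∨ (n = a ∧ P.ExactAt a)) :
    IsIso (Q.map (topι a P ρ) ≫ e.hom ≫ ((tt).truncGEπ n).app K) := by
  rw [isIso_iff_HF]
  intro i
  have hGE : (((tt).truncGE n).obj K).IsGE n := (tt).isGE_truncGE_obj K n n le_rfl
  have hbelow : ∀ i, i ≤ a → IsZero ((HF i).obj (DRing.toD (topCx a P ρ))) := fun i hi =>
    (ShortComplex.isZero_homology_of_isZero_X₂ _ (isZero_topCx a P ρ hi)).of_iso (hIso _ i)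
  have hLE : (((tt).truncLT n).obj K).IsLE (n - 1) := (tt).isLE_truncLT_obj K n (n - 1) (by omega)
  have hπ : ∀ i, n ≤ i → IsIso ((HF i).map (((tt).truncGEπ n).app K)) := fun i hi =>
    DTrunc.isIso_homology_mor₂ _ ((tt).triangleLTGE_distinguished n K) (n - 1) i (by omega)
  rcases le_or_gt (a + 1) i with hi | hi
  · have := hπ i (by omega)
    have : IsIso (HomologicalComplex.homologyMap (topι a P ρ) i) :=
      (isIso_homologyMap_iff _ i).2 (bijective_homologyMap_topι a P ρ hρ1 hρ2 hi)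
    have : IsIso ((HF i).map (Q.map (topι a P ρ))) := by rw [HF_map_Q_eq]; infer_instance
    rw [Functor.map_comp, Functor.map_comp]
    infer_instance
  · have htgt : IsZero ((HF i).obj (((tt).truncGE n).obj K)) := by
      by_cases hin : i < n
      · exact isZero_of_isGE _ n i hin
      · obtain ⟨rfl, hex⟩ : i = a ∧ P.ExactAt a := by
          rcases hn with rfl | ⟨rfl, hex⟩
          · omega
          · exact ⟨by omega, hex⟩
        have := hπ i (by omega)
        exact IsZero.of_iso ((hex.isZero_homology).of_iso (hIso P i))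
          ((asIso ((HF i).map (((tt).truncGEπ n).app K))).symm ≪≫ ((HF i).mapIso e).symm)
    exact isIso_of_source_target_iso_zero _ (hbelow i (by omega)).isoZero htgt.isoZero

include e in
/-- The splitting. -/
theorem exists_split
    (hρ1 : ∀ x, ∃ y, (P.d a (a + 1)).hom y = ρ x)
    (hρ2 : ∀ y, ρ ((P.d a (a + 1)).hom y) = (P.d a (a + 1)).hom y) (n : ℤ)
    (hn : n = a + 1 ∨ (n = a ∧ P.ExactAt a))
    [HasBinaryBiproduct (((tt).truncLT n).obj K) (((tt).truncGE (a + 1)).obj K)] :
    ∃ f : K ≅ ((tt).truncLT n).obj K ⊞ ((tt).truncGE (a + 1)).obj K,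
      ((tt).truncLTι n).app K ≫ f.hom = biprod.inl ∧ f.hom ≫ biprod.snd = ((tt).truncGEπ (a + 1)).app K := by
  have hle : n ≤ a + 1 := by omega
  have h1 := isIso_top K a P e ρ hρ1 hρ2 n hn
  have h2 := isIso_top K a P e ρ hρ1 hρ2 (a + 1) (Or.inl rfl)
  let j := ((tt).natTransTruncGEOfLE n (a + 1) hle).app K
  have hj : ((tt).truncGEπ n).app K ≫ j = ((tt).truncGEπ (a + 1)).app K :=
    (tt).π_natTransTruncGEOfLE_app n (a + 1) hle K
  have : IsIso j := by
    have : IsIso ((Q.map (topι a P ρ) ≫ e.hom ≫ ((tt).truncGEπ n).app K) ≫ j) := by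
      rw [Category.assoc, Category.assoc, hj]; exact h2
    exact IsIso.of_isIso_comp_left (Q.map (topι a P ρ) ≫ e.hom ≫ ((tt).truncGEπ n).app K) j
  let s : ((tt).truncGE n).obj K ⟶ K :=
    inv (Q.map (topι a P ρ) ≫ e.hom ≫ ((tt).truncGEπ n).app K) ≫ Q.map (topι a P ρ) ≫ e.hom
  have hs : s ≫ ((tt).truncGEπ n).app K = 𝟙 _ := by
    simp only [s, Category.assoc]
    exact IsIso.inv_hom_id _
  let T := ((tt).triangleLTGE n).obj K
  have hT : T ∈ distinguishedTriangles := (tt).triangleLTGE_distinguished n K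
  have h0 : T.mor₃ = 0 := by
    refine (Category.id_comp _).symm.trans ((congrArg (· ≫ T.mor₃) hs).symm.trans ?_)
    refine (Category.assoc _ _ _).trans ?_
    exact (congrArg (s ≫ ·) (comp_distTriang_mor_zero₂₃ T hT)).trans comp_zero
  obtain ⟨f, hf1, hf2⟩ := exists_iso_binaryBiproduct_of_distTriang T hT h0
  have : HasBinaryBiproduct (((tt).truncLT n).obj K) (((tt).truncGE n).obj K) := inferInstance
  let f' : K ≅ ((tt).truncLT n).obj K ⊞ ((tt).truncGE n).obj K := f
  have hf1' : ((tt).truncLTι n).app K ≫ f'.hom = biprod.inl := hf1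
  have hf2' : f'.hom ≫ biprod.snd = ((tt).truncGEπ n).app K := hf2.symm
  refine ⟨f' ≪≫ biprod.mapIso (Iso.refl _) (asIso j), ?_, ?_⟩
  · rw [Iso.trans_hom, ← Category.assoc]
    refine (congrArg (· ≫ _) hf1').trans ?_
    rw [biprod.mapIso_hom, biprod.inl_map, Iso.refl_hom, Category.id_comp]
  · rw [Iso.trans_hom, biprod.mapIso_hom, Category.assoc, biprod.map_snd, ← Category.assoc, hf2', asIso_hom]
    exact hj

include e in
theorem exists_rep (hp : ∀ i, Module.Projective R (P.X i)) (b : ℤ) (hb : DRing.VanishesAbove P b)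
    (hρ1 : ∀ x, ∃ y, (P.d a (a + 1)).hom y = ρ x)
    (hρ2 : ∀ y, ρ ((P.d a (a + 1)).hom y) = (P.d a (a + 1)).hom y) :
    ∃ (P' : DRing.Cx R) (b : ℤ), DRing.VanishesOutside P' (a + 1) b ∧
      (∀ i : ℤ, Module.Projective R (P'.X i)) ∧
      Nonempty (DRing.toD P' ≅ ((tt).truncGE (a + 1)).obj K) := by
  have := isIso_top K a P e ρ hρ1 hρ2 (a + 1) (Or.inl rfl)
  refine ⟨topCx a P ρ, b, ?_, projective_topCx a P ρ hp hρ1 hρ2,
    ⟨asIso (Q.map (topι a P ρ) ≫ e.hom ≫ ((tt).truncGEπ (a + 1)).app K)⟩⟩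
  rintro i (hi | hi)
  · exact isZero_topCx a P ρ (by omega)
  · have := ModuleCat.subsingleton_of_isZero (hb i hi)
    have : Subsingleton (topSub a P ρ i) := ⟨fun x y => Subtype.ext (Subsingleton.elim x.1 y.1)⟩
    exact ModuleCat.isZero_of_subsingleton (ModuleCat.of R (topSub a P ρ i))

end Groth.Agent.DRing.SplitTrunc
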