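import Groth.Agent.DRing.DBasic
import Groth.Agent.DRing.LTensor
import Mathlib.Algebra.Homology.HomologicalComplexBiprod
import Mathlib.Data.Int.Interval
import Mathlib.Algebra.Category.ModuleCat.Biproducts
import Mathlib.Algebra.Homology.HomotopyCategory.MappingCone
import Mathlib.RingTheory.Spectrum.Prime.FreeLocus
import Mathlib.RingTheory.Localization.BaseChange
import Mathlib.RingTheory.Localization.Away.Basic
import Mathlib.RingTheory.TensorProduct.Finite
import Mathlib.RingTheory.TensorProduct.Free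

/-!
# Isomorphic perfect complexes are stably isomorphic, with free contractible complements near a prime
-/

universe u
attribute [local instance] HasDerivedCategory.standard
open CategoryTheory CategoryTheory.Limits DerivedCategory CochainComplex HomComplex
open scoped TensorProduct

namespace Groth.Agent.DRing.StableIso

variable {R : Type u} [CommRing R]

/-- Free after base change to every algebra inverting `f`. -/
def FreeAfter (f : R) (X : Type u) [AddCommGroup X] [Module R X] : Prop :=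
  ∀ (S : Type u) [CommRing S] [Algebra R S], IsUnit (algebraMap R S f) → Module.Free S (S ⊗[R] X)

theorem freeAfter_mul {f : R} (g : R) {X : Type u} [AddCommGroup X] [Module R X] (h : FreeAfter f X) :
    FreeAfter (f * g) X := fun S _ _ hu => h S (by rw [map_mul] at hu; exact isUnit_of_mul_isUnit_left hu)

theorem exists_freeAfter (p : Ideal R) [p.IsPrime] (X : Type u) [AddCommGroup X] [Module R X]
    [Module.Finite R X] [Module.Projective R X] : ∃ f ∉ p, FreeAfter f X := by
  haveI : Module.FinitePresentation R X := Module.finitePresentation_of_projective R X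
  haveI : Module.Free (Localization.AtPrime p) (LocalizedModule p.primeCompl X) := by
    have h := Module.freeLocus_eq_univ (R := R) (M := X)
    exact (h.symm ▸ Set.mem_univ (⟨p, inferInstance⟩ : PrimeSpectrum R) :
      (⟨p, inferInstance⟩ : PrimeSpectrum R) ∈ Module.freeLocus R X)
  obtain ⟨r, hr, hfree, -⟩ := Module.FinitePresentation.exists_free_localizedModule_powers
    p.primeCompl (LocalizedModule.mkLinearMap p.primeCompl X) (Localization.AtPrime p)
  refine ⟨r, hr, fun S _ _ hu => ?_⟩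
  let φ : Localization.Away r →+* S := IsLocalization.Away.lift r hu
  letI : Algebra (Localization.Away r) S := φ.toAlgebra
  haveI : IsScalarTower R (Localization.Away r) S := IsScalarTower.of_algebraMap_eq fun a =>
    (IsLocalization.Away.lift_eq r hu a).symm
  haveI : Module.Free (Localization.Away r) (Localization.Away r ⊗[R] X) :=
    Module.Free.of_equiv (LocalizedModule.equivTensorProduct (Submonoid.powers r) X)
  exact Module.Free.of_equiv
    (TensorProduct.AlgebraTensorModule.cancelBaseChange R (Localization.Away r) S S X)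

theorem exists_common {ι : Type*} (s : Finset ι) (p : Ideal R) [p.IsPrime] (P : ι → R → Prop)
    (hmul : ∀ i f g, P i f → P i (f * g)) (h : ∀ i ∈ s, ∃ f ∉ p, P i f) :
    ∃ f ∉ p, ∀ i ∈ s, P i f := by
  classical
  induction s using Finset.induction_on with
  | empty => exact ⟨1, fun h1 => Ideal.IsPrime.ne_top ‹_› (p.eq_top_iff_one.2 h1), by simp⟩
  | insert a s ha ih =>
    obtain ⟨f, hf, hfP⟩ := ih fun i hi => h i (Finset.mem_insert_of_mem hi)
    obtain ⟨g, hg, hgP⟩ := h a (Finset.mem_insert_self a s)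
    refine ⟨f * g, fun hfg => (Ideal.IsPrime.mem_or_mem ‹_› hfg).elim hf hg, fun i hi => ?_⟩
    rcases Finset.mem_insert.1 hi with rfl | hi
    · exact mul_comm g f ▸ hmul _ g f hgP
    · exact hmul i f g (hfP i hi)

section contraction

variable {K : DRing.Cx R} (h : Homotopy (𝟙 K) 0)

include h in
theorem range_retract (i : ℤ) :
    ∃ r : K.X (i + 1) →ₗ[R] LinearMap.range (K.d i (i + 1)).hom,
      r ∘ₗ (LinearMap.range (K.d i (i + 1)).hom).subtype = LinearMap.id := by
  refine ⟨(K.d i (i + 1)).hom.rangeRestrict ∘ₗ (h.hom (i + 1) i).hom, ?_⟩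
  refine LinearMap.ext ?_
  rintro ⟨_, w, rfl⟩
  refine Subtype.ext ?_
  have hc := congrArg (fun φ => φ.hom ((K.d i (i + 1)).hom w)) (h.comm (i + 1))
  simp only [dNext_eq h.hom (show (ComplexShape.up ℤ).Rel (i + 1) (i + 1 + 1) from rfl),
    prevD_eq h.hom (show (ComplexShape.up ℤ).Rel i (i + 1) from rfl)] at hc
  have e0 : (K.d (i + 1) (i + 1 + 1)).hom ((K.d i (i + 1)).hom w) = 0 :=
    ConcreteCategory.congr_hom (K.d_comp_d i (i + 1) (i + 1 + 1)) w
  change (K.d i (i + 1)).hom ((h.hom (i + 1) i).hom ((K.d i (i + 1)).hom w)) = (K.d i (i + 1)).hom w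
  have hc' : (K.d i (i + 1)).hom w = (h.hom (i + 1 + 1) (i + 1)).hom ((K.d (i + 1) (i + 1 + 1)).hom
      ((K.d i (i + 1)).hom w)) + (K.d i (i + 1)).hom ((h.hom (i + 1) i).hom ((K.d i (i + 1)).hom w)) + 0 := hc
  rw [e0, map_zero, zero_add, add_zero] at hc'
  exact hc'.symm

include h in
theorem range_finite_projective (i : ℤ)
    (hK : Module.Finite R (K.X (i + 1)) ∧ Module.Projective R (K.X (i + 1))) :
    Module.Finite R (LinearMap.range (K.d i (i + 1)).hom) ∧
      Module.Projective R (LinearMap.range (K.d i (i + 1)).hom) := by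
  obtain ⟨r, hr⟩ := range_retract h i
  have := hK.1; have := hK.2
  exact ⟨Module.Finite.of_surjective r fun z => ⟨z.1, LinearMap.congr_fun hr z⟩,
    Module.Projective.of_split _ r hr⟩

include h in
theorem free_range_ext {S : Type u} [CommRing S] (φ : R →+* S) (i : ℤ)
    (hfree : letI := φ.toAlgebra; Module.Free S (S ⊗[R] LinearMap.range (K.d i (i + 1)).hom)) :
    Module.Free S (LinearMap.range (((LTensor.extCx φ).obj K).d i (i + 1)).hom) := by
  letI := φ.toAlgebra
  obtain ⟨r, hr⟩ := range_retract h i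
  let d := (K.d i (i + 1)).hom
  let ι := (LinearMap.range d).subtype
  have hinj : Function.Injective (ι.baseChange S) := by
    refine Function.LeftInverse.injective (g := r.baseChange S) fun z => ?_
    rw [← LinearMap.comp_apply, ← LinearMap.baseChange_comp, hr, LinearMap.baseChange_id, LinearMap.id_apply]
  have hsurj : Function.Surjective (d.rangeRestrict.baseChange S) := by
    intro z
    obtain ⟨w, hw⟩ := LinearMap.lTensor_surjective S d.surjective_rangeRestrict z
    exact ⟨w, hw⟩
  have e : LinearMap.range (d.baseChange S) = LinearMap.range (ι.baseChange S) := by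
    rw [show d.baseChange S = (ι.baseChange S) ∘ₗ (d.rangeRestrict.baseChange S) by
      rw [← LinearMap.baseChange_comp]; rfl, LinearMap.range_comp, LinearMap.range_eq_top.2 hsurj,
      Submodule.map_top]
  have := hfree
  exact Module.Free.of_equiv ((LinearEquiv.ofInjective _ hinj).trans (LinearEquiv.ofEq _ _ e.symm))

end contraction

theorem isZero_biprod_X {E F : DRing.Cx R} (i : ℤ) (hE : IsZero (E.X i)) (hF : IsZero (F.X i)) :
    IsZero ((E ⊞ F).X i) := by
  rw [IsZero.iff_id_eq_zero]
  have := congrArg (fun φ => φ.f i) (biprod.total (X := E) (Y := F))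
  simp only [HomologicalComplex.add_f_apply, HomologicalComplex.comp_f, HomologicalComplex.id_f] at this
  rw [← this, hE.eq_of_tgt ((biprod.fst : E ⊞ F ⟶ E).f i) 0, hF.eq_of_tgt ((biprod.snd : E ⊞ F ⟶ F).f i) 0,
    zero_comp, zero_comp, add_zero]

theorem finProj_biprod_X {E F : DRing.Cx R} (i : ℤ)
    (hE : Module.Finite R (E.X i) ∧ Module.Projective R (E.X i))
    (hF : Module.Finite R (F.X i) ∧ Module.Projective R (F.X i)) :
    Module.Finite R ((E ⊞ F).X i) ∧ Module.Projective R ((E ⊞ F).X i) := by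
  let a : (E ⊞ F).X i →ₗ[R] E.X i × F.X i :=
    ((biprod.fst : E ⊞ F ⟶ E).f i).hom.prod ((biprod.snd : E ⊞ F ⟶ F).f i).hom
  let b : E.X i × F.X i →ₗ[R] (E ⊞ F).X i :=
    ((biprod.inl : E ⟶ E ⊞ F).f i).hom.coprod ((biprod.inr : F ⟶ E ⊞ F).f i).hom
  have hba : b ∘ₗ a = LinearMap.id := LinearMap.ext fun z =>
    ConcreteCategory.congr_hom (congrArg (fun φ => φ.f i) (biprod.total (X := E) (Y := F))) z
  have := hE.1; have := hE.2; have := hF.1; have := hF.2
  exact ⟨Module.Finite.of_surjective b fun z => ⟨a z, LinearMap.congr_fun hba z⟩,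
    Module.Projective.of_split a b hba⟩

theorem homotopic_of_Q_map_eq {E F : DRing.Cx R} [E.IsKProjective] {f g : E ⟶ F}
    (h : DerivedCategory.Q.map f = DerivedCategory.Q.map g) :
    (HomotopyCategory.quotient _ _).map f = (HomotopyCategory.quotient _ _).map g := by
  refine (CochainComplex.IsKProjective.Qh_map_bijective E _).injective ?_
  rw [← cancel_mono ((quotientCompQhIso (ModuleCat.{u} R)).hom.app F)]
  have e : ∀ φ : E ⟶ F, DerivedCategory.Qh.map ((HomotopyCategory.quotient _ _).map φ) ≫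
      (quotientCompQhIso (ModuleCat.{u} R)).hom.app F =
      (quotientCompQhIso (ModuleCat.{u} R)).hom.app E ≫ DerivedCategory.Q.map φ :=
    fun φ => (quotientCompQhIso (ModuleCat.{u} R)).hom.naturality φ
  rw [e, e, h]

/-- Isomorphic perfect complexes are isomorphic after adding contractible ones. -/
theorem exists_stable_iso (M N : DRing.Cx R) (a b : ℤ) (hM : DRing.VanishesOutside M a b)
    (hN : DRing.VanishesOutside N a b) (hMp : DRing.TermwiseFiniteProjective M)
    (hNp : DRing.TermwiseFiniteProjective N) (h : Nonempty (DRing.toD M ≅ DRing.toD N)) :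
    ∃ P Q : DRing.Cx R,
      (DRing.VanishesOutside P (a - 1) b ∧ DRing.TermwiseFiniteProjective P ∧ Nonempty (Homotopy (𝟙 P) 0)) ∧
      (DRing.VanishesOutside Q (a - 1) b ∧ DRing.TermwiseFiniteProjective Q ∧ Nonempty (Homotopy (𝟙 Q) 0)) ∧
      Nonempty (M ⊞ P ≅ N ⊞ Q) := by
  obtain ⟨e⟩ := h
  haveI := DBasic.isKProjective_of_projective M b (fun i hi => hM i (Or.inr hi)) fun i => (hMp i).2
  haveI := DBasic.isKProjective_of_projective N b (fun i hi => hN i (Or.inr hi)) fun i => (hNp i).2
  obtain ⟨α, hα⟩ := DBasic.exists_Q_map_eq (L := N) e.hom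
  obtain ⟨β, hβ⟩ := DBasic.exists_Q_map_eq (L := M) e.inv
  have hαβ : (HomotopyCategory.quotient _ _).map (α ≫ β) = (HomotopyCategory.quotient _ _).map (𝟙 M) := by
    refine homotopic_of_Q_map_eq ?_
    rw [Functor.map_comp, CategoryTheory.Functor.map_id, hα, hβ]
    exact e.hom_inv_id
  have hβα : (HomotopyCategory.quotient _ _).map (β ≫ α) = (HomotopyCategory.quotient _ _).map (𝟙 N) := by
    refine homotopic_of_Q_map_eq ?_
    rw [Functor.map_comp, CategoryTheory.Functor.map_id, hα, hβ]
    exact e.inv_hom_id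
  let C₁ : DRing.Cx R := mappingCone (𝟙 M)
  let hC₁ : Homotopy (𝟙 C₁) 0 := mappingCone.homotopyToZeroOfId M
  let H : Homotopy (𝟙 M - α ≫ β) 0 :=
    (Homotopy.equivSubZero (HomotopyCategory.homotopyOfEq _ _ hαβ.symm))
  obtain ⟨z, hz⟩ := Cochain.equivHomotopy _ _ H
  rw [Cochain.ofHom_zero, add_zero] at hz
  let γ : C₁ ⟶ M := mappingCone.desc (𝟙 M) z (𝟙 M - α ≫ β) (by rw [Category.id_comp]; exact hz.symm)
  let X : DRing.Cx R := N ⊞ C₁
  let bm : M ⟶ X := biprod.lift α (mappingCone.inr (𝟙 M))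
  let r : X ⟶ M := biprod.desc β γ
  have hbr : bm ≫ r = 𝟙 M := by
    simp only [bm, r, biprod.lift_desc, γ, mappingCone.inr_desc]
    abel
  let q := HomotopyCategory.quotient (ModuleCat.{u} R) (ComplexShape.up ℤ)
  have hfst : q.map ((biprod.fst : X ⟶ N) ≫ (biprod.inl : N ⟶ X)) = q.map (𝟙 X) := by
    have hC : q.map (𝟙 C₁) = 0 := by
      rw [HomotopyCategory.eq_of_homotopy _ _ hC₁, Functor.map_zero]
    rw [← biprod.total, Functor.map_add]
    conv_rhs => arg 2; rw [← Category.id_comp (biprod.inr : C₁ ⟶ X), ← Category.assoc, Functor.map_comp,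
      Functor.map_comp, hC, comp_zero, zero_comp]
    rw [add_zero]
  have hrb : q.map (r ≫ bm) = q.map (𝟙 X) := by
    have h1 : bm ≫ (biprod.fst : X ⟶ N) = α := biprod.lift_fst _ _
    have h2 : q.map r = q.map (biprod.fst : X ⟶ N) ≫ q.map β := by
      calc q.map r = q.map ((biprod.fst : X ⟶ N) ≫ (biprod.inl : N ⟶ X)) ≫ q.map r := by
            rw [hfst, CategoryTheory.Functor.map_id, Category.id_comp]
        _ = q.map (biprod.fst : X ⟶ N) ≫ q.map β := by
            rw [← Functor.map_comp, ← Functor.map_comp, Category.assoc, biprod.inl_desc]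
    have h3 : q.map bm = q.map α ≫ q.map (biprod.inl : N ⟶ X) := by
      calc q.map bm = q.map bm ≫ q.map ((biprod.fst : X ⟶ N) ≫ (biprod.inl : N ⟶ X)) := by
            rw [hfst, CategoryTheory.Functor.map_id, Category.comp_id]
        _ = q.map α ≫ q.map (biprod.inl : N ⟶ X) := by
            rw [← Functor.map_comp, ← Functor.map_comp, ← Category.assoc, h1]
    rw [Functor.map_comp, h2, h3, Category.assoc, ← Category.assoc (q.map β), ← q.map_comp β α,
      hβα, CategoryTheory.Functor.map_id, Category.id_comp, ← Functor.map_comp, hfst]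
  let P : DRing.Cx R := kernel r
  let π : X ⟶ P := kernel.lift r (𝟙 X - r ≫ bm) (by
    rw [Preadditive.sub_comp, Category.assoc, hbr, Category.id_comp, Category.comp_id, sub_self])
  have hπι : π ≫ kernel.ι r = 𝟙 X - r ≫ bm := kernel.lift_ι _ _ _
  have hιπ : kernel.ι r ≫ π = 𝟙 P := by
    rw [← cancel_mono (kernel.ι r), Category.assoc, hπι, Preadditive.comp_sub, Category.comp_id,
      ← Category.assoc, kernel.condition, zero_comp, sub_zero, Category.id_comp]
  have hbπ : bm ≫ π = 0 := by
    rw [← cancel_mono (kernel.ι r), Category.assoc, hπι, Preadditive.comp_sub, Category.comp_id,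
      ← Category.assoc, hbr, Category.id_comp, sub_self, zero_comp]
  have hPh : Homotopy (𝟙 P) 0 := HomotopyCategory.homotopyOfEq _ _ (by
    rw [Functor.map_zero]
    have : q.map (π ≫ kernel.ι r) = 0 := by rw [hπι, Functor.map_sub, hrb, sub_self]
    have e : 𝟙 P = kernel.ι r ≫ (π ≫ kernel.ι r) ≫ π := by
      rw [Category.assoc, hιπ, Category.comp_id, hιπ]
    change q.map (𝟙 P) = 0
    rw [e, q.map_comp, q.map_comp (π ≫ kernel.ι r), this, zero_comp, comp_zero])
  let iso : M ⊞ P ≅ X :=
    { hom := biprod.desc bm (kernel.ι r)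
      inv := biprod.lift r π
      hom_inv_id := by
        refine biprod.hom_ext' _ _ ?_ ?_
        · rw [biprod.inl_desc_assoc, Category.comp_id]
          refine biprod.hom_ext _ _ ?_ ?_ <;> simp [hbr, hbπ]
        · rw [biprod.inr_desc_assoc, Category.comp_id]
          refine biprod.hom_ext _ _ ?_ ?_ <;> simp [hιπ, kernel.condition]
      inv_hom_id := by rw [biprod.lift_desc, hπι]; abel }
  have hC₁van : DRing.VanishesOutside C₁ (a - 1) b := fun i hi =>
    (CochainComplex.mappingCone.isZero_X_iff (𝟙 M) i).2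
      ⟨hM _ (by rcases hi with h | h <;> [left; right] <;> omega),
        hM _ (by rcases hi with h | h <;> [left; right] <;> omega)⟩
  have hC₁fp : DRing.TermwiseFiniteProjective C₁ := fun i => by
    let e : C₁.X i ≅ ModuleCat.of R (((M.X (i + 1) : Type u)) × (M.X i : Type u)) :=
      (HomologicalComplex.homotopyCofiber.XIsoBiprod (𝟙 M) i (i + 1) rfl) ≪≫ ModuleCat.biprodIsoProd _ _
    have := (hMp (i + 1)).1; have := (hMp (i + 1)).2; have := (hMp i).1; have := (hMp i).2
    exact ⟨Module.Finite.equiv e.toLinearEquiv.symm, Module.Projective.of_equiv e.toLinearEquiv.symm⟩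
  have hsplit : ∀ i, (π.f i).hom ∘ₗ ((kernel.ι r).f i).hom = LinearMap.id := fun i =>
    LinearMap.ext fun w => ConcreteCategory.congr_hom (congrArg (fun φ => φ.f i) hιπ) w
  refine ⟨P, C₁, ⟨fun i hi => ?_, fun i => ?_, ⟨hPh⟩⟩, ⟨hC₁van, hC₁fp, ⟨hC₁⟩⟩, ⟨iso⟩⟩
  · have := ModuleCat.subsingleton_of_isZero (isZero_biprod_X (E := N) (F := C₁) i
      (hN i (by rcases hi with h | h <;> [left; right] <;> omega)) (hC₁van i hi))
    haveI : Subsingleton (P.X i) := (Function.LeftInverse.injective (g := (π.f i).hom)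
      (LinearMap.congr_fun (hsplit i))).subsingleton
    exact ModuleCat.isZero_of_subsingleton _
  · obtain ⟨h1, h2⟩ := finProj_biprod_X (E := N) (F := C₁) i (hNp i) (hC₁fp i)
    exact ⟨Module.Finite.of_surjective (π.f i).hom fun w => ⟨_, LinearMap.congr_fun (hsplit i) w⟩,
      Module.Projective.of_split _ _ (hsplit i)⟩

/-- Base change of a contractible complex of finite projectives with free terms and boundaries. -/
theorem good_ext {S : Type u} [CommRing S] (φ : R →+* S) {P : DRing.Cx R} {a b : ℤ}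
    (hb : DRing.VanishesOutside P a b) (hp : DRing.TermwiseFiniteProjective P)
    (hh : Nonempty (Homotopy (𝟙 P) 0))
    (hX : ∀ i, letI := φ.toAlgebra; Module.Free S (S ⊗[R] P.X i))
    (hB : ∀ i, letI := φ.toAlgebra; Module.Free S (S ⊗[R] LinearMap.range (P.d i (i + 1)).hom)) :
    (∃ a' b' : ℤ, DRing.VanishesOutside ((LTensor.extCx φ).obj P) a' b') ∧
      DRing.TermwiseFiniteFree ((LTensor.extCx φ).obj P) ∧
      (∀ i : ℤ, Module.Free S (LinearMap.range (((LTensor.extCx φ).obj P).d i (i + 1)).hom)) ∧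
      Nonempty (Homotopy (𝟙 ((LTensor.extCx φ).obj P)) 0) := by
  obtain ⟨h⟩ := hh
  refine ⟨⟨a, b, fun i hi => (ModuleCat.extendScalars.{u, u, u} φ).map_isZero (hb i hi)⟩, fun i => ?_,
    fun i => free_range_ext h φ i (hB i), ⟨?_⟩⟩
  · letI := φ.toAlgebra
    have := (hp i).1
    exact ⟨inferInstanceAs (Module.Finite S (S ⊗[R] P.X i)), hX i⟩
  · exact ((Homotopy.ofEq (CategoryTheory.Functor.map_id (LTensor.extCx φ) P).symm).trans
      ((ModuleCat.extendScalars.{u, u, u} φ).mapHomotopy h)).trans (Homotopy.ofEq (Functor.map_zero _ _ _))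

theorem exists_away (p : Ideal R) [p.IsPrime] (M N : DRing.Cx R) (a b : ℤ)
    (hM : DRing.VanishesOutside M a b) (hN : DRing.VanishesOutside N a b)
    (hMp : DRing.TermwiseFiniteProjective M) (hNp : DRing.TermwiseFiniteProjective N)
    (h : Nonempty (DRing.toD M ≅ DRing.toD N)) :
    ∃ f : R, f ∉ p ∧ ∃ P Q : DRing.Cx (Localization.Away f),
      ((∃ a' b' : ℤ, DRing.VanishesOutside P a' b') ∧ DRing.TermwiseFiniteFree P ∧
          (∀ i : ℤ, Module.Free (Localization.Away f) (LinearMap.range (P.d i (i + 1)).hom)) ∧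
          Nonempty (Homotopy (𝟙 P) 0)) ∧
      ((∃ a' b' : ℤ, DRing.VanishesOutside Q a' b') ∧ DRing.TermwiseFiniteFree Q ∧
          (∀ i : ℤ, Module.Free (Localization.Away f) (LinearMap.range (Q.d i (i + 1)).hom)) ∧
          Nonempty (Homotopy (𝟙 Q) 0)) ∧
      Nonempty ((LTensor.extCx (algebraMap R (Localization.Away f))).obj M ⊞ P ≅
        (LTensor.extCx (algebraMap R (Localization.Away f))).obj N ⊞ Q) := by
  obtain ⟨P, Q, ⟨hP1, hP2, ⟨hP3⟩⟩, ⟨hQ1, hQ2, ⟨hQ3⟩⟩, ⟨i₀⟩⟩ := exists_stable_iso M N a b hM hN hMp hNp h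
  let Cond : ℤ → R → Prop := fun i f =>
    FreeAfter f (P.X i) ∧ FreeAfter f (LinearMap.range (P.d i (i + 1)).hom) ∧
      FreeAfter f (Q.X i) ∧ FreeAfter f (LinearMap.range (Q.d i (i + 1)).hom)
  obtain ⟨f, hf, hfC⟩ := exists_common (Finset.Icc (a - 1) b) p Cond
    (fun i f g hc => ⟨freeAfter_mul g hc.1, freeAfter_mul g hc.2.1, freeAfter_mul g hc.2.2.1,
      freeAfter_mul g hc.2.2.2⟩) fun i _ => by
    have := (hP2 i).1; have := (hP2 i).2; have := (hQ2 i).1; have := (hQ2 i).2
    have hP4 := range_finite_projective hP3 i (hP2 (i + 1))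
    have hQ4 := range_finite_projective hQ3 i (hQ2 (i + 1))
    have := hP4.1; have := hP4.2; have := hQ4.1; have := hQ4.2
    obtain ⟨f₁, m₁, h₁⟩ := exists_freeAfter p (P.X i)
    obtain ⟨f₂, m₂, h₂⟩ := exists_freeAfter p (LinearMap.range (P.d i (i + 1)).hom)
    obtain ⟨f₃, m₃, h₃⟩ := exists_freeAfter p (Q.X i)
    obtain ⟨f₄, m₄, h₄⟩ := exists_freeAfter p (LinearMap.range (Q.d i (i + 1)).hom)
    refine ⟨f₁ * f₂ * (f₃ * f₄), fun hm => ?_, freeAfter_mul _ (freeAfter_mul _ h₁),
      freeAfter_mul _ (mul_comm f₂ f₁ ▸ freeAfter_mul _ h₂),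
      mul_comm (f₃ * f₄) _ ▸ freeAfter_mul _ (freeAfter_mul _ h₃),
      mul_comm (f₃ * f₄) _ ▸ freeAfter_mul _ (mul_comm f₄ f₃ ▸ freeAfter_mul _ h₄)⟩
    rcases Ideal.IsPrime.mem_or_mem ‹_› hm with hm | hm <;>
      rcases Ideal.IsPrime.mem_or_mem ‹_› hm with hm | hm <;> contradiction
  let φ := algebraMap R (Localization.Away f)
  have hu : IsUnit (algebraMap R (Localization.Away f) f) := IsLocalization.Away.algebraMap_isUnit f
  have key : ∀ (E : DRing.Cx R), DRing.VanishesOutside E (a - 1) b →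
      (∀ i ∈ Finset.Icc (a - 1) b, FreeAfter f (E.X i) ∧ FreeAfter f (LinearMap.range (E.d i (i + 1)).hom)) →
      ∀ i, Module.Free (Localization.Away f) (Localization.Away f ⊗[R] E.X i) ∧
        Module.Free (Localization.Away f) (Localization.Away f ⊗[R] LinearMap.range (E.d i (i + 1)).hom) := by
    intro E hE hC i
    by_cases hi : i ∈ Finset.Icc (a - 1) b
    · exact ⟨(hC i hi).1 _ hu, (hC i hi).2 _ hu⟩
    · have := ModuleCat.subsingleton_of_isZero (hE i (by simp only [Finset.mem_Icc] at hi; omega))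
      have : Subsingleton (LinearMap.range (E.d i (i + 1)).hom) :=
        (E.d i (i + 1)).hom.surjective_rangeRestrict.subsingleton
      exact ⟨inferInstance, inferInstance⟩
  have kP := key P hP1 fun i hi => ⟨(hfC i hi).1, (hfC i hi).2.1⟩
  have kQ := key Q hQ1 fun i hi => ⟨(hfC i hi).2.2.1, (hfC i hi).2.2.2⟩
  have eA : φ.toAlgebra = (inferInstance : Algebra R (Localization.Away f)) :=
    Algebra.algebra_ext _ _ fun _ => rfl
  refine ⟨f, hf, (LTensor.extCx φ).obj P, (LTensor.extCx φ).obj Q,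
    good_ext φ hP1 hP2 ⟨hP3⟩ (fun i => by rw [eA]; exact (kP i).1) (fun i => by rw [eA]; exact (kP i).2),
    good_ext φ hQ1 hQ2 ⟨hQ3⟩ (fun i => by rw [eA]; exact (kQ i).1) (fun i => by rw [eA]; exact (kQ i).2), ⟨?_⟩⟩
  haveI : PreservesBinaryBiproducts (LTensor.extCx φ) :=
    preservesBinaryBiproducts_of_preservesBiproducts _
  exact ((LTensor.extCx φ).mapBiprod M P).symm ≪≫ (LTensor.extCx φ).mapIso i₀ ≪≫
    (LTensor.extCx φ).mapBiprod N Q

end Groth.Agent.DRing.StableIso
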