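import Mathlib.RingTheory.Ideal.Operations
import Mathlib.LinearAlgebra.Quotient.Basic
import Mathlib.Algebra.BigOperators.GroupWithZero.Action
import Mathlib.RingTheory.Ideal.Maps
import Mathlib.Algebra.Module.Pi
import Mathlib.Data.Nat.Choose.Basic
import Mathlib.Tactic.Abel

/-!
# Completeness of a module along an element through the telescope

`Tel f M`: every system `x k = m k + f • x (k + 1)` has exactly one solution.
-/

universe u v w

namespace Groth.Agent.DRing.Tel

set_option linter.dupNamespace false

variable {A : Type u} [CommRing A]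

/-- The shift of a sequence. -/
def shl (M : Type v) [AddCommGroup M] [Module A M] : (ℕ → M) →ₗ[A] (ℕ → M) :=
  LinearMap.funLeft A M (· + 1)

/-- `x ↦ (x k - f • x (k + 1))_k`. -/
def D (f : A) (M : Type v) [AddCommGroup M] [Module A M] : (ℕ → M) →ₗ[A] (ℕ → M) :=
  LinearMap.id - f • shl M

variable {M : Type v} [AddCommGroup M] [Module A M]

@[simp] lemma shl_apply (x : ℕ → M) (k : ℕ) : shl (A := A) M x k = x (k + 1) := rfl

@[simp] lemma D_apply (f : A) (x : ℕ → M) (k : ℕ) : D f M x k = x k - f • x (k + 1) := rfl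

variable (M) in
/-- The system `x k = m k + f • x (k + 1)` is uniquely solvable. -/
def Tel (f : A) : Prop := Function.Bijective (D f M)

lemma tel_iff {f : A} : Tel M f ↔
    (∀ x : ℕ → M, (∀ k, x k = f • x (k + 1)) → x = 0) ∧
      ∀ m : ℕ → M, ∃ x : ℕ → M, ∀ k, x k - f • x (k + 1) = m k := by
  refine and_congr ?_ (forall_congr' fun m => exists_congr fun x => funext_iff)
  rw [injective_iff_map_eq_zero]
  exact forall_congr' fun x => imp_congr_left (by simp [funext_iff, sub_eq_zero])

/-- The functional solving the system in degree zero. -/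
noncomputable def sol {f : A} (h : Tel M f) : (ℕ → M) →ₗ[A] M :=
  (LinearMap.proj 0).comp (LinearEquiv.ofBijective (D f M) h).symm.toLinearMap

lemma sol_eq {f : A} (h : Tel M f) (m : ℕ → M) :
    sol h m = m 0 + f • sol h (shl (A := A) M m) := by
  let e := LinearEquiv.ofBijective (D f M) h
  have h1 : D f M (e.symm m) = m := e.apply_symm_apply m
  have h2 : e.symm (shl (A := A) M m) = shl (A := A) M (e.symm m) := by
    rw [LinearEquiv.symm_apply_eq]
    funext k
    exact (congrFun h1 (k + 1)).symm
  have h3 := congrFun h1 0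
  rw [D_apply, sub_eq_iff_eq_add] at h3
  refine h3.trans (congrArg (fun y => m 0 + f • y) ?_)
  exact (congrFun h2 0).symm

/-- A linear functional solving the system suffices. -/
lemma tel_of_sol {f : A} (q : (ℕ → M) →ₗ[A] M)
    (hq : ∀ m, q m = m 0 + f • q (shl (A := A) M m)) : Tel M f := by
  let Q : (ℕ → M) → (ℕ → M) := fun m k => q fun j => m (j + k)
  have hDQ : ∀ m, D f M (Q m) = m := fun m => funext fun k => by
    rw [D_apply, sub_eq_iff_eq_add]
    refine (hq _).trans ?_
    simp only [Q, zero_add]
    exact congrArg (fun y => m k + f • q y) (funext fun j => by simp [add_comm, add_left_comm])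
  refine ⟨fun x y hxy => ?_, fun m => ⟨Q m, hDQ m⟩⟩
  have hQD : ∀ x, Q (D f M x) = x := fun x => funext fun k => by
    change q (fun j => x (j + k) - f • x (j + k + 1)) = x k
    have : (fun j => x (j + k) - f • x (j + k + 1)) =
        (fun j => x (j + k)) - f • shl (A := A) M (fun j => x (j + k)) :=
      funext fun j => by simp [add_right_comm j k 1]
    rw [this, map_sub, map_smul, hq, add_sub_cancel_right, zero_add]
  rw [← hQD x, hxy, hQD]

lemma tel_zero : Tel M (0 : A) :=
  tel_of_sol (LinearMap.proj 0) fun m => by simp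

lemma tel_mul_left (g : A) {f : A} (h : Tel M f) : Tel M (g * f) := by
  refine tel_of_sol ((sol h).comp (LinearMap.pi fun j => g ^ j • LinearMap.proj j)) fun m => ?_
  simp only [LinearMap.comp_apply]
  rw [sol_eq h, mul_comm g f, mul_smul, ← map_smul (sol h) g]
  congr 1
  · simp
  · congr 1; congr 1
    funext j
    simp [pow_succ', mul_smul]

lemma tel_add {f g : A} (hf : Tel M f) (hg : Tel M g) : Tel M (f + g) := by
  let w : ℕ → (ℕ → M) →ₗ[A] (ℕ → M) := fun a => LinearMap.pi fun b =>
    ((a + b).choose a : A) • LinearMap.proj (a + b)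
  refine tel_of_sol ((sol hf).comp (LinearMap.pi fun a => (sol hg).comp (w a))) fun m => ?_
  simp only [LinearMap.comp_apply]
  let u : (ℕ → M) → ℕ → M := fun m a => sol hg (w a m)
  change sol hf (u m) = m 0 + (f + g) • sol hf (u (shl (A := A) M m))
  let m' := shl (A := A) M m
  have h0 : u m 0 = m 0 + g • u m' 0 := by
    change sol hg (w 0 m) = _
    rw [sol_eq hg]
    congr 1
    · simp [w]
    · congr 1; congr 1
      funext b
      simp [w, m']
  have hs : ∀ a, u m (a + 1) = u m' a + g • u m' (a + 1) := by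
    intro a
    let d : ℕ → M := fun b => (Nat.choose (a + b) (a + 1) : A) • m (a + 1 + b)
    have hw : w (a + 1) m = w a m' + d := funext fun b => by
      simp only [w, d, m', LinearMap.pi_apply, LinearMap.smul_apply, LinearMap.proj_apply,
        Pi.add_apply, shl_apply]
      rw [show a + b + 1 = a + 1 + b by omega, ← add_smul, ← Nat.cast_add,
        show a + 1 + b = (a + b) + 1 by omega, Nat.choose_succ_succ']
    have hd : shl (A := A) M d = w (a + 1) m' := funext fun b => by
      simp only [w, d, m', LinearMap.pi_apply, LinearMap.smul_apply, LinearMap.proj_apply, shl_apply]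
      rw [show a + (b + 1) = a + 1 + b by omega, show a + 1 + (b + 1) = a + 1 + b + 1 by omega]
    change sol hg (w (a + 1) m) = _
    rw [hw, map_add, sol_eq hg d, hd]
    simp only [d, add_zero, Nat.choose_succ_self, Nat.cast_zero, zero_smul, zero_add]
    rfl
  have hsplit : shl (A := A) M (u m) = u m' + g • shl (A := A) M (u m') := funext hs
  rw [sol_eq hf (u m), hsplit, map_add, map_smul, h0, smul_add, add_smul, smul_comm f g,
    sol_eq hf (u m'), smul_add]
  rw [smul_add g]; abel

lemma tel_of_pow {f : A} {n : ℕ} (h : Tel M (f ^ n)) : Tel M f := by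
  cases n with
  | zero =>
    have := tel_mul_left f h
    rwa [pow_zero, mul_one] at this
  | succ n =>
    let B : (ℕ → M) →ₗ[A] (ℕ → M) := LinearMap.pi fun i =>
      ∑ r ∈ Finset.range (n + 1), f ^ r • LinearMap.proj ((n + 1) * i + r)
    refine tel_of_sol ((sol h).comp B) fun m => ?_
    simp only [LinearMap.comp_apply]
    let e : ℕ → M := fun i => m ((n + 1) * i)
    have hB : f • B (shl (A := A) M m) = B m - e + f ^ (n + 1) • shl (A := A) M e := by
      funext i
      simp only [B, e, LinearMap.pi_apply, LinearMap.coe_sum, Finset.sum_apply,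
        LinearMap.smul_apply, LinearMap.proj_apply, Pi.smul_apply, Pi.add_apply, Pi.sub_apply,
        shl_apply, Finset.smul_sum, smul_smul, ← pow_succ']
      rw [Finset.sum_range_succ' (fun r => f ^ r • m ((n + 1) * i + r)), Finset.sum_range_succ,
        show (n + 1) * i + n + 1 = (n + 1) * (i + 1) by ring, pow_zero, one_smul, add_zero,
        add_sub_cancel_right]
      rfl
    rw [← map_smul (sol h) f, hB, map_add, map_sub, map_smul, sol_eq h e]
    simp only [e, mul_zero]
    abel

variable (A M) in
/-- The elements along which `M` is complete form an ideal. -/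
def telIdeal : Ideal A where
  carrier := {f | Tel M f}
  zero_mem' := tel_zero
  add_mem' := tel_add
  smul_mem' g _ h := tel_mul_left g h

lemma mem_telIdeal {f : A} : f ∈ telIdeal A M ↔ Tel M f := Iff.rfl

lemma telIdeal_isRadical : (telIdeal A M).IsRadical := fun _ ⟨_, hn⟩ => tel_of_pow hn

/-- An invertible action forces zero. -/
lemma subsingleton_of_surjective {f : A} (h : Tel M f)
    (hs : Function.Surjective (fun x : M => f • x)) : Subsingleton M := by
  refine subsingleton_of_forall_eq 0 fun m => ?_
  choose r hr using hs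
  let x : ℕ → M := fun k => r^[k] m
  have hx : ∀ k, x k = f • x (k + 1) := fun k => by
    simp only [x, Function.iterate_succ_apply']
    exact (hr _).symm
  exact congrFun ((tel_iff.1 h).1 x hx) 0

section Maps

variable {N : Type w} [AddCommGroup N] [Module A N]

lemma D_map (f : A) (v : M →ₗ[A] N) (x : ℕ → M) :
    D f N (fun k => v (x k)) = fun k => v (D f M x k) :=
  funext fun k => by simp

lemma sol_map {f : A} (hM : Tel M f) (hN : Tel N f) (v : M →ₗ[A] N) (m : ℕ → M) :
    ∀ k, v ((LinearEquiv.ofBijective (D f M) hM).symm m k) =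
      (LinearEquiv.ofBijective (D f N) hN).symm (fun j => v (m j)) k := by
  refine congrFun (((LinearEquiv.symm_apply_eq _).2 ?_).symm)
  refine (Eq.trans ?_ (D_map f v _).symm)
  funext j
  exact congrArg v (congrFun (LinearEquiv.apply_symm_apply (LinearEquiv.ofBijective (D f M) hM) m) j).symm

lemma tel_congr (e : M ≃ₗ[A] N) {f : A} (h : Tel M f) : Tel N f := by
  refine tel_of_sol (e.toLinearMap.comp ((sol h).comp (LinearMap.pi fun j =>
    e.symm.toLinearMap.comp (LinearMap.proj j)))) fun m => ?_
  simp only [LinearMap.comp_apply, LinearEquiv.coe_coe]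
  rw [sol_eq h, map_add, map_smul]
  congr 1
  · simp

lemma tel_congr_iff (e : M ≃ₗ[A] N) {f : A} : Tel M f ↔ Tel N f :=
  ⟨tel_congr e, tel_congr e.symm⟩

lemma tel_of_subsingleton [Subsingleton M] (f : A) : Tel M f :=
  ⟨fun _ _ _ => Subsingleton.elim _ _, fun _ => ⟨0, Subsingleton.elim _ _⟩⟩

lemma tel_ker {f : A} (hM : Tel M f) (hN : Tel N f) (v : M →ₗ[A] N) :
    Tel (LinearMap.ker v) f := by
  refine tel_iff.2 ⟨fun x hx => funext fun k => Subtype.ext ?_, fun m => ?_⟩
  · exact congrFun ((tel_iff.1 hM).1 (fun j => (x j).1) fun j => congrArg Subtype.val (hx j)) k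
  · obtain ⟨x, hx⟩ := (tel_iff.1 hM).2 fun j => (m j).1
    have h0 := (tel_iff.1 hN).1 (fun j => v (x j)) fun j => by
      have := congrArg v (hx j)
      rwa [map_sub, map_smul, (m j).2, sub_eq_zero] at this
    exact ⟨fun k => ⟨x k, congrFun h0 k⟩, fun k => Subtype.ext (hx k)⟩

lemma tel_coker {f : A} (hM : Tel M f) (hN : Tel N f) (v : M →ₗ[A] N) :
    Tel (N ⧸ LinearMap.range v) f := by
  let q := (LinearMap.range v).mkQ
  have hq : Function.Surjective q := Submodule.mkQ_surjective _
  refine tel_iff.2 ⟨fun x hx => ?_, fun m => ?_⟩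
  · choose y hy using fun k => hq (x k)
    have : ∀ k, ∃ p, v p = y k - f • y (k + 1) := fun k =>
      (Submodule.Quotient.mk_eq_zero _).1 (show q (y k - f • y (k + 1)) = 0 by
        rw [map_sub, map_smul, hy, hy, sub_eq_zero]; exact hx k)
    choose p hp using this
    obtain ⟨z, hz⟩ := (tel_iff.1 hM).2 p
    have h0 := (tel_iff.1 hN).1 (fun k => y k - v (z k)) fun k => by
      have h1 := congrArg v (hz k)
      rw [map_sub, map_smul, hp] at h1
      rw [smul_sub, ← sub_eq_zero]
      calc y k - v (z k) - (f • y (k + 1) - f • v (z (k + 1)))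
          = (y k - f • y (k + 1)) - (v (z k) - f • v (z (k + 1))) := by abel
        _ = 0 := by rw [h1, sub_self]
    funext k
    rw [← hy k, show y k = v (z k) from sub_eq_zero.1 (congrFun h0 k)]
    exact (Submodule.Quotient.mk_eq_zero _).2 ⟨z k, rfl⟩
  · choose n hn using fun k => hq (m k)
    obtain ⟨x, hx⟩ := (tel_iff.1 hN).2 n
    exact ⟨fun k => q (x k), fun k => by rw [← map_smul, ← map_sub, hx, hn]⟩

lemma tel_extension (S : Submodule A M) {f : A} (h1 : Tel S f) (h3 : Tel (M ⧸ S) f) : Tel M f := by
  refine tel_iff.2 ⟨fun x hx => ?_, fun m => ?_⟩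
  · have h0 := (tel_iff.1 h3).1 (fun k => S.mkQ (x k)) fun k => by rw [hx k, map_smul]
    have hS : ∀ k, x k ∈ S := fun k => (Submodule.Quotient.mk_eq_zero S).1 (congrFun h0 k)
    have h := (tel_iff.1 h1).1 (fun k => ⟨x k, hS k⟩) fun k => Subtype.ext (hx k)
    exact funext fun k => congrArg Subtype.val (congrFun h k)
  · obtain ⟨x, hx⟩ := (tel_iff.1 h3).2 fun k => S.mkQ (m k)
    choose y hy using fun k => S.mkQ_surjective (x k)
    have hS : ∀ k, m k - (y k - f • y (k + 1)) ∈ S := fun k => by
      refine (Submodule.Quotient.mk_eq_zero S).1 ?_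
      change S.mkQ (m k - (y k - f • y (k + 1))) = 0
      rw [map_sub, map_sub, map_smul, hy, hy, hx, sub_self]
    obtain ⟨z, hz⟩ := (tel_iff.1 h1).2 fun k => ⟨_, hS k⟩
    refine ⟨fun k => y k + (z k).1, fun k => ?_⟩
    have h := congrArg Subtype.val (hz k)
    simp only [AddSubgroupClass.coe_sub, SetLike.val_smul] at h
    rw [smul_add]
    calc y k + (z k).1 - (f • y (k + 1) + f • (z (k + 1)).1)
        = (y k - f • y (k + 1)) + ((z k).1 - f • (z (k + 1)).1) := by abel
      _ = m k := by rw [h]; abel

lemma tel_pi {ι : Type*} (P : ι → Type v) [∀ i, AddCommGroup (P i)] [∀ i, Module A (P i)] {f : A}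
    (h : ∀ i, Tel (P i) f) : Tel (∀ i, P i) f := by
  refine tel_iff.2 ⟨fun x hx => ?_, fun m => ?_⟩
  · funext k i
    exact congrFun ((tel_iff.1 (h i)).1 (fun j => x j i) fun j => congrFun (hx j) i) k
  · choose x hx using fun i => (tel_iff.1 (h i)).2 fun j => m j i
    exact ⟨fun k i => x i k, fun k => funext fun i => hx i k⟩

end Maps

end Groth.Agent.DRing.Tel
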