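import Groth.Agent.DRing.Tel
import Groth.Agent.DRing.InjAmp
import Groth.Prelude.Def_DRing3
import Mathlib.Tactic.Module

/-!
# Maps out of `A_f` in `D(A)` through the telescope
-/

universe u

open CategoryTheory CategoryTheory.Limits DerivedCategory

attribute [local instance] HasDerivedCategory.standard

namespace Groth.Agent.DRing.TelComplex

open DBasic Homology PC

variable {A : Type u} [CommRing A] (f : A)

/-- The telescope differential `e k ↦ e k - f • e (k + 1)`. -/
noncomputable def δF : (ℕ →₀ A) →ₗ[A] (ℕ →₀ A) :=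
  Finsupp.linearCombination A fun k => Finsupp.single k 1 - f • Finsupp.single (k + 1) 1

lemma δF_single (k : ℕ) :
    δF f (Finsupp.single k 1) = Finsupp.single k 1 - f • Finsupp.single (k + 1) 1 := by
  rw [δF, Finsupp.linearCombination_single, one_smul]

/-- `e k ↦ 1 / f ^ k`. -/
noncomputable def πF : (ℕ →₀ A) →ₗ[A] Localization.Away f :=
  Finsupp.linearCombination A fun k => IsLocalization.Away.invSelf f ^ k

lemma πF_single (k : ℕ) (a : A) :
    πF f (Finsupp.single k a) = a • IsLocalization.Away.invSelf f ^ k :=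
  Finsupp.linearCombination_single A a k

lemma smul_invSelf (k : ℕ) :
    f • (IsLocalization.Away.invSelf f : Localization.Away f) ^ (k + 1) =
      IsLocalization.Away.invSelf f ^ k := by
  rw [Algebra.smul_def, pow_succ', ← mul_assoc, IsLocalization.Away.mul_invSelf, one_mul]

lemma πF_δF (x : ℕ →₀ A) : πF f (δF f x) = 0 := by
  have : (πF f).comp (δF f) = 0 := Finsupp.lhom_ext' fun k => LinearMap.ext_ring (by
    simp only [LinearMap.comp_apply, Finsupp.lsingle_apply, δF_single, map_sub, map_smul,
      πF_single, one_smul, smul_invSelf, sub_self, LinearMap.zero_apply])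
  exact LinearMap.congr_fun this x

lemma δF_apply (x : ℕ →₀ A) :
    (δF f x) 0 = x 0 ∧ ∀ k, (δF f x) (k + 1) = x (k + 1) - f * x k := by
  constructor
  · have : (Finsupp.lapply 0).comp (δF f) = Finsupp.lapply (M := A) (R := A) 0 :=
      Finsupp.lhom_ext' fun k => LinearMap.ext_ring (by
        simp [δF_single])
    exact LinearMap.congr_fun this x
  · intro j
    have : (Finsupp.lapply (j + 1)).comp (δF f) =
        Finsupp.lapply (M := A) (R := A) (j + 1) - f • Finsupp.lapply j :=
      Finsupp.lhom_ext' fun k => LinearMap.ext_ring (by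
        simp [δF_single, Finsupp.single_apply])
    exact LinearMap.congr_fun this x

lemma δF_injective : Function.Injective (δF f) := by
  rw [injective_iff_map_eq_zero]
  intro x hx
  ext k
  induction k with
  | zero => rw [← (δF_apply f x).1, hx]
  | succ k ih =>
    have h := (δF_apply f x).2 k
    rw [hx, ih] at h
    simpa using h.symm

lemma mk_single (k j : ℕ) (a : A) :
    (LinearMap.range (δF f)).mkQ (Finsupp.single k a) =
      (LinearMap.range (δF f)).mkQ (Finsupp.single (k + j) (f ^ j * a)) := by
  induction j with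
  | zero => simp
  | succ j ih =>
    rw [ih, ← sub_eq_zero, ← map_sub]
    refine (Submodule.Quotient.mk_eq_zero _).2 ⟨(f ^ j * a) • Finsupp.single (k + j) 1, ?_⟩
    rw [map_smul, δF_single, smul_sub, smul_smul, Finsupp.smul_single, Finsupp.smul_single]
    simp [add_assoc, pow_succ, mul_comm, mul_left_comm]

lemma ker_πF (x : ℕ →₀ A) (hx : πF f x = 0) : ∃ y, δF f y = x := by
  let q := (LinearMap.range (δF f)).mkQ
  obtain ⟨N, hN⟩ : ∃ N, ∀ k ∈ x.support, k ≤ N := ⟨x.support.sup id, fun k hk => Finset.le_sup (f := id) hk⟩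
  let c : A := ∑ k ∈ x.support, f ^ (N - k) * x k
  have h1 : q x = q (Finsupp.single N c) := by
    conv_lhs => rw [← x.sum_single]
    rw [Finsupp.sum, map_sum, Finsupp.single_finsetSum, map_sum]
    refine Finset.sum_congr rfl fun k hk => ?_
    rw [mk_single f k (N - k), Nat.add_sub_cancel' (hN k hk)]
  have hπ : πF f x = c • IsLocalization.Away.invSelf f ^ N := by
    rw [← πF_single]
    obtain ⟨y, hy⟩ := (Submodule.Quotient.eq _).1 h1
    rw [← sub_eq_zero, ← map_sub, ← hy]
    exact πF_δF f y
  have hc : algebraMap A (Localization.Away f) c = 0 := by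
    rw [hx] at hπ
    have h2 := congrArg (fun y => (algebraMap A (Localization.Away f) f) ^ N * y) hπ
    simp only [mul_zero, Algebra.smul_def] at h2
    rw [mul_left_comm, ← mul_pow, IsLocalization.Away.mul_invSelf, one_pow, mul_one] at h2
    exact h2.symm
  obtain ⟨⟨_, M, rfl⟩, hM⟩ := (IsLocalization.map_eq_zero_iff (Submonoid.powers f) _ c).1 hc
  have h3 : q x = 0 := by
    rw [h1, mk_single f N M]
    simp [show f ^ M * c = 0 from hM]
  exact (Submodule.Quotient.mk_eq_zero _).1 h3

lemma πF_surjective : Function.Surjective (πF f) := fun y => by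
  obtain ⟨a, ⟨_, k, rfl⟩, rfl⟩ := IsLocalization.exists_mk'_eq (Submonoid.powers f) y
  refine ⟨Finsupp.single k a, ?_⟩
  rw [πF_single, IsLocalization.eq_mk'_iff_mul_eq, Algebra.smul_def, map_pow, mul_assoc, ← mul_pow,
    mul_comm (IsLocalization.Away.invSelf f), IsLocalization.Away.mul_invSelf, one_pow, mul_one]

/-- The degrees of the telescope. -/
noncomputable def supp (n i : ℤ) : Submodule A (ℕ →₀ A) := if i = n - 1 ∨ i = n then ⊤ else ⊥

lemma mem_supp {n i : ℤ} (h : i = n - 1 ∨ i = n) (x : ℕ →₀ A) : x ∈ supp (A := A) n i := by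
  unfold supp; rw [if_pos h]; trivial

lemma supp_zero {n i : ℤ} (h : ¬(i = n - 1 ∨ i = n)) (x : supp (A := A) n i) : x = 0 :=
  Subtype.ext ((Submodule.mem_bot A).1 ((show supp (A := A) n i ≤ ⊥ from le_of_eq (if_neg h)) x.2))

/-- The nonzero component of the differential. -/
noncomputable def dT (n i j : ℤ) : supp (A := A) n i →ₗ[A] supp (A := A) n j :=
  if h : i = n - 1 ∧ j = n then
    ((δF f).comp (supp n i).subtype).codRestrict _ (fun _ => mem_supp (Or.inr h.2) _) else 0

lemma dT_apply {n i j : ℤ} (hi : i = n - 1) (hj : j = n) (x : supp (A := A) n i) :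
    (dT f n i j x).1 = δF f x.1 := by
  unfold dT; rw [dif_pos ⟨hi, hj⟩]; rfl

lemma dT_zero {n i j : ℤ} (h : ¬(i = n - 1 ∧ j = n)) : dT f n i j = 0 := dif_neg h

/-- The telescope, in degrees `n - 1` and `n`. -/
@[reducible] noncomputable def T (n : ℤ) : DRing.Cx A where
  X i := ModuleCat.of A (supp (A := A) n i)
  d i j := ModuleCat.ofHom (dT f n i j)
  shape i j h := by
    rw [dT_zero f (fun ⟨hi, hj⟩ => h (by subst hi hj; simp))]; rfl
  d_comp_d' i j k _ _ := by
    refine ModuleCat.hom_ext ?_
    simp only [ModuleCat.hom_comp, ModuleCat.hom_ofHom, ModuleCat.hom_zero]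
    by_cases h : i = n - 1 ∧ j = n
    · rw [dT_zero f (show ¬(j = n - 1 ∧ k = n) by omega)]; simp
    · rw [dT_zero f h]; simp

lemma vanishesAbove_T (n : ℤ) : DRing.VanishesAbove (T f n) n := fun i hi => by
  have : Subsingleton (supp (A := A) n i) :=
    subsingleton_of_forall_eq 0 fun x => supp_zero (by omega) x
  exact ModuleCat.isZero_of_subsingleton (ModuleCat.of A (supp (A := A) n i))

lemma projective_T (n i : ℤ) : Module.Projective A ((T f n).X i) := by
  change Module.Projective A (supp (A := A) n i)
  by_cases h : i = n - 1 ∨ i = n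
  · exact Module.Projective.of_equiv
      (LinearEquiv.ofTop (supp n i) (if_pos h)).symm
  · have : Subsingleton (supp (A := A) n i) := subsingleton_of_forall_eq 0 fun x => supp_zero h x
    have := Module.Free.of_subsingleton A (supp (A := A) n i)
    infer_instance

/-- The telescope resolves `A_f` in degree `n`. -/
lemma exists_qis (n : ℤ) :
    ∃ p : T f n ⟶ sgl n (ModuleCat.of A (Localization.Away f)), QuasiIso p := by
  let M := ModuleCat.of A (Localization.Away f)
  let σ := HomologicalComplex.singleObjXSelf (ComplexShape.up ℤ) n M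
  let θ : (T f n).X n →ₗ[A] M := (πF f).comp (supp n n).subtype
  let p : T f n ⟶ sgl n M := HomologicalComplex.mkHomToSingle (ModuleCat.ofHom θ)
    (fun k (hk : k + 1 = n) => ModuleCat.hom_ext (LinearMap.ext fun x => by
      change πF f (dT f n k n x).1 = 0
      rw [dT_apply f (by omega) rfl]
      exact πF_δF f _))
  refine ⟨p, quasiIso_of_bijective _ fun i => ?_⟩
  by_cases hi : i = n
  · subst hi
    have hp : ∀ z, (p.f i).hom z = σ.inv.hom (πF f z.1) := fun z => by
      rw [show p.f i = ModuleCat.ofHom θ ≫ σ.inv from HomologicalComplex.mkHomToSingle_f _ _]; rfl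
    have hd : (sgl i M).d (i - 1) i = 0 := HomologicalComplex.single_obj_d _ _ _ _ _
    constructor
    · rw [homologyMap_injective_iff p i (i - 1) (by omega)]
      intro z w _ hzw
      rw [hd, hp] at hzw
      have hz0 : πF f z.1 = 0 := σ.symm.toLinearEquiv.injective (hzw.trans (map_zero _).symm)
      obtain ⟨y, hy⟩ := ker_πF f z.1 hz0
      exact ⟨⟨y, mem_supp (Or.inl rfl) y⟩, Subtype.ext ((dT_apply f rfl rfl _).trans hy)⟩
    · rw [homologyMap_surjective_iff p i (i - 1) (by omega)]
      intro y _
      obtain ⟨x, hx⟩ := πF_surjective f (σ.hom.hom y)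
      refine ⟨⟨x, mem_supp (Or.inr rfl) x⟩, 0, ?_, ?_⟩
      · change dT f i i (i + 1) _ = 0
        rw [dT_zero f (by omega)]; rfl
      · rw [map_zero, add_zero, hp]
        change σ.inv.hom (πF f x) = y
        rw [hx]
        exact σ.toLinearEquiv.symm_apply_apply y
  · have h1 : IsZero ((T f n).homology i) := by
      refine ((T f n).exactAt_iff_isZero_homology i).1 ((exactAt_iff_forall i (i - 1) (by omega)).2 ?_)
      intro z hz
      refine ⟨0, (map_zero _).trans ?_⟩
      by_cases hi' : i = n - 1
      · refine (Subtype.ext (δF_injective f ?_)).symm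
        have := congrArg Subtype.val ((isCyc_iff (show i + 1 = n by omega) z).1 hz)
        exact ((dT_apply f hi' rfl z).symm.trans this).trans (map_zero _).symm
      · exact (supp_zero (by omega) z).symm
    have := ModuleCat.subsingleton_of_isZero h1
    have := ModuleCat.subsingleton_of_isZero
      ((HomologicalComplex.exactAt_single_obj (ComplexShape.up ℤ) n M i hi).isZero_homology)
    exact ⟨fun x y _ => Subsingleton.elim x y, fun y => ⟨0, Subsingleton.elim _ _⟩⟩

lemma hom_sub_smul {n i : ℤ} {M : ModuleCat.{u} A} (φ : ModuleCat.of A (supp (A := A) n i) ⟶ M)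
    (x y : supp (A := A) n i) : φ.hom (x - f • y) = φ.hom x - f • φ.hom y :=
  let ψ : supp (A := A) n i →ₗ[A] M := φ.hom
  (map_sub ψ x (f • y)).trans (congrArg (ψ x - ·) (map_smul ψ f y))

lemma nullHomotopic_iff (P : DRing.Cx A) (n : ℤ) :
    (∀ g : T f n ⟶ P, Nonempty (Homotopy g 0)) ↔
      ∀ (a : ℕ → P.X (n - 1)) (b : ℕ → P.X n), (∀ k, IsCyc P n (b k)) →
        (∀ k, (P.d (n - 1) n).hom (a k) = b k - f • b (k + 1)) →
        ∃ (c : ℕ → P.X (n - 1)) (e : ℕ → P.X (n - 2)),
          (∀ k, (P.d (n - 1) n).hom (c k) = b k) ∧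
          ∀ k, a k = c k - f • c (k + 1) + (P.d (n - 2) (n - 1)).hom (e k) := by
  constructor
  · intro h a b hb hab
    let F : ∀ i, supp (A := A) n i →ₗ[A] P.X i := fun i =>
      if hi : i = n - 1 then
        ((P.XIsoOfEq hi).inv.hom.comp (Finsupp.linearCombination A a)).comp (supp n i).subtype
      else if hi' : i = n then
        ((P.XIsoOfEq hi').inv.hom.comp (Finsupp.linearCombination A b)).comp (supp n i).subtype
      else 0
    have hF1 : ∀ x : supp (A := A) n (n - 1), F (n - 1) x = Finsupp.linearCombination A a x.1 :=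
      fun x => by simp [F]
    have hF0 : ∀ x : supp (A := A) n n, F n x = Finsupp.linearCombination A b x.1 :=
      fun x => by simp [F, show n ≠ n - 1 by omega]
    have hlc : ∀ x, Finsupp.linearCombination A b (δF f x) =
        (P.d (n - 1) n).hom (Finsupp.linearCombination A a x) := by
      intro x
      have : (Finsupp.linearCombination A b).comp (δF f) =
          (P.d (n - 1) n).hom.comp (Finsupp.linearCombination A a) :=
        Finsupp.lhom_ext' fun k => LinearMap.ext_ring (by simp [δF_single, hab])
      exact LinearMap.congr_fun this x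
    let g : T f n ⟶ P :=
      { f := fun i => ModuleCat.ofHom (F i)
        comm' := fun i j (hij : i + 1 = j) => ModuleCat.hom_ext (LinearMap.ext fun x => by
          subst hij
          change (P.d i (i + 1)).hom (F i x) = F (i + 1) (dT f n i (i + 1) x)
          by_cases hi : i = n - 1
          · subst hi
            rw [hF1]
            generalize hj : n - 1 + 1 = j
            obtain rfl : j = n := by omega
            rw [hF0, dT_apply f rfl rfl, hlc]
          · rw [dT_zero f (by omega), LinearMap.zero_apply, map_zero]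
            by_cases hi' : i = n
            · subst hi'
              rw [hF0]
              have : (P.d i (i + 1)).hom.comp (Finsupp.linearCombination A b) = 0 :=
                Finsupp.lhom_ext' fun k => LinearMap.ext_ring (by
                  simpa using (isCyc_iff rfl (b k)).1 (hb k))
              exact LinearMap.congr_fun this x.1
            · simp only [F]; rw [dif_neg hi, dif_neg hi', LinearMap.zero_apply, map_zero]) }
    obtain ⟨H⟩ := h g
    let e0 : ℕ → supp (A := A) n n := fun k => ⟨Finsupp.single k 1, mem_supp (Or.inr rfl) _⟩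
    let e1 : ℕ → supp (A := A) n (n - 1) := fun k => ⟨Finsupp.single k 1, mem_supp (Or.inl rfl) _⟩
    refine ⟨fun k => (H.hom n (n - 1)).hom (e0 k), fun k => (H.hom (n - 1) (n - 2)).hom (e1 k),
      fun k => ?_, fun k => ?_⟩
    · have hc := H.comm n
      rw [dNext_eq H.hom (show (ComplexShape.up ℤ).Rel n (n + 1) from rfl),
        prevD_eq H.hom (show (ComplexShape.up ℤ).Rel (n - 1) n by simp),
        show (T f n).d n (n + 1) = 0 from by
          exact ModuleCat.hom_ext (dT_zero f (by omega)),
        zero_comp, zero_add, HomologicalComplex.zero_f, add_zero] at hc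
      have := LinearMap.congr_fun (congrArg ModuleCat.Hom.hom hc) (e0 k)
      refine this.symm.trans ?_
      change F n (e0 k) = b k
      rw [hF0]
      exact (Finsupp.linearCombination_single A _ _).trans (one_smul _ _)
    · have hc := H.comm (n - 1)
      rw [dNext_eq H.hom (show (ComplexShape.up ℤ).Rel (n - 1) n by simp),
        prevD_eq H.hom (show (ComplexShape.up ℤ).Rel (n - 2) (n - 1) by simp; omega),
        HomologicalComplex.zero_f, add_zero] at hc
      have h1 := LinearMap.congr_fun (congrArg ModuleCat.Hom.hom hc) (e1 k)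
      have h2 : F (n - 1) (e1 k) = a k := by
        rw [hF1]; exact (Finsupp.linearCombination_single A _ _).trans (one_smul _ _)
      refine (h2.symm.trans h1).trans ?_
      have h3 : dT f n (n - 1) n (e1 k) = e0 k - f • e0 (k + 1) :=
        Subtype.ext ((dT_apply f rfl rfl _).trans (δF_single f k))
      change (H.hom n (n - 1)).hom (dT f n (n - 1) n (e1 k)) +
        (P.d (n - 2) (n - 1)).hom ((H.hom (n - 1) (n - 2)).hom (e1 k)) = _
      rw [h3]
      exact congrArg (· + _) (hom_sub_smul f (H.hom n (n - 1)) (e0 k) (e0 (k + 1)))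
  · intro h g
    let a : ℕ → P.X (n - 1) := fun k => (g.f (n - 1)).hom ⟨Finsupp.single k 1, mem_supp (Or.inl rfl) _⟩
    let b : ℕ → P.X n := fun k => (g.f n).hom ⟨Finsupp.single k 1, mem_supp (Or.inr rfl) _⟩
    obtain ⟨c, e, hc, he⟩ := h a b (fun k => by
      unfold IsCyc
      refine (hom_d g n (n + 1) _).trans ?_
      change (g.f (n + 1)).hom (dT f n n (n + 1) _) = 0
      rw [dT_zero f (by omega), LinearMap.zero_apply]
      exact map_zero _) (fun k => by
      refine (hom_d g (n - 1) n _).trans ?_
      change (g.f n).hom (dT f n (n - 1) n _) = _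
      rw [show dT f n (n - 1) n ⟨Finsupp.single k 1, mem_supp (Or.inl rfl) _⟩ =
        (⟨Finsupp.single k 1, mem_supp (Or.inr rfl) _⟩ : supp (A := A) n n) -
          f • ⟨Finsupp.single (k + 1) 1, mem_supp (Or.inr rfl) _⟩ from
        Subtype.ext ((dT_apply f rfl rfl _).trans (δF_single f k))]
      exact hom_sub_smul f (g.f n) _ _)
    let hh : ∀ i j, supp (A := A) n i →ₗ[A] P.X j := fun i j =>
      if hij : i = n ∧ j = n - 1 then
        ((P.XIsoOfEq hij.2).inv.hom.comp (Finsupp.linearCombination A c)).comp (supp n i).subtype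
      else if hij' : i = n - 1 ∧ j = n - 2 then
        ((P.XIsoOfEq hij'.2).inv.hom.comp (Finsupp.linearCombination A e)).comp (supp n i).subtype
      else 0
    have hh0 : ∀ x : supp (A := A) n n, hh n (n - 1) x = Finsupp.linearCombination A c x.1 :=
      fun x => by simp [hh]
    have hh1 : ∀ x : supp (A := A) n (n - 1),
        hh (n - 1) (n - 2) x = Finsupp.linearCombination A e x.1 :=
      fun x => by simp [hh, show n - 1 ≠ n by omega]
    refine ⟨{ hom := fun i j => ModuleCat.ofHom (hh i j), zero := fun i j hij => ?_, comm := fun i => ?_ }⟩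
    · have hij' : ¬(j + 1 = i) := hij
      simp only [hh]
      rw [dif_neg (by omega), dif_neg (by omega)]; rfl
    · rw [dNext_eq _ (show (ComplexShape.up ℤ).Rel i (i + 1) from rfl),
        prevD_eq _ (show (ComplexShape.up ℤ).Rel (i - 1) i by simp), HomologicalComplex.zero_f,
        add_zero]
      refine ModuleCat.hom_ext (LinearMap.ext fun x => ?_)
      change (g.f i).hom x = hh (i + 1) i (dT f n i (i + 1) x) + (P.d (i - 1) i).hom (hh i (i - 1) x)
      by_cases hi : i = n
      · subst hi
        rw [dT_zero f (by omega), LinearMap.zero_apply, map_zero, zero_add, hh0]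
        have : ((g.f i).hom : supp (A := A) i i →ₗ[A] P.X i).comp
            (LinearMap.id.codRestrict (supp i i) (fun y => mem_supp (Or.inr rfl) y)) =
            (P.d (i - 1) i).hom.comp (Finsupp.linearCombination A c) :=
          Finsupp.lhom_ext' fun k => LinearMap.ext_ring (by simp [hc, b]; rfl)
        exact LinearMap.congr_fun this x.1
      by_cases hi' : i = n - 1
      · subst hi'
        generalize hj : n - 1 + 1 = j
        obtain rfl : j = n := by omega
        generalize hj' : j - 1 - 1 = l
        obtain rfl : l = j - 2 := by omega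
        rw [hh0, hh1, dT_apply f rfl rfl]
        have : ((g.f (j - 1)).hom : supp (A := A) j (j - 1) →ₗ[A] P.X (j - 1)).comp
            (LinearMap.id.codRestrict (supp j (j - 1)) (fun y => mem_supp (Or.inl rfl) y)) =
            (Finsupp.linearCombination A c).comp (δF f) +
              (P.d (j - 2) (j - 1)).hom.comp (Finsupp.linearCombination A e) :=
          Finsupp.lhom_ext' fun k => LinearMap.ext_ring (by simp [δF_single]; exact he k)
        exact LinearMap.congr_fun this x.1
      · rw [show x = 0 from supp_zero (by omega) x]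
        simp

theorem subsingleton_hom_iff (K : Dual.D A) (n : ℤ) :
    Subsingleton (Dual.inD A (Localization.Away f) ⟶ (shiftFunctor (Dual.D A) n).obj K) ↔
      Function.Injective (Tel.D f (Dual.HD A K n)) ∧
        Function.Surjective (Tel.D f (Dual.HD A K (n - 1))) := by
  obtain ⟨P, _, -, ⟨eK⟩⟩ := exists_kproj_iso K
  obtain ⟨p, hp⟩ := exists_qis f n
  have := isKProjective_of_projective (T f n) n (vanishesAbove_T f n) (projective_T f n)
  have h1 : Subsingleton (Dual.inD A (Localization.Away f) ⟶ (shiftFunctor (Dual.D A) n).obj K) ↔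
      ∀ g : T f n ⟶ P, Nonempty (Homotopy g 0) := by
    refine (InjAmp.subsingleton_ext_iff K (Localization.Away f) n).trans ?_
    rw [(Iso.homCongr (asIso (Q.map p)) eK).symm.subsingleton_congr]
    refine ⟨fun h g => (Q_map_eq_iff g 0).1 (h.elim _ _), fun h => ⟨fun φ ψ => ?_⟩⟩
    obtain ⟨g, rfl⟩ := exists_Q_map_eq φ
    obtain ⟨g', rfl⟩ := exists_Q_map_eq ψ
    rw [(Q_map_eq_iff g 0).2 (h g), (Q_map_eq_iff g' 0).2 (h g')]
  let L : ∀ i, Dual.HD A K i ≃ₗ[A] P.homology i := fun i =>
    (((HF i).mapIso eK).symm ≪≫ hIso P i).toLinearEquiv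
  have hD : ∀ (i : ℤ) (x : ℕ → Dual.HD A K i),
      Tel.D f (P.homology i) (fun k => L i (x k)) = fun k => L i (Tel.D f (Dual.HD A K i) x k) :=
    fun i x => Tel.D_map f (L i).toLinearMap x
  have hinj : Function.Injective (Tel.D f (Dual.HD A K n)) ↔
      Function.Injective (Tel.D f (P.homology n)) := by
    constructor
    · intro h x y hxy
      have hs : ∀ z : ℕ → P.homology n, (fun k => L n ((L n).symm (z k))) = z := fun z => by simp
      rw [← hs x, ← hs y]
      refine congrArg (fun (w : ℕ → Dual.HD A K n) k => L n (w k)) (h (funext fun k => (L n).injective ?_))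
      rw [← congrFun (hD n _) k, ← congrFun (hD n _) k, hs, hs, hxy]
    · intro h x y hxy
      refine funext fun k => (L n).injective (congrFun (h (a₁ := fun k => L n (x k))
        (a₂ := fun k => L n (y k)) ?_) k)
      rw [hD, hD, hxy]
  have hsurj : Function.Surjective (Tel.D f (Dual.HD A K (n - 1))) ↔
      Function.Surjective (Tel.D f (P.homology (n - 1))) := by
    constructor
    · intro h y
      obtain ⟨x, hx⟩ := h fun k => (L (n - 1)).symm (y k)
      exact ⟨fun k => L (n - 1) (x k), by rw [hD, hx]; simp⟩
    · intro h y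
      obtain ⟨x, hx⟩ := h fun k => L (n - 1) (y k)
      refine ⟨fun k => (L (n - 1)).symm (x k), funext fun k => (L (n - 1)).injective ?_⟩
      rw [← congrFun (hD (n - 1) _) k]
      simpa using congrFun hx k
  rw [h1, nullHomotopic_iff, hinj, hsurj]
  constructor
  · intro h
    constructor
    · rw [injective_iff_map_eq_zero]
      intro x hx
      choose z hz hzx using fun k => cls_surjective (x k)
      have hd : ∀ k, ∃ w, (P.d (n - 1) n).hom w = z k - f • z (k + 1) := fun k => by
        refine (cls_eq_zero_iff (n - 1) (by omega) ((hz k).sub ((hz (k + 1)).smul f))).1 ?_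
        rw [cls_sub (hz k) ((hz (k + 1)).smul f), cls_smul (hz (k + 1)) f, hzx, hzx]
        exact congrFun hx k
      choose a ha using hd
      obtain ⟨c, e, hc, -⟩ := h a z hz ha
      funext k
      rw [← hzx k]
      exact (cls_eq_zero_iff (n - 1) (by omega) (hz k)).2 ⟨c k, hc k⟩
    · intro y
      choose z hz hzy using fun k => cls_surjective (y k)
      obtain ⟨c, e, hc, he⟩ := h z (fun _ => 0) (fun _ => isCyc_zero n) fun k => by
        rw [smul_zero, sub_zero]; exact (isCyc_iff (by omega) _).1 (hz k)
      have hcc : ∀ k, IsCyc P (n - 1) (c k) := fun k => (isCyc_iff (by omega) _).2 (hc k)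
      refine ⟨fun k => cls (c k) (hcc k), funext fun k => ?_⟩
      change cls (c k) (hcc k) - f • cls (c (k + 1)) (hcc (k + 1)) = y k
      rw [← cls_smul (hcc (k + 1)) f, ← cls_sub (hcc k) ((hcc (k + 1)).smul f), ← hzy k,
        cls_eq_iff (n - 2) (by omega)]
      refine ⟨-e k, ?_⟩
      rw [map_neg, he k]
      abel
  · rintro ⟨hi, hs⟩ a b hb hab
    have h0 : (fun k => cls (b k) (hb k)) = 0 := hi (a₂ := 0) (by
      rw [map_zero]
      funext k
      change cls (b k) (hb k) - f • cls (b (k + 1)) (hb (k + 1)) = 0
      rw [← cls_smul (hb (k + 1)) f, ← cls_sub (hb k) ((hb (k + 1)).smul f),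
        cls_eq_zero_iff (n - 1) (by omega)]
      exact ⟨a k, hab k⟩)
    choose c' hc' using fun k => (cls_eq_zero_iff (n - 1) (by omega) (hb k)).1 (congrFun h0 k)
    have hu : ∀ k, IsCyc P (n - 1) (a k - (c' k - f • c' (k + 1))) := fun k => by
      rw [isCyc_iff (show n - 1 + 1 = n by omega), map_sub, map_sub, map_smul, hab, hc', hc', sub_self]
    obtain ⟨w, hw⟩ := hs fun k => cls _ (hu k)
    choose z hz hzw using fun k => cls_surjective (w k)
    have : ∀ k, ∃ e, (P.d (n - 2) (n - 1)).hom e =
        a k - (c' k - f • c' (k + 1)) - (z k - f • z (k + 1)) := fun k => by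
      refine (cls_eq_iff (n - 2) (by omega) (hu k) ((hz k).sub ((hz (k + 1)).smul f))).1 ?_
      rw [cls_sub (hz k) ((hz (k + 1)).smul f), cls_smul (hz (k + 1)) f, hzw, hzw]
      exact (congrFun hw k).symm
    choose e he using this
    refine ⟨fun k => c' k + z k, e, fun k => ?_, fun k => ?_⟩
    · rw [map_add, hc', (isCyc_iff (show n - 1 + 1 = n by omega) _).1 (hz k), add_zero]
    · rw [he k, smul_add]
      module

/-- Derived completeness is completeness of all cohomology modules along all elements of `I`. -/
theorem isDerivedComplete_iff (I : Ideal A) (K : Dual.D A) :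
    DRing.IsDerivedComplete I K ↔ ∀ f ∈ I, ∀ i : ℤ, Tel.Tel (Dual.HD A K i) f := by
  refine forall_congr' fun f => forall_congr' fun _ => ?_
  simp only [subsingleton_hom_iff]
  constructor
  · intro h i
    refine ⟨(h i).1, ?_⟩
    have := (h (i + 1)).2
    rwa [add_sub_cancel_right] at this
  · exact fun h n => ⟨(h n).1, (h (n - 1)).2⟩

theorem isDerivedComplete_inD_iff (I : Ideal A) (M : Type u) [AddCommGroup M] [Module A M] :
    DRing.IsDerivedComplete I (Dual.inD A M) ↔ ∀ f ∈ I, Tel.Tel M f := by
  rw [isDerivedComplete_iff]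
  refine forall_congr' fun f => forall_congr' fun _ => ⟨fun h => Tel.tel_congr (inDEquiv A M) (h 0),
    fun h i => ?_⟩
  by_cases hi : i = 0
  · subst hi; exact Tel.tel_congr (inDEquiv A M).symm h
  · have := subsingleton_HD_inD A M i hi
    exact Tel.tel_of_subsingleton f

end Groth.Agent.DRing.TelComplex
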