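import Mathlib.Algebra.Homology.Monoidal
import Mathlib.Algebra.Homology.BifunctorHomotopy
import Mathlib.Algebra.Homology.BifunctorShift
import Mathlib.Algebra.Homology.HomologicalComplexLimits
import Mathlib.Algebra.Homology.HomologicalComplexAbelian
import Mathlib.Algebra.Category.ModuleCat.Monoidal.Basic
import Mathlib.Algebra.Category.ModuleCat.Monoidal.Closed
import Mathlib.Algebra.Category.ModuleCat.Monoidal.Symmetric
import Mathlib.Algebra.Category.ModuleCat.Colimits
import Mathlib.Algebra.Category.ModuleCat.Products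
import Mathlib.Algebra.Category.ModuleCat.Abelian
import Mathlib.Algebra.Category.Grp.Colimits
import Mathlib.CategoryTheory.Monoidal.Limits.Preserves
import Mathlib.CategoryTheory.Monoidal.Preadditive
import Mathlib.LinearAlgebra.TensorProduct.RightExactness
import Mathlib.Algebra.Homology.ShortComplex.ModuleCat

/-!
# The total tensor product of complexes of modules in the second variable

Additivity, behaviour on short exact sequences, colimits, homotopies and shifts of `L ⊗ -`.
-/

universe u

open CategoryTheory CategoryTheory.Limits MonoidalCategory DirectSum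

namespace Groth.Agent.DRing.Tensor

variable {R : Type u} [CommRing R] (L : CochainComplex (ModuleCat.{u} R) ℤ)

/-- The inclusion of a summand of the total tensor product. -/
noncomputable abbrev ιT (P : CochainComplex (ModuleCat.{u} R) ℤ) (p q n : ℤ) (h : p + q = n) :
    L.X p ⊗ P.X q ⟶ (L ⊗ P).X n :=
  HomologicalComplex.ιTensorObj L P p q n h

variable {L}

@[reassoc]
lemma ιT_whiskerLeft {P Q : CochainComplex (ModuleCat.{u} R) ℤ} (g : P ⟶ Q) (p q n : ℤ)
    (h : p + q = n) : ιT L P p q n h ≫ (L ◁ g).f n = L.X p ◁ g.f q ≫ ιT L Q p q n h := by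
  refine (HomologicalComplex.ι_mapBifunctorMap _ _ _ _ p q n h).trans ?_
  simp

lemma hom_ext {P : CochainComplex (ModuleCat.{u} R) ℤ} {n : ℤ} {A : ModuleCat.{u} R}
    {f g : (L ⊗ P).X n ⟶ A}
    (h : ∀ p q (hpq : p + q = n), ιT L P p q n hpq ≫ f = ιT L P p q n hpq ≫ g) : f = g :=
  HomologicalComplex.mapBifunctor.hom_ext h

variable (L) in
/-- The summands of the total tensor product in degree `n`. -/
abbrev Fam (P : CochainComplex (ModuleCat.{u} R) ℤ) (n : ℤ)
    (k : { k : ℤ × ℤ // k.1 + k.2 = n }) : Type u :=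
  TensorProduct R (L.X k.1.1) (P.X k.1.2)

variable (L) in
/-- Decomposition of the total tensor product as a direct sum. -/
noncomputable def toSum (P : CochainComplex (ModuleCat.{u} R) ℤ) (n : ℤ) :
    (L ⊗ P).X n ⟶ ModuleCat.of R (⨁ k, Fam L P n k) :=
  HomologicalComplex.mapBifunctorDesc (fun p q h =>
    ModuleCat.ofHom (DirectSum.lof R _ (Fam L P n) ⟨(p, q), h⟩))

@[reassoc]
lemma ιT_toSum (P : CochainComplex (ModuleCat.{u} R) ℤ) (p q n : ℤ) (h : p + q = n) :
    ιT L P p q n h ≫ toSum L P n =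
      ModuleCat.ofHom (DirectSum.lof R _ (Fam L P n) ⟨(p, q), h⟩) :=
  HomologicalComplex.ι_mapBifunctorDesc _ _ _ _

variable (L) in
/-- The inclusion of a summand, as a linear map. -/
noncomputable def ιL (P : CochainComplex (ModuleCat.{u} R) ℤ) (n : ℤ)
    (k : { k : ℤ × ℤ // k.1 + k.2 = n }) : Fam L P n k →ₗ[R] ↥((L ⊗ P).X n) :=
  (ιT L P k.1.1 k.1.2 n k.2).hom

variable (L) in
/-- Inverse of `toSum`. -/
noncomputable def fromSum (P : CochainComplex (ModuleCat.{u} R) ℤ) (n : ℤ) :
    ModuleCat.of R (⨁ k, Fam L P n k) ⟶ (L ⊗ P).X n :=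
  ModuleCat.ofHom (DirectSum.toModule R _ _ (ιL L P n))

lemma fromSum_lof (P : CochainComplex (ModuleCat.{u} R) ℤ) (n : ℤ)
    (k : { k : ℤ × ℤ // k.1 + k.2 = n }) (x : Fam L P n k) :
    (fromSum L P n).hom (DirectSum.lof R _ (Fam L P n) k x) = (ιT L P k.1.1 k.1.2 n k.2).hom x := by
  simp only [fromSum]
  exact DirectSum.toAddMonoid_of (fun i => (ιL L P n i).toAddMonoidHom) k x

variable (L) in
/-- The total tensor product in degree `n` is the direct sum of its summands. -/
noncomputable def sumIso (P : CochainComplex (ModuleCat.{u} R) ℤ) (n : ℤ) :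
    (L ⊗ P).X n ≅ ModuleCat.of R (⨁ k, Fam L P n k) where
  hom := toSum L P n
  inv := fromSum L P n
  hom_inv_id := hom_ext fun p q h => by
    rw [ιT_toSum_assoc]
    refine ModuleCat.hom_ext (LinearMap.ext fun x => ?_)
    exact fromSum_lof P n ⟨(p, q), h⟩ x
  inv_hom_id := by
    refine ModuleCat.hom_ext (DirectSum.linearMap_ext R fun k => LinearMap.ext fun x => ?_)
    refine Eq.trans (congrArg (toSum L P n).hom (fromSum_lof P n k x)) ?_
    exact congrArg (fun f => f.hom x) (ιT_toSum P k.1.1 k.1.2 n k.2)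

lemma toSum_natural {P Q : CochainComplex (ModuleCat.{u} R) ℤ} (g : P ⟶ Q) (n : ℤ) :
    (L ◁ g).f n ≫ toSum L Q n = toSum L P n ≫ ModuleCat.ofHom
      (DirectSum.lmap fun k : { k : ℤ × ℤ // k.1 + k.2 = n } =>
        ((L.X k.1.1 ◁ g.f k.1.2).hom : Fam L P n k →ₗ[R] Fam L Q n k)) := by
  refine hom_ext fun p q h => ?_
  rw [ιT_whiskerLeft_assoc, ιT_toSum, ιT_toSum_assoc]
  refine ModuleCat.hom_ext (LinearMap.ext fun x => ?_)
  simp only [ModuleCat.hom_comp, LinearMap.comp_apply, ModuleCat.hom_ofHom]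
  erw [DirectSum.lmap_lof]
  rfl

lemma whiskerLeft_f_injective {P Q : CochainComplex (ModuleCat.{u} R) ℤ} (g : P ⟶ Q) (n : ℤ)
    (hg : ∀ p q, p + q = n → Function.Injective (L.X p ◁ g.f q).hom) :
    Function.Injective ((L ◁ g).f n).hom := by
  intro x y hxy
  apply (ModuleCat.mono_iff_injective (sumIso L P n).hom).1 inferInstance
  have hx := congrArg (fun f => f.hom x) (toSum_natural (L := L) g n)
  have hy := congrArg (fun f => f.hom y) (toSum_natural (L := L) g n)
  simp only [ModuleCat.hom_comp, LinearMap.comp_apply] at hx hy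
  rw [hxy] at hx
  refine (DirectSum.lmap_injective _).2 ?_ (hx.symm.trans hy)
  exact fun k => hg _ _ k.2

lemma whiskerLeft_f_surjective {P Q : CochainComplex (ModuleCat.{u} R) ℤ} (g : P ⟶ Q) (n : ℤ)
    (hg : ∀ q, Function.Surjective (g.f q).hom) :
    Function.Surjective ((L ◁ g).f n).hom := by
  intro y
  have hs : Function.Surjective (DirectSum.lmap fun k : { k : ℤ × ℤ // k.1 + k.2 = n } =>
      ((L.X k.1.1 ◁ g.f k.1.2).hom : Fam L P n k →ₗ[R] Fam L Q n k)) :=
    (DirectSum.lmap_surjective _).2 fun k => LinearMap.lTensor_surjective _ (hg _)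
  obtain ⟨z, hz⟩ := hs ((toSum L Q n).hom y)
  obtain ⟨x, hx⟩ := (ModuleCat.epi_iff_surjective (sumIso L P n).hom).1 inferInstance z
  refine ⟨x, (ModuleCat.mono_iff_injective (sumIso L Q n).hom).1 inferInstance ?_⟩
  have h := congrArg (fun f => f.hom x) (toSum_natural (L := L) g n)
  simp only [ModuleCat.hom_comp, LinearMap.comp_apply] at h
  refine h.trans ?_
  erw [hx]
  exact hz

lemma exact_whiskerLeft {P Q S : CochainComplex (ModuleCat.{u} R) ℤ} (f : P ⟶ Q) (g : Q ⟶ S)
    (n : ℤ) (hfg : ∀ q, Function.Exact (f.f q).hom (g.f q).hom)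
    (hg : ∀ q, Function.Surjective (g.f q).hom) :
    Function.Exact ((L ◁ f).f n).hom ((L ◁ g).f n).hom := by
  intro y
  have hQ : Function.Injective (toSum L Q n).hom :=
    (ModuleCat.mono_iff_injective (sumIso L Q n).hom).1 inferInstance
  have hS : Function.Injective (toSum L S n).hom :=
    (ModuleCat.mono_iff_injective (sumIso L S n).hom).1 inferInstance
  have hP : Function.Surjective (toSum L P n).hom :=
    (ModuleCat.epi_iff_surjective (sumIso L P n).hom).1 inferInstance
  have nf := fun x => congrArg (fun f => f.hom x) (toSum_natural (L := L) f n)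
  have ng := congrArg (fun f => f.hom y) (toSum_natural (L := L) g n)
  simp only [ModuleCat.hom_comp, LinearMap.comp_apply] at nf ng
  have hex : ∀ k : { k : ℤ × ℤ // k.1 + k.2 = n },
      Function.Exact ((L.X k.1.1 ◁ f.f k.1.2).hom : Fam L P n k →ₗ[R] Fam L Q n k)
        ((L.X k.1.1 ◁ g.f k.1.2).hom : Fam L Q n k →ₗ[R] Fam L S n k) :=
    fun k => lTensor_exact _ (hfg _) (hg _)
  rw [← map_eq_zero_iff _ hS, ng]
  constructor
  · intro h
    have : (toSum L Q n).hom y ∈ LinearMap.ker (DirectSum.lmap fun k =>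
        ((L.X k.1.1 ◁ g.f k.1.2).hom : Fam L Q n k →ₗ[R] Fam L S n k)) := h
    have : (toSum L Q n).hom y ∈ LinearMap.range (DirectSum.lmap fun k =>
        ((L.X k.1.1 ◁ f.f k.1.2).hom : Fam L P n k →ₗ[R] Fam L Q n k)) := by
      rw [DirectSum.range_lmap]
      rw [DirectSum.ker_lmap] at this
      simpa [(hex _).linearMap_ker_eq] using this
    obtain ⟨z, hz⟩ := this
    obtain ⟨x, rfl⟩ := hP z
    exact ⟨x, hQ ((nf x).trans hz)⟩
  · rintro ⟨x, rfl⟩
    erw [nf x]
    simp only [ModuleCat.hom_ofHom]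
    rw [← LinearMap.comp_apply, ← DirectSum.lmap_comp]
    have : (fun k : { k : ℤ × ℤ // k.1 + k.2 = n } =>
        ((L.X k.1.1 ◁ g.f k.1.2).hom : Fam L Q n k →ₗ[R] Fam L S n k) ∘ₗ
          ((L.X k.1.1 ◁ f.f k.1.2).hom : Fam L P n k →ₗ[R] Fam L Q n k)) = fun _ => 0 :=
      funext fun k => (hex k).linearMap_comp_eq_zero
    rw [this]
    suffices h : DirectSum.lmap (fun k : { k : ℤ × ℤ // k.1 + k.2 = n } => (0 : Fam L P n k →ₗ[R] Fam L S n k)) = 0 by
      rw [h, LinearMap.zero_apply]
    exact DirectSum.linearMap_ext R fun k => LinearMap.ext fun y => by simp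

variable (L) in
/-- `L ⊗ -` as a functor. -/
noncomputable abbrev TL :
    CochainComplex (ModuleCat.{u} R) ℤ ⥤ CochainComplex (ModuleCat.{u} R) ℤ :=
  tensorLeft L

instance additive_TL : (TL L).Additive where
  map_add {P Q f g} := by
    refine HomologicalComplex.hom_ext _ _ fun n => hom_ext fun p q h => ?_
    change _ ≫ (L ◁ (f + g)).f n = _ ≫ ((L ◁ f).f n + (L ◁ g).f n)
    rw [Preadditive.comp_add, ιT_whiskerLeft, ιT_whiskerLeft, ιT_whiskerLeft,
      HomologicalComplex.add_f_apply, MonoidalPreadditive.whiskerLeft_add, Preadditive.add_comp]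

/-- `L ⊗ -` carries short exact sequences which stay exact after tensoring with the terms of `L`
to short exact sequences. -/
lemma shortExact_map (S : ShortComplex (CochainComplex (ModuleCat.{u} R) ℤ)) (hS : S.ShortExact)
    (hpure : ∀ p q, Function.Injective (L.X p ◁ S.f.f q).hom) :
    (S.map (TL L)).ShortExact := by
  refine HomologicalComplex.shortExact_of_degreewise_shortExact _ fun n => ?_
  have hq := fun q => hS.map_of_exact (HomologicalComplex.eval (ModuleCat.{u} R) (.up ℤ) q)
  refine ModuleCat.shortComplex_shortExact _ ?_ ?_ ?_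
  · exact exact_whiskerLeft S.f S.g n
      (fun q => (ShortComplex.ShortExact.moduleCat_exact_iff_function_exact _).1 (hq q).exact)
      (fun q => (hq q).moduleCat_surjective_g)
  · exact whiskerLeft_f_injective S.f n fun p q _ => hpure p q
  · exact whiskerLeft_f_surjective S.g n fun q => (hq q).moduleCat_surjective_g

variable (L) in
instance preservesColimitsOfShape_TL (J : Type*) [Category J]
    [HasColimitsOfShape J (ModuleCat.{u} R)] : PreservesColimitsOfShape J (TL L) where
  preservesColimit {F} := ⟨fun {c} hc => ⟨HomologicalComplex.isColimitOfEval _ _ fun n =>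
    let hcol := fun p q => isColimitOfPreserves
      (HomologicalComplex.eval (ModuleCat.{u} R) (.up ℤ) q ⋙ tensorLeft (L.X p)) hc
    let mk := fun (s : Cocone ((F ⋙ TL L) ⋙ HomologicalComplex.eval (ModuleCat.{u} R) (.up ℤ) n))
        (p q : ℤ) (h : p + q = n) =>
      (Cocone.mk s.pt
        { app := fun j => ιT L (F.obj j) p q n h ≫ s.ι.app j
          naturality := fun j j' f => by
            refine Eq.trans ?_ (Category.comp_id _).symm
            refine Eq.trans ?_ (congrArg (ιT L (F.obj j) p q n h ≫ ·) (s.w f))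
            exact (Category.assoc _ _ _).symm.trans
              ((congrArg (· ≫ s.ι.app j') (ιT_whiskerLeft (L := L) (F.map f) p q n h).symm).trans
                (Category.assoc _ _ _)) } :
        Cocone (F ⋙ HomologicalComplex.eval (ModuleCat.{u} R) (.up ℤ) q ⋙ tensorLeft (L.X p)))
    { desc := fun s => HomologicalComplex.mapBifunctorDesc (fun p q h =>
        (hcol p q).desc (mk s p q h))
      fac := fun s j => hom_ext fun p q h => by
        refine (ιT_whiskerLeft_assoc (L := L) (c.ι.app j) p q n h _).trans ?_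
        erw [HomologicalComplex.ι_mapBifunctorDesc]
        exact (hcol p q).fac (mk s p q h) j
      uniq := fun s m hm => hom_ext fun p q h => by
        erw [HomologicalComplex.ι_mapBifunctorDesc]
        refine (hcol p q).uniq (mk s p q h) _ fun j => ?_
        refine Eq.trans ?_ (congrArg (ιT L (F.obj j) p q n h ≫ ·) (hm j))
        exact (ιT_whiskerLeft_assoc (L := L) (c.ι.app j) p q n h m).symm }⟩⟩

variable (L) in
/-- `L ⊗ -` preserves homotopies. -/
noncomputable def whiskerLeftHomotopy {P Q : CochainComplex (ModuleCat.{u} R) ℤ} {f g : P ⟶ Q}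
    (h : Homotopy f g) : Homotopy (L ◁ f) (L ◁ g) :=
  HomologicalComplex.mapBifunctorMapHomotopy₂ (𝟙 L) h (curriedTensor (ModuleCat.{u} R)) _

variable (L) in
/-- `L ⊗ -` preserves homotopy equivalences. -/
noncomputable def whiskerLeftHomotopyEquiv {P Q : CochainComplex (ModuleCat.{u} R) ℤ}
    (e : HomotopyEquiv P Q) : HomotopyEquiv (L ⊗ P) (L ⊗ Q) where
  hom := L ◁ e.hom
  inv := L ◁ e.inv
  homotopyHomInvId := (Homotopy.ofEq (whiskerLeft_comp L e.hom e.inv).symm).trans
    ((whiskerLeftHomotopy L e.homotopyHomInvId).trans (Homotopy.ofEq (MonoidalCategory.whiskerLeft_id L P)))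
  homotopyInvHomId := (Homotopy.ofEq (whiskerLeft_comp L e.inv e.hom).symm).trans
    ((whiskerLeftHomotopy L e.homotopyInvHomId).trans (Homotopy.ofEq (MonoidalCategory.whiskerLeft_id L Q)))

variable (L) in
/-- `L ⊗ -` commutes with shifts. -/
noncomputable def shiftIso (P : CochainComplex (ModuleCat.{u} R) ℤ) (a : ℤ) :
    L ⊗ (P⟦a⟧) ≅ (L ⊗ P)⟦a⟧ :=
  CochainComplex.mapBifunctorShift₂Iso L P (curriedTensor (ModuleCat.{u} R)) a

end Groth.Agent.DRing.Tensor
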