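import Groth.Agent.DRing.RelTorDescent
import Mathlib.RingTheory.LocalProperties.Submodule
import Mathlib.RingTheory.Localization.BaseChange
import Mathlib.RingTheory.Localization.AtPrime.Basic

/-!
# Relative tor amplitude is local on the source
-/

universe u

open CategoryTheory CategoryTheory.Limits DerivedCategory MonoidalCategory

attribute [local instance] HasDerivedCategory.standard

namespace Groth.Agent.DRing.TorAmpLocal

open DBasic Homology DRing.KFlat TorAmp
open scoped TensorProduct

variable {A B : Type u} [CommRing A] [CommRing B]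

/-- Base change commutes with tensoring with an extended complex. -/
noncomputable def extTensorExtIso {C : Type u} [CommRing C] (ψ : B →+* C) (P G : DRing.Cx B) :
    (DRing.restrictCx ψ).obj ((LTensor.extCx ψ).obj P ⊗ (KFlat.BaseChange.extCx ψ).obj G) ≅
      (DRing.restrictCx ψ).obj ((LTensor.extCx ψ).obj (P ⊗ G)) :=
  let Bm := (ModuleCat.restrictScalars ψ).obj (ModuleCat.of C C)
  let e := NatIso.mapHomologicalComplex (SingleTensor.restrictExtendIso ψ) (ComplexShape.up ℤ)
  have i2 : ∀ Y : DRing.Cx B, (DRing.restrictCx ψ).obj ((LTensor.extCx ψ).obj Y) ≅ SingleTensor.S0 Bm ⊗ Y :=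
    fun Y => e.app Y ≪≫ SingleTensor.iso Bm Y
  have i1 : (DRing.restrictCx ψ).obj ((LTensor.extCx ψ).obj P ⊗ (KFlat.BaseChange.extCx ψ).obj G) ≅
      (DRing.restrictCx ψ).obj ((LTensor.extCx ψ).obj P) ⊗ G :=
    KFlat.BaseChange.projCxIso ψ ((LTensor.extCx ψ).obj P) G
  i1 ≪≫ MonoidalCategory.whiskerRightIso (i2 P) G ≪≫ α_ (SingleTensor.S0 Bm) P G ≪≫ (i2 (P ⊗ G)).symm

/-- Exactness is local. -/
lemma exactAt_of_localizations (Y : DRing.Cx B) (i : ℤ)
    (h : ∀ (m : Ideal B) [m.IsMaximal],
      ((LTensor.extCx (algebraMap B (Localization.AtPrime m))).obj Y).ExactAt i) : Y.ExactAt i := by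
  rw [HomologicalComplex.exactAt_iff_isZero_homology]
  have : Subsingleton (Y.homology i) := by
    refine Module.subsingleton_of_localization_maximal (R := B) (fun P _ => LocalizedModule P.primeCompl (Y.homology i))
      (fun P _ => LocalizedModule.mkLinearMap P.primeCompl (Y.homology i)) fun P hP => ?_
    let φ := algebraMap B (Localization.AtPrime P)
    have h1 := ModuleCat.subsingleton_of_isZero ((h P).isZero_homology.of_iso
      (PCDescent.homologyExtIso φ Descent.flat_algebraMap Y i).symm)
    have e : φ.toAlgebra = (inferInstance : Algebra B (Localization.AtPrime P)) :=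
      Algebra.algebra_ext _ _ fun _ => rfl
    have h' : Subsingleton (@TensorProduct B _ (Localization.AtPrime P) (Y.homology i) _ _ φ.toAlgebra.toModule _) := h1
    rw [e] at h'
    exact (LocalizedModule.equivTensorProduct P.primeCompl (Y.homology i)).toEquiv.subsingleton
  exact ModuleCat.isZero_of_subsingleton _

theorem torAmp_of_localizations [Algebra A B] (K : DRing.Cx B) (a b : ℤ)
    (h3 : ∀ (m : Ideal B) [m.IsMaximal],
      DRing.HasTorAmplitudeIn (Localization.AtPrime (m.comap (algebraMap A B))) a b
        (DRing.toD ((DRing.restrictCx (Localization.localRingHom (m.comap (algebraMap A B)) m (algebraMap A B) rfl)).obj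
          (((ModuleCat.extendScalars (algebraMap B (Localization.AtPrime m))).mapHomologicalComplex
            (ComplexShape.up ℤ)).obj K)))) :
    DRing.HasTorAmplitudeIn A a b (DRing.toD ((DRing.restrictCx (algebraMap A B)).obj K)) := by
  refine (RelTor.torAmp_restrict_iff (algebraMap A B) K a b).2 fun M F α hF hα i hi => ?_
  refine exactAt_of_localizations _ i fun m _ => ?_
  let p := m.comap (algebraMap A B)
  let φ := algebraMap A (Localization.AtPrime p)
  let ψ := algebraMap B (Localization.AtPrime m)
  let χ := Localization.localRingHom p m (algebraMap A B) rfl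
  let G := (KFlat.BaseChange.extCx (algebraMap A B)).obj F
  refine (TensorAmp.exactAt_restrictCx_iff ψ _ i).1 ((exactAt_iff_of_quasiIso (extTensorExtIso ψ K G).hom i).1
    ((TensorAmp.exactAt_restrictCx_iff ψ _ i).2 ?_))
  have hcomp : ψ.comp (algebraMap A B) = χ.comp φ :=
    RingHom.ext fun r => (Localization.localRingHom_to_map p m (algebraMap A B) rfl r).symm
  have j : (KFlat.BaseChange.extCx ψ).obj G ≅ (KFlat.BaseChange.extCx χ).obj ((LTensor.extCx φ).obj F) :=
    (NatIso.mapHomologicalComplex ((ModuleCat.extendScalarsComp.{u} (algebraMap A B) ψ).symm ≪≫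
      eqToIso (by rw [hcomp]) ≪≫ ModuleCat.extendScalarsComp.{u} φ χ) (ComplexShape.up ℤ)).app F
  refine (exactAt_iff_of_quasiIso (MonoidalCategory.whiskerLeftIso ((LTensor.extCx ψ).obj K) j).hom i).2 ?_
  have := Descent.quasiIso_extCx φ Descent.flat_algebraMap α
  exact (RelTor.torAmp_restrict_iff χ ((LTensor.extCx ψ).obj K) a b).1 (h3 m)
    ((ModuleCat.extendScalars.{u, u, u} φ).obj M) ((LTensor.extCx φ).obj F)
    ((LTensor.extCx φ).map α ≫ ((HomologicalComplex.singleMapHomologicalComplex
      (ModuleCat.extendScalars.{u, u, u} φ) (ComplexShape.up ℤ) 0).app M).hom)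
    (KFlat.BaseChange.isKFlat_extCx φ hF) inferInstance i hi

end Groth.Agent.DRing.TorAmpLocal
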