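import Groth.Agent.DRing.SplitTrunc
import Groth.Agent.DRing.PCTrunc
import Mathlib.RingTheory.Filtration

/-!
# Maps to modules killed by a power of an ideal detect cohomology
-/

universe u

open CategoryTheory CategoryTheory.Limits DerivedCategory

attribute [local instance] HasDerivedCategory.standard

namespace Groth.Agent.DRing.TorsionDetect

open DBasic Homology PC

variable {A : Type u} [CommRing A] [IsNoetherianRing A]

lemma exists_rep (K : Dual.D A) (hb : ∃ b : ℤ, ∀ j : ℤ, b < j → Subsingleton (Dual.HD A K j))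
    (hfin : ∀ j : ℤ, Module.Finite A (Dual.HD A K j)) : DRing.IsPseudoCoherent' A K :=
  (pc'_iff K).2 fun m => (pc_iff_of_coherent (fun I _ => Module.finitePresentation_of_finite A I) hb).2
    ⟨hfin m, fun i _ => have := hfin i; Module.finitePresentation_of_finite _ _⟩

theorem exists_hom (K : Dual.D A) (hb : ∃ b : ℤ, ∀ j : ℤ, b < j → Subsingleton (Dual.HD A K j))
    (hfin : ∀ j : ℤ, Module.Finite A (Dual.HD A K j)) (m : Ideal A) (i : ℤ)
    (hi : m • (⊤ : Submodule A (Dual.HD A K i)) ≠ ⊤) :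
    ∃ (E : Type u) (_ : AddCommGroup E) (_ : Module A E) (_ : Module.Finite A E) (n : ℕ)
      (_ : m ^ n • (⊤ : Submodule A E) = ⊥) (f : K ⟶ (shiftFunctor (Dual.D A) (-i)).obj (Dual.inD A E)),
      (HF i).map f ≠ 0 := by
  obtain ⟨P, c, hPb, hPf, ⟨e⟩⟩ := exists_rep K hb hfin
  have : P.IsKProjective := isKProjective_of_projective P c hPb fun j => have := (hPf j).2; inferInstance
  have : Module.Finite A (P.X i) := (hPf i).1
  let B := LinearMap.range (P.d (i - 1) i).hom
  let Z := LinearMap.ker (P.d i (i + 1)).hom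
  let N : Submodule A (P.X i ⧸ B) := Z.map B.mkQ
  obtain ⟨k, hk⟩ := Ideal.exists_pow_inf_eq_pow_smul m N
  let T : Submodule A (P.X i ⧸ B) := m ^ (k + 1) • ⊤
  let θ : P.X i →ₗ[A] (P.X i ⧸ B) ⧸ T := T.mkQ ∘ₗ B.mkQ
  have h0 : θ ∘ₗ (P.d (i - 1) i).hom = 0 := by
    refine LinearMap.ext fun w => ?_
    change T.mkQ (B.mkQ _) = 0
    rw [show B.mkQ ((P.d (i - 1) i).hom w) = 0 from (Submodule.Quotient.mk_eq_zero B).2 ⟨w, rfl⟩, map_zero]
  let M : ModuleCat.{u} A := ModuleCat.of A ((P.X i ⧸ B) ⧸ T)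
  let u := SplitTrunc.toSgl (M := M) P i θ h0
  refine ⟨(P.X i ⧸ B) ⧸ T, inferInstance, inferInstance, inferInstance, k + 1, ?_,
    e.inv ≫ DerivedCategory.Q.map u ≫ (inDShiftIso M i).inv, fun hf => hi ?_⟩
  · refine le_bot_iff.1 (Submodule.smul_le.2 fun a ha x _ => (Submodule.mem_bot A).2 ?_)
    obtain ⟨y, rfl⟩ := T.mkQ_surjective x
    rw [← map_smul]
    exact (Submodule.Quotient.mk_eq_zero T).2 (Submodule.smul_mem_smul ha trivial)
  have hu : HomologicalComplex.homologyMap u i = 0 := by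
    have h1 : (HF i).map (DerivedCategory.Q.map u) = 0 := by
      simp only [Functor.map_comp] at hf
      rwa [← cancel_epi ((HF i).map e.inv), ← cancel_mono ((HF i).map (inDShiftIso M i).inv), Category.assoc,
        comp_zero, zero_comp]
    rw [HF_map_Q_eq] at h1
    rwa [← cancel_epi (hIso P i).hom, ← cancel_mono (hIso (sgl i M) i).inv, Category.assoc, comp_zero, zero_comp]
  let g : LinearMap.ker (P.d i (i + 1)).hom →ₗ[A] Dual.HD A K i :=
    ((hIso P i).symm ≪≫ (HF i).mapIso e).toLinearEquiv.toLinearMap ∘ₗ clsLin P i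
  have hg : Function.Surjective g :=
    ((hIso P i).symm ≪≫ (HF i).mapIso e).toLinearEquiv.surjective.comp clsLin_surjective
  have hgB : ∀ (z : Z) (_ : (z : P.X i) ∈ B), g z = 0 := fun z hzB => by
    change ((hIso P i).symm ≪≫ (HF i).mapIso e).toLinearEquiv (cls z.1 z.2) = 0
    rw [(cls_eq_zero_iff (i - 1) (by omega) z.2).2 hzB, map_zero]
  refine eq_top_iff.2 fun x _ => ?_
  obtain ⟨z, rfl⟩ := hg x
  have hz : θ z.1 = 0 := by
    have h2 := congrArg (fun t => t.hom (cls z.1 z.2)) hu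
    change (HomologicalComplex.homologyMap u i).hom (cls z.1 z.2) = 0 at h2
    rw [homologyMap_cls, cls_eq_zero_iff (i - 1) (by omega)] at h2
    obtain ⟨w, hw⟩ := h2
    rw [show (sgl i M).d (i - 1) i = 0 from HomologicalComplex.single_obj_d _ _ _ _ _, SplitTrunc.toSgl_f] at hw
    exact (HomologicalComplex.singleObjXSelf (ComplexShape.up ℤ) i M).toLinearEquiv.symm.injective
      (hw.symm.trans (map_zero _).symm)
  have hzN : B.mkQ z.1 ∈ m ^ (k + 1) • (⊤ : Submodule A (P.X i ⧸ B)) ⊓ N :=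
    ⟨(Submodule.Quotient.mk_eq_zero T).1 hz, Submodule.mem_map_of_mem z.2⟩
  rw [hk (k + 1) (by omega), show k + 1 - k = 1 by omega, pow_one] at hzN
  have hzN' : B.mkQ z.1 ∈ (m • Z).map B.mkQ := by
    rw [Submodule.map_smul'']
    exact Submodule.smul_mono le_rfl inf_le_right hzN
  obtain ⟨y, hy, hyz⟩ := hzN'
  obtain ⟨y', hy', rfl⟩ : y ∈ (m • (⊤ : Submodule A Z)).map Z.subtype := by
    rw [Submodule.map_smul'', Submodule.map_subtype_top]; exact hy
  have h3 : g (z - y') = 0 := hgB _ ((Submodule.Quotient.eq B).1 hyz.symm)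
  rw [map_sub, sub_eq_zero] at h3
  rw [h3]
  have h4 := Submodule.mem_map_of_mem (f := g) hy'
  rw [Submodule.map_smul''] at h4
  exact Submodule.smul_mono le_rfl le_top h4

end Groth.Agent.DRing.TorsionDetect
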