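import Groth.Agent.DRing.Nilpotent

/-!
# Perfection from two quotients whose kernels multiply to zero
-/

universe u

open CategoryTheory CategoryTheory.Limits DerivedCategory MonoidalCategory

attribute [local instance] HasDerivedCategory.standard

namespace Groth.Agent.DRing.Nilp

open DBasic Homology DRing.KFlat TorAmp PC

variable {A B C : Type u} [CommRing A] [CommRing B] [CommRing C] (φ : A →+* B)
  (hφ : Function.Surjective φ) (ψ : A →+* C) (hψ : Function.Surjective ψ)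
  (h0 : RingHom.ker φ * RingHom.ker ψ = ⊥)

include hφ hψ h0 in
theorem exactAt_tensor_of_two (P : DRing.Cx A) (hP : ∀ j, Module.Flat A (P.X j)) (i : ℤ)
    (h₁ : ∀ N' : ModuleCat.{u} B, (DRing.tensorCx ((LTensor.extCx φ).obj P) N').ExactAt i)
    (h₂ : ∀ N' : ModuleCat.{u} C, (DRing.tensorCx ((LTensor.extCx ψ).obj P) N').ExactAt i)
    (N : ModuleCat.{u} A) : (DRing.tensorCx P N).ExactAt i := by
  let I := RingHom.ker φ
  let S := ShortComplex.moduleCatMk (I • ⊤ : Submodule A N).subtype (I • ⊤ : Submodule A N).mkQ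
    (LinearMap.ext fun x => (Submodule.Quotient.mk_eq_zero _).2 x.2)
  have hS : S.ShortExact :=
    { exact := (ShortComplex.ShortExact.moduleCat_exact_iff_function_exact S).2
        (LinearMap.exact_subtype_mkQ _)
      mono_f := (ModuleCat.mono_iff_injective _).2 (Submodule.injective_subtype _)
      epi_g := (ModuleCat.epi_iff_surjective _).2 (Submodule.mkQ_surjective _) }
  obtain ⟨hz, hse⟩ := DerComplete.shortExact_tmap P hP S hS
  have h1 : (DRing.tensorCx P S.X₁).ExactAt i := by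
    refine exactAt_tensor_killed ψ hψ P _ i (fun a ha x => ?_) h₂
    obtain ⟨x, hx⟩ := x
    refine Subtype.ext ?_
    change a • x = 0
    refine Submodule.smul_induction_on hx (fun b hb y _ => ?_)
      (fun y z hy hz => by rw [smul_add, hy, hz, add_zero])
    have : b * a = 0 := Ideal.mem_bot.1 (h0 ▸ Ideal.mul_mem_mul hb ha :)
    rw [smul_smul, mul_comm, this, zero_smul]
  have h3 : (DRing.tensorCx P S.X₃).ExactAt i := by
    refine exactAt_tensor_killed φ hφ P _ i (fun a ha x => ?_) h₁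
    obtain ⟨x, rfl⟩ := Submodule.mkQ_surjective _ x
    exact ((I • ⊤ : Submodule A N).mkQ.map_smul a x).symm.trans
      ((Submodule.Quotient.mk_eq_zero _).2 (Submodule.smul_mem_smul ha trivial))
  rw [HomologicalComplex.exactAt_iff_isZero_homology] at h1 h3 ⊢
  exact (hse.homology_exact₂ i).isZero_of_both_zeros (h1.eq_of_src _ _) (h3.eq_of_tgt _ _)

include hφ hψ h0 in
theorem perfect_of_two [DRing.HasLBaseChange φ] [DRing.HasLBaseChange ψ] (K : Dual.D A)
    (hB : DRing.IsPerfect B ((DRing.LBaseChange φ).obj K))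
    (hC : DRing.IsPerfect C ((DRing.LBaseChange ψ).obj K)) : DRing.IsPerfect A K := by
  obtain ⟨E₁, a₁, b₁, hv₁, hf₁, ⟨e₁⟩⟩ := hB
  obtain ⟨E₂, a₂, b₂, hv₂, hf₂, ⟨e₂⟩⟩ := hC
  obtain ⟨P₀, _, hproj, ⟨e₀⟩⟩ := exists_kproj_iso K
  have := DerComplete.isKProjective_extCx φ P₀
  have := DerComplete.isKProjective_extCx ψ P₀
  have hk₁ := isKFlat_of_projective (fun i hi => hv₁ i (Or.inr hi)) fun i => (hf₁ i).2
  have hk₂ := isKFlat_of_projective (fun i hi => hv₂ i (Or.inr hi)) fun i => (hf₂ i).2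
  have hfl : ∀ j, Module.Flat A (P₀.X j) := fun j => have := hproj j; inferInstance
  have hv : TorVan P₀ (min a₁ a₂) (max b₁ b₂) := fun M i hi =>
    exactAt_tensor_of_two φ hφ ψ hψ h0 P₀ hfl i
      (fun N' => (exactAt_tensor_congr hk₁ (isKFlat_of_isKProjective _)
        (e₁ ≪≫ (Perfect.baseChangeIsoOfRep φ (isKFlat_of_isKProjective P₀) e₀).symm) N' i).1
        (torVan_of_flat hv₁ N' i (by omega)))
      (fun N' => (exactAt_tensor_congr hk₂ (isKFlat_of_isKProjective _)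
        (e₂ ≪≫ (Perfect.baseChangeIsoOfRep ψ (isKFlat_of_isKProjective P₀) e₀).symm) N' i).1
        (torVan_of_flat hv₂ N' i (by omega))) M
  refine (Perfect.perfect_iff K).2 ⟨?_, _, _, (hasTorAmp_iff (isKFlat_of_isKProjective P₀) e₀ _ _).2 hv⟩
  let c := max b₁ b₂
  obtain ⟨P, π, hb, hp, hπ⟩ := Trunc.exists_projRes P₀ c fun i hi =>
    (exactAt_tensor_self P₀ i).1 (hv _ i (Or.inr hi))
  have e : DRing.toD P ≅ K := asIso (Q.map π) ≪≫ e₀
  refine pc'_of_iso e ((pc'_iff _).2 fun m => ?_)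
  refine pc_mono (pc_of_step (fun P =>
      DRing.IsPseudoCoherent' B (DRing.toD ((LTensor.extCx φ).obj P)) ∧
      DRing.IsPseudoCoherent' C (DRing.toD ((LTensor.extCx ψ).obj P))) (fun P c hb hG => ?_)
    (fun f g _ _ h1 h2 h3 h4 h5 h6 hG =>
      ⟨pc'_ext_step φ f g h1 h2 h3 h4 h5 h6 hG.1, pc'_ext_step ψ f g h1 h2 h3 h4 h5 h6 hG.2⟩)
    (c - m).toNat P c hb hp
    ⟨pc'_of_iso (Perfect.baseChangeIsoOfRep φ (isKFlat_of_projective hb hp) e).symm
        (pc'_of_iso e₁ (Perfect.pc'_of_finiteProjective (fun i hi => hv₁ i (Or.inr hi)) hf₁)),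
      pc'_of_iso (Perfect.baseChangeIsoOfRep ψ (isKFlat_of_projective hb hp) e).symm
        (pc'_of_iso e₂ (Perfect.pc'_of_finiteProjective (fun i hi => hv₂ i (Or.inr hi)) hf₂))⟩) (by omega)
  obtain ⟨S₁, hS₁, h₁⟩ := exists_fg_sup φ hφ P c hb hG.1
  obtain ⟨S₂, hS₂, h₂⟩ := exists_fg_sup ψ hψ P c hb hG.2
  refine ⟨S₁ ⊔ S₂, hS₁.sup hS₂, top_unique ?_⟩
  let T := LinearMap.range (P.d (c - 1) c).hom
  calc (⊤ : Submodule A (P.X c)) = S₁ ⊔ T ⊔ RingHom.ker φ • (S₂ ⊔ T ⊔ RingHom.ker ψ • ⊤) := by rw [h₂, h₁]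
    _ ≤ S₁ ⊔ S₂ ⊔ T := by
      rw [Submodule.smul_sup, ← Submodule.mul_smul, h0, Submodule.bot_smul, sup_bot_eq]
      refine sup_le (sup_le_sup_right le_sup_left _) (Submodule.smul_le_right.trans ?_)
      exact sup_le_sup_right le_sup_right _

/-- Base change twice. -/
theorem nonempty_comp (χ : A →+* C) (f : C →+* B) (hf : f.comp χ = φ) [DRing.HasLBaseChange χ]
    [DRing.HasLBaseChange φ] [DRing.HasLBaseChange f] (K : Dual.D A) :
    Nonempty ((DRing.LBaseChange f).obj ((DRing.LBaseChange χ).obj K) ≅ (DRing.LBaseChange φ).obj K) := by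
  subst hf
  obtain ⟨P, _, -, ⟨e⟩⟩ := exists_kproj_iso K
  have := DerComplete.isKProjective_extCx χ P
  exact ⟨(Perfect.baseChangeIsoOfRep f (isKFlat_of_isKProjective ((LTensor.extCx χ).obj P))
      (Perfect.baseChangeIsoOfRep χ (isKFlat_of_isKProjective P) e)).symm ≪≫
    Q.mapIso ((NatIso.mapHomologicalComplex (ModuleCat.extendScalarsComp.{u} χ f)
      (ComplexShape.up ℤ)).app P).symm ≪≫
    Perfect.baseChangeIsoOfRep (f.comp χ) (isKFlat_of_isKProjective P) e⟩

theorem perfect_quotient_mul (R : Type u) [CommRing R] (I J : Ideal R)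
    [DRing.HasLBaseChange (Ideal.Quotient.mk I)] [DRing.HasLBaseChange (Ideal.Quotient.mk J)]
    [DRing.HasLBaseChange (Ideal.Quotient.mk (I * J))] (K : Dual.D R)
    (hI : DRing.IsPerfect (R ⧸ I) ((DRing.LBaseChange (Ideal.Quotient.mk I)).obj K))
    (hJ : DRing.IsPerfect (R ⧸ J) ((DRing.LBaseChange (Ideal.Quotient.mk J)).obj K)) :
    DRing.IsPerfect (R ⧸ (I * J)) ((DRing.LBaseChange (Ideal.Quotient.mk (I * J))).obj K) := by
  let f : R ⧸ (I * J) →+* R ⧸ I := Ideal.Quotient.factor Ideal.mul_le_left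
  let g : R ⧸ (I * J) →+* R ⧸ J := Ideal.Quotient.factor Ideal.mul_le_right
  have := LTensor.hasLBaseChange f
  have := LTensor.hasLBaseChange g
  have hf : Function.Surjective f := Ideal.Quotient.factor_surjective _
  have hg : Function.Surjective g := Ideal.Quotient.factor_surjective _
  have h0 : RingHom.ker f * RingHom.ker g = ⊥ := by
    rw [Ideal.Quotient.factor_ker, Ideal.Quotient.factor_ker, ← Ideal.map_mul, Ideal.map_quotient_self]
  obtain ⟨e₁⟩ := nonempty_comp (Ideal.Quotient.mk I) (Ideal.Quotient.mk (I * J)) f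
    (Ideal.Quotient.factor_comp_mk _) K
  obtain ⟨e₂⟩ := nonempty_comp (Ideal.Quotient.mk J) (Ideal.Quotient.mk (I * J)) g
    (Ideal.Quotient.factor_comp_mk _) K
  exact perfect_of_two f hf g hg h0 _ (Perfect.perfect_of_iso e₁.symm hI) (Perfect.perfect_of_iso e₂.symm hJ)

end Groth.Agent.DRing.Nilp
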