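import Groth.Agent.DRing.Trunc

/-!
# Maps from complexes in degrees `≤ 0` with projective degree `0` to complexes in degrees `≥ -1`
-/

universe u

open CategoryTheory CategoryTheory.Limits DerivedCategory

attribute [local instance] HasDerivedCategory.standard

namespace Groth.Agent.DRing.TwoTerm

open Homology DBasic

variable {A : Type u} [CommRing A]

section Basic

variable {M K : DRing.Cx A} (hM : ∀ i, 0 < i → IsZero (M.X i))
  (hK : ∀ i, i ≤ -2 → IsZero (K.X i))

include hM hK in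
/-- A chain map from its two components. -/
lemma exists_hom (f₁ : M.X (-1) ⟶ K.X (-1)) (f₀ : M.X 0 ⟶ K.X 0)
    (hd : M.d (-2) (-1) ≫ f₁ = 0) (hc : f₁ ≫ K.d (-1) 0 = M.d (-1) 0 ≫ f₀)
    (hc0 : f₀ ≫ K.d 0 1 = 0) :
    ∃ f : M ⟶ K, f.f (-1) = f₁ ∧ f.f 0 = f₀ := by
  refine ⟨{
    f := fun i => if h1 : i = -1 then (M.XIsoOfEq h1).hom ≫ f₁ ≫ (K.XIsoOfEq h1).inv
      else if h0 : i = 0 then (M.XIsoOfEq h0).hom ≫ f₀ ≫ (K.XIsoOfEq h0).inv else 0
    comm' := fun i j hij => ?_ }, ?_, ?_⟩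
  · change i + 1 = j at hij
    subst hij
    rcases lt_trichotomy i (-1) with hi | rfl | hi
    · by_cases h : i = -2
      · subst h
        rw [dif_neg (by omega), dif_neg (by omega), zero_comp]
        rw [dif_pos (show (-2 : ℤ) + 1 = -1 by omega)]
        rw [HomologicalComplex.d_comp_XIsoOfEq_hom_assoc, reassoc_of% hd, zero_comp]
      · exact (hK (i + 1) (by omega)).eq_of_tgt _ _
    · rw [dif_pos rfl]
      rw [dif_neg (show ¬ (-1 : ℤ) + 1 = -1 by omega), dif_pos (show (-1 : ℤ) + 1 = 0 by omega)]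
      simp [hc, HomologicalComplex.XIsoOfEq]
    · by_cases h : i = 0
      · subst h
        rw [dif_neg (by omega), dif_pos rfl, dif_neg (show ¬ (0 : ℤ) + 1 = -1 by omega),
          dif_neg (show ¬ (0 : ℤ) + 1 = 0 by omega), comp_zero]
        simp [hc0]
      · exact (hM i (by omega)).eq_of_src _ _
  · simp
  · simp

include hM hK in
/-- A homotopy from its component. -/
lemma nonempty_homotopy {f g : M ⟶ K} (k : M.X 0 ⟶ K.X (-1))
    (h0 : f.f 0 = k ≫ K.d (-1) 0 + g.f 0) (h1 : f.f (-1) = M.d (-1) 0 ≫ k + g.f (-1)) :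
    Nonempty (Homotopy f g) := by
  refine ⟨{
    hom := fun i j => if h : i = 0 ∧ j = -1 then
      (M.XIsoOfEq h.1).hom ≫ k ≫ (K.XIsoOfEq h.2).inv else 0
    zero := fun i j hij => ?_
    comm := fun i => ?_ }⟩
  · refine dif_neg fun h => hij ?_
    obtain ⟨rfl, rfl⟩ := h
    change (-1 : ℤ) + 1 = 0
    omega
  · rcases lt_trichotomy i (-1) with hi | rfl | hi
    · exact (hK i (by omega)).eq_of_tgt _ _
    · rw [dNext_eq _ (show (ComplexShape.up ℤ).Rel (-1) 0 by simp),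
        prevD_eq _ (show (ComplexShape.up ℤ).Rel (-2) (-1) by simp)]
      rw [dif_pos ⟨rfl, rfl⟩, dif_neg (by omega), zero_comp, add_zero, h1]
      simp
    · by_cases hi0 : i = 0
      · subst hi0
        rw [dNext_eq _ (show (ComplexShape.up ℤ).Rel 0 1 by simp),
          prevD_eq _ (show (ComplexShape.up ℤ).Rel (-1) 0 by simp)]
        rw [dif_neg (by omega), dif_pos ⟨rfl, rfl⟩, comp_zero, zero_add, h0]
        simp
      · exact (hM i (by omega)).eq_of_src _ _

include hM hK in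
/-- The component of a homotopy. -/
lemma exists_of_homotopy {f g : M ⟶ K} (H : Homotopy f g) :
    ∃ k : M.X 0 ⟶ K.X (-1), f.f 0 = k ≫ K.d (-1) 0 + g.f 0 ∧
      f.f (-1) = M.d (-1) 0 ≫ k + g.f (-1) := by
  refine ⟨H.hom 0 (-1), ?_, ?_⟩
  · have := H.comm 0
    rw [dNext_eq _ (show (ComplexShape.up ℤ).Rel 0 1 by simp),
      prevD_eq _ (show (ComplexShape.up ℤ).Rel (-1) 0 by simp),
      (hM 1 (by omega)).eq_of_tgt (M.d 0 1) 0, zero_comp, zero_add] at this
    exact this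
  · have := H.comm (-1)
    rw [dNext_eq _ (show (ComplexShape.up ℤ).Rel (-1) 0 by simp),
      prevD_eq _ (show (ComplexShape.up ℤ).Rel (-2) (-1) by simp),
      (hK (-2) (by omega)).eq_of_src (K.d (-2) (-1)) 0, comp_zero, add_zero] at this
    exact this

end Basic

section Descend

variable {P M K : DRing.Cx A} (π : P ⟶ M) [QuasiIso π] (hP : ∀ i, 0 < i → IsZero (P.X i))
  (hM : ∀ i, 0 < i → IsZero (M.X i)) (hM0 : Module.Projective A (M.X 0))
  (hK : ∀ i, i ≤ -2 → IsZero (K.X i))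

lemma coneExact (i : ℤ) : BARes.ConeExact π i := by
  rw [BARes.coneExact_iff_exactAt, HomologicalComplex.exactAt_iff_isZero_homology,
    ← subsingleton_HD_toD_iff, subsingleton_HD_iff_isZero]
  have : IsIso (Q.map π) := inferInstance
  exact (HF i).map_isZero ((Pretriangulated.Triangle.isZero₃_iff_isIso₁ _
    (mappingCone_triangle_distinguished π)).2 this)

lemma exists_lift_pair (p : P.X 0) (m : M.X (-1)) (hp : IsCyc P 0 p)
    (h : (π.f 0).hom p = (M.d (-1) 0).hom m) :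
    ∃ (e : P.X (-1)) (x : M.X (-2)), (P.d (-1) 0).hom e = p ∧
      (π.f (-1)).hom e + (M.d (-2) (-1)).hom x = m := by
  have key : ∀ (k : ℤ) (hk : -1 + 1 = k) (p : P.X k), IsCyc P k p →
      (π.f k).hom p = (M.d (-1) k).hom m → ∃ (e : P.X (-1)) (x : M.X (-2)),
        (P.d (-1) k).hom e = p ∧ (π.f (-1)).hom e + (M.d (-2) (-1)).hom x = m := by
    rintro _ rfl p hp h
    obtain ⟨e', x', h1, h2⟩ := coneExact π (-1) p (-m) hp (by rw [map_neg, h, add_neg_cancel])
    have hx : ∃ x : M.X (-2), (M.d (-2) (-1)).hom x = (M.d (-1 - 1) (-1)).hom x' :=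
      ⟨(M.XIsoOfEq (show (-1 : ℤ) - 1 = -2 by omega)).hom.hom x',
        congrArg (fun f => f.hom x') (M.XIsoOfEq_hom_comp_d (show (-1 : ℤ) - 1 = -2 by omega) (-1))⟩
    obtain ⟨x, hx⟩ := hx
    refine ⟨-e', -x, by rw [map_neg]; exact h1, ?_⟩
    rw [map_neg, map_neg, hx, ← neg_add, h2, neg_neg]
  exact key 0 (by omega) p hp h

include hP in
lemma isCyc_zero_deg (p : P.X 0) : IsCyc P 0 p := by
  have := ModuleCat.subsingleton_of_isZero (hP (0 + 1) (by omega))
  exact Subsingleton.elim _ _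

include hP hM0 hM in
lemma exists_section : ∃ (s : M.X 0 →ₗ[A] P.X 0) (t : M.X 0 →ₗ[A] M.X (-1)),
    ∀ y, (π.f 0).hom (s y) + (M.d (-1) 0).hom (t y) = y := by
  let c : (P.X 0 × M.X (-1)) →ₗ[A] M.X 0 :=
    (π.f 0).hom.coprod (M.d (-1) 0).hom
  have hc : Function.Surjective c := fun y => by
    have he : IsCyc P (0 + 1) (0 : P.X (0 + 1)) := isCyc_zero _
    obtain ⟨e', x', -, h2⟩ := coneExact π 0 0 y he (by
      have := ModuleCat.subsingleton_of_isZero (hM (0 + 1) (by omega))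
      exact Subsingleton.elim _ _)
    exact ⟨(e', (M.XIsoOfEq (show (0 : ℤ) - 1 = -1 by omega)).hom.hom x'), by
      rw [← h2]
      exact congrArg ((π.f 0).hom e' + ·)
        (congrArg (fun f => f.hom x') (M.XIsoOfEq_hom_comp_d (show (0 : ℤ) - 1 = -1 by omega) 0))⟩
  obtain ⟨st, hst⟩ := Module.projective_lifting_property c LinearMap.id hc
  exact ⟨(LinearMap.fst A _ _).comp st, (LinearMap.snd A _ _).comp st, fun y =>
    LinearMap.congr_fun hst y⟩

/-- The pairs `(p, m)` with `π p = d m`. -/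
def pairs : Submodule A (P.X 0 × M.X (-1)) :=
  LinearMap.ker ((π.f 0).hom.coprod (-(M.d (-1) 0).hom))

lemma mem_pairs {p : P.X 0} {m : M.X (-1)} :
    (p, m) ∈ pairs π ↔ (π.f 0).hom p = (M.d (-1) 0).hom m := by
  simp only [pairs, LinearMap.mem_ker, LinearMap.coprod_apply, LinearMap.neg_apply]
  exact ⟨fun h => by rw [← sub_eq_zero, sub_eq_add_neg]; exact h, fun h => by rw [h, add_neg_cancel]⟩

/-- The image of `(e, x)` in the pairs. -/
def toPairs : (P.X (-1) × M.X (-2)) →ₗ[A] pairs π :=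
  (((P.d (-1) 0).hom.comp (LinearMap.fst A _ _)).prod
    ((π.f (-1)).hom.coprod (M.d (-2) (-1)).hom)).codRestrict _ fun ex => by
      refine (mem_pairs π).2 ?_
      change (π.f 0).hom ((P.d (-1) 0).hom ex.1) =
        (M.d (-1) 0).hom ((π.f (-1)).hom ex.1 + (M.d (-2) (-1)).hom ex.2)
      rw [map_add, d_d, add_zero, hom_d]

include hP in
lemma toPairs_surjective : Function.Surjective (toPairs π) := by
  rintro ⟨⟨p, m⟩, h⟩
  obtain ⟨e, x, h1, h2⟩ := exists_lift_pair π p m (isCyc_zero_deg hP p) ((mem_pairs π).1 h)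
  exact ⟨(e, x), Subtype.ext (Prod.ext h1 h2)⟩

include hK in
lemma g_kills (g : P ⟶ K) (ex : P.X (-1) × M.X (-2)) (h : toPairs π ex = 0) :
    (g.f (-1)).hom ex.1 = 0 := by
  have h' := congrArg Subtype.val h
  have h1 : (P.d (-1) 0).hom ex.1 = 0 := congrArg Prod.fst h'
  have h2 : (π.f (-1)).hom ex.1 + (M.d (-2) (-1)).hom ex.2 = 0 := congrArg Prod.snd h'
  have key : ∀ (k : ℤ) (hk : k + 1 = -1) (e : P.X (-1)) (x : M.X k), IsCyc P (-1) e →
      (π.f (-1)).hom e + (M.d k (-1)).hom x = 0 → (g.f (-1)).hom e = 0 := by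
    intro k hk e x he hx
    have : ∀ (j : ℤ) (hj : k + 1 = j) (e : P.X j), IsCyc P j e →
        (π.f j).hom e + (M.d k j).hom x = 0 → (g.f j).hom e = 0 := by
      rintro _ rfl e he hx
      obtain ⟨e', x', hh, -⟩ := coneExact π k e x he hx
      have := ModuleCat.subsingleton_of_isZero (hK k (by omega))
      rw [← hh, map_neg, ← hom_d, Subsingleton.elim ((g.f k).hom e') 0, map_zero, neg_zero]
    exact this (-1) hk e he hx
  exact key (-2) (by omega) _ _ ((isCyc_iff (show (-1 : ℤ) + 1 = 0 by omega) _).2 h1) h2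

include hP hK in
/-- `(de, πe + dx) ↦ g e`. -/
lemma exists_phi (g : P ⟶ K) : ∃ φ : pairs π →ₗ[A] K.X (-1),
    ∀ ex, φ (toPairs π ex) = (g.f (-1)).hom ex.1 := by
  let e := (toPairs π).quotKerEquivOfSurjective (toPairs_surjective π hP)
  let l := (LinearMap.ker (toPairs π)).liftQ ((g.f (-1)).hom.comp (LinearMap.fst A _ _))
    fun ex h => g_kills π hK g ex h
  refine ⟨l.comp e.symm.toLinearMap, fun ex => ?_⟩
  have : e.symm (toPairs π ex) = Submodule.Quotient.mk ex := by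
    rw [LinearEquiv.symm_apply_eq]; rfl
  exact (congrArg l this).trans (Submodule.liftQ_apply _ _ _)

include hP hM hM0 hK in
lemma injective_precomp {f g : M ⟶ K} (H : Homotopy (π ≫ f) (π ≫ g)) :
    Nonempty (Homotopy f g) := by
  obtain ⟨k, hk0, hk1⟩ := exists_of_homotopy hP hK H
  obtain ⟨s, t, hst⟩ := exists_section π hP hM hM0
  let δf : M.X (-1) →ₗ[A] K.X (-1) := (f.f (-1)).hom - (g.f (-1)).hom
  refine nonempty_homotopy hM hK (ModuleCat.ofHom (k.hom.comp s + δf.comp t)) ?_ ?_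
  · refine ModuleCat.hom_ext (LinearMap.ext fun y => ?_)
    change (f.f 0).hom y = (K.d (-1) 0).hom (k.hom (s y) + δf (t y)) + (g.f 0).hom y
    have h := congrArg (fun q => q.hom (s y)) hk0
    change (f.f 0).hom ((π.f 0).hom (s y)) =
      (K.d (-1) 0).hom (k.hom (s y)) + (g.f 0).hom ((π.f 0).hom (s y)) at h
    have hd : (K.d (-1) 0).hom (δf (t y)) =
        (f.f 0).hom ((M.d (-1) 0).hom (t y)) - (g.f 0).hom ((M.d (-1) 0).hom (t y)) := by
      change (K.d (-1) 0).hom ((f.f (-1)).hom (t y) - (g.f (-1)).hom (t y)) = _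
      rw [map_sub, hom_d, hom_d]
    rw [map_add, hd]
    conv_lhs => rw [← hst y, map_add, h]
    conv_rhs => arg 2; rw [← hst y, map_add]
    abel
  · refine ModuleCat.hom_ext (LinearMap.ext fun m => ?_)
    change (f.f (-1)).hom m = k.hom (s ((M.d (-1) 0).hom m)) +
      ((f.f (-1)).hom (t ((M.d (-1) 0).hom m)) - (g.f (-1)).hom (t ((M.d (-1) 0).hom m))) +
      (g.f (-1)).hom m
    obtain ⟨e, x, he, hx⟩ := exists_lift_pair π (s ((M.d (-1) 0).hom m))
      (m - t ((M.d (-1) 0).hom m)) (isCyc_zero_deg hP _) (by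
        rw [map_sub, eq_sub_iff_add_eq]
        exact hst _)
    have h := congrArg (fun q => q.hom e) hk1
    change (f.f (-1)).hom ((π.f (-1)).hom e) =
      k.hom ((P.d (-1) 0).hom e) + (g.f (-1)).hom ((π.f (-1)).hom e) at h
    have := ModuleCat.subsingleton_of_isZero (hK (-2) le_rfl)
    have hfx : (f.f (-1)).hom ((M.d (-2) (-1)).hom x) = 0 := by
      rw [← hom_d, Subsingleton.elim ((f.f (-2)).hom x) 0, map_zero]
    have hgx : (g.f (-1)).hom ((M.d (-2) (-1)).hom x) = 0 := by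
      rw [← hom_d, Subsingleton.elim ((g.f (-2)).hom x) 0, map_zero]
    have hm : m = (π.f (-1)).hom e + (M.d (-2) (-1)).hom x + t ((M.d (-1) 0).hom m) := by
      rw [hx, sub_add_cancel]
    rw [← he]
    conv_lhs => rw [hm, map_add, map_add, hfx, add_zero, h]
    conv_rhs => arg 2; rw [hm, map_add, map_add, hgx, add_zero]
    abel

include hP hM hM0 hK in
lemma surjective_precomp (g : P ⟶ K) :
    ∃ f : M ⟶ K, Nonempty (Homotopy (π ≫ f) g) := by
  obtain ⟨s, t, hst⟩ := exists_section π hP hM hM0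
  obtain ⟨φ, hφ⟩ := exists_phi π hP hK g
  let d0 := (M.d (-1) 0).hom
  let A₁ : M.X (-1) →ₗ[A] pairs π :=
    ((s.comp d0).prod (LinearMap.id - t.comp d0)).codRestrict _ fun m => by
      refine (mem_pairs π).2 ?_
      change (π.f 0).hom (s (d0 m)) = d0 (m - t (d0 m))
      rw [map_sub, eq_sub_iff_add_eq]
      exact hst _
  have hA₁ : ∀ m e x, toPairs π (e, x) = A₁ m → φ (A₁ m) = (g.f (-1)).hom e := fun m e x h => by
    rw [← h, hφ]
  obtain ⟨f, hf1, hf0⟩ := exists_hom hM hK (ModuleCat.ofHom (φ.comp A₁))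
    (ModuleCat.ofHom ((g.f 0).hom.comp s)) (by
      refine ModuleCat.hom_ext (LinearMap.ext fun x => ?_)
      change φ (A₁ ((M.d (-2) (-1)).hom x)) = 0
      have h0 : d0 ((M.d (-2) (-1)).hom x) = 0 := d_d _ _ _ x
      rw [hA₁ _ 0 x ?_, map_zero]
      refine Subtype.ext (Prod.ext ?_ ?_)
      · change (P.d (-1) 0).hom 0 = s (d0 ((M.d (-2) (-1)).hom x))
        rw [h0, map_zero, map_zero]
      · change (π.f (-1)).hom 0 + (M.d (-2) (-1)).hom x =
          (M.d (-2) (-1)).hom x - t (d0 ((M.d (-2) (-1)).hom x))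
        rw [h0, map_zero, map_zero, zero_add, sub_zero])
    (by
      refine ModuleCat.hom_ext (LinearMap.ext fun m => ?_)
      change (K.d (-1) 0).hom (φ (A₁ m)) = (g.f 0).hom (s (d0 m))
      obtain ⟨⟨e, x⟩, h⟩ := toPairs_surjective π hP (A₁ m)
      rw [hA₁ m e x h, hom_d]
      exact congrArg (g.f 0).hom (congrArg (fun z : pairs π => z.1.1) h))
    (by
      refine ModuleCat.hom_ext (LinearMap.ext fun y => ?_)
      change (K.d 0 1).hom ((g.f 0).hom (s y)) = 0
      have := ModuleCat.subsingleton_of_isZero (hP 1 (by omega))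
      rw [hom_d, Subsingleton.elim ((P.d 0 1).hom (s y)) 0, map_zero])
  let B : P.X 0 →ₗ[A] pairs π :=
    ((s.comp (π.f 0).hom - LinearMap.id).prod (-(t.comp (π.f 0).hom))).codRestrict _ fun p => by
      refine (mem_pairs π).2 ?_
      change (π.f 0).hom (s ((π.f 0).hom p) - p) = d0 (-(t ((π.f 0).hom p)))
      rw [map_sub, map_neg, sub_eq_iff_eq_add, eq_neg_add_iff_add_eq, add_comm]
      exact hst _
  refine ⟨f, nonempty_homotopy hP hK (ModuleCat.ofHom (φ.comp B)) ?_ ?_⟩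
  · refine ModuleCat.hom_ext (LinearMap.ext fun p => ?_)
    change (f.f 0).hom ((π.f 0).hom p) = (K.d (-1) 0).hom (φ (B p)) + (g.f 0).hom p
    obtain ⟨⟨e, x⟩, h⟩ := toPairs_surjective π hP (B p)
    rw [← h, hφ, hom_d, show (P.d (-1) 0).hom e = s ((π.f 0).hom p) - p from
      congrArg (fun z : pairs π => z.1.1) h, map_sub, sub_add_cancel, hf0]
    rfl
  · refine ModuleCat.hom_ext (LinearMap.ext fun e₀ => ?_)
    change (f.f (-1)).hom ((π.f (-1)).hom e₀) = φ (B ((P.d (-1) 0).hom e₀)) + (g.f (-1)).hom e₀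
    rw [hf1]
    change φ (A₁ ((π.f (-1)).hom e₀)) = _
    rw [show (g.f (-1)).hom e₀ = φ (toPairs π (e₀, 0)) from (hφ (e₀, 0)).symm, ← map_add]
    refine congrArg φ (Subtype.ext (Prod.ext ?_ ?_))
    · change s (d0 ((π.f (-1)).hom e₀)) =
        (s ((π.f 0).hom ((P.d (-1) 0).hom e₀)) - (P.d (-1) 0).hom e₀) + (P.d (-1) 0).hom e₀
      rw [sub_add_cancel]
      exact congrArg s (hom_d π _ _ e₀)
    · change (π.f (-1)).hom e₀ - t (d0 ((π.f (-1)).hom e₀)) =
        -(t ((π.f 0).hom ((P.d (-1) 0).hom e₀))) + ((π.f (-1)).hom e₀ + (M.d (-2) (-1)).hom 0)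
      rw [map_zero, add_zero, show d0 ((π.f (-1)).hom e₀) = _ from hom_d π _ _ e₀]
      abel

end Descend

variable {M K : DRing.Cx A}

/-- Chain maps to `D(A)` are bijective modulo homotopy. -/
theorem exists_hom_unique (hM : ∀ i, 0 < i → IsZero (M.X i)) (hM0 : Module.Projective A (M.X 0))
    (hK : ∀ i, i ≤ -2 → IsZero (K.X i)) :
    (∀ φ : DRing.toD M ⟶ DRing.toD K, ∃ f : M ⟶ K, Q.map f = φ) ∧
      ∀ f g : M ⟶ K, Q.map f = Q.map g → Nonempty (Homotopy f g) := by
  obtain ⟨P, π, hPb, hproj, hq⟩ := Trunc.exists_projRes M 0 fun i hi =>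
    (M.exactAt_iff i).2 (ShortComplex.exact_of_isZero_X₂ _ (hM i hi))
  have := isKProjective_of_projective P 0 hPb hproj
  refine ⟨fun φ => ?_, fun f g h => ?_⟩
  · obtain ⟨g, hg⟩ := exists_Q_map_eq (L := K) (Q.map π ≫ φ)
    obtain ⟨f, ⟨H⟩⟩ := surjective_precomp π hPb hM hM0 hK g
    refine ⟨f, ?_⟩
    have := Q_map_eq_of_homotopy (ModuleCat.{u} A) H
    rwa [Functor.map_comp, hg, cancel_epi] at this
  · obtain ⟨H⟩ := (Q_map_eq_iff (π ≫ f) (π ≫ g)).1 (by rw [Functor.map_comp, Functor.map_comp, h])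
    exact injective_precomp π hPb hM hM0 hK H

end Groth.Agent.DRing.TwoTerm
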