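import Groth.Agent.DRing.TwoTerm
import Groth.Agent.DRing.ProjAmp
import Mathlib.Algebra.Homology.DerivedCategory.Linear

/-!
# `Ext^1` of two-term complexes with projective degree `0`, and null-homotopic multiplications
-/

universe u

open CategoryTheory CategoryTheory.Limits DerivedCategory

attribute [local instance] HasDerivedCategory.standard

namespace Groth.Agent.DRing.TwoTerm

open Homology DBasic PC

variable {A : Type u} [CommRing A]

/-- A two-term representative with free degree `0`. -/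
lemma exists_twoTerm (K : Dual.D A)
    (hK : ∀ i : ℤ, i ≠ -1 → i ≠ 0 → Subsingleton (Dual.HD A K i)) :
    ∃ E : DRing.Cx A, (∀ i, 0 < i → IsZero (E.X i)) ∧ (∀ i, i ≤ -2 → IsZero (E.X i)) ∧
      Module.Projective A (E.X 0) ∧ Nonempty (DRing.toD E ≅ K) := by
  obtain ⟨P, hb, hf, ⟨e⟩⟩ := ProjAmp.exists_freeRep K 0 (fun i hi => hK i (by omega) (by omega))
  obtain ⟨e'⟩ := ProjAmp.tauGE_rep e (-1) (fun i hi => hK i (by omega) (by omega))
  have h := Trunc.vanishesOutside_tauGE P (-1) hb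
  have := hf 0
  exact ⟨_, fun i hi => h i (Or.inr hi), fun i hi => h i (Or.inl (by omega)),
    Trunc.projective_of_iso (Trunc.tauGE_XIso P (-1) (show (-1 : ℤ) < 0 by omega)).symm inferInstance,
    ⟨e'⟩⟩

variable {E : DRing.Cx A} {N : ModuleCat.{u} A}

lemma sgl_vanish : ∀ i : ℤ, i ≤ -2 → IsZero ((sgl (-1) N).X i) := fun i hi =>
  vanishesOutside_sgl (-1) N i (Or.inl (by omega))

/-- The class of a map `E^{-1} ⟶ N`. -/
noncomputable def toS (hE' : ∀ i, i ≤ -2 → IsZero (E.X i)) (f : E.X (-1) ⟶ N) : E ⟶ sgl (-1) N :=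
  HomologicalComplex.mkHomToSingle f (fun i (hi : i + 1 = -1) => (hE' i (by omega)).eq_of_src _ _)

lemma toS_f (hE' : ∀ i, i ≤ -2 → IsZero (E.X i)) (f : E.X (-1) ⟶ N) :
    (toS hE' f).f (-1) =
      f ≫ (HomologicalComplex.singleObjXSelf (ComplexShape.up ℤ) (-1) N).inv :=
  HomologicalComplex.mkHomToSingle_f _ _

lemma toS_smul (hE' : ∀ i, i ≤ -2 → IsZero (E.X i)) (a : A) (f : E.X (-1) ⟶ N) :
    toS hE' (a • f) = a • toS hE' f :=
  HomologicalComplex.to_single_hom_ext (by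
    rw [HomologicalComplex.smul_f_apply, toS_f, toS_f, Linear.smul_comp])

lemma exists_toS (hE : ∀ i, 0 < i → IsZero (E.X i)) (hE0 : Module.Projective A (E.X 0))
    (hE' : ∀ i, i ≤ -2 → IsZero (E.X i)) (ξ : DRing.toD E ⟶ DRing.toD (sgl (-1) N)) :
    ∃ f, ξ = Q.map (toS hE' f) := by
  obtain ⟨φ, rfl⟩ := (exists_hom_unique hE hE0 sgl_vanish).1 ξ
  refine ⟨φ.f (-1) ≫ (HomologicalComplex.singleObjXSelf (ComplexShape.up ℤ) (-1) N).hom,
    congrArg Q.map ?_⟩
  refine HomologicalComplex.to_single_hom_ext ?_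
  rw [toS_f, Category.assoc, Iso.hom_inv_id, Category.comp_id]

lemma Q_toS_eq_zero_iff (hE : ∀ i, 0 < i → IsZero (E.X i)) (hE0 : Module.Projective A (E.X 0))
    (hE' : ∀ i, i ≤ -2 → IsZero (E.X i)) (f : E.X (-1) ⟶ N) :
    Q.map (toS hE' f) = 0 ↔ ∃ k : E.X 0 ⟶ N, E.d (-1) 0 ≫ k = f := by
  have hd : (sgl (-1) N).d (-1) 0 = 0 := HomologicalComplex.single_obj_d _ _ _ _ _
  constructor
  · intro h
    obtain ⟨H⟩ := (exists_hom_unique hE hE0 sgl_vanish).2 (toS hE' f) 0 (by rw [h, Functor.map_zero])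
    obtain ⟨k, -, hk⟩ := exists_of_homotopy hE sgl_vanish H
    rw [HomologicalComplex.zero_f_apply, add_zero, toS_f, Iso.comp_inv_eq] at hk
    exact ⟨k ≫ (HomologicalComplex.singleObjXSelf (ComplexShape.up ℤ) (-1) N).hom,
      by rw [hk, Category.assoc]⟩
  · rintro ⟨k, rfl⟩
    obtain ⟨H⟩ := nonempty_homotopy (f := toS hE' (E.d (-1) 0 ≫ k)) (g := 0) hE sgl_vanish
      (k ≫ (HomologicalComplex.singleObjXSelf (ComplexShape.up ℤ) (-1) N).inv)
      ((vanishesOutside_sgl (-1) N 0 (Or.inr (by omega))).eq_of_tgt _ _)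
      (by rw [toS_f, HomologicalComplex.zero_f_apply, add_zero, Category.assoc])
    rw [Q_map_eq_of_homotopy (ModuleCat.{u} A) H, Functor.map_zero]

/-- `(N[0])[1]` is `N` in degree `-1`. -/
noncomputable def shiftOneIso (M : Type u) [AddCommGroup M] [Module A M] :
    (shiftFunctor (Dual.D A) (1 : ℤ)).obj (Dual.inD A M) ≅ DRing.toD (sgl (-1) (ModuleCat.of A M)) :=
  ((DerivedCategory.singleFunctors (ModuleCat.{u} A)).shiftIso 1 (-1) 0 (by omega)).app _ ≪≫
    (singleFunctorIsoCompQ (ModuleCat.{u} A) (-1)).app _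

/-- `a` kills `Ext^1(K, -)` iff it factors through the differential. -/
lemma annihilates_iff (hE : ∀ i, 0 < i → IsZero (E.X i)) (hE0 : Module.Projective A (E.X 0))
    (hE' : ∀ i, i ≤ -2 → IsZero (E.X i)) {K : Dual.D A} (e : DRing.toD E ≅ K) (a : A) :
    (∀ (M : Type u) [AddCommGroup M] [Module A M]
        (ξ : K ⟶ (shiftFunctor (Dual.D A) (1 : ℤ)).obj (Dual.inD A M)), a • ξ = 0) ↔
      ∃ h : E.X 0 ⟶ E.X (-1), E.d (-1) 0 ≫ h = a • 𝟙 (E.X (-1)) := by
  constructor
  · intro H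
    have h := H (E.X (-1)) (e.inv ≫ Q.map (toS hE' (𝟙 (E.X (-1)))) ≫ (shiftOneIso (E.X (-1))).inv)
    rw [← Linear.comp_smul, ← Linear.smul_comp, ← Functor.map_smul, ← toS_smul] at h
    refine (Q_toS_eq_zero_iff hE hE0 hE' _).1 ?_
    rwa [← cancel_epi e.inv, ← cancel_mono (shiftOneIso (E.X (-1))).inv, Category.assoc, comp_zero,
      zero_comp]
  · rintro ⟨h, hh⟩ M _ _ ξ
    obtain ⟨f, hf⟩ := exists_toS hE hE0 hE' (e.hom ≫ ξ ≫ (shiftOneIso M).hom)
    have h0 : a • Q.map (toS hE' f) = 0 := by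
      rw [← Functor.map_smul, ← toS_smul]
      exact (Q_toS_eq_zero_iff hE hE0 hE' _).2
        ⟨h ≫ f, by rw [reassoc_of% hh, Linear.smul_comp, Category.id_comp]⟩
    rw [← hf, ← Linear.comp_smul, ← Linear.smul_comp] at h0
    rwa [← cancel_epi e.hom, ← cancel_mono (shiftOneIso M).hom, Category.assoc, comp_zero, zero_comp]

section Transfer

variable {E' : DRing.Cx A} (α : E ⟶ E')

/-- `H^0` iso and `H^{-1}` epi, elementwise. -/
lemma exists_pairs_lift (hE : ∀ i, 0 < i → IsZero (E.X i))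
    (hE'' : ∀ i, i ≤ -2 → IsZero (E'.X i))
    (h0 : Function.Injective (HomologicalComplex.homologyMap α 0).hom)
    (h1 : Function.Surjective (HomologicalComplex.homologyMap α (-1)).hom)
    (p : E.X 0) (m : E'.X (-1)) (h : (α.f 0).hom p = (E'.d (-1) 0).hom m) :
    ∃ e : E.X (-1), (E.d (-1) 0).hom e = p ∧ (α.f (-1)).hom e = m := by
  have hp : IsCyc E 0 p := by
    have := ModuleCat.subsingleton_of_isZero (hE (0 + 1) (by omega))
    exact Subsingleton.elim _ _
  obtain ⟨e, he⟩ := (homologyMap_injective_iff α 0 (-1) (by omega)).1 h0 p m hp h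
  have hz : IsCyc E' (-1) ((α.f (-1)).hom e - m) :=
    (isCyc_iff (show (-1 : ℤ) + 1 = 0 by omega) _).2 (by rw [map_sub, hom_d, he, h, sub_self])
  obtain ⟨z, x, hzc, hzx⟩ := (homologyMap_surjective_iff α (-1) (-2) (by omega)).1 h1 _ hz
  have := ModuleCat.subsingleton_of_isZero (hE'' (-2) le_rfl)
  rw [Subsingleton.elim x 0, map_zero, add_zero] at hzx
  refine ⟨e - z, ?_, by rw [map_sub, hzx, sub_sub_cancel]⟩
  rw [map_sub, he, (isCyc_iff (show (-1 : ℤ) + 1 = 0 by omega) _).1 hzc, sub_zero]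

lemma exists_pairs_section (hE' : ∀ i, 0 < i → IsZero (E'.X i))
    (hE'0 : Module.Projective A (E'.X 0))
    (h0 : Function.Surjective (HomologicalComplex.homologyMap α 0).hom) :
    ∃ (s : E'.X 0 →ₗ[A] E.X 0) (t : E'.X 0 →ₗ[A] E'.X (-1)),
      ∀ y, (α.f 0).hom (s y) + (E'.d (-1) 0).hom (t y) = y := by
  let c : (E.X 0 × E'.X (-1)) →ₗ[A] E'.X 0 := (α.f 0).hom.coprod (E'.d (-1) 0).hom
  have hc : Function.Surjective c := fun y => by
    have hy : IsCyc E' 0 y := by
      have := ModuleCat.subsingleton_of_isZero (hE' (0 + 1) (by omega))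
      exact Subsingleton.elim _ _
    obtain ⟨z, x, -, hzx⟩ := (homologyMap_surjective_iff α 0 (-1) (by omega)).1 h0 y hy
    exact ⟨(z, x), hzx⟩
  obtain ⟨st, hst⟩ := Module.projective_lifting_property c LinearMap.id hc
  exact ⟨(LinearMap.fst A _ _).comp st, (LinearMap.snd A _ _).comp st, fun y =>
    LinearMap.congr_fun hst y⟩

/-- Transfer of null-homotopies of multiplication along `α`. -/
lemma exists_factor_transfer (hE : ∀ i, 0 < i → IsZero (E.X i))
    (hE' : ∀ i, 0 < i → IsZero (E'.X i)) (hE'' : ∀ i, i ≤ -2 → IsZero (E'.X i))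
    (hE'0 : Module.Projective A (E'.X 0))
    (h0 : Function.Bijective (HomologicalComplex.homologyMap α 0).hom)
    (h1 : Function.Surjective (HomologicalComplex.homologyMap α (-1)).hom) (c : A)
    {N : Type u} [AddCommGroup N] [Module A N] (f : E'.X (-1) →ₗ[A] N) (k : E.X 0 →ₗ[A] N)
    (hk : ∀ e, k ((E.d (-1) 0).hom e) = c • f ((α.f (-1)).hom e)) :
    ∃ k' : E'.X 0 →ₗ[A] N, (∀ m, k' ((E'.d (-1) 0).hom m) = c • f m) ∧
      ∃ (s : E'.X 0 →ₗ[A] E.X 0) (t : E'.X 0 →ₗ[A] E'.X (-1)),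
        (∀ y, (α.f 0).hom (s y) + (E'.d (-1) 0).hom (t y) = y) ∧
          k' = k.comp s + (c • f).comp t := by
  obtain ⟨s, t, hst⟩ := exists_pairs_section α hE' hE'0 h0.2
  refine ⟨k.comp s + (c • f).comp t, fun m => ?_, s, t, hst, rfl⟩
  obtain ⟨e, he, hem⟩ := exists_pairs_lift α hE hE'' h0.1 h1 (s ((E'.d (-1) 0).hom m))
    (m - t ((E'.d (-1) 0).hom m)) (by rw [map_sub, eq_sub_iff_add_eq]; exact hst _)
  rw [LinearMap.add_apply, LinearMap.comp_apply, LinearMap.comp_apply, ← he, hk, hem,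
    LinearMap.smul_apply, ← smul_add, ← map_add, sub_add_cancel]

end Transfer

/-- Chain-level properties from properties of a map in `D(A)`. -/
lemma homologyMap_of_D {E' : DRing.Cx A} {K K' : Dual.D A} (a : E ⟶ E') (φ : K ⟶ K')
    (e : DRing.toD E ≅ K) (e' : DRing.toD E' ≅ K') (ha : Q.map a = e.hom ≫ φ ≫ e'.inv) (i : ℤ) :
    (IsIso ((HF i).map φ) → Function.Bijective (HomologicalComplex.homologyMap a i).hom) ∧
      (Epi ((HF i).map φ) → Function.Surjective (HomologicalComplex.homologyMap a i).hom) := by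
  have h : HomologicalComplex.homologyMap a i = (hIso E i).inv ≫
      ((HF i).map e.hom ≫ (HF i).map φ ≫ (HF i).map e'.inv) ≫ (hIso E' i).hom := by
    rw [← Functor.map_comp, ← Functor.map_comp, ← ha, HF_map_Q_eq]
    simp
  constructor
  · intro _
    have : IsIso (HomologicalComplex.homologyMap a i) := by rw [h]; infer_instance
    exact (isIso_homologyMap_iff a i).1 this
  · intro _
    refine (ModuleCat.epi_iff_surjective _).1 ?_
    rw [h]
    infer_instance

end Groth.Agent.DRing.TwoTerm
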