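import Groth.Agent.DRing.TwoTermExt
import Groth.Agent.DRing.Homology
import Mathlib.Algebra.Homology.DerivedCategory.SingleTriangle

/-!
# Powers of an ideal killing `Ext^1` of a two-term complex
-/

universe u

open CategoryTheory CategoryTheory.Limits DerivedCategory CategoryTheory.Pretriangulated

attribute [local instance] HasDerivedCategory.standard

namespace Groth.Agent.DRing.TwoTermKill

open DBasic Homology PC TwoTerm

variable {R : Type u} [CommRing R]

/-- A projective module has no `Ext^1`. -/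
lemma hom_one_eq_zero (P N : Type u) [AddCommGroup P] [Module R P] [Module.Projective R P]
    [AddCommGroup N] [Module R N]
    (f : Dual.inD R P ⟶ (shiftFunctor (Dual.D R) (1 : ℤ)).obj (Dual.inD R N)) : f = 0 := by
  have : (sgl 0 (ModuleCat.of R P)).IsKProjective := by
    refine isKProjective_of_projective _ 0 (fun i hi => vanishesOutside_sgl 0 _ i (Or.inr hi))
      fun i => ?_
    rcases eq_or_ne i 0 with rfl | hi
    · exact Trunc.projective_of_iso
        (HomologicalComplex.singleObjXSelf (ComplexShape.up ℤ) 0 (ModuleCat.of R P)).symm inferInstance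
    · have hz := ModuleCat.subsingleton_of_isZero
        (HomologicalComplex.isZero_single_obj_X (ComplexShape.up ℤ) 0 (ModuleCat.of R P) i hi)
      exact Module.Projective.of_free
  let e := (singleFunctorIsoCompQ (ModuleCat.{u} R) 0).app (ModuleCat.of R P)
  obtain ⟨φ, hφ⟩ := exists_Q_map_eq (P := sgl 0 (ModuleCat.of R P))
    (L := sgl (-1) (ModuleCat.of R N)) (e.inv ≫ f ≫ (shiftOneIso N).hom)
  have h0 : φ = 0 := HomologicalComplex.to_single_hom_ext
    ((HomologicalComplex.isZero_single_obj_X _ _ _ _ (by omega)).eq_of_src _ _)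
  rw [h0, Functor.map_zero] at hφ
  rwa [← cancel_epi e.inv, ← cancel_mono (shiftOneIso N).hom, Category.assoc, comp_zero, zero_comp,
    eq_comm]

variable {I E H : Type u} [AddCommGroup I] [Module R I] [AddCommGroup E] [Module R E]
  [AddCommGroup H] [Module R H] [Module.Projective R E] (i : I →ₗ[R] E) (p : E →ₗ[R] H)

/-- For `0 → I → E → H → 0` with `E` projective, `a` kills `Ext^1(H, -)` iff `a` on `I`
extends to `E`. -/
lemma killExt_iff (hi : Function.Injective i) (hp : Function.Surjective p)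
    (hex : Function.Exact i p) (a : R) :
    (∀ (N : Type u) [AddCommGroup N] [Module R N]
        (ξ : Dual.inD R H ⟶ (shiftFunctor (Dual.D R) (1 : ℤ)).obj (Dual.inD R N)), a • ξ = 0) ↔
      ∃ g : E →ₗ[R] I, ∀ x, g (i x) = a • x := by
  let S : ShortComplex (ModuleCat.{u} R) :=
    ShortComplex.mk (ModuleCat.ofHom i) (ModuleCat.ofHom p) (by ext x; exact hex.apply_apply_eq_zero x)
  have hS : S.ShortExact :=
    { exact := ShortComplex.ShortExact.moduleCat_exact_iff_function_exact _ |>.2 hex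
      mono_f := (ModuleCat.mono_iff_injective _).2 hi
      epi_g := (ModuleCat.epi_iff_surjective _).2 hp }
  have hT := hS.singleTriangle_distinguished
  let F := DerivedCategory.singleFunctor (ModuleCat.{u} R) 0
  let sh := shiftFunctor (Dual.D R) (1 : ℤ)
  let δ : Dual.inD R H ⟶ sh.obj (Dual.inD R I) := hS.singleTriangle.mor₃
  have hδ : δ ≫ sh.map (F.map (ModuleCat.ofHom i)) = 0 := comp_distTriang_mor_zero₃₁ _ hT
  have hy1 : ∀ q : sh.obj (Dual.inD R I) ⟶ sh.obj (Dual.inD R I), δ ≫ q = 0 →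
      ∃ ψ : sh.obj (Dual.inD R E) ⟶ sh.obj (Dual.inD R I),
        q = sh.map (F.map (ModuleCat.ofHom i)) ≫ ψ := fun q hq => by
    obtain ⟨ψ, hψ⟩ := Triangle.yoneda_exact₂ _ (rot_of_distTriang _ (rot_of_distTriang _ hT)) q hq
    exact ⟨-ψ, hψ.trans ((Preadditive.neg_comp _ _).trans (Preadditive.comp_neg _ _).symm)⟩
  have hy2 : ∀ (N : Type u) [AddCommGroup N] [Module R N]
      (ξ : Dual.inD R H ⟶ sh.obj (Dual.inD R N)), F.map (ModuleCat.ofHom p) ≫ ξ = 0 →
      ∃ η : sh.obj (Dual.inD R I) ⟶ sh.obj (Dual.inD R N), ξ = δ ≫ η := fun N _ _ ξ hξ =>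
    Triangle.yoneda_exact₂ _ (rot_of_distTriang _ hT) ξ hξ
  constructor
  · intro h
    obtain ⟨ψ, hψ⟩ := hy1 (a • 𝟙 _) (by rw [Linear.comp_smul, Category.comp_id]; exact h I δ)
    obtain ⟨χ, hχ⟩ := sh.map_surjective ψ
    obtain ⟨g, hg⟩ := F.map_surjective (X := ModuleCat.of R E) (Y := ModuleCat.of R I) χ
    refine ⟨g.hom, fun x => ?_⟩
    have hk : ModuleCat.ofHom i ≫ g = a • 𝟙 (ModuleCat.of R I) := by
      apply F.map_injective
      apply sh.map_injective
      rw [Functor.map_smul, Functor.map_smul, CategoryTheory.Functor.map_id,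
        CategoryTheory.Functor.map_id, Functor.map_comp, Functor.map_comp, hg, hχ]
      exact hψ.symm
    exact LinearMap.congr_fun (congrArg ModuleCat.Hom.hom hk) x
  · rintro ⟨g, hg⟩ N _ _ ξ
    have hk : ModuleCat.ofHom i ≫ ModuleCat.ofHom g = a • 𝟙 (ModuleCat.of R I) := by
      ext x; exact hg x
    obtain ⟨η, rfl⟩ := hy2 N ξ (hom_one_eq_zero E N _)
    have h2 : sh.map (F.map (ModuleCat.ofHom i)) ≫ sh.map (F.map (ModuleCat.ofHom g)) =
        a • 𝟙 (sh.obj (Dual.inD R I)) := by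
      rw [← Functor.map_comp, ← Functor.map_comp, hk, Functor.map_smul, Functor.map_smul,
        CategoryTheory.Functor.map_id, CategoryTheory.Functor.map_id]
    have h3 : δ ≫ (a • 𝟙 (sh.obj (Dual.inD R I))) ≫ η = 0 := by
      rw [← h2, Category.assoc, reassoc_of% hδ, zero_comp]
    rwa [Linear.smul_comp, Category.id_comp, Linear.comp_smul] at h3

variable {C : DRing.Cx R}

/-- `H^0` as a quotient of degree `0`. -/
noncomputable def top (hC : ∀ i, 0 < i → IsZero (C.X i)) : C.X 0 →ₗ[R] C.homology 0 where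
  toFun y := cls y (@Subsingleton.elim _ (ModuleCat.subsingleton_of_isZero (hC (0 + 1) (by omega))) _ _)
  map_add' y z := cls_add _ _
  map_smul' c y := cls_smul _ _

theorem exists_pow_iff (J : Ideal R) (K : Dual.D R)
    (hK : ∀ i : ℤ, i ≠ -1 → i ≠ 0 → Subsingleton (Dual.HD R K i)) :
    (∃ c : ℕ, ∀ (N : Type u) [AddCommGroup N] [Module R N] (a : R), a ∈ J ^ c →
        ∀ ξ : K ⟶ (shiftFunctor (Dual.D R) (1 : ℤ)).obj (Dual.inD R N), a • ξ = 0) ↔
      ∃ c : ℕ, (∀ a : R, a ∈ J ^ c → ∀ x : Dual.HD R K (-1), a • x = 0) ∧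
        ∀ (N : Type u) [AddCommGroup N] [Module R N] (a : R), a ∈ J ^ c →
          ∀ ξ : Dual.inD R (Dual.HD R K 0) ⟶ (shiftFunctor (Dual.D R) (1 : ℤ)).obj (Dual.inD R N),
            a • ξ = 0 := by
  obtain ⟨C, hC, hC', hC0, ⟨e⟩⟩ := exists_twoTerm K hK
  let eH : ∀ i, (HF i).obj K ≅ C.homology i := fun i => (HF i).mapIso e.symm ≪≫ hIso C i
  let e0 : C.homology 0 →ₗ[R] Dual.HD R K 0 := (eH 0).inv.hom
  have he0 : Function.Bijective e0 := ConcreteCategory.bijective_of_isIso (eH 0).inv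
  let p : C.X 0 →ₗ[R] Dual.HD R K 0 := e0.comp (top hC)
  let d : C.X (-1) →ₗ[R] C.X 0 := (C.d (-1) 0).hom
  let S := LinearMap.range d
  have hp : Function.Surjective p := he0.2.comp fun x => by
    obtain ⟨z, hz, rfl⟩ := cls_surjective x
    exact ⟨z, rfl⟩
  have hex : Function.Exact S.subtype p := fun y => by
    rw [LinearMap.comp_apply, map_eq_zero_iff e0 he0.1]
    refine ((cls_eq_zero_iff (-1) (by omega) _).trans ?_)
    constructor
    · rintro ⟨w, hw⟩
      exact ⟨⟨y, w, hw⟩, rfl⟩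
    · rintro ⟨⟨_, w, hw⟩, rfl⟩
      exact ⟨w, hw⟩
  have key := killExt_iff S.subtype p S.injective_subtype hp hex
  have hH : ∀ a : R, (∀ x : Dual.HD R K (-1), a • x = 0) ↔ ∀ z, d z = 0 → a • z = 0 := by
    intro a
    let v : Dual.HD R K (-1) →ₗ[R] C.homology (-1) := (eH (-1)).hom.hom
    have hv : Function.Bijective v := ConcreteCategory.bijective_of_isIso (eH (-1)).hom
    constructor
    · intro h z hz
      have hzc : IsCyc C (-1) z := (isCyc_iff (show (-1 : ℤ) + 1 = 0 by omega) z).2 hz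
      obtain ⟨x, hx⟩ := hv.2 (cls z hzc)
      have h1 : cls (a • z) (hzc.smul a) = 0 := by
        rw [cls_smul hzc, ← hx, ← map_smul, h, map_zero]
      obtain ⟨w, hw⟩ := (cls_eq_zero_iff (-2) (by omega) _).1 h1
      have := ModuleCat.subsingleton_of_isZero (hC' (-2) le_rfl)
      rw [← hw, Subsingleton.elim w 0, map_zero]
    · intro h x
      apply hv.1
      obtain ⟨z, hz, hzx⟩ := cls_surjective (v x)
      rw [map_smul, map_zero, ← hzx, ← cls_smul]
      exact (cls_eq_zero_iff (-2) (by omega) _).2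
        ⟨0, by rw [map_zero, h z ((isCyc_iff (show (-1 : ℤ) + 1 = 0 by omega) z).1 hz)]⟩
  constructor
  · rintro ⟨c, h⟩
    have hh : ∀ a ∈ J ^ c, ∃ h : C.X 0 →ₗ[R] C.X (-1), ∀ x, h (d x) = a • x := fun a ha => by
      obtain ⟨g, hg⟩ := (annihilates_iff hC hC0 hC' e a).1 fun M _ _ ξ => h M a ha ξ
      exact ⟨g.hom, fun x => LinearMap.congr_fun (congrArg ModuleCat.Hom.hom hg) x⟩
    refine ⟨c, fun a ha => (hH a).2 fun z hz => ?_, fun N _ _ a ha => (key a).2 ?_ N⟩
    · obtain ⟨g, hg⟩ := hh a ha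
      rw [← hg, hz, map_zero]
    · obtain ⟨g, hg⟩ := hh a ha
      refine ⟨d.rangeRestrict.comp g, fun x => Subtype.ext ?_⟩
      obtain ⟨_, y, rfl⟩ := x
      change d (g (d y)) = a • d y
      rw [hg, map_smul]
  · rintro ⟨c, h1, h2⟩
    refine ⟨c + c, fun N _ _ x hx => ?_⟩
    refine (annihilates_iff hC hC0 hC' e x).2 ?_ N
    rw [pow_add] at hx
    induction hx using Submodule.mul_induction_on' with
    | mem_mul_mem a ha b hb =>
      obtain ⟨g, hg⟩ := (key b).1 fun N _ _ ξ => h2 N b hb ξ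
      obtain ⟨l, hl⟩ := Module.projective_lifting_property d.rangeRestrict g
        d.surjective_rangeRestrict
      refine ⟨ModuleCat.ofHom (a • l), ?_⟩
      ext y
      change a • l (d y) = (a * b) • y
      have h3 : d (l (d y)) = b • d y :=
        (congrArg Subtype.val (LinearMap.congr_fun hl (d y))).trans
          (congrArg Subtype.val (hg ⟨d y, y, rfl⟩))
      have h4 := (hH a).1 (h1 a ha) (l (d y) - b • y) (by rw [map_sub, h3, map_smul, sub_self])
      rwa [smul_sub, sub_eq_zero, smul_smul] at h4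
    | add a _ b _ iha ihb =>
      obtain ⟨g, hg⟩ := iha
      obtain ⟨g', hg'⟩ := ihb
      exact ⟨g + g', by rw [Preadditive.comp_add, hg, hg', add_smul]⟩

end Groth.Agent.DRing.TwoTermKill
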