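import Groth.Agent.DRing.KFlatRes
import Groth.Agent.DRing.LTensor
import Mathlib.LinearAlgebra.TensorProduct.Finiteness
import Mathlib.Algebra.Module.FinitePresentation

/-!
# Universally acyclic complexes tensor every complex to an acyclic one
-/

universe u

open CategoryTheory CategoryTheory.Limits MonoidalCategory
open scoped TensorProduct DirectSum

namespace Groth.Agent.DRing.KFlat

open Tensor Homology

variable {R : Type u} [CommRing R]

/-- `L ⊗ M` is acyclic for every module `M`, elementwise. -/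
def UAcyclic (L : CochainComplex (ModuleCat.{u} R) ℤ) : Prop :=
  ∀ (M : ModuleCat.{u} R) (p : ℤ), Function.Exact ((L.d p (p + 1)).hom.rTensor M)
    ((L.d (p + 1) (p + 1 + 1)).hom.rTensor M)

/-- `L ⊗ P` is acyclic. -/
def TAcyclic (L P : CochainComplex (ModuleCat.{u} R) ℤ) : Prop := ∀ i, IsZero ((L ⊗ P).homology i)

variable {L P : CochainComplex (ModuleCat.{u} R) ℤ} (hK : UAcyclic L)

include hK in
lemma tAcyclic_of_d_eq_zero (hd : ∀ i j, P.d i j = 0) : TAcyclic L P := by
  classical
  intro n
  rw [← HomologicalComplex.exactAt_iff_isZero_homology, exactAt_iff_forall n (n - 1) (by omega)]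
  intro z hz
  have injn := (ModuleCat.mono_iff_injective (sumIso L P (n + 1)).hom).1 inferInstance
  have hz' : dSum P L n (n + 1) rfl ((toSum L P n).hom z) = 0 := by
    have := congrArg (fun f => f.hom z) (d_toSum (L := L) hd n (n + 1) rfl)
    simp only [ModuleCat.hom_comp, LinearMap.comp_apply, ModuleCat.hom_ofHom] at this
    rw [← this]
    exact (congrArg (toSum L P (n + 1)).hom hz).trans (map_zero _)
  have hcomp : ∀ k, (L.d k.1.1 (k.1.1 + 1)).hom.rTensor (P.X k.1.2)
      (DirectSum.component R _ (Fam L P n) k ((toSum L P n).hom z)) = 0 := by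
    intro k
    have e : (DirectSum.component R _ (Fam L P (n + 1))
          ⟨(k.1.1 + 1, k.1.2), by have := k.2; omega⟩).comp (dSum P L n (n + 1) rfl) =
        ((L.d k.1.1 (k.1.1 + 1)).hom.rTensor (P.X k.1.2)).comp
          (DirectSum.component R _ (Fam L P n) k) := by
      refine DirectSum.linearMap_ext R fun k' => LinearMap.ext fun x => ?_
      simp only [LinearMap.comp_apply, dSum, DirectSum.toModule_lof]
      rw [DirectSum.component.of, DirectSum.component.of]
      by_cases hk : k = k'
      · subst hk; simp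
      · rw [dif_neg, dif_neg (Ne.symm hk), map_zero]
        intro he
        apply hk
        simp only [Subtype.mk.injEq, Prod.mk.injEq] at he
        exact Subtype.ext (Prod.ext (by omega) he.2.symm)
    have := LinearMap.congr_fun e ((toSum L P n).hom z)
    simp only [LinearMap.comp_apply] at this
    rw [← this, hz', map_zero]
  have hpre : ∀ k : { k : ℤ × ℤ // k.1 + k.2 = n }, ∃ y : ⨁ k, Fam L P (n - 1) k,
      dSum P L (n - 1) n (by omega) y = DirectSum.lof R _ (Fam L P n) k
        (DirectSum.component R _ (Fam L P n) k ((toSum L P n).hom z)) := by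
    rintro ⟨⟨p, q⟩, hk⟩
    obtain ⟨p, rfl⟩ : ∃ p', p = p' + 1 := ⟨p - 1, by omega⟩
    obtain ⟨w, hw⟩ := (hK (P.X q) p _).1 (hcomp ⟨(p + 1, q), hk⟩)
    refine ⟨DirectSum.lof R _ (Fam L P (n - 1)) ⟨(p, q), by dsimp at hk ⊢; omega⟩ w, ?_⟩
    simp only [dSum, DirectSum.toModule_lof, LinearMap.comp_apply]
    rw [hw]
  choose y hy using hpre
  obtain ⟨x, hx⟩ := (ModuleCat.epi_iff_surjective (sumIso L P (n - 1)).hom).1 inferInstance
    (∑ k ∈ DFinsupp.support ((toSum L P n).hom z), y k)
  refine ⟨x, (ModuleCat.mono_iff_injective (sumIso L P n).hom).1 inferInstance ?_⟩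
  have := congrArg (fun f => f.hom x) (d_toSum (L := L) hd (n - 1) n (by omega))
  simp only [ModuleCat.hom_comp, LinearMap.comp_apply, ModuleCat.hom_ofHom] at this
  refine this.trans ?_
  erw [hx]
  rw [map_sum]
  exact (Finset.sum_congr rfl fun k _ => hy k).trans (DirectSum.sum_support_of _)

lemma TAcyclic.of_iso {Q : CochainComplex (ModuleCat.{u} R) ℤ} (e : P ≅ Q) (h : TAcyclic L P) :
    TAcyclic L Q := fun i =>
  (h i).of_iso ((HomologicalComplex.homologyFunctor _ _ i).mapIso (whiskerLeftIso L e)).symm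

lemma tAcyclic_middle {S : ShortComplex (CochainComplex (ModuleCat.{u} R) ℤ)} (hS : S.ShortExact)
    (hp : Pure S) (h1 : TAcyclic L S.X₁) (h3 : TAcyclic L S.X₃) : TAcyclic L S.X₂ := fun i =>
  ((shortExact_map (L := L) S hS fun p q => hp (L.X p) q).homology_exact₂ i).isZero_of_both_zeros
    ((h1 i).eq_of_src _ _) ((h3 i).eq_of_tgt _ _)

lemma tAcyclic_of_isZero (h : ∀ i, IsZero (P.X i)) : TAcyclic L P := fun i => by
  have hP : IsZero P := by
    rw [IsZero.iff_id_eq_zero]
    exact HomologicalComplex.hom_ext _ _ fun j => (h j).eq_of_src _ _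
  exact (HomologicalComplex.homologyFunctor (ModuleCat.{u} R) (ComplexShape.up ℤ) i).map_isZero
    ((TL L).map_isZero hP)

lemma tAcyclic_colimit (J : Type*) [Category J] [IsFiltered J]
    [HasColimitsOfShape J (ModuleCat.{u} R)] [PreservesColimitsOfShape J (forget (ModuleCat.{u} R))]
    (F : J ⥤ CochainComplex (ModuleCat.{u} R) ℤ) {c : Cocone F} (hc : IsColimit c)
    (hF : ∀ j, TAcyclic L (F.obj j)) : TAcyclic L c.pt := by
  intro n
  have hcol := fun m => isColimitOfPreserves
    (HomologicalComplex.eval (ModuleCat.{u} R) (.up ℤ) m) (isColimitOfPreserves (TL L) hc)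
  rw [← HomologicalComplex.exactAt_iff_isZero_homology, exactAt_iff_forall n (n - 1) (by omega)]
  intro z hz
  obtain ⟨j, y, rfl⟩ := Concrete.isColimit_exists_rep _ (hcol n) z
  have hy : ((L ◁ c.ι.app j).f (n + 1)).hom (((L ⊗ F.obj j).d n (n + 1)).hom y) = 0 :=
    (hom_d (L ◁ c.ι.app j) n (n + 1) y).symm.trans hz
  obtain ⟨k, f, g, hfg⟩ := Concrete.isColimit_exists_of_rep_eq _ (hcol (n + 1))
    (((L ⊗ F.obj j).d n (n + 1)).hom y) (0 : (L ⊗ F.obj j).X (n + 1))
    (hy.trans (map_zero _).symm)
  have hcyc : IsCyc (L ⊗ F.obj k) n (((L ◁ F.map f).f n).hom y) :=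
    (hom_d (L ◁ F.map f) n (n + 1) y).trans (hfg.trans (map_zero _))
  obtain ⟨w, hw⟩ := (exactAt_iff_forall n (n - 1) (by omega)).1
    ((HomologicalComplex.exactAt_iff_isZero_homology _ _).2 (hF k n)) _ hcyc
  refine ⟨((L ◁ c.ι.app k).f (n - 1)).hom w, ?_⟩
  have h1 : L ◁ F.map f ≫ L ◁ c.ι.app k = L ◁ c.ι.app j :=
    (MonoidalCategory.whiskerLeft_comp _ _ _).symm.trans (congrArg (L ◁ ·) (c.w f))
  refine (hom_d (L ◁ c.ι.app k) (n - 1) n w).trans ((congrArg _ hw).trans ?_)
  exact congrArg (fun φ : L ⊗ F.obj j ⟶ L ⊗ c.pt => (φ.f n).hom y) h1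

include hK in
lemma tAcyclic_sigmaGE (b : ℤ) (hb : ∀ i, b < i → IsZero (P.X i))
    (m : ℤ) : TAcyclic L (sigmaGE P m) := by
  by_cases hm : b < m
  · refine tAcyclic_of_isZero fun i => ?_
    by_cases hi : i < m
    · exact sigmaGE_X_isZero P hi
    · have : Subsingleton (P.X i) := ModuleCat.subsingleton_of_isZero (hb i (by omega))
      have : Subsingleton ((sigmaGE P m).X i) := (⟨fun a b => Subtype.ext (Subsingleton.elim (α := P.X i) _ _)⟩ : Subsingleton (truncSub P m i))
      exact ModuleCat.isZero_of_subsingleton _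
  · obtain ⟨k, rfl⟩ : ∃ k : ℕ, m = b + 1 - k := ⟨(b + 1 - m).toNat, by omega⟩
    clear hm
    induction k with
    | zero =>
      refine tAcyclic_of_isZero fun i => ?_
      by_cases hi : i < b + 1 - ((0 : ℕ) : ℤ)
      · exact sigmaGE_X_isZero P hi
      · have : Subsingleton (P.X i) := ModuleCat.subsingleton_of_isZero (hb i (by omega))
        have : Subsingleton ((sigmaGE P (b + 1 - ((0 : ℕ) : ℤ))).X i) :=
          (⟨fun a b => Subtype.ext (Subsingleton.elim (α := P.X i) _ _)⟩ : Subsingleton (truncSub P _ i))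
        exact ModuleCat.isZero_of_subsingleton _
    | succ k ih =>
      let f := sigmaGEMap P (show b + 1 - ((k + 1 : ℕ) : ℤ) ≤ b + 1 - (k : ℤ) by omega)
      have hmono : Mono f := by
        have : ∀ i, Mono (f.f i) := fun i =>
          (ModuleCat.mono_iff_injective _).2
          (Submodule.inclusion_injective (truncSub_mono P (by omega) i))
        exact HomologicalComplex.mono_of_mono_f f this
      let S := ShortComplex.mk f (cokernel.π f) (cokernel.condition f)
      have hS : S.ShortExact :=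
        { exact := ShortComplex.exact_of_g_is_cokernel _ (cokernelIsCokernel f)
          mono_f := hmono
          epi_g := inferInstanceAs (Epi (cokernel.π f)) }
      have hzero : ∀ i, i ≠ b + 1 - ((k + 1 : ℕ) : ℤ) → IsZero (S.X₃.X i) := by
        intro i hi
        have hsi := hS.map_of_exact (HomologicalComplex.eval (ModuleCat.{u} R) (.up ℤ) i)
        have : Epi (f.f i) := by
          rw [ModuleCat.epi_iff_surjective]
          rintro ⟨x, hx⟩
          refine ⟨⟨x, ?_⟩, rfl⟩
          unfold truncSub at hx ⊢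
          split_ifs with h1
          · trivial
          · rwa [if_neg (by omega)] at hx
        rw [IsZero.iff_id_eq_zero, ← cancel_epi (S.g.f i), Category.comp_id, comp_zero,
          ← cancel_epi (f.f i), comp_zero]
        exact (S.map (HomologicalComplex.eval (ModuleCat.{u} R) (.up ℤ) i)).zero
      refine tAcyclic_middle (S := S) hS (pure_of_splitting fun i => ?_) ih (tAcyclic_of_d_eq_zero hK fun i j => ?_)
      · have hsi := hS.map_of_exact (HomologicalComplex.eval (ModuleCat.{u} R) (.up ℤ) i)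
        refine Nonempty.some ?_
        by_cases hi : i = b + 1 - ((k + 1 : ℕ) : ℤ)
        · have hz := sigmaGE_X_isZero P (m := b + 1 - (k : ℤ)) (i := i) (by omega)
          exact ⟨ShortComplex.Splitting.ofIsZeroOfIsIso _ hz ((hsi.isIso_g_iff).2 hz)⟩
        · exact ⟨ShortComplex.Splitting.ofIsIsoOfIsZero _ ((hsi.isIso_f_iff).2 (hzero i hi)) (hzero i hi)⟩
      · by_cases hi : i = b + 1 - ((k + 1 : ℕ) : ℤ)
        · by_cases hj : i + 1 = j
          · exact (hzero j (by omega)).eq_of_tgt _ _
          · exact S.X₃.shape i j (by simpa using hj)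
        · exact (hzero i hi).eq_of_src _ _

variable (P) in
/-- The bounded subcomplexes exhausting `P`. -/
def bndSub (k : ℕ) (i : ℤ) : Submodule R (P.X i) :=
  if -(k : ℤ) ≤ i ∧ i < k then ⊤ else if i = k then LinearMap.ker (P.d i (i + 1)).hom else ⊥

lemma bndSub_mapsTo (k : ℕ) {i j : ℤ} (x : P.X i) (hx : x ∈ bndSub P k i) :
    (P.d i j).hom x ∈ bndSub P k j := by
  by_cases h : i + 1 = j
  · subst h
    unfold bndSub at *
    split_ifs at hx with h1 h2
    · split_ifs with h3 h4
      · trivial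
      · exact Homology.d_d (K := P) _ _ _ x
      · omega
    · rw [show (P.d i (i + 1)).hom x = 0 from hx]; exact zero_mem _
    · rw [(Submodule.mem_bot R).1 hx, map_zero]; exact zero_mem _
  · rw [P.shape i j (by simpa using h)]
    exact (bndSub P k j).zero_mem

lemma bndSub_mono {k l : ℕ} (h : k ≤ l) (i : ℤ) : bndSub P k i ≤ bndSub P l i := by
  unfold bndSub
  split_ifs <;> first | exact le_rfl | exact le_top | exact bot_le | omega

variable (P) in
/-- The bounded subcomplex. -/
noncomputable def bnd (k : ℕ) : CochainComplex (ModuleCat.{u} R) ℤ where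
  X i := ModuleCat.of R (bndSub P k i)
  d i j := ModuleCat.ofHom ((P.d i j).hom.restrict fun x hx => bndSub_mapsTo k x hx)
  shape i j h := by
    ext x
    simp [P.shape i j h]
  d_comp_d' i j k _ _ := by
    ext x
    exact Homology.d_d (K := P) i j k x.1

lemma isZero_bnd {k : ℕ} {i : ℤ} (h : i < -(k : ℤ) ∨ (k : ℤ) < i) : IsZero ((bnd P k).X i) := by
  have : Subsingleton (bndSub P k i) := by
    unfold bndSub; rw [if_neg (by omega), if_neg (by omega)]; infer_instance
  exact ModuleCat.isZero_of_subsingleton (ModuleCat.of R (bndSub P k i))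

include hK in
/-- A universally acyclic complex tensors every complex to an acyclic one. -/
theorem tAcyclic_all : TAcyclic L P := by
  let F : ℕ ⥤ CochainComplex (ModuleCat.{u} R) ℤ :=
    { obj := fun k => bnd P k
      map := fun {k l} h =>
        { f := fun i => ModuleCat.ofHom (Submodule.inclusion (bndSub_mono (leOfHom h) i))
          comm' := fun _ _ _ => rfl } }
  let c : Cocone F :=
    { pt := P
      ι := { app := fun k => { f := fun i => ModuleCat.ofHom (bndSub P k i).subtype
                               comm' := fun _ _ _ => rfl } } }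
  have hc : IsColimit c := HomologicalComplex.isColimitOfEval _ _ fun i => by
    have hsurj : ∀ (x : P.X i) (k : ℕ), i.natAbs + 1 ≤ k → x ∈ bndSub P k i := by
      intro x k hk
      unfold bndSub
      rw [if_pos (by omega)]
      trivial
    refine
      { desc := fun s => ModuleCat.ofHom
          { toFun := fun x => (s.ι.app (i.natAbs + 1)).hom ⟨x, hsurj x _ le_rfl⟩
            map_add' := fun x y => map_add (s.ι.app (i.natAbs + 1)).hom ⟨x, _⟩ ⟨y, _⟩
            map_smul' := fun r x => map_smul (s.ι.app (i.natAbs + 1)).hom r ⟨x, _⟩ }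
        fac := fun s k => ModuleCat.hom_ext (LinearMap.ext fun x => ?_)
        uniq := fun s g hg => ModuleCat.hom_ext (LinearMap.ext fun x => ?_) }
    · rcases le_total k (i.natAbs + 1) with hk | hk
      · exact congrArg (fun φ => φ.hom x) (s.w (homOfLE hk))
      · exact (congrArg (fun φ => φ.hom ⟨x.1, hsurj x.1 _ le_rfl⟩) (s.w (homOfLE hk))).symm
    · exact congrArg (fun φ => φ.hom ⟨x, hsurj x _ le_rfl⟩) (hg (i.natAbs + 1))
  have : PreservesFilteredColimitsOfSize.{0, 0} (forget (ModuleCat.{u} R)) :=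
    preservesSmallestFilteredColimits_of_preservesFilteredColimits _
  refine tAcyclic_colimit ℕ F (c := c) hc fun k => ?_
  have : ∀ i, IsIso ((sigmaGEι (bnd P k) (-(k : ℤ))).f i) := fun i => by
    refine (ConcreteCategory.isIso_iff_bijective _).2 ⟨Subtype.val_injective, fun x => ?_⟩
    by_cases h : -(k : ℤ) ≤ i
    · exact ⟨⟨x, by unfold truncSub; rw [if_pos h]; trivial⟩, rfl⟩
    · have := ModuleCat.subsingleton_of_isZero (isZero_bnd (P := P) (k := k) (i := i) (Or.inl (by omega)))
      exact ⟨0, Subsingleton.elim _ _⟩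
  have := HomologicalComplex.Hom.isIso_of_components (sigmaGEι (bnd P k) (-(k : ℤ)))
  exact (tAcyclic_sigmaGE (P := bnd P k) hK k (fun i hi => isZero_bnd (Or.inr hi)) (-(k : ℤ))).of_iso
    (asIso (sigmaGEι (bnd P k) (-(k : ℤ))))

/-- Finitely presented test modules suffice. -/
theorem uAcyclic_of_fp
    (h : ∀ (M : ModuleCat.{u} R), Module.FinitePresentation R M → ∀ p, Function.Exact
      ((L.d p (p + 1)).hom.rTensor M) ((L.d (p + 1) (p + 1 + 1)).hom.rTensor M)) : UAcyclic L := by
  classical
  intro M p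
  let f := (L.d p (p + 1)).hom
  let g := (L.d (p + 1) (p + 1 + 1)).hom
  have hfg : g ∘ₗ f = 0 := by rw [← ModuleCat.hom_comp, L.d_comp_d]; rfl
  intro z
  refine ⟨fun hz => ?_, ?_⟩
  · let π : (M →₀ R) →ₗ[R] M := Finsupp.linearCombination R id
    have hπ : Function.Surjective π := Finsupp.linearCombination_id_surjective R M
    obtain ⟨z1, rfl⟩ := LinearMap.lTensor_surjective (L.X (p + 1)) hπ z
    have hex : Function.Exact (LinearMap.ker π).subtype π := LinearMap.exact_subtype_ker_map π
    have hy : π.lTensor (L.X (p + 1 + 1)) (g.rTensor _ z1) = 0 := by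
      rw [← hz, ← LinearMap.comp_apply, ← LinearMap.comp_apply, LinearMap.lTensor_comp_rTensor,
        LinearMap.rTensor_comp_lTensor]
    obtain ⟨w, hw⟩ := (lTensor_exact (L.X (p + 1 + 1)) (R := R) (M := ↥(LinearMap.ker π)) (N := (M : Type u) →₀ R) (P := (M : Type u)) hex hπ _).1 hy
    obtain ⟨J, hJ, hwJ⟩ := TensorProduct.exists_finite_submodule_right_of_setFinite {w} (Set.finite_singleton w)
    obtain ⟨T, hT, hz1⟩ := TensorProduct.exists_finite_submodule_right_of_setFinite {z1} (Set.finite_singleton z1)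
    obtain ⟨wJ, hwJ⟩ := hwJ rfl
    obtain ⟨z1T, hz1T⟩ := hz1 rfl
    obtain ⟨s₀, hs₀⟩ := hJ.fg_top
    obtain ⟨t₀, ht₀⟩ := hT.fg_top
    let S : Finset M := (s₀.biUnion fun x => x.1.1.support) ∪ t₀.biUnion fun x => x.1.support
    let inc : (S →₀ R) →ₗ[R] (M →₀ R) := Finsupp.lmapDomain R R Subtype.val
    let ρ : (M →₀ R) →ₗ[R] (S →₀ R) := Finsupp.lcomapDomain Subtype.val Subtype.val_injective
    have hinc : ∀ x : M →₀ R, x.support ⊆ S → inc (ρ x) = x := fun x hx => by
      refine Finsupp.mapDomain_comapDomain _ Subtype.val_injective _ ?_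
      intro m hm
      exact ⟨⟨m, hx hm⟩, rfl⟩
    have hJρ : inc ∘ₗ ρ ∘ₗ ((LinearMap.ker π).subtype ∘ₗ J.subtype) = (LinearMap.ker π).subtype ∘ₗ J.subtype :=
      LinearMap.ext_on hs₀ fun x hx => hinc _
        ((Finset.subset_biUnion_of_mem (fun x : J => x.1.1.support) hx).trans Finset.subset_union_left)
    have hTρ : inc ∘ₗ ρ ∘ₗ T.subtype = T.subtype :=
      LinearMap.ext_on ht₀ fun x hx => hinc _
        ((Finset.subset_biUnion_of_mem (fun x : T => x.1.support) hx).trans Finset.subset_union_right)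
    let r : J →ₗ[R] (S →₀ R) := ρ ∘ₗ (LinearMap.ker π).subtype ∘ₗ J.subtype
    let N := LinearMap.range r
    have hN : N.FG := by
      have : Module.Finite R J := hJ
      exact Module.Finite.iff_fg.1 inferInstance
    let β : ((S →₀ R) ⧸ N) →ₗ[R] M := N.liftQ (π ∘ₗ inc) (by
      rintro _ ⟨x, rfl⟩
      exact (congrArg π (LinearMap.congr_fun hJρ x)).trans x.1.2)
    have hfp : Module.FinitePresentation R ((S →₀ R) ⧸ N) :=
      Module.finitePresentation_of_surjective N.mkQ (Submodule.mkQ_surjective _) (by rwa [Submodule.ker_mkQ])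
    let z' := (N.mkQ ∘ₗ ρ).lTensor (L.X (p + 1)) z1
    have hz' : g.rTensor _ z' = 0 := by
      have h1 : g.rTensor _ z' = (N.mkQ ∘ₗ ρ).lTensor (L.X (p + 1 + 1)) (g.rTensor _ z1) := by
        simp only [z', ← LinearMap.comp_apply, LinearMap.rTensor_comp_lTensor, LinearMap.lTensor_comp_rTensor]
      rw [h1, ← hw, ← hwJ, ← LinearMap.comp_apply, ← LinearMap.comp_apply, ← LinearMap.lTensor_comp,
        ← LinearMap.lTensor_comp]
      have : (N.mkQ ∘ₗ ρ) ∘ₗ (LinearMap.ker π).subtype ∘ₗ J.subtype = 0 :=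
        LinearMap.ext fun x => (Submodule.Quotient.mk_eq_zero _).2 ⟨x, rfl⟩
      rw [← LinearMap.comp_assoc] at this
      rw [this, LinearMap.lTensor_zero, LinearMap.zero_apply]
    obtain ⟨v, hv⟩ := (h (ModuleCat.of R ((S →₀ R) ⧸ N)) hfp p z').1 hz'
    refine ⟨β.lTensor (L.X p) v, ?_⟩
    have h2 : f.rTensor M (β.lTensor (L.X p) v) = β.lTensor (L.X (p + 1)) (f.rTensor _ v) := by
      simp only [← LinearMap.comp_apply, LinearMap.rTensor_comp_lTensor, LinearMap.lTensor_comp_rTensor]
    refine h2.trans ?_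
    rw [show f.rTensor _ v = z' from hv]
    simp only [z', ← hz1T, ← LinearMap.comp_apply, ← LinearMap.lTensor_comp]
    have : β ∘ₗ (N.mkQ ∘ₗ ρ) ∘ₗ T.subtype = π ∘ₗ T.subtype := LinearMap.ext fun x =>
      congrArg π (LinearMap.congr_fun hTρ x)
    rw [← this]
  · rintro ⟨y, rfl⟩
    rw [← LinearMap.comp_apply, ← LinearMap.rTensor_comp, hfg, LinearMap.rTensor_zero, LinearMap.zero_apply]

/-- Acyclicity of `L ⊗ M` for finitely presented `M` gives acyclicity of `L ⊗ P` for every `P`. -/
theorem tAcyclic_of_fp (h : ∀ (M : ModuleCat.{u} R), Module.FinitePresentation R M →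
    ∀ i, (DRing.tensorCx L M).ExactAt i) : TAcyclic L P :=
  tAcyclic_all (uAcyclic_of_fp fun M hM p z => by
    refine ⟨fun hz => (exactAt_iff_forall (p + 1) p rfl).1 (h M hM (p + 1)) z hz, ?_⟩
    rintro ⟨w, rfl⟩
    exact d_d (K := DRing.tensorCx L M) _ _ _ w)

end Groth.Agent.DRing.KFlat
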